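import Cfsg.Agent.Lib.Leech.CrossOrbits
import Cfsg.Agent.Lib.Steiner.Uniq24
import Cfsg.Prelude.Def_Sporadic

/-!
The automorphism group of the lattice modulo its centre is simple.
-/

namespace Cfsg.Agent.Leech

open Cfsg Cfsg.Agent.Golay Finset
open Cfsg.Agent.LatticeMod2 (Rootless Cong)
open scoped Pointwise

set_option maxRecDepth 10000

/-! ### The monomial group -/

/-- The product of monomial pairs. -/
noncomputable def pairMul (a b : M24 × golayCode) : M24 × golayCode :=
  (a.1 * b.1, ⟨(a.2 : GolayPt → ZMod 2) + fun i => (b.2 : GolayPt → ZMod 2) ((a.1 : Equiv.Perm GolayPt).symm i),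
    golayCode.add_mem a.2.2 (code_perm a.1.2 b.2.2)⟩)

theorem sgn_add (c d : GolayPt → ZMod 2) (i : GolayPt) : sgn (c + d) i = sgn c i * sgn d i := by
  rcases zmod2_cases (c i) with a | a <;> rcases zmod2_cases (d i) with b | b <;>
    simp [sgn, a, b, CharTwo.add_self_eq_zero]

theorem mono_mul (a b : M24 × golayCode) : mono a * mono b = mono (pairMul a b) := by
  refine Subtype.ext (Equiv.ext fun v => Subtype.ext (funext fun i => ?_))
  show ((mono a • mono b • v : leechLattice) : GolayPt → ℤ) i = ((mono (pairMul a b) • v : leechLattice) : GolayPt → ℤ) i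
  simp only [mono_smul, monoFun, pairMul, sgn_add, MulMemClass.coe_mul, Equiv.Perm.mul_def,
    Equiv.symm_trans_apply]
  rw [← mul_assoc]
  congr 1

/-- The monomial pair of an element of the cross stabiliser. -/
noncomputable def pairOf (g : crossStab) : M24 × golayCode :=
  Classical.choose (fixesStd_iff.1 (mem_crossStab.1 g.2))

theorem mono_pairOf (g : crossStab) : mono (pairOf g) = (g : Co0) :=
  Classical.choose_spec (fixesStd_iff.1 (mem_crossStab.1 g.2))

/-- The permutation part of a monomial element. -/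
noncomputable def permPart : crossStab →* M24 :=
  MonoidHom.mk' (fun g => (pairOf g).1) fun g h => by
    have e : pairMul (pairOf g) (pairOf h) = pairOf (g * h) := mono_injective (by
      rw [← mono_mul, mono_pairOf, mono_pairOf, mono_pairOf, Subgroup.coe_mul])
    exact (congrArg Prod.fst e).symm

theorem mono_mem (a : M24 × golayCode) : mono a ∈ crossStab :=
  mem_crossStab.2 (fixesStd_iff.2 ⟨a, rfl⟩)

theorem permPart_mono (a : M24 × golayCode) : permPart ⟨mono a, mono_mem a⟩ = a.1 :=
  congrArg Prod.fst (mono_injective (mono_pairOf ⟨mono a, mono_mem a⟩))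

/-- A diagonal element. -/
noncomputable abbrev diag (c : golayCode) : Co0 := mono (1, c)

theorem diag_add (c d : golayCode) : diag (c + d) = diag c * diag d := by
  rw [diag, diag, diag, mono_mul]
  congr 1

theorem diag_zero : diag 0 = 1 := co0_ext fun i => by
  rw [mono_axis]; simp [sgn]

/-- The code words of the diagonal elements in a subgroup. -/
noncomputable def diagPart (K : Subgroup Co0) : Submodule (ZMod 2) (GolayPt → ZMod 2) where
  carrier := {c | ∃ h : c ∈ golayCode, diag ⟨c, h⟩ ∈ K}
  add_mem' := fun {a b} ⟨ha, ha'⟩ ⟨hb, hb'⟩ => ⟨golayCode.add_mem ha hb, by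
    have := mul_mem ha' hb'; rwa [← diag_add] at this⟩
  zero_mem' := ⟨golayCode.zero_mem, by
    rw [show (⟨0, golayCode.zero_mem⟩ : golayCode) = 0 from rfl, diag_zero]; exact one_mem K⟩
  smul_mem' := fun r a ⟨ha, ha'⟩ => by
    rcases zmod2_cases r with rfl | rfl
    · rw [zero_smul]
      exact ⟨golayCode.zero_mem, by
        rw [show (⟨0, golayCode.zero_mem⟩ : golayCode) = 0 from rfl, diag_zero]; exact one_mem K⟩
    · rw [one_smul]; exact ⟨ha, ha'⟩

theorem mem_diagPart {K : Subgroup Co0} {c : golayCode} :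
    (c : GolayPt → ZMod 2) ∈ diagPart K ↔ diag c ∈ K := ⟨fun ⟨_, h⟩ => h, fun h => ⟨c.2, h⟩⟩

theorem diagPart_perm {K : Subgroup Co0} [hK : K.Normal] {c : GolayPt → ZMod 2} (hc : c ∈ diagPart K)
    {σ : Equiv.Perm GolayPt} (hσ : σ ∈ M24) : (fun i => c (σ.symm i)) ∈ diagPart K := by
  obtain ⟨hc, hcK⟩ := hc
  refine ⟨code_perm hσ hc, ?_⟩
  have h := hK.conj_mem _ hcK (mono (⟨σ, hσ⟩, 0))
  convert h using 1
  rw [eq_mul_inv_iff_mul_eq, mono_mul, mono_mul]
  congr 1
  refine Prod.ext ?_ (Subtype.ext (funext fun i => ?_)) <;> simp [pairMul, Equiv.Perm.one_def]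

/-- Two octads through five points, spanning sets. -/
theorem octads_span : (gBasis.map fun v => v.2).all (fun b => memB b (spanList
    (Steiner.stdO :: (Steiner.stdA ++ Steiner.stdY ++ [16771936 ^^^ 1009728])))) = true ∧
    (Steiner.stdO :: (Steiner.stdA ++ Steiner.stdY ++ [16771936 ^^^ 1009728])).all
      (fun b => memB b octadList) = true := by
  decide +kernel

theorem diagPart_eq_code {K : Subgroup Co0} [K.Normal] (h1 : (1 : GolayPt → ZMod 2) ∈ diagPart K)
    {c : GolayPt → ZMod 2} (hc : c ∈ diagPart K) (hc0 : c ≠ 0) (hc1 : c ≠ 1) :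
    golayCode ≤ diagPart K := by
  classical
  have hperm : ∀ {w : GolayPt → ZMod 2} {s : Finset GolayPt} {σ : Equiv.Perm GolayPt}, σ ∈ M24 →
      w ∈ diagPart K → σ • support₂ w = s → ∃ u ∈ diagPart K, support₂ u = s := by
    intro w s σ hσ hw e
    refine ⟨_, diagPart_perm hw hσ, ?_⟩
    rw [← e]
    ext i
    rw [smul_mem_iff]
    simp [support₂]
  have hcode : c ∈ golayCode := hc.1
  have hcompl : ∀ w : GolayPt → ZMod 2, (support₂ (w + 1)).card = 24 - (support₂ w).card := fun w => by
    have : support₂ (w + 1) = (support₂ w)ᶜ := by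
      ext i
      simp only [support₂, mem_filter, mem_univ, true_and, mem_compl, Pi.add_apply, Pi.one_apply]
      generalize w i = t; revert t; decide
    rw [this, card_compl]; rfl
  -- some octad occurs
  obtain ⟨u, hu, huo⟩ : ∃ u ∈ diagPart K, (support₂ u).card = 8 := by
    obtain ⟨m, hm, rfl⟩ := mem_golayCode.1 hcode
    rcases weight_cases hm with e | e | e | e | e
    · refine absurd (support_injective ?_) hc0
      rw [Finset.card_eq_zero.1 (by rw [support_ofMask, card_maskSet, e] : (support₂ (ofMask m)).card = 0)]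
      simp [support₂]
    · exact ⟨_, hc, by rw [support_ofMask, card_maskSet, e]⟩
    · -- dodecads meeting in eight points
      have hd : maskSet m ∈ dodecads := mem_dodecads.2 ⟨m, mem_dodecadList.2 ⟨hm, e⟩, rfl⟩
      obtain ⟨g, hg, hgd⟩ := dodecad_move hd
      obtain ⟨n, hn, h8⟩ : ∃ n ∈ dodecadList, popCount (sqMask &&& n) 24 = 8 := by
        have h := (show dodecadList.any (fun n => Nat.beq (popCount (sqMask &&& n) 24) 8) = true by
          decide +kernel)
        simpa using h
      have hn' : maskSet n ∈ dodecads := mem_dodecads.2 ⟨n, hn, rfl⟩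
      obtain ⟨g', hg', hgd'⟩ := dodecad_move hn'
      obtain ⟨u, hu, hus⟩ := hperm hg hc (by rw [support_ofMask, hgd])
      obtain ⟨w, hw, hws⟩ := hperm (σ := g'⁻¹) (s := maskSet n) (inv_mem hg') hu
        (by rw [hus, ← hgd', inv_smul_smul])
      refine ⟨u + w, Submodule.add_mem _ hu hw, ?_⟩
      have hs : support₂ (u + w) = (maskSet sqMask \ maskSet n) ∪ (maskSet n \ maskSet sqMask) := by
        rw [← hus, ← hws]
        ext i
        simp only [support₂, mem_filter, mem_univ, true_and, Pi.add_apply, mem_union, mem_sdiff]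
        generalize u i = s; generalize w i = t; revert s t; decide
      have e1 := card_sdiff_add_card_inter (maskSet sqMask) (maskSet n)
      have e2 := card_sdiff_add_card_inter (maskSet n) (maskSet sqMask)
      rw [inter_comm (maskSet n)] at e2
      rw [← maskSet_and, card_maskSet, h8] at e1 e2
      rw [card_maskSet] at e1 e2
      have := (mem_dodecadList.1 hn).2
      have : popCount sqMask 24 = 12 := by decide +kernel
      rw [hs, card_union_of_disjoint disjoint_sdiff_sdiff]
      omega
    · exact ⟨_, Submodule.add_mem _ hc h1, by rw [hcompl, support_ofMask, card_maskSet, e]⟩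
    · refine absurd (funext fun p => ?_) hc1
      have hall : maskSet m = univ := eq_univ_of_card _ (by rw [card_maskSet, e]; rfl)
      have hp : p ∈ maskSet m := by rw [hall]; exact mem_univ p
      rw [ofMask, if_pos (mem_maskSet.1 hp)]; rfl
  have hoct : support₂ u ∈ octads := ⟨⟨u, hu.1, rfl⟩, huo⟩
  intro w hw
  obtain ⟨m, hm, rfl⟩ := mem_golayCode.1 hw
  refine spanList_mem_submodule (M := diagPart K) _ (fun b hb => ?_) m hm
  refine spanList_mem_submodule (M := diagPart K) _ (fun d hd => ?_) b
    (memB_spec (List.all_eq_true.1 octads_span.1 b hb))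
  have hdo : maskSet d ∈ octads :=
    mem_octads.2 ⟨d, memB_spec (List.all_eq_true.1 octads_span.2 d hd), rfl⟩
  obtain ⟨σ, hσ, hσo⟩ := exists_M24_octad hoct hdo
  obtain ⟨v, hv, hvs⟩ := hperm hσ hu hσo
  rwa [show v = ofMask d from support_injective (hvs.trans (support_ofMask d).symm)] at hv

/-! ### The kernel of the action on crosses -/

/-- `4 χ_T`. -/
def tetVec (T : Finset GolayPt) (hT : T.card = 4) : leechLattice :=
  ⟨fun i => if i ∈ T then 4 else 0, mem_leech.2 ⟨0, fun i => by dsimp only; split_ifs <;> omega, by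
    rw [sum_ite_mem, univ_inter, sum_const, hT]; norm_num, by
    have : hword 0 (fun i => if i ∈ T then (4 : ℤ) else 0) = 0 := by
      funext i; simp only [hword, sub_zero]; split_ifs <;> simp <;> decide
    rw [this]; exact golayCode.zero_mem⟩⟩

theorem coe_tetVec (T : Finset GolayPt) (hT : T.card = 4) :
    (tetVec T hT : GolayPt → ℤ) = fun i => if i ∈ T then 4 else 0 := rfl

theorem ip_tetVec (T : Finset GolayPt) (hT : T.card = 4) : ip (tetVec T hT) (tetVec T hT) = 8 := by
  refine (ip_self_iff (n := 8)).2 ?_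
  simp only [sqNorm, coe_tetVec, ite_pow]
  norm_num [sum_ite_mem, hT]

theorem exists_half {x y : leechLattice} (h : Cong x y) :
    ∃ z ∈ leechLattice, ∀ i, (x : GolayPt → ℤ) i - (y : GolayPt → ℤ) i = 2 * z i := by
  obtain ⟨z, hz⟩ := h
  refine ⟨z, z.2, fun i => ?_⟩
  have := congrFun (congrArg Subtype.val hz) i
  simpa [two_mul, two_nsmul] using this

/-- An element fixing every cross is `±1`. -/
theorem kernel_le_center {g : Co0} (hg : ∀ X ∈ MulAction.orbit Co0 stdX, g • X = X) :
    g ∈ Subgroup.center Co0 := by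
  classical
  obtain ⟨a, rfl⟩ := fixesStd_iff.1 (mem_crossStab.1 (MulAction.mem_stabilizer_iff.2
    (hg stdX (MulAction.mem_orbit_self _))))
  have hfix : ∀ T (hT : T.card = 4), Cong (tetVec T hT) (mono a • tetVec T hT) := fun T hT => by
    have h := hg (xCross (tetVec T hT)) (by rw [stdX, orbit_xCross]; exact ⟨_, ip_tetVec T hT, rfl⟩)
    have hm : mono a • tetVec T hT ∈ xCross (tetVec T hT) := by
      rw [← h]; exact Set.smul_mem_smul_set (self_mem_xCross (ip_tetVec T hT))
    exact hm.2
  set σ : Equiv.Perm GolayPt := (a.1 : Equiv.Perm GolayPt) with hσdef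
  set c : GolayPt → ZMod 2 := (a.2 : GolayPt → ZMod 2) with hcdef
  have hval : ∀ T (hT : T.card = 4) i, ((mono a • tetVec T hT : leechLattice) : GolayPt → ℤ) i
      = sgn c i * if σ.symm i ∈ T then 4 else 0 := fun T hT i => rfl
  have hσ : σ = 1 := by
    by_contra hne
    obtain ⟨p, hp⟩ : ∃ p, σ p ≠ p := by
      by_contra hall
      push Not at hall
      exact hne (Equiv.ext hall)
    obtain ⟨q, -, hq⟩ := exists_mem_notMem_of_card_lt_card (s := ({p, σ p} : Finset GolayPt)) (t := univ)
      (lt_of_le_of_lt Finset.card_le_two (by decide))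
    simp only [mem_insert, mem_singleton, not_or] at hq
    obtain ⟨T, hsub, hTsub, hT⟩ := exists_subsuperset_card_eq (s := ({p, q, σ q} : Finset GolayPt))
      (t := univ.erase (σ p)) (n := 4) (by
        intro i hi
        simp only [mem_insert, mem_singleton] at hi
        refine mem_erase.2 ⟨?_, mem_univ _⟩
        rcases hi with rfl | rfl | rfl
        · exact Ne.symm hp
        · exact hq.2
        · exact fun e => hq.1 (σ.injective e)) (le_trans Finset.card_le_three (by norm_num))
      (by rw [card_erase_of_mem (mem_univ _)]; decide)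
    have hpT : p ∈ T := hsub (by simp)
    have hqT : q ∈ T := hsub (by simp)
    have hσqT : σ q ∈ T := hsub (by simp)
    have hσpT : σ p ∉ T := fun h => (mem_erase.1 (hTsub h)).1 rfl
    obtain ⟨z, hz, hzv⟩ := exists_half (hfix T hT)
    simp only [hval, coe_tetVec] at hzv
    have hzev : ∀ i, (2 : ℤ) ∣ z i := fun i => by
      have := hzv i
      rcases sgn_cases c i with r | r <;> rw [r] at this <;> split_ifs at this <;> omega
    have hL : InLeech 0 z := by
      obtain ⟨m, hm, hL⟩ := exists_parity hz
      rcases hm with rfl | rfl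
      · exact hL
      · exfalso; have := hL.1 none; have := hzev none; omega
    have hne0 : hword 0 z ≠ 0 := fun e => by
      have h0 := congrFun e (σ p)
      have := hzv (σ p)
      rw [if_neg hσpT, σ.symm_apply_apply, if_pos hpT] at this
      simp only [hword, sub_zero, Pi.zero_apply, ZMod.intCast_zmod_eq_zero_iff_dvd] at h0
      rcases sgn_cases c (σ p) with r | r <;> rw [r] at this <;> omega
    have h8 := card_support_ge hL.2.2 hne0
    have hsupp : support₂ (hword 0 z) ⊆ (T ∪ σ • T).erase (σ q) := by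
      intro i hi
      simp only [support₂, hword, sub_zero, mem_filter, mem_univ, true_and, ne_eq,
        ZMod.intCast_zmod_eq_zero_iff_dvd] at hi
      have hh := hzv i
      refine mem_erase.2 ⟨fun e => ?_, ?_⟩
      · subst e
        rw [if_pos hσqT, σ.symm_apply_apply, if_pos hqT] at hh
        rcases sgn_cases c (σ q) with r | r <;> rw [r] at hh <;> omega
      · by_contra hU
        rw [mem_union, not_or, smul_mem_iff] at hU
        rw [if_neg hU.1, if_neg hU.2, mul_zero] at hh
        omega
    have hle := card_le_card hsupp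
    rw [card_erase_of_mem (mem_union_left _ hσqT)] at hle
    have hu := card_union_le T (σ • T)
    rw [card_smul_finset, hT] at hu
    omega
  have hc : ∀ i j, c i = c j := by
    intro i j
    rcases eq_or_ne i j with rfl | hij
    · rfl
    obtain ⟨W, hW, hWc⟩ := exists_subset_card_eq (s := ({i, j}ᶜ : Finset GolayPt)) (n := 3)
      (by rw [card_compl, card_pair hij]; decide)
    have hi : i ∉ W := fun h => by simpa using hW h
    have hj : j ∉ W := fun h => by simpa using hW h
    have key : ∀ k (hk : k ∉ W), c k + ∑ w ∈ W, c w = 0 := fun k hk => by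
      have hT : (insert k W).card = 4 := by rw [card_insert_of_notMem hk, hWc]
      obtain ⟨z, hz, hzv⟩ := exists_half (hfix _ hT)
      simp only [hval, hσ, coe_tetVec, Equiv.Perm.one_def, Equiv.refl_symm, Equiv.refl_apply] at hzv
      have hz4 : ∀ l, z l = if l ∈ insert k W then (if c l = 0 then 0 else 4) else 0 := fun l => by
        have := hzv l
        simp only [sgn] at this
        split_ifs at this ⊢ <;> omega
      obtain ⟨m, hm, hL⟩ := exists_parity hz
      rcases hm with rfl | rfl
      swap
      · exfalso; have := hL.1 k; rw [hz4] at this; split_ifs at this <;> omega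
      have h8 := hL.2.1
      simp only [hz4, sum_ite_mem, univ_inter] at h8
      rw [show ∑ l ∈ insert k W, (if c l = 0 then (0 : ℤ) else 4)
        = 4 * ∑ l ∈ insert k W, (if c l = 0 then (0 : ℤ) else 1) by
        rw [mul_sum]; exact sum_congr rfl fun l _ => by split_ifs <;> norm_num] at h8
      have hd : (2 : ℤ) ∣ ∑ l ∈ insert k W, (if c l = 0 then (0 : ℤ) else 1) := by omega
      rw [← sum_insert hk]
      refine Eq.trans ?_ ((ZMod.intCast_zmod_eq_zero_iff_dvd _ 2).2 hd)
      rw [Int.cast_sum]
      exact sum_congr rfl fun l _ => by rcases zmod2_cases (c l) with r | r <;> simp [r]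
    exact add_right_cancel ((key i hi).trans (key j hj).symm)
  refine mem_center_iff.2 ?_
  have e1 : a.1 = 1 := Subtype.ext hσ
  rcases zmod2_cases (c none) with r | r
  · left
    refine co0_ext fun i => ?_
    rw [mono_axis, ← hσdef, hσ]
    simp [sgn, ← hcdef, hc i none, r]
  · right
    rw [negCo0]
    congr 1
    refine Prod.ext e1 (Subtype.ext (funext fun i => ?_))
    rw [← hcdef, hc i none, r]; rfl

/-! ### Simplicity -/

theorem order13_sums : ∀ a b c d e : Bool,
    let n := cond a 3542 0 + (cond b 48576 0 + (cond c 1457280 0 + (cond d 2637824 0 + cond e 4145152 0)))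
    (n % 12 = 0 ∧ n ≠ 0) → (16584750 / 13) % (n / 12) ≠ 0 := by
  decide +kernel

set_option maxHeartbeats 2000000 in
/-- The normal subgroups containing the centre. -/
theorem normal_cases (K : Subgroup Co0) [hK : K.Normal] (hc : Subgroup.center Co0 ≤ K) :
    K = Subgroup.center Co0 ∨ K = ⊤ := by
  classical
  have : Finite Co0 := Nat.finite_of_card_ne_zero (by rw [card_Co0]; norm_num)
  by_cases hle : K ≤ crossStab
  · left
    refine le_antisymm (fun k hk => kernel_le_center ?_) hc
    rintro X ⟨g, rfl⟩
    have h := hle (hK.conj_mem k hk g⁻¹)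
    have h' : (g⁻¹ * k * g) • stdX = stdX := by simpa [crossStab, stdX] using h
    show k • g • stdX = g • stdX
    rw [mul_smul, mul_smul, inv_smul_eq_iff] at h'
    exact h'
  right
  have hKN : K ⊔ crossStab = ⊤ :=
    isCoatom_crossStab.2 _ (lt_of_le_of_ne le_sup_right fun e => hle (e ▸ le_sup_left))
  have hone : (1 : GolayPt → ZMod 2) ∈ diagPart K :=
    ⟨one_mem_code, hc (mem_center_iff.2 (Or.inr rfl))⟩
  -- the projection to the permutation group
  have hP : ((K.subgroupOf crossStab).map permPart).Normal :=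
    Subgroup.Normal.map inferInstance permPart fun σ => ⟨⟨mono (σ, 0), mono_mem _⟩, permPart_mono _⟩
  have := isSimpleGroup_M24
  have hfull : golayCode ≤ diagPart K → ((K.subgroupOf crossStab).map permPart = ⊤) → K = ⊤ := by
    intro hE hperm
    rw [eq_top_iff, ← hKN]
    refine sup_le le_rfl fun g hg => ?_
    obtain ⟨b, rfl⟩ := fixesStd_iff.1 (mem_crossStab.1 hg)
    obtain ⟨h, hh, he⟩ : b.1 ∈ (K.subgroupOf crossStab).map permPart := by rw [hperm]; trivial
    obtain ⟨d, hd⟩ := fixesStd_iff.1 (mem_crossStab.1 h.2)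
    have e1 : d.1 = b.1 := by
      rw [← he, ← permPart_mono d]
      exact congrArg permPart (Subtype.ext hd)
    have hbd : mono b = diag (b.2 - d.2) * mono d := by
      rw [mono_mul]
      congr 1
      refine Prod.ext (by simp [pairMul, e1]) (Subtype.ext (funext fun i => ?_))
      simp [pairMul, Equiv.Perm.one_def]
    rw [hbd]
    refine mul_mem (mem_diagPart.1 (hE (b.2 - d.2).2)) ?_
    rw [hd]; exact hh
  rcases hP.eq_bot_or_eq_top with hbot | htop
  swap
  · -- all permutations occur
    refine hfull ?_ htop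
    obtain ⟨o, ho⟩ := Set.nonempty_of_ncard_ne_zero (s := octads) (by rw [ncard_octads]; norm_num)
    obtain ⟨p, hp⟩ : o.Nonempty := card_pos.1 (by rw [card_octad ho]; norm_num)
    obtain ⟨q, hq⟩ : ∃ q, q ∉ o := by
      by_contra hall
      push Not at hall
      have := card_octad ho
      rw [eq_univ_of_forall hall] at this
      exact absurd this (by decide)
    obtain ⟨σ, hσ, hσp⟩ := exists_M24_point p q
    obtain ⟨h, hh, he⟩ : (⟨σ, hσ⟩ : M24) ∈ (K.subgroupOf crossStab).map permPart := by rw [htop]; trivial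
    obtain ⟨d, hd⟩ := fixesStd_iff.1 (mem_crossStab.1 h.2)
    have e1 : d.1 = ⟨σ, hσ⟩ := by rw [← he, ← permPart_mono d]; exact congrArg permPart (Subtype.ext hd)
    obtain ⟨w, hw, hwo⟩ := ho.1
    let t : GolayPt → ZMod 2 := w + fun i => w (σ.symm i)
    have htK : t ∈ diagPart K := by
      refine ⟨golayCode.add_mem hw (code_perm hσ hw), ?_⟩
      have hdK : mono d ∈ K := by rw [hd]; exact hh
      have hcomm := mul_mem (hK.conj_mem _ hdK (diag ⟨w, hw⟩)) (inv_mem hdK)
      convert hcomm using 1
      rw [eq_mul_inv_iff_mul_eq, eq_mul_inv_iff_mul_eq, mono_mul, mono_mul, mono_mul]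
      congr 1
      refine Prod.ext ?_ (Subtype.ext (funext fun i => ?_))
      · simp [pairMul, e1]
      · simp only [pairMul, e1, t, Pi.add_apply, OneMemClass.coe_one, Equiv.Perm.one_def,
          Equiv.refl_symm, Equiv.refl_apply, one_mul, mul_one]
        generalize w i = A
        generalize w (σ.symm i) = B
        generalize (d.2 : GolayPt → ZMod 2) i = C
        revert A B C
        decide
    have htp : t q ≠ 0 := by
      have hwp : w p ≠ 0 := by rw [← hwo] at hp; simpa [support₂] using hp
      have hwq : w q = 0 := by rw [← hwo] at hq; simpa [support₂] using hq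
      have : σ.symm q = p := by rw [← hσp, σ.symm_apply_apply]
      simp [t, hwq, this, hwp]
    refine diagPart_eq_code hone htK (fun e => htp (by rw [e]; rfl)) fun e => ?_
    -- the weight is at most 16
    have hsub : support₂ t ⊆ o ∪ σ • o := fun i hi => by
      simp only [support₂, mem_filter, mem_univ, true_and, t, Pi.add_apply] at hi
      rw [mem_union, smul_mem_iff]
      by_contra hU
      rw [not_or, ← hwo] at hU
      simp only [support₂, mem_filter, mem_univ, true_and, not_not] at hU
      rw [hU.1, hU.2, add_zero] at hi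
      exact hi rfl
    have := (card_le_card hsub).trans (card_union_le _ _)
    rw [e, card_smul_finset, card_octad ho,
      show support₂ (1 : GolayPt → ZMod 2) = univ by ext i; simp [support₂]] at this
    exact absurd this (by decide)
  -- only diagonal elements fix the standard cross
  have hdiag : ∀ k ∈ K, k ∈ crossStab → ∃ d : golayCode, diag d = k := by
    intro k hk hkN
    obtain ⟨b, hb⟩ := fixesStd_iff.1 (mem_crossStab.1 hkN)
    have : permPart ⟨mono b, mono_mem b⟩ ∈ (K.subgroupOf crossStab).map permPart :=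
      ⟨⟨mono b, mono_mem b⟩, by show mono b ∈ K; rw [hb]; exact hk, rfl⟩
    rw [hbot, Subgroup.mem_bot, permPart_mono] at this
    exact ⟨b.2, by rw [← hb, diag, ← this]⟩
  have htrans : ∀ X ∈ MulAction.orbit Co0 stdX, ∃ k ∈ K, k • stdX = X := by
    rintro X ⟨g, rfl⟩
    have hg : g ∈ ((K ⊔ crossStab : Subgroup Co0) : Set Co0) := by rw [hKN]; exact Subgroup.mem_top g
    rw [Subgroup.normal_mul K crossStab] at hg
    obtain ⟨k, hk, n, hn, rfl⟩ := Set.mem_mul.1 hg
    exact ⟨k, hk, by show _ = (k * n) • stdX; rw [mul_smul, show n • stdX = stdX from MulAction.mem_stabilizer_iff.1 (show n ∈ crossStab from hn)]⟩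
  by_cases hE : golayCode ≤ diagPart K
  · -- a sign change acting on another cross non-diagonally
    exfalso
    obtain ⟨T, hTsub, hT⟩ := exists_subset_card_eq (s := (univ : Finset GolayPt)) (n := 4) (by decide)
    obtain ⟨p, q, r, s, hpq, hpr, hps, hqr, hqs, hrs, rfl⟩ := card_eq_four.1 hT
    obtain ⟨w, hw, hwv⟩ := exists_code_eq_on_small {p, q, r, s} (by rw [hT]; norm_num)
      (fun i => if i = p ∨ i = q then 1 else 0)
    set v := tetVec _ hT
    have hv : ip v v = 8 := ip_tetVec _ hT
    let e : Co0 := diag ⟨w, hw⟩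
    have he : ∀ i, ((e • v : leechLattice) : GolayPt → ℤ) i = sgn w i * (v : GolayPt → ℤ) i := fun i => by
      show ((mono (1, ⟨w, hw⟩) • v : leechLattice) : GolayPt → ℤ) i = _
      simp [mono_smul, monoFun, Equiv.Perm.one_def]
    have hwp : w p = 1 := by rw [hwv p (by simp), if_pos (Or.inl rfl)]
    have hwq : w q = 1 := by rw [hwv q (by simp), if_pos (Or.inr rfl)]
    have hwr : w r = 0 := by rw [hwv r (by simp), if_neg (by simp [hpr.symm, hqr.symm])]
    have hws : w s = 0 := by rw [hwv s (by simp), if_neg (by simp [hps.symm, hqs.symm])]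
    have hcong : Cong v (e • v) := by
      refine ⟨⟨_, mem_leech.2 ⟨0, inLeech_pair p q hpq 4 4 (Or.inl rfl) (Or.inl rfl)⟩⟩,
        Subtype.ext (funext fun i => ?_)⟩
      simp only [AddSubgroup.coe_sub, AddSubgroup.coe_nsmul, Pi.sub_apply, Pi.smul_apply, Pi.add_apply,
        Pi.single_apply, nsmul_eq_mul, he]
      simp only [v, coe_tetVec, mem_insert, mem_singleton]
      rcases eq_or_ne i p with rfl | h1
      · simp [sgn, hwp, hpq]
      rcases eq_or_ne i q with rfl | h2
      · simp [sgn, hwq, h1]
      rcases eq_or_ne i r with rfl | h3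
      · simp [sgn, hwr, h1, h2]
      rcases eq_or_ne i s with rfl | h4
      · simp [sgn, hws, h1, h2]
      simp [h1, h2, h3, h4]
    obtain ⟨g, hg⟩ := exists_to_axis hv none
    have hX : g • xCross v = stdX := by rw [smul_xCross, hg]; rfl
    have heX : e • xCross v = xCross v := by
      rw [smul_xCross]; exact xCross_eq_of_mem ⟨(co0_ip _ _ _).trans hv, hcong⟩
    have hmem : g * e * g⁻¹ ∈ crossStab := MulAction.mem_stabilizer_iff.2 (by
      show (g * e * g⁻¹) • stdX = stdX
      rw [← hX, mul_smul, inv_smul_smul, mul_smul, heX])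
    obtain ⟨d, hd⟩ := hdiag _ (hK.conj_mem _ (mem_diagPart.1 (hE hw)) g) hmem
    have hsgn : g • e • v = sgn (d : GolayPt → ZMod 2) none • (g • v) := by
      have e1 : (g * e * g⁻¹) • g • v = g • e • v := by rw [mul_smul, inv_smul_smul, mul_smul]
      rw [← e1, ← hd, hg, mono_axis]
      simp
    have hev : e • v = sgn (d : GolayPt → ZMod 2) none • v := by
      refine smul_left_cancel g ?_
      rw [hsgn, ← hom0_apply g (sgn (d : GolayPt → ZMod 2) none • v), map_zsmul, hom0_apply]
    have h1 := congrFun (congrArg Subtype.val hev) p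
    have h2 := congrFun (congrArg Subtype.val hev) r
    simp only [AddSubgroup.coe_zsmul, Pi.smul_apply, smul_eq_mul, he, v, coe_tetVec, mem_insert,
      mem_singleton, true_or, or_true, if_true, sgn, hwp, hwr, one_ne_zero, if_false] at h1 h2
    split_ifs at h1 h2 <;> omega
  -- the regular case
  exfalso
  have hstab : ∀ k ∈ K, k ∈ crossStab → k ∈ Subgroup.center Co0 := by
    intro k hk hkN
    obtain ⟨d, rfl⟩ := hdiag k hk hkN
    by_contra hne
    refine hE (diagPart_eq_code hone (mem_diagPart.2 hk) (fun e => hne ?_) (fun e => hne ?_))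
    · rw [show d = 0 from Subtype.ext e, diag_zero]; exact one_mem _
    · rw [show d = ⟨1, one_mem_code⟩ from Subtype.ext e]; exact mem_center_iff.2 (Or.inr rfl)
  have hKc : Nat.card K = 16584750 := by
    have h1 := Subgroup.card_mul_index (crossStab.subgroupOf K)
    have e1 : crossStab.subgroupOf K = (Subgroup.center Co0).subgroupOf K := by
      ext k
      simp only [Subgroup.mem_subgroupOf]
      refine ⟨fun h => hstab _ k.2 h, fun h => ?_⟩
      rcases mem_center_iff.1 h with e | e <;> rw [e]
      · exact one_mem _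
      · exact mono_mem _
    have e2 : (crossStab.subgroupOf K).index = 8292375 := by
      have hst : crossStab.subgroupOf K = MulAction.stabilizer K stdX := by ext k; rfl
      rw [hst, MulAction.index_stabilizer, ← ncard_orbit]
      congr 1
      refine Set.Subset.antisymm (fun X ⟨k, hk⟩ => ⟨(k : Co0), hk⟩) fun X hX => ?_
      obtain ⟨k, hk, rfl⟩ := htrans X hX
      exact ⟨⟨k, hk⟩, rfl⟩
    rw [e2, e1, Nat.card_congr (Subgroup.subgroupOfEquivOfLe hc).toEquiv, card_center] at h1
    omega
  have : Fact (Nat.Prime 13) := ⟨by norm_num⟩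
  let Φ : Set K := {k | orderOf k = 13}
  have hΦfin : Φ.Finite := Set.toFinite _
  have hΦne : Φ.Nonempty := exists_prime_orderOf_dvd_card' 13 (by rw [hKc]; norm_num)
  let F : K → Set leechLattice := fun k => (k : Co0) • stdX
  have hFinj : Set.InjOn F Φ := by
    intro k hk k' hk' e
    have hz : (k' : Co0)⁻¹ * (k : Co0) ∈ crossStab := MulAction.mem_stabilizer_iff.2 (by
      show ((k' : Co0)⁻¹ * (k : Co0)) • stdX = stdX
      rw [mul_smul]; exact inv_smul_eq_iff.2 e)
    rcases mem_center_iff.1 (hstab _ (mul_mem (inv_mem k'.2) k.2) hz) with r | r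
    · exact Subtype.ext (inv_mul_eq_one.1 r).symm
    · exfalso
      have hk0 : (k : Co0) = (k' : Co0) * negCo0 := by rw [← r, mul_inv_cancel_left]
      have h13 : (k : Co0) ^ 13 = 1 := by
        rw [← Subgroup.coe_pow, ← hk, pow_orderOf_eq_one]; rfl
      have h13' : (k' : Co0) ^ 13 = 1 := by
        rw [← Subgroup.coe_pow, ← hk', pow_orderOf_eq_one]; rfl
      have hcm : Commute (k' : Co0) negCo0 :=
        Subgroup.mem_center_iff.1 (mem_center_iff.2 (Or.inr rfl)) _
      rw [hk0, hcm.mul_pow, h13', one_mul] at h13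
      have h2 : negCo0 ^ 2 = 1 := co0_ext fun i => by
        rw [pow_two, mul_smul, negCo0_smul, negCo0_smul, neg_neg, one_smul]
      rw [show (13 : ℕ) = 2 * 6 + 1 by norm_num, pow_succ, pow_mul, h2, one_pow, one_mul] at h13
      exact negCo0_ne_one h13
  have hinv : ∀ a X, X ∈ F '' Φ → mono a • X ∈ F '' Φ := by
    rintro a _ ⟨k, hk, rfl⟩
    refine ⟨⟨mono a * k * (mono a)⁻¹, hK.conj_mem _ k.2 _⟩, ?_, ?_⟩
    · show orderOf _ = 13
      rw [← Subgroup.orderOf_coe, show ((⟨mono a * k * (mono a)⁻¹, hK.conj_mem _ k.2 _⟩ : K) : Co0)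
        = MulAut.conj (mono a) (k : Co0) from rfl, MulEquiv.orderOf_eq, Subgroup.orderOf_coe]
      exact hk
    · show (mono a * k * (mono a)⁻¹) • stdX = mono a • (k : Co0) • stdX
      rw [mul_smul, mul_smul, inv_smul_eq_iff.2 (mono_smul_stdX a).symm]
  have hsub : F '' Φ ⊆ MulAction.orbit Co0 stdX := by rintro _ ⟨k, -, rfl⟩; exact ⟨(k : Co0), rfl⟩
  have hnstd : stdX ∉ F '' Φ := by
    rintro ⟨k, hk, e⟩
    have hord : orderOf k = 13 := hk
    have h2 : k ^ 2 = 1 := by
      refine Subtype.ext ?_
      rcases mem_center_iff.1 (hstab _ k.2 (MulAction.mem_stabilizer_iff.2 e)) with r | r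
      · rw [Subgroup.coe_pow, r, one_pow]; rfl
      · rw [Subgroup.coe_pow, r]
        exact co0_ext fun i => by
          rw [pow_two, mul_smul, negCo0_smul, negCo0_smul, neg_neg, OneMemClass.coe_one, one_smul]
    have := orderOf_dvd_of_pow_eq_one h2
    rw [hord] at this
    norm_num at this
  obtain ⟨n, hn, hsum⟩ := invariant_sum hinv hsub hnstd
  have hcard : Φ.ncard = n := by rw [← hFinj.ncard_image, hsum]
  -- counting the elements of order 13
  have hsy : 12 ∣ Φ.ncard ∧ Φ.ncard / 12 ∣ 16584750 / 13 := by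
    have hP13 : ∀ P : Sylow 13 K, Nat.card P = 13 := fun P => by
      obtain ⟨j, hj⟩ := IsPGroup.iff_card.1 P.isPGroup'
      have h1 : 13 ^ j ∣ 16584750 := by rw [← hj, ← hKc]; exact Subgroup.card_subgroup_dvd_card _
      have h2 : 13 ∣ 13 ^ j := by
        rw [← hj]; exact P.dvd_card_of_dvd_card (by rw [hKc]; norm_num)
      rcases j with _ | _ | j
      · norm_num at h2
      · simpa using hj
      · exfalso
        have := (pow_dvd_pow 13 (show 2 ≤ j + 2 by omega)).trans h1
        norm_num at this
    have : Fintype (Sylow 13 K) := Fintype.ofFinite _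
    have : Fintype K := Fintype.ofFinite _
    let G : Sylow 13 K → Finset K := fun P => univ.filter fun k => k ∈ (P : Subgroup K) ∧ k ≠ 1
    have hG : ∀ P, (G P).card = 12 := fun P => by
      have h1 : (univ.filter fun k => k ∈ (P : Subgroup K)).card = 13 := by
        have h0 := hP13 P
        rwa [Nat.card_eq_fintype_card, Fintype.card_subtype] at h0
      have : G P = (univ.filter fun k => k ∈ (P : Subgroup K)).erase 1 := by
        ext k; simp [G, and_comm]
      rw [this, card_erase_of_mem (by simp [one_mem]), h1]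
    have hord : ∀ P, ∀ k ∈ G P, orderOf k = 13 := fun P k hk => by
      obtain ⟨hkP, hk1⟩ := (mem_filter.1 hk).2
      refine (Nat.dvd_prime (by norm_num)).1 ?_ |>.resolve_left (fun e => hk1 (orderOf_eq_one_iff.1 e))
      rw [← hP13 P, ← Subgroup.orderOf_mk k hkP]
      exact orderOf_dvd_natCard _
    have hzp : ∀ P : Sylow 13 K, ∀ k ∈ G P, Subgroup.zpowers k = (P : Subgroup K) := fun P k hk => by
      refine Subgroup.eq_of_le_of_card_ge (Subgroup.zpowers_le.2 (mem_filter.1 hk).2.1) ?_
      rw [Nat.card_zpowers, hord P k hk, hP13]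
    have hΦeq : Φ = ↑(univ.biUnion G) := by
      ext k
      simp only [coe_biUnion, coe_univ, Set.mem_univ, Set.iUnion_true, Set.mem_iUnion, mem_coe]
      constructor
      · intro hk
        have hk' : orderOf k = 13 := hk
        obtain ⟨P, hP⟩ := IsPGroup.exists_le_sylow (p := 13) (P := Subgroup.zpowers k)
          (IsPGroup.of_card (n := 1) (by rw [Nat.card_zpowers, hk', pow_one]))
        refine ⟨P, mem_filter.2 ⟨mem_univ _, hP (Subgroup.mem_zpowers k), fun e => ?_⟩⟩
        rw [e, orderOf_one] at hk'
        norm_num at hk'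
      · rintro ⟨P, hP⟩; exact hord P k hP
    have hd : ∀ P ∈ (univ : Finset (Sylow 13 K)), ∀ Q ∈ (univ : Finset (Sylow 13 K)), P ≠ Q →
        Disjoint (G P) (G Q) := fun P _ Q _ hne => Finset.disjoint_left.2 fun k a b =>
      hne (Sylow.ext ((hzp P k a).symm.trans (hzp Q k b)))
    have hc : Φ.ncard = 12 * Nat.card (Sylow 13 K) := by
      rw [hΦeq, Set.ncard_coe_finset, card_biUnion hd, sum_congr rfl (fun P _ => hG P), sum_const,
        smul_eq_mul, card_univ, Nat.card_eq_fintype_card, mul_comm]
    refine ⟨⟨_, hc⟩, ?_⟩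
    rw [hc, Nat.mul_div_cancel_left _ (by norm_num : 0 < 12)]
    let P : Sylow 13 K := Classical.arbitrary _
    refine (Sylow.card_dvd_index P).trans (dvd_of_eq ?_)
    have h1 := Subgroup.card_mul_index (P : Subgroup K)
    rw [hP13, hKc] at h1
    omega
  obtain ⟨a, b, c, d, e, rfl⟩ := hn
  refine order13_sums a b c d e ⟨Nat.mod_eq_zero_of_dvd ?_, ?_⟩ (Nat.mod_eq_zero_of_dvd ?_)
  · rw [← hcard]; exact hsy.1
  · rw [← hcard]
    exact (Set.ncard_pos hΦfin).2 hΦne |>.ne'
  · rw [← hcard]; exact hsy.2
where
  /-- The size of an invariant set of non-standard crosses. -/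
  invariant_sum {O : Set (Set leechLattice)} (hinv : ∀ a X, X ∈ O → mono a • X ∈ O)
      (hsub : O ⊆ MulAction.orbit Co0 stdX) (hstd : stdX ∉ O) :
      ∃ n, (∃ a b c d e : Bool, n = cond a 3542 0 + (cond b 48576 0 + (cond c 1457280 0 +
        (cond d 2637824 0 + cond e 4145152 0)))) ∧ O.ncard = n := by
    classical
    have hall : ∀ t, crossOrbit t ⊆ O ∨ Disjoint (crossOrbit t) O := by
      intro t
      by_cases hne : ∃ X ∈ crossOrbit t, X ∈ O
      · left
        obtain ⟨_, ⟨a, rfl⟩, hX⟩ := hne
        rintro _ ⟨b, rfl⟩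
        obtain ⟨c, hc⟩ : ∃ c, mono c = mono b * (mono a)⁻¹ :=
          fixesStd_iff.1 (mem_crossStab.1 (mul_mem (mono_mem b) (inv_mem (mono_mem a))))
        have := hinv c _ hX
        simp only at this
        rwa [hc, smul_smul, inv_mul_cancel_right] at this
      · right
        exact Set.disjoint_left.2 fun X h h' => hne ⟨X, h, h'⟩
    have hfin : ∀ t, (crossOrbit t).Finite := fun t => Set.finite_of_ncard_ne_zero (by
      rw [ncard_crossOrbit]; cases t <;> norm_num [XType.size])
    have hcard : ∀ t, (crossOrbit t ∩ O).ncard = cond (decide (crossOrbit t ⊆ O)) t.size 0 := fun t => by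
      rcases hall t with h | h
      · rw [Set.inter_eq_left.2 h, decide_eq_true h, cond_true, ncard_crossOrbit]
      · have hns : ¬ crossOrbit t ⊆ O := fun hs =>
          Set.disjoint_left.1 h (show mono (1, 0) • xCross t.rep ∈ crossOrbit t from ⟨(1, 0), rfl⟩)
            (hs ⟨(1, 0), rfl⟩)
        rw [Set.disjoint_iff_inter_eq_empty.1 h, Set.ncard_empty, decide_eq_false hns, cond_false]
    refine ⟨_, ⟨decide (crossOrbit .B ⊆ O), decide (crossOrbit .C6 ⊆ O), decide (crossOrbit .C42 ⊆ O),
      decide (crossOrbit .D ⊆ O), decide (crossOrbit .G ⊆ O), rfl⟩, ?_⟩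
    have hU : O = crossOrbit .B ∩ O ∪ (crossOrbit .C6 ∩ O ∪ (crossOrbit .C42 ∩ O ∪
        (crossOrbit .D ∩ O ∪ crossOrbit .G ∩ O))) := by
      ext X
      simp only [Set.mem_union, Set.mem_inter_iff]
      refine ⟨fun hX => ?_, by tauto⟩
      have hmem := hsub hX
      rw [stdX, orbit_xCross] at hmem
      obtain ⟨x, hx, rfl⟩ := hmem
      rcases cross_cases hx with e | ⟨t, ht⟩
      · exact absurd (e ▸ hX) hstd
      · cases t <;> tauto
    have hd : ∀ s t, s ≠ t → Disjoint (crossOrbit s ∩ O) (crossOrbit t ∩ O) := fun s t hne =>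
      Set.disjoint_left.2 fun X a b => hne (crossOrbit_unique a.1 b.1)
    have f : ∀ t, (crossOrbit t ∩ O).Finite := fun t => (hfin t).subset Set.inter_subset_left
    conv_lhs => rw [hU]
    rw [Set.ncard_union_eq (by
        simp only [Set.disjoint_union_right]
        exact ⟨hd _ _ (by decide), hd _ _ (by decide), hd _ _ (by decide), hd _ _ (by decide)⟩)
        (f _) ((f _).union ((f _).union ((f _).union (f _)))),
      Set.ncard_union_eq (by
        simp only [Set.disjoint_union_right]
        exact ⟨hd _ _ (by decide), hd _ _ (by decide), hd _ _ (by decide)⟩)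
        (f _) ((f _).union ((f _).union (f _))),
      Set.ncard_union_eq (by
        simp only [Set.disjoint_union_right]
        exact ⟨hd _ _ (by decide), hd _ _ (by decide)⟩) (f _) ((f _).union (f _)),
      Set.ncard_union_eq (hd _ _ (by decide)) (f _) (f _), hcard, hcard, hcard, hcard, hcard]
    rfl

theorem isCo1 : IsCo1 (Co0 ⧸ Subgroup.center Co0) := by
  have hcard : Nat.card (Co0 ⧸ Subgroup.center Co0) = 4157776806543360000 := by
    have h := Subgroup.card_eq_card_quotient_mul_card_subgroup (Subgroup.center Co0)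
    rw [card_Co0, card_center] at h
    omega
  refine ⟨?_, hcard⟩
  have : Finite (Co0 ⧸ Subgroup.center Co0) := Nat.finite_of_card_ne_zero (by rw [hcard]; norm_num)
  have : Nontrivial (Co0 ⧸ Subgroup.center Co0) :=
    Finite.one_lt_card_iff_nontrivial.1 (by rw [hcard]; norm_num)
  refine ⟨fun H hH => ?_⟩
  rcases normal_cases (H.comap (QuotientGroup.mk' _)) (QuotientGroup.le_comap_mk' _ _) with e | e
  · left
    refine Subgroup.comap_injective (QuotientGroup.mk'_surjective _) ?_
    rw [e, MonoidHom.comap_bot, QuotientGroup.ker_mk']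
  · right
    refine Subgroup.comap_injective (QuotientGroup.mk'_surjective _) ?_
    rw [e, Subgroup.comap_top]

end Cfsg.Agent.Leech
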