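import Cfsg.Agent.Lib.Leech.Pairs
import Cfsg.Agent.Lib.Leech.Co1
import Cfsg.Agent.Lib.Golay.SylowSimple
import Cfsg.Agent.Lib.Golay.PrimeNormalizer
import Cfsg.Agent.Lib.Golay.SingleBlockData

/-!
The stabilisers of short vectors: orders and simplicity.
-/

namespace Cfsg.Agent.Leech

open Cfsg Cfsg.Agent.Golay Finset
open Cfsg.Agent.PermCert (get allBelow validElt allBelow_spec)
open Cfsg.Agent.LatticeMod2 (Rootless Cong)
open scoped Pointwise

set_option maxRecDepth 10000

/-! ### Elements of orders 11 and 23 -/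

/-- Orbit data for an element of order 23. -/
def o23 : SB.Orb := ⟨23, SB.elt23, SB.fix23, SB.reps23, SB.tbl23⟩

/-- Orbit data for an element of order 11. -/
def o11 : SB.Orb := ⟨11, SB.elt11, SB.fix11, SB.reps11, SB.tbl11⟩

theorem allBelow_mp {f : ℕ → Bool} {n : ℕ} (h : ∀ i < n, f i = true) : allBelow f n = true := by
  induction n with
  | zero => rfl
  | succ n ih =>
    show (allBelow f n && f n) = true
    rw [ih fun i hi => h i (by omega), h n (by omega)]
    rfl

/-- The candidates of the normaliser commute with the element only when trivial. -/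
def centOK (O : SB.Orb) : Bool :=
  O.valid.all fun f => allBelow (fun i => Nat.beq (get 5 f i) i) 24 ||
    !(allBelow (fun i => Nat.beq (get 5 f (get 5 O.x.1 i)) (get 5 O.x.1 (get 5 f i))) 24)

theorem o23_checks : o23.ok = true ∧ centOK o23 = true ∧ isAutB o23.x = true := by decide +kernel

theorem o11_checks : o11.ok = true ∧ centOK o11 = true ∧ isAutB o11.x = true := by decide +kernel

/-- The element of order 23. -/
noncomputable def e23 : M24 := ⟨permOf o23.x, permOf_mem_M24 (SB.Orb.ok_valid o23_checks.1) o23_checks.2.2⟩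

/-- The element of order 11. -/
noncomputable def e11 : M24 := ⟨permOf o11.x, permOf_mem_M24 (SB.Orb.ok_valid o11_checks.1) o11_checks.2.2⟩

theorem cent_perm {O : SB.Orb} (hok : O.ok = true) (hp : O.p.Prime) (hxM : permOf O.x ∈ M24)
    (hc : centOK O = true) {c : Equiv.Perm GolayPt} (hcM : c ∈ M24)
    (hcomm : c * permOf O.x = permOf O.x * c) (hfix : ∀ q, O.fix.testBit (idx q) = true → c q = q) :
    c ∈ Subgroup.zpowers (permOf O.x) := by
  have hlen : 0 < O.reps.length := by
    simp only [SB.Orb.ok, Bool.and_eq_true, Nat.blt_eq] at hok; tauto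
  have hv := SB.Orb.ok_valid hok
  have hq : O.fix.testBit (idx (O.repPt 0)) = false := by
    rw [SB.Orb.idx_repPt hok hlen]; exact ((SB.Orb.rep_spec hok 0 hlen).2 0 hp.pos).1
  have hcq : O.fix.testBit (idx (c (O.repPt 0))) = false := by
    rw [Bool.eq_false_iff]
    intro h'
    have := hfix _ h'
    rw [c.injective this, hq] at h'
    exact Bool.false_ne_true h'
  obtain ⟨hlt, he⟩ := SB.Orb.eq_pow_rep hok _ hcq
  set e := O.ex (idx (c (O.repPt 0)))
  set d := (permOf O.x ^ e)⁻¹ * c with hd
  have hdfix : ∀ q, O.fix.testBit (idx q) = true → d q = q := by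
    intro q h
    have hx : (permOf O.x ^ e) q = q := by
      rw [Equiv.Perm.coe_pow]
      exact Function.IsFixedPt.iterate ((SB.Orb.fix_iff hok q).1 h) e
    rw [hd, Equiv.Perm.mul_apply, hfix q h, Equiv.Perm.inv_def, Equiv.symm_apply_eq]
    exact hx.symm
  have hdc : d * permOf O.x = permOf O.x * d :=
    (Commute.inv_left ((Commute.refl (permOf O.x)).pow_left e)).mul_left hcomm
  have hdn : d ∈ O.nF :=
    ⟨mul_mem (inv_mem (pow_mem hxM e)) hcM, hdfix, 1, one_pos, hp.one_lt, by
      rw [hdc, pow_one, mul_inv_cancel_right]⟩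
  have hd0 : d (O.repPt 0) = O.repPt (O.orb (idx (c (O.repPt 0)))) := by
    rw [hd, Equiv.Perm.mul_apply, Equiv.Perm.inv_def, Equiv.symm_apply_eq]; exact he
  have hmem := SB.Orb.code_mem_valid hok hp hdn ⟨_, hlt, hd0⟩
  have hd1 : d = 1 := by
    rcases Bool.or_eq_true_iff.1 (List.all_eq_true.1 hc _ hmem) with h | h
    · refine Equiv.ext fun q => idx_injective ?_
      rw [← SB.Orb.get_codeOf, Nat.eq_of_beq_eq_true (allBelow_spec _ _ h _ (idx_lt q))]; rfl
    · exfalso
      rw [Bool.not_eq_true', Bool.eq_false_iff] at h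
      refine h (allBelow_mp fun i hi => ?_)
      obtain ⟨q, rfl⟩ : ∃ q, idx q = i := ⟨pt ⟨i, hi⟩, idx_pt _⟩
      rw [← idx_permOf hv, SB.Orb.get_codeOf, SB.Orb.get_codeOf, ← idx_permOf hv,
        ← Equiv.Perm.mul_apply, hdc, Equiv.Perm.mul_apply]
      exact Nat.beq_refl _
  rw [hd, inv_mul_eq_one] at hd1
  exact ⟨e, (zpow_natCast _ _).trans hd1⟩

theorem orbit_const {O : SB.Orb} (hok : O.ok = true) {α : Type*} (y : GolayPt → α)
    (h : ∀ q, y (permOf O.x q) = y q) {q : GolayPt} (hq : O.fix.testBit (idx q) = false) :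
    y q = y (O.repPt (O.orb (idx q))) := by
  obtain ⟨-, he⟩ := SB.Orb.eq_pow_rep hok q hq
  conv_lhs => rw [he]
  generalize O.ex (idx q) = e
  induction e with
  | zero => rfl
  | succ e ih => rw [pow_succ', Equiv.Perm.mul_apply, h, ih]

theorem class23 : ∀ i : ZMod 23, o23.fix.testBit (idx (some i)) = false ∧ o23.orb (idx (some i)) = 0 := by
  decide +kernel

theorem fix23_none : ∀ q : GolayPt, o23.fix.testBit (idx q) = true → q = none := by decide +kernel

theorem fix11_pair : ∀ q : GolayPt, o11.fix.testBit (idx q) = true ↔ q = none ∨ q = some 0 := by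
  decide +kernel

theorem const23 {α : Type*} (y : GolayPt → α) (h : ∀ q, y (permOf o23.x q) = y q) (i : ZMod 23) :
    y (some i) = y (some 0) := by
  rw [orbit_const o23_checks.1 y h (class23 i).1, orbit_const o23_checks.1 y h (class23 0).1,
    (class23 i).2, (class23 0).2]

/-- The first orbit of the element of order 11. -/
def class11 : Finset GolayPt :=
  univ.filter fun q => o11.fix.testBit (idx q) = false ∧ o11.orb (idx q) = 0

theorem class11_orb : ∀ q : GolayPt, o11.fix.testBit (idx q) = false → q ∉ class11 → o11.orb (idx q) = 1 := by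
  decide +kernel

theorem const11 {α : Type*} (y : GolayPt → α) (h : ∀ q, y (permOf o11.x q) = y q) (q : GolayPt)
    (hq : q ≠ none) (hq' : q ≠ some 0) :
    y q = if q ∈ class11 then y (o11.repPt 0) else y (o11.repPt 1) := by
  have hf : o11.fix.testBit (idx q) = false := by
    rw [Bool.eq_false_iff]; intro e; rcases (fix11_pair q).1 e with r | r <;> contradiction
  rw [orbit_const o11_checks.1 y h hf]
  split_ifs with hc
  · rw [(mem_filter.1 hc).2.2]
  · rw [class11_orb q hf hc]

theorem sum11 (f : ℤ → ℤ) (y : GolayPt → ℤ) (h : ∀ q, y (permOf o11.x q) = y q) :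
    ∑ i, f (y i) = f (y none) + f (y (some 0)) + 11 * f (y (o11.repPt 0)) + 11 * f (y (o11.repPt 1)) := by
  rw [← add_sum_erase _ _ (mem_univ (none : GolayPt)),
    ← add_sum_erase _ _ (show (some 0 : GolayPt) ∈ univ.erase none by simp),
    sum_congr rfl (g := fun i => if i ∈ class11 then f (y (o11.repPt 0)) else f (y (o11.repPt 1)))
      (fun i hi => by
        rw [mem_erase, mem_erase] at hi
        rw [const11 y h i hi.2.1 hi.1]
        split_ifs <;> rfl),
    sum_ite, sum_const, sum_const, nsmul_eq_mul, nsmul_eq_mul,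
    show (((univ : Finset GolayPt).erase none).erase (some 0)).filter (· ∈ class11) = class11 by decide +kernel,
    show class11.card = 11 by decide +kernel,
    show ((((univ : Finset GolayPt).erase none).erase (some 0)).filter (¬ · ∈ class11)).card = 11 by
      decide +kernel]
  ring

/-! ### Permutations inside the automorphism group -/

/-- The permutations as automorphisms of the lattice. -/
noncomputable def permHom : M24 →* Co0 :=
  MonoidHom.mk' (fun σ => mono (σ, 0)) fun a b => by
    rw [mono_mul]; congr 1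

theorem permHom_injective : Function.Injective permHom := fun a b h =>
  congrArg Prod.fst (mono_injective h)

theorem permHom_apply (σ : M24) (v : leechLattice) (i : GolayPt) :
    ((permHom σ • v : leechLattice) : GolayPt → ℤ) i
      = (v : GolayPt → ℤ) ((σ : Equiv.Perm GolayPt).symm i) := by
  show ((mono (σ, 0) • v : leechLattice) : GolayPt → ℤ) i = _
  simp [mono_smul, monoFun, sgn]

theorem permHom_fix {σ : M24} {v : leechLattice}
    (h : ∀ i, (v : GolayPt → ℤ) ((σ : Equiv.Perm GolayPt) i) = (v : GolayPt → ℤ) i) :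
    permHom σ • v = v :=
  Subtype.ext (funext fun i => by rw [permHom_apply, ← h, Equiv.apply_symm_apply])

/-- A set stabiliser of the code's group inside `Co0`. -/
noncomputable def permSub (L : List (Finset GolayPt)) : Subgroup Co0 :=
  ((stabSets L).subgroupOf M24).map permHom

theorem stabSets_le_M24 (L : List (Finset GolayPt)) : stabSets L ≤ M24 := fun _ h => h.1

/-- It is isomorphic to the permutation group. -/
noncomputable def permSubEquiv (L : List (Finset GolayPt)) : stabSets L ≃* permSub L :=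
  (Subgroup.subgroupOfEquivOfLe (stabSets_le_M24 L)).symm.trans
    (Subgroup.equivMapOfInjective _ permHom permHom_injective)

theorem card_permSub23 : Nat.card (permSub [{(none : GolayPt)}]) = 10200960 := by
  rw [← Nat.card_congr (permSubEquiv _).toEquiv, ← stabIn_m23, card_stabIn_m23]

theorem card_permSub22 : Nat.card (permSub [{(none : GolayPt)}, {some 0}]) = 443520 := by
  rw [← Nat.card_congr (permSubEquiv _).toEquiv, ← stabIn_m22, card_stabIn_m22]

theorem simple_permSub23 : IsSimpleGroup (permSub [{(none : GolayPt)}]) :=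
  have := isSimpleGroup_M23
  SimpleCriteria.isSimpleGroup_congr (permSubEquiv _)

theorem simple_permSub22 : IsSimpleGroup (permSub [{(none : GolayPt)}, {some 0}]) :=
  have := isSimpleGroup_M22
  SimpleCriteria.isSimpleGroup_congr (permSubEquiv _)

theorem mem_permSub23 {g : Co0} : g ∈ permSub [{(none : GolayPt)}] ↔
    ∃ σ : M24, (σ : Equiv.Perm GolayPt) none = none ∧ permHom σ = g := by
  simp [permSub, Subgroup.mem_map, Subgroup.mem_subgroupOf, mem_stabSets, smul_singleton_eq_iff]

theorem mem_permSub22 {g : Co0} : g ∈ permSub [{(none : GolayPt)}, {some 0}] ↔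
    ∃ σ : M24, ((σ : Equiv.Perm GolayPt) none = none ∧ (σ : Equiv.Perm GolayPt) (some 0) = some 0)
      ∧ permHom σ = g := by
  simp [permSub, Subgroup.mem_map, Subgroup.mem_subgroupOf, mem_stabSets, smul_singleton_eq_iff]

theorem e23_none : (e23 : Equiv.Perm GolayPt) none = none :=
  (SB.Orb.fix_iff o23_checks.1 none).1 (by decide +kernel)

theorem e11_none : (e11 : Equiv.Perm GolayPt) none = none :=
  (SB.Orb.fix_iff o11_checks.1 none).1 ((fix11_pair none).2 (Or.inl rfl))

theorem e11_zero : (e11 : Equiv.Perm GolayPt) (some 0) = some 0 :=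
  (SB.Orb.fix_iff o11_checks.1 _).1 ((fix11_pair _).2 (Or.inr rfl))

theorem e23_mem : permHom e23 ∈ permSub [{(none : GolayPt)}] := mem_permSub23.2 ⟨_, e23_none, rfl⟩

theorem e11_mem : permHom e11 ∈ permSub [{(none : GolayPt)}, {some 0}] :=
  mem_permSub22.2 ⟨_, ⟨e11_none, e11_zero⟩, rfl⟩

theorem order_e23 : orderOf (permHom e23) = 23 := by
  rw [orderOf_injective _ permHom_injective, ← Subgroup.orderOf_coe]
  exact SB.Orb.orderOf_permOf o23_checks.1 (show (23 : ℕ).Prime by norm_num)

theorem order_e11 : orderOf (permHom e11) = 11 := by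
  rw [orderOf_injective _ permHom_injective, ← Subgroup.orderOf_coe]
  exact SB.Orb.orderOf_permOf o11_checks.1 (show (11 : ℕ).Prime by norm_num)

/-! ### Centralisers -/

/-- The image of the axis under an element commuting with a permutation fixing the extra point. -/
theorem axis_image_inv {σ : M24} (hσ : (σ : Equiv.Perm GolayPt) none = none) {g : Co0}
    (h : g * permHom σ = permHom σ * g) (q : GolayPt) :
    ((g • axis none : leechLattice) : GolayPt → ℤ) ((σ : Equiv.Perm GolayPt) q)
      = ((g • axis none : leechLattice) : GolayPt → ℤ) q := by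
  have e : permHom σ • g • axis none = g • axis none := by
    rw [← mul_smul, ← h, mul_smul, show permHom σ • axis none = axis none from
      (mono_axis (σ, 0) none).trans (by simp [sgn, hσ])]
  have := permHom_apply σ (g • axis none) ((σ : Equiv.Perm GolayPt) q)
  rw [Equiv.symm_apply_apply, e] at this
  exact this

theorem mono_of_axis {g : Co0} {p : GolayPt} (h : g • axis none = axis p) : ∃ a, mono a = g := by
  refine fixesStd_iff.1 (mem_crossStab.1 (MulAction.mem_stabilizer_iff.2 ?_))
  rw [smul_xCross, h]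
  exact xCross_eq_of_mem ⟨ip_axis_self p, cong_axis none p⟩

theorem mono_commute {a : M24 × golayCode} {σ : M24} (h : mono a * permHom σ = permHom σ * mono a) :
    a.1 * σ = σ * a.1 ∧
      ∀ q, (a.2 : GolayPt → ZMod 2) ((σ : Equiv.Perm GolayPt) q) = (a.2 : GolayPt → ZMod 2) q := by
  have e : pairMul a (σ, 0) = pairMul (σ, 0) a := mono_injective (by rw [← mono_mul, ← mono_mul]; exact h)
  refine ⟨congrArg Prod.fst e, fun q => ?_⟩
  have := congrFun (congrArg (fun b : M24 × golayCode => (b.2 : GolayPt → ZMod 2)) e) ((σ : Equiv.Perm GolayPt) q)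
  simpa [pairMul] using this

theorem sum_dot (g : Co0) {v : leechLattice} (hv : g • v = v) :
    ∑ i, (v : GolayPt → ℤ) i * ((g • axis none : leechLattice) : GolayPt → ℤ) i
      = 8 * (v : GolayPt → ℤ) none := by
  have h := co0_dot g v (axis none)
  rw [hv, coe_axis, dot_single] at h
  exact h

theorem sum_sq_axis (g : Co0) : ∑ i, ((g • axis none : leechLattice) : GolayPt → ℤ) i ^ 2 = 64 :=
  (ip_self_iff (n := 8)).1 ((co0_ip _ _ _).trans (ip_axis_self none))

theorem code23 {c : GolayPt → ZMod 2} (hc : c ∈ golayCode) (h0 : c none = 0)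
    (h : ∀ q, c (permOf o23.x q) = c q) : c = 0 := by
  have hh : ∀ q, c q = if q = none then 0 else c (some 0) := by
    rintro (_ | i)
    · simp [h0]
    · rw [if_neg (by simp), const23 c h i]
  rcases zmod2_cases (c (some 0)) with r | r
  · funext q; rw [hh q, r]; simp
  · exfalso
    have e : support₂ c = univ.erase none := by ext q; simp [support₂, hh q, r]
    have := card_support_mod4 hc
    rw [e] at this
    revert this; decide

theorem code11 {c : GolayPt → ZMod 2} (hc : c ∈ golayCode) (h0 : c none = 0) (h1 : c (some 0) = 0)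
    (h : ∀ q, c (permOf o11.x q) = c q) : c = 0 := by
  have hh : ∀ q, c q = if q = none ∨ q = some 0 then 0
      else if q ∈ class11 then c (o11.repPt 0) else c (o11.repPt 1) := by
    intro q
    split_ifs with a b
    · rcases a with rfl | rfl <;> assumption
    · rw [not_or] at a; rw [const11 c h q a.1 a.2, if_pos b]
    · rw [not_or] at a; rw [const11 c h q a.1 a.2, if_neg b]
  have hw := card_support_mod4 hc
  rw [funext hh] at hw ⊢
  revert hw
  generalize c (o11.repPt 0) = s
  generalize c (o11.repPt 1) = t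
  revert s t
  decide +kernel

theorem cent23 {g : Co0} (hg : g * permHom e23 = permHom e23 * g) {v : leechLattice}
    (hv : g • v = v) (hv0 : (v : GolayPt → ℤ) none ≠ 0) : g ∈ Subgroup.zpowers (permHom e23) := by
  have hy := axis_image_inv e23_none hg
  set y : GolayPt → ℤ := ((g • axis none : leechLattice) : GolayPt → ℤ) with hydef
  have hs := sum_sq_axis g
  rw [← hydef, Fintype.sum_option, sum_congr rfl (fun i _ => by rw [const23 y hy i]), sum_const,
    card_univ, ZMod.card, nsmul_eq_mul] at hs
  push_cast at hs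
  have hb : y (some 0) = 0 := by
    by_contra hne
    have h1 : 1 ≤ y (some 0) ^ 2 := by rcases lt_or_gt_of_ne hne with r | r <;> nlinarith
    have h2 : y (some 0) ^ 2 ≤ 2 := by nlinarith
    obtain ⟨l, u⟩ := abs_le_of_sq (N := 2) (show y (some 0) ^ 2 < 2 ^ 2 by linarith) (by norm_num)
    have h3 : y (some 0) ^ 2 = 1 := by
      interval_cases y (some 0) <;> first | (norm_num; done) | (norm_num at h1; done)
    rw [h3] at hs
    obtain ⟨l', u'⟩ := abs_le_of_sq (N := 7) (show y none ^ 2 < 7 ^ 2 by linarith) (by norm_num)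
    have h4 : y none ^ 2 = 41 := by linarith
    interval_cases y none <;> norm_num at h4
  have hd := sum_dot g hv
  rw [← hydef, Fintype.sum_option, sum_eq_zero (fun i _ => by rw [const23 y hy i, hb, mul_zero]), add_zero,
    mul_comm 8] at hd
  have ha := mul_left_cancel₀ hv0 hd
  have hax : g • axis none = axis none := Subtype.ext (funext fun q => by
    rw [← hydef, coe_axis]
    rcases q with _ | i
    · simp [ha]
    · simp [const23 y hy i, hb])
  obtain ⟨a, rfl⟩ := mono_of_axis hax
  rw [mono_axis] at hax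
  obtain ⟨hn, hs'⟩ := sgn_axis_inj (sgn_cases _ _) (hax.trans (one_smul ℤ _).symm)
  obtain ⟨hcomm, hc⟩ := mono_commute hg
  rw [hn] at hs'
  have hc0 : (a.2 : GolayPt → ZMod 2) = 0 :=
    code23 a.2.2 (by unfold sgn at hs'; by_contra r; rw [if_neg r] at hs'; norm_num at hs') hc
  have hmem := cent_perm o23_checks.1 (show (23 : ℕ).Prime by norm_num) e23.2 o23_checks.2.1 a.1.2
    (congrArg Subtype.val hcomm) (fun q hq => by rw [fix23_none q hq]; exact hn)
  obtain ⟨k, hk⟩ := hmem
  refine ⟨k, ?_⟩
  show permHom e23 ^ k = mono a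
  rw [← map_zpow]
  show mono (e23 ^ k, 0) = mono a
  congr 1
  exact Prod.ext (Subtype.ext hk) (Subtype.ext hc0.symm)

theorem mono11 {g : Co0} (hg : g * permHom e11 = permHom e11 * g) {v : leechLattice} (hv : g • v = v)
    (hvp : ∀ i, (v : GolayPt → ℤ) (some 0) ≠ 0 ∧ (i = some 0 → (v : GolayPt → ℤ) i ≠ 0))
    {a : M24 × golayCode} (ha : mono a = g) (hn : (a.1 : Equiv.Perm GolayPt) none = none)
    (hc0 : (a.2 : GolayPt → ZMod 2) none = 0) : g ∈ Subgroup.zpowers (permHom e11) := by
  subst ha
  obtain ⟨hcomm, hc⟩ := mono_commute hg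
  have h0 : (a.1 : Equiv.Perm GolayPt) (some 0) = some 0 := by
    have := congrArg (fun s : M24 => (s : Equiv.Perm GolayPt) (some 0)) hcomm
    simp only [MulMemClass.coe_mul, Equiv.Perm.mul_apply, e11_zero] at this
    rcases (fix11_pair _).1 ((SB.Orb.fix_iff o11_checks.1 _).2 this.symm) with r | r
    · exact absurd ((a.1 : Equiv.Perm GolayPt).injective (r.trans hn.symm)) (by simp)
    · exact r
  have hc1 : (a.2 : GolayPt → ZMod 2) (some 0) = 0 := by
    have := congrArg (fun w : leechLattice => (w : GolayPt → ℤ) (some 0)) hv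
    simp only [mono_smul, monoFun] at this
    rw [(Equiv.symm_apply_eq _).2 h0.symm] at this
    by_contra r
    unfold sgn at this
    rw [if_neg r] at this
    exact (hvp none).1 (by omega)
  obtain ⟨k, hk⟩ := cent_perm o11_checks.1 (show (11 : ℕ).Prime by norm_num) e11.2 o11_checks.2.1 a.1.2
    (congrArg Subtype.val hcomm) (fun q hq => by
      rcases (fix11_pair q).1 hq with rfl | rfl <;> assumption)
  refine ⟨k, ?_⟩
  show permHom e11 ^ k = mono a
  rw [← map_zpow]
  show mono (e11 ^ k, 0) = mono a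
  congr 1
  exact Prod.ext (Subtype.ext hk) (Subtype.ext (code11 a.2.2 hc0 hc1 hc).symm)

theorem dot11 (v : leechLattice) (p q : ℤ) (hp : (v : GolayPt → ℤ) none = p)
    (hq : (v : GolayPt → ℤ) (some 0) = q) {r : ℤ}
    (hr : ∀ i, i ≠ none → i ≠ some 0 → (v : GolayPt → ℤ) i = r) (y : GolayPt → ℤ)
    (h : ∀ i, y (permOf o11.x i) = y i) :
    ∑ i, (v : GolayPt → ℤ) i * y i
      = p * y none + q * y (some 0) + r * (11 * y (o11.repPt 0) + 11 * y (o11.repPt 1)) := by
  have h1 := sum11 id y h
  simp only [id] at h1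
  have : ∀ i, (v : GolayPt → ℤ) i * y i = r * y i + ((if i = none then (p - r) * y none else 0)
      + if i = some 0 then (q - r) * y (some 0) else 0) := fun i => by
    rcases eq_or_ne i none with rfl | a
    · simp [hp]; ring
    rcases eq_or_ne i (some 0) with rfl | b
    · simp [hq]; ring
    simp [hr i a b, a, b]
  rw [sum_congr rfl (fun i _ => this i), sum_add_distrib, sum_add_distrib, sum_ite_eq', sum_ite_eq',
    ← mul_sum, h1]
  simp
  ring

theorem coord_bound11 {a b c d : ℤ} (h : a ^ 2 + b ^ 2 + 11 * c ^ 2 + 11 * d ^ 2 = 64) :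
    -8 ≤ a ∧ a ≤ 8 ∧ -8 ≤ b ∧ b ≤ 8 ∧ -2 ≤ c ∧ c ≤ 2 ∧ -2 ≤ d ∧ d ≤ 2 := by
  have := sq_nonneg a; have := sq_nonneg b; have := sq_nonneg c; have := sq_nonneg d
  obtain ⟨_, _⟩ := abs_le_of_sq (N := 9) (show a ^ 2 < 9 ^ 2 by linarith) (by norm_num)
  obtain ⟨_, _⟩ := abs_le_of_sq (N := 9) (show b ^ 2 < 9 ^ 2 by linarith) (by norm_num)
  obtain ⟨_, _⟩ := abs_le_of_sq (N := 3) (show c ^ 2 < 3 ^ 2 by linarith) (by norm_num)
  obtain ⟨_, _⟩ := abs_le_of_sq (N := 3) (show d ^ 2 < 3 ^ 2 by linarith) (by norm_num)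
  omega

theorem cent11_of_axis {g : Co0} (hg : g * permHom e11 = permHom e11 * g) {v : leechLattice}
    (hv : g • v = v) (hv1 : (v : GolayPt → ℤ) (some 0) ≠ 0)
    (h : ((g • axis none : leechLattice) : GolayPt → ℤ) none = 8) :
    g ∈ Subgroup.zpowers (permHom e11) := by
  have hy := axis_image_inv e11_none hg
  have hs := sum_sq_axis g
  have hax : g • axis none = axis none := by
    refine Subtype.ext (funext fun q => ?_)
    rw [coe_axis]
    rcases eq_or_ne q none with rfl | hq
    · simp [h]
    · rw [← add_sum_erase _ _ (mem_univ (none : GolayPt)), h] at hs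
      have := single_le_sum (f := fun i => ((g • axis none : leechLattice) : GolayPt → ℤ) i ^ 2)
        (fun i _ => sq_nonneg _) (mem_erase.2 ⟨hq, mem_univ q⟩)
      rw [Pi.single_eq_of_ne hq]
      refine (pow_eq_zero_iff two_ne_zero).1 (le_antisymm ?_ (sq_nonneg _))
      linarith
  obtain ⟨a, rfl⟩ := mono_of_axis hax
  rw [mono_axis] at hax
  obtain ⟨hn, hs'⟩ := sgn_axis_inj (sgn_cases _ _) (hax.trans (one_smul ℤ _).symm)
  rw [hn] at hs'
  refine mono11 hg hv (fun _ => ⟨hv1, fun e => by rw [e]; exact hv1⟩) rfl hn ?_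
  unfold sgn at hs'
  by_contra r
  rw [if_neg r] at hs'
  norm_num at hs'

/-! ### The vectors -/

/-- The vector `(5, 1²³)` of norm 6. -/
def vec6 : leechLattice := -Spor.leechV

/-- The vector `(-3, 1²³)` of norm 4. -/
def vec4 : leechLattice := vec6 - axis none

/-- The vector `-(1, 5, 1²²)` of norm 6. -/
def vec6' : leechLattice := Spor.leechV + Spor.leechU'

theorem vec6_apply (i : GolayPt) : (vec6 : GolayPt → ℤ) i = if i = none then 5 else 1 := by
  show -Spor.vecV i = _
  unfold Spor.vecV; split_ifs <;> rfl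

theorem vec4_apply (i : GolayPt) : (vec4 : GolayPt → ℤ) i = if i = none then -3 else 1 := by
  show (vec6 : GolayPt → ℤ) i - (axis none : GolayPt → ℤ) i = _
  rw [vec6_apply, coe_axis]; rcases i with _ | i <;> simp

theorem vec6'_apply (i : GolayPt) : (vec6' : GolayPt → ℤ) i = if i = some 0 then -5 else -1 := by
  show Spor.vecV i + Spor.vecU' i = _
  unfold Spor.vecV Spor.vecU'
  rcases i with _ | i
  · simp
  · rcases eq_or_ne i 0 with rfl | h
    · simp
    · simp [h]

theorem norm_vec6 : ip vec6 vec6 = 6 :=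
  (ip_self_iff (n := 6)).2 (by simp only [sqNorm, vec6_apply]; decide)

theorem norm_vec4 : ip vec4 vec4 = 4 :=
  (ip_self_iff (n := 4)).2 (by simp only [sqNorm, vec4_apply]; decide)

theorem norm_vec6' : ip vec6' vec6' = 6 :=
  (ip_self_iff (n := 6)).2 (by simp only [sqNorm, vec6'_apply]; decide)

theorem ip_stdA_vec4 : ip stdA vec4 = -1 :=
  ip_eq_of_dot (by simp only [dotInt, stdA_apply, vec4_apply]; decide)

theorem ip_vec6_vec6' : ip vec6 vec6' = -4 :=
  ip_eq_of_dot (by simp only [dotInt, vec6_apply, vec6'_apply]; decide)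

/-! ### Simplicity -/

/-- The stabiliser of the standard pair giving the group of McLaughlin. -/
noncomputable abbrev mclSub : Subgroup Co0 := MulAction.stabilizer Co0 stdA ⊓ MulAction.stabilizer Co0 vec4

/-- The stabiliser of the standard pair giving the group of Higman and Sims. -/
noncomputable abbrev hsSub : Subgroup Co0 := MulAction.stabilizer Co0 vec6 ⊓ MulAction.stabilizer Co0 vec6'

theorem permSub22_le_mcl : permSub [{(none : GolayPt)}, {some 0}] ≤ mclSub := by
  intro g hg
  obtain ⟨σ, ⟨hn, h0⟩, rfl⟩ := mem_permSub22.1 hg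
  exact ⟨permHom_fix fun i => by
      simp only [stdA_apply, ← (σ : Equiv.Perm GolayPt).injective.eq_iff (a := i), hn, h0],
    permHom_fix fun i => by simp only [vec4_apply, ← (σ : Equiv.Perm GolayPt).injective.eq_iff (a := i), hn]⟩

theorem permSub22_le_hs : permSub [{(none : GolayPt)}, {some 0}] ≤ hsSub := by
  intro g hg
  obtain ⟨σ, ⟨hn, h0⟩, rfl⟩ := mem_permSub22.1 hg
  exact ⟨permHom_fix fun i => by simp only [vec6_apply, ← (σ : Equiv.Perm GolayPt).injective.eq_iff (a := i), hn],
    permHom_fix fun i => by simp only [vec6'_apply, ← (σ : Equiv.Perm GolayPt).injective.eq_iff (a := i), h0]⟩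

theorem permSub23_le {v : leechLattice} {a : ℤ}
    (hv : ∀ i, (v : GolayPt → ℤ) i = if i = none then a else 1) :
    permSub [{(none : GolayPt)}] ≤ MulAction.stabilizer Co0 v := by
  intro g hg
  obtain ⟨σ, hn, rfl⟩ := mem_permSub23.1 hg
  exact permHom_fix fun i => by simp only [hv, ← (σ : Equiv.Perm GolayPt).injective.eq_iff (a := i), hn]

theorem cent_mcl {g : Co0} (hg : g * permHom e11 = permHom e11 * g) (hm : g ∈ mclSub) :
    g ∈ Subgroup.zpowers (permHom e11) := by
  have hy := axis_image_inv e11_none hg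
  refine cent11_of_axis hg hm.1 (by rw [stdA_apply]; simp) ?_
  have hs := sum_sq_axis g
  rw [sum11 (· ^ 2) _ hy] at hs
  obtain ⟨_, _, _, _, _, _, _, _⟩ := coord_bound11 hs
  have e1 := sum_dot g hm.1
  rw [dot11 stdA 4 4 (by simp [stdA_apply]) (by simp [stdA_apply]) (r := 0)
    (fun i a b => by simp [stdA_apply, a, b]) _ hy, stdA_apply] at e1
  have e2 := sum_dot g hm.2
  rw [dot11 vec4 (-3) 1 (by simp [vec4_apply]) (by simp [vec4_apply]) (r := 1)
    (fun i a _ => by simp [vec4_apply, a]) _ hy, vec4_apply] at e2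
  simp at e1 e2
  omega

theorem cent_hs {g : Co0} (hg : g * permHom e11 = permHom e11 * g) (hm : g ∈ hsSub) :
    g ∈ Subgroup.zpowers (permHom e11) := by
  have hy := axis_image_inv e11_none hg
  refine cent11_of_axis hg hm.1 (by rw [vec6_apply]; simp) ?_
  have hs := sum_sq_axis g
  rw [sum11 (· ^ 2) _ hy] at hs
  obtain ⟨_, _, _, _, _, _, _, _⟩ := coord_bound11 hs
  have e1 := sum_dot g hm.1
  rw [dot11 vec6 5 1 (by simp [vec6_apply]) (by simp [vec6_apply]) (r := 1)
    (fun i a _ => by simp [vec6_apply, a]) _ hy, vec6_apply] at e1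
  have e2 := sum_dot g hm.2
  rw [dot11 vec6' (-1) (-5) (by simp [vec6'_apply]) (by simp [vec6'_apply]) (r := -1)
    (fun i _ b => by simp [vec6'_apply, b]) _ hy, vec6'_apply] at e2
  simp at e1 e2
  omega

theorem not_dvd_of_pow_mod {n p q v : ℕ} (hq : q.Prime) (hn : n ≠ 0) (hmod : q ^ n.factorization q % p = 1)
    (hle : n.factorization q ≤ v) (hv : ∀ j, j ≤ v → q ^ j % p = 1 → j = 0) : ¬ q ∣ n := fun h => by
  have := (hq.dvd_iff_one_le_factorization hn).1 h
  have := hv _ hle hmod
  omega

theorem pow_bound {n k q v : ℕ} (hq : q.Prime) (hn : n ∣ k) (hk : ¬ q ^ (v + 1) ∣ k) :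
    n.factorization q ≤ v := by
  by_contra hlt
  exact hk ((pow_dvd_pow q (by omega : v + 1 ≤ n.factorization q)).trans ((Nat.ordProj_dvd n q).trans hn))

theorem eq_one_of_smooth {n k : ℕ} (hn : n ∣ k) {m : ℕ} (hkm : k ∣ 30 ^ m)
    (h : ∀ q, q = 2 ∨ q = 3 ∨ q = 5 → ¬ q ∣ n) : n = 1 := by
  refine Nat.eq_one_of_dvd_coprimes ?_ dvd_rfl (hn.trans hkm)
  refine Nat.Coprime.pow_right _ ?_
  rw [show (30 : ℕ) = 2 * 3 * 5 by norm_num]
  refine Nat.Coprime.mul_right (Nat.Coprime.mul_right ?_ ?_) ?_ <;>
    refine (((Nat.Prime.coprime_iff_not_dvd (by norm_num)).2 (h _ (by norm_num))).symm)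

theorem simple_of_sub11 (K : Subgroup Co0) (hle : permSub [{(none : GolayPt)}, {some 0}] ≤ K)
    (hc : ∀ g : Co0, g * permHom e11 = permHom e11 * g → g ∈ K → g ∈ Subgroup.zpowers (permHom e11))
    {n k : ℕ} (hn : Nat.card K = n) (hk : n = 443520 * k) (hsq : ¬ 11 ^ 2 ∣ n)
    (hd : ∀ d, d ∣ 10 → 11 * d ∣ n → n / (11 * d) % 11 = 1 → d = 5)
    (hk2 : ¬ 2 ^ 3 ∣ k) (hk3 : ¬ 3 ^ 5 ∣ k) (hk5 : ¬ 5 ^ 3 ∣ k) (hk30 : k ∣ 30 ^ 4) :
    IsSimpleGroup K := by
  set M := (permSub [{(none : GolayPt)}, {some 0}]).subgroupOf K with hM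
  let e : M ≃* permSub [{(none : GolayPt)}, {some 0}] := Subgroup.subgroupOfEquivOfLe hle
  have := simple_permSub22
  have : IsSimpleGroup M := SimpleCriteria.isSimpleGroup_congr e.symm
  have : Finite K := Nat.finite_of_card_ne_zero (by rw [hn]; rintro rfl; simp at hsq)
  have : Fact (Nat.Prime 11) := ⟨by norm_num⟩
  have hcM : Nat.card M = 443520 := by rw [Nat.card_congr e.toEquiv, card_permSub22]
  refine SylowSimple.isSimpleGroup_of_subgroup (p := 11) M (x := ⟨_, hle e11_mem⟩) e11_mem
    (by rw [← Subgroup.orderOf_coe]; exact order_e11) ?_ (by rw [hn]; exact hsq) 5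
    (by rw [hn]; exact hd) ?_ ?_
  · intro g hg
    obtain ⟨i, hi⟩ := hc g (congrArg Subtype.val hg) g.2
    exact ⟨i, Subtype.ext (by simpa using hi)⟩
  · rw [hcM]
    intro d h1 _ h3
    have := Nat.le_of_dvd (by norm_num) h1
    interval_cases d <;> first | rfl | (norm_num at h1; done) | (norm_num at h3; done)
  · intro N _ _ _ hidx hpow
    refine Subgroup.eq_bot_of_card_eq N ?_
    have hidx' : Nat.card N ∣ k := by
      have h2 : M.index = k := by
        have := M.card_mul_index
        rw [hcM, hn, hk] at this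
        omega
      exact h2 ▸ hidx
    have h0 : Nat.card N ≠ 0 := Nat.card_pos.ne'
    refine eq_one_of_smooth hidx' hk30 ?_
    rintro q (rfl | rfl | rfl)
    · exact not_dvd_of_pow_mod Nat.prime_two h0 (hpow 2 Nat.prime_two) (pow_bound Nat.prime_two hidx' hk2)
        (fun j hj hm => by interval_cases j <;> simp at hm ⊢)
    · exact not_dvd_of_pow_mod Nat.prime_three h0 (hpow 3 Nat.prime_three) (pow_bound Nat.prime_three hidx' hk3)
        (fun j hj hm => by interval_cases j <;> simp at hm ⊢)
    · exact not_dvd_of_pow_mod Nat.prime_five h0 (hpow 5 Nat.prime_five) (pow_bound Nat.prime_five hidx' hk5)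
        (fun j hj hm => by interval_cases j <;> simp at hm ⊢)

theorem card_stab_mul (K : Subgroup Co0) (w : leechLattice) (S : Set leechLattice) (hw : w ∈ S)
    (hS : ∀ g ∈ K, ∀ x ∈ S, g • x ∈ S) (htr : ∀ x ∈ S, ∃ g ∈ K, g • w = x) :
    Nat.card (K ⊓ MulAction.stabilizer Co0 w : Subgroup Co0) * S.ncard = Nat.card K := by
  have ho : MulAction.orbit K w = S := by
    ext x
    refine ⟨?_, fun hx => ?_⟩
    · rintro ⟨g, rfl⟩; exact hS g g.2 w hw
    · obtain ⟨g, hg, rfl⟩ := htr x hx; exact ⟨⟨g, hg⟩, rfl⟩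
  have hst : MulAction.stabilizer K w = (K ⊓ MulAction.stabilizer Co0 w).subgroupOf K := by
    ext g
    exact ⟨fun h => ⟨g.2, h⟩, fun h => h.2⟩
  rw [← (MulAction.stabilizer K w).card_mul_index, MulAction.index_stabilizer, ho, hst,
    Nat.card_congr (Subgroup.subgroupOfEquivOfLe (inf_le_left : K ⊓ MulAction.stabilizer Co0 w ≤ K)).toEquiv]

theorem card_stab_shell {v : leechLattice} {n : ℤ} (hv : ip v v = n)
    (htr : ∀ w, ip w w = n → ∃ g : Co0, g • v = w) :
    Nat.card (MulAction.stabilizer Co0 v) * {x : leechLattice | ip x x = n}.ncard = 8315553613086720000 := by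
  have := card_stab_mul ⊤ v {x | ip x x = n} hv (fun g _ x hx => (co0_ip g x x).trans hx)
    (fun x hx => (htr x hx).imp fun g hg => ⟨trivial, hg⟩)
  rw [top_inf_eq, Subgroup.card_top, card_Co0] at this
  exact this

theorem card_stab4 {v : leechLattice} (hv : ip v v = 4) :
    Nat.card (MulAction.stabilizer Co0 v) = 42305421312000 := by
  have := card_stab_shell hv fun w hw => transitive4 hv hw
  rw [ncard_shell4] at this
  omega

theorem card_stab6 {v : leechLattice} (hv : ip v v = 6) :
    Nat.card (MulAction.stabilizer Co0 v) = 495766656000 := by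
  have := card_stab_shell hv fun w hw => transitive6 hv hw
  rw [ncard_shell6] at this
  omega

theorem card_stab_neg1 {v w : leechLattice} (hv : ip v v = 4) (hw : ip w w = 4) (h : ip v w = -1) :
    Nat.card (MulAction.stabilizer Co0 v ⊓ MulAction.stabilizer Co0 w : Subgroup Co0) = 898128000 := by
  have := card_stab_mul (MulAction.stabilizer Co0 v) w (withIp v (-1)) ⟨hw, h⟩
    (fun g hg x hx => ⟨(co0_ip g x x).trans hx.1, by
      rw [← MulAction.mem_stabilizer_iff.1 hg, co0_ip]; exact hx.2⟩)
    (fun x hx => by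
      obtain ⟨g, g1, g2⟩ := transitive_neg1 hv hw hx.1 h hx.2
      exact ⟨g, g1, g2⟩)
  rw [(census4 hv).2.1, card_stab4 hv] at this
  omega

theorem isSimpleGroup_mclSub : IsSimpleGroup mclSub :=
  simple_of_sub11 mclSub permSub22_le_mcl (fun _ hg hm => cent_mcl hg hm) (k := 2025)
    (card_stab_neg1 ip_stdA norm_vec4 ip_stdA_vec4) (by norm_num) (by norm_num)
    (fun d h1 _ h3 => by
      have := Nat.le_of_dvd (by norm_num) h1
      interval_cases d <;> first | rfl | (norm_num at h1; done) | (norm_num at h3; done))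
    (by norm_num) (by norm_num) (by norm_num) (by norm_num)

theorem isSimpleGroup_hsSub (h : Nat.card hsSub = 44352000) : IsSimpleGroup hsSub :=
  simple_of_sub11 hsSub permSub22_le_hs (fun _ hg hm => cent_hs hg hm) (k := 100) h (by norm_num) (by norm_num)
    (fun d h1 _ h3 => by
      have := Nat.le_of_dvd (by norm_num) h1
      interval_cases d <;> first | rfl | (norm_num at h1; done) | (norm_num at h3; done))
    (by norm_num) (by norm_num) (by norm_num) (by norm_num)

theorem transposition_not_mem {π : M24}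
    (h : ∀ i : GolayPt, i ≠ none → i ≠ some 0 → (π : Equiv.Perm GolayPt) i = i) : π = 1 := by
  by_contra hne
  have hsw : (π : Equiv.Perm GolayPt).symm none = some 0 := by
    by_contra hc
    refine hne (Subtype.ext (Equiv.ext fun i => ?_))
    have hn : (π : Equiv.Perm GolayPt) none = none := by
      rw [← Equiv.eq_symm_apply]
      rcases h2 : (π : Equiv.Perm GolayPt).symm none with _ | j
      · rfl
      · have hj : j ≠ 0 := fun e => hc (by rw [h2, e])
        have := h (some j) (by simp) (by simpa using hj)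
        rw [← h2, Equiv.apply_symm_apply] at this
        rw [this]; exact h2
    rcases eq_or_ne i none with rfl | a
    · exact hn
    rcases eq_or_ne i (some 0) with rfl | b
    · by_contra q
      have q1 : (π : Equiv.Perm GolayPt) (some 0) ≠ none := fun e =>
        absurd ((π : Equiv.Perm GolayPt).injective (e.trans hn.symm)) (by simp)
      exact q ((π : Equiv.Perm GolayPt).injective (h _ q1 q))
    exact h i a b
  obtain ⟨w, hw, h1, h2⟩ := exists_code_separating (show (none : GolayPt) ≠ some 0 by simp)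
  have hd := golayCode.add_mem hw (code_perm π.2 hw)
  have hne' : w + (fun i => w ((π : Equiv.Perm GolayPt).symm i)) ≠ 0 := fun e => by
    have := congrFun e none
    simp only [Pi.add_apply, hsw, Pi.zero_apply] at this
    revert this h1 h2
    generalize w none = A
    generalize w (some 0) = B
    revert A B
    decide
  have h8 := card_support_ge hd hne'
  have hsub : support₂ (w + fun i => w ((π : Equiv.Perm GolayPt).symm i)) ⊆ {none, some 0} := by
    intro i hi
    simp only [mem_insert, mem_singleton]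
    by_contra hi'
    rw [not_or] at hi'
    have := h i hi'.1 hi'.2
    simp only [support₂, mem_filter, mem_univ, true_and, Pi.add_apply] at hi
    rw [(Equiv.symm_apply_eq _).2 this.symm, CharTwo.add_self_eq_zero] at hi
    exact hi rfl
  have := (card_le_card hsub).trans Finset.card_le_two
  omega

/-- The stabiliser of a minimal vector has no normal subgroup of order `2 ^ 11`. -/
theorem no_normal_2048 {K : Subgroup Co0} (hK : K = MulAction.stabilizer Co0 stdA) (N : Subgroup K) [N.Normal]
    (hN : Nat.card N = 2048) : False := by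
  classical
  have : Fact (Nat.Prime 11) := ⟨by norm_num⟩
  have hleK : permSub [{(none : GolayPt)}, {some 0}] ≤ K := hK ▸ permSub22_le_mcl.trans inf_le_left
  set M := (permSub [{(none : GolayPt)}, {some 0}]).subgroupOf K
  let e : M ≃* permSub [{(none : GolayPt)}, {some 0}] := Subgroup.subgroupOfEquivOfLe hleK
  have := simple_permSub22
  have : IsSimpleGroup M := SimpleCriteria.isSimpleGroup_congr e.symm
  have : Finite N := Nat.finite_of_card_ne_zero (by rw [hN]; norm_num)
  have hNM : N.subgroupOf M = ⊥ := by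
    refine ((inferInstance : N.Normal).subgroupOf M).eq_bot_or_eq_top.resolve_right fun h => ?_
    rw [Subgroup.subgroupOf_eq_top] at h
    have := Subgroup.card_dvd_of_le h
    rw [Nat.card_congr e.toEquiv, card_permSub22, hN] at this
    norm_num at this
  let x : K := ⟨permHom e11, hleK e11_mem⟩
  have hx : orderOf x = 11 := by rw [← Subgroup.orderOf_coe]; exact order_e11
  let act : MulDistribMulAction (Subgroup.zpowers x) N :=
    MulDistribMulAction.compHom N ((MulAut.conjNormal : K →* MulAut N).comp (Subgroup.zpowers x).subtype)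
  have hP : IsPGroup 11 (Subgroup.zpowers x) :=
    IsPGroup.of_card (n := 1) (by rw [Nat.card_zpowers, hx, pow_one])
  have hm := hP.card_modEq_card_fixedPoints N
  rw [hN] at hm
  obtain ⟨t, ht, ht1⟩ : ∃ t : N, x * t = t * x ∧ t ≠ 1 := by
    by_contra hall
    push Not at hall
    have : Nat.card (MulAction.fixedPoints (Subgroup.zpowers x) N) = 1 := by
      rw [Nat.card_eq_one_iff_unique]
      refine ⟨⟨fun a b => ?_⟩, ⟨⟨1, fun a => smul_one a⟩⟩⟩
      have key : ∀ c : MulAction.fixedPoints (Subgroup.zpowers x) N, (c : N) = 1 := fun c => by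
        have h := congrArg (fun n : N => (n : K)) (c.2 ⟨x, Subgroup.mem_zpowers x⟩)
        have h' : x * ((c : N) : K) * x⁻¹ = ((c : N) : K) :=
          (MulAut.conjNormal_apply _ _).symm.trans h
        exact hall c (mul_inv_eq_iff_eq_mul.1 h')
      exact Subtype.ext ((key a).trans (key b).symm)
    rw [this] at hm
    exact absurd hm (by decide)
  set g : Co0 := ((t : K) : Co0) with hgdef
  have hg : g * permHom e11 = permHom e11 * g := (congrArg Subtype.val ht).symm
  have hgA : g • stdA = stdA := (hK ▸ (t : K).2 : ((t : K) : Co0) ∈ MulAction.stabilizer Co0 stdA)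
  have hy := axis_image_inv e11_none hg
  set y : GolayPt → ℤ := ((g • axis none : leechLattice) : GolayPt → ℤ) with hydef
  have hs := sum_sq_axis g
  rw [← hydef, sum11 (· ^ 2) y hy] at hs
  obtain ⟨_, _, _, _, _, _, _, _⟩ := coord_bound11 hs
  have e1 := sum_dot g hgA
  rw [← hydef, dot11 stdA 4 4 (by simp [stdA_apply]) (by simp [stdA_apply]) (r := 0)
    (fun i a b => by simp [stdA_apply, a, b]) y hy, stdA_apply] at e1
  simp at e1
  have hsol : (y none = 8 ∧ y (some 0) = 0 ∨ y none = 0 ∧ y (some 0) = 8) ∧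
      y (o11.repPt 0) = 0 ∧ y (o11.repPt 1) = 0 := by
    have eb : y (some 0) = 8 - y none := by omega
    rw [eb] at hs
    have h1 := sq_nonneg (y (o11.repPt 0))
    have h2 := sq_nonneg (y (o11.repPt 1))
    have h0 : y (o11.repPt 0) ^ 2 = 0 ∧ y (o11.repPt 1) ^ 2 = 0 ∧ (y none = 8 ∨ y none = 0) := by
      generalize y (o11.repPt 0) ^ 2 = C at hs h1
      generalize y (o11.repPt 1) ^ 2 = D at hs h2
      interval_cases y none <;> norm_num at hs ⊢ <;> omega
    refine ⟨?_, (pow_eq_zero_iff two_ne_zero).1 h0.1, (pow_eq_zero_iff two_ne_zero).1 h0.2.1⟩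
    rcases h0.2.2 with r | r
    · exact Or.inl ⟨r, by omega⟩
    · exact Or.inr ⟨r, by omega⟩
  obtain ⟨p, hp⟩ : ∃ p, g • axis none = axis p := by
    rcases hsol with ⟨⟨a, b⟩ | ⟨a, b⟩, c, d⟩
    on_goal 1 => refine ⟨none, Subtype.ext (funext fun q => ?_)⟩
    on_goal 2 => refine ⟨some 0, Subtype.ext (funext fun q => ?_)⟩
    all_goals
      rw [← hydef, coe_axis]
      rcases eq_or_ne q none with rfl | hq
      · simp [a]
      rcases eq_or_ne q (some 0) with rfl | hq'
      · simp [b]
      rw [const11 y hy q hq hq', c, d]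
      simp [hq, hq']
  obtain ⟨a, ha⟩ := mono_of_axis hp
  have hA : ∀ i, sgn (a.2 : GolayPt → ZMod 2) i * (stdA : GolayPt → ℤ) ((a.1 : Equiv.Perm GolayPt).symm i)
      = (stdA : GolayPt → ℤ) i := fun i => by
    have := congrArg (fun w : leechLattice => (w : GolayPt → ℤ) i) hgA
    simp only [← ha, mono_smul, monoFun] at this
    exact this
  have hc : ∀ i, i = none ∨ i = some 0 → (a.2 : GolayPt → ZMod 2) i = 0 := fun i hi => by
    have h := hA i
    have h4 : (stdA : GolayPt → ℤ) i = 4 := by rcases hi with rfl | rfl <;> simp [stdA_apply]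
    by_contra r
    unfold sgn at h
    rw [if_neg r, h4, stdA_apply] at h
    split_ifs at h <;> omega
  have hpair : ∀ i, i ≠ none → i ≠ some 0 → (a.1 : Equiv.Perm GolayPt).symm i ≠ none ∧
      (a.1 : Equiv.Perm GolayPt).symm i ≠ some 0 := fun i h1 h2 => by
    have h := hA i
    rw [stdA_apply i, if_neg h1, if_neg h2, add_zero, stdA_apply] at h
    refine ⟨fun u => ?_, fun u => ?_⟩ <;> rw [u] at h <;>
      rcases sgn_cases (a.2 : GolayPt → ZMod 2) i with r | r <;> rw [r] at h <;> simp at h
  obtain ⟨hcomm, hcinv⟩ := mono_commute (a := a) (σ := e11) (by rw [ha]; exact hg)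
  have hc0 := code11 a.2.2 (hc _ (Or.inl rfl)) (hc _ (Or.inr rfl)) hcinv
  have hga : g = permHom a.1 := by
    rw [← ha]; exact congrArg mono (Prod.ext rfl (Subtype.ext hc0))
  have hsym : ∀ i, i = none ∨ i = some 0 →
      (a.1 : Equiv.Perm GolayPt) i = none ∨ (a.1 : Equiv.Perm GolayPt) i = some 0 := fun i hi => by
    by_contra r
    rw [not_or] at r
    have := hpair _ r.1 r.2
    rw [Equiv.symm_apply_apply] at this
    rcases hi with rfl | rfl
    · exact this.1 rfl
    · exact this.2 rfl
  -- `a.1` centralises the stabiliser of the two points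
  have hcen : ∀ s : M24, (s : Equiv.Perm GolayPt) none = none → (s : Equiv.Perm GolayPt) (some 0) = some 0 →
      a.1 * s = s * a.1 := by
    intro s h1 h2
    have hs22 : permHom s ∈ permSub [{(none : GolayPt)}, {some 0}] := mem_permSub22.2 ⟨s, ⟨h1, h2⟩, rfl⟩
    let s' : K := ⟨permHom s, hleK hs22⟩
    have hN' : (t : K) * s' * (t : K)⁻¹ * s'⁻¹ ∈ N := by
      rw [show (t : K) * s' * (t : K)⁻¹ * s'⁻¹ = (t : K) * (s' * (t : K)⁻¹ * s'⁻¹) by group]
      exact mul_mem t.2 ((inferInstance : N.Normal).conj_mem _ (inv_mem t.2) s')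
    have hM' : (t : K) * s' * (t : K)⁻¹ * s'⁻¹ ∈ M := by
      show g * permHom s * g⁻¹ * (permHom s)⁻¹ ∈ permSub [{(none : GolayPt)}, {some 0}]
      rw [hga, ← map_inv, ← map_inv, ← map_mul, ← map_mul, ← map_mul]
      refine mem_permSub22.2 ⟨_, ?_, rfl⟩
      have hfix : ∀ i, i = none ∨ i = some 0 →
          ((a.1 * s * a.1⁻¹ * s⁻¹ : M24) : Equiv.Perm GolayPt) i = i := fun i hi => by
        simp only [MulMemClass.coe_mul, InvMemClass.coe_inv, Equiv.Perm.mul_apply, Equiv.Perm.inv_def]
        have es : (s : Equiv.Perm GolayPt).symm i = i := by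
          rw [Equiv.symm_apply_eq]; rcases hi with rfl | rfl <;> simp [h1, h2]
        rw [es]
        have hj : (a.1 : Equiv.Perm GolayPt).symm i = none ∨ (a.1 : Equiv.Perm GolayPt).symm i = some 0 := by
          rcases hi with rfl | rfl <;>
            rcases hsym none (Or.inl rfl) with r | r <;> rcases hsym (some 0) (Or.inr rfl) with r' | r' <;>
            first
              | (exfalso; exact absurd ((a.1 : Equiv.Perm GolayPt).injective (r.trans r'.symm)) (by simp))
              | (left; rw [Equiv.symm_apply_eq]; first | exact r.symm | exact r'.symm; done)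
              | (right; rw [Equiv.symm_apply_eq]; first | exact r.symm | exact r'.symm; done)
        rcases hj with r | r <;> rw [r] <;> simp only [h1, h2] <;> rw [← r, Equiv.apply_symm_apply]
      exact ⟨hfix _ (Or.inl rfl), hfix _ (Or.inr rfl)⟩
    have h1' : (⟨_, hM'⟩ : M) ∈ N.subgroupOf M := hN'
    rw [hNM, Subgroup.mem_bot] at h1'
    have h2' : g * permHom s * g⁻¹ * (permHom s)⁻¹ = 1 :=
      congrArg (fun z : M => ((z : K) : Co0)) h1'
    refine permHom_injective ?_
    rw [map_mul, map_mul, ← hga]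
    rw [mul_inv_eq_one, mul_inv_eq_iff_eq_mul] at h2'
    exact h2'
  refine ht1 (Subtype.ext (Subtype.ext ?_))
  show g = 1
  rw [hga, transposition_not_mem (π := a.1) fun i hi hi' => ?_, map_one]
  by_contra hne
  set j := (a.1 : Equiv.Perm GolayPt) i with hj
  have hjn : j ≠ none ∧ j ≠ some 0 := by
    constructor <;> intro r <;> rcases hsym none (Or.inl rfl) with q | q <;>
      rcases hsym (some 0) (Or.inr rfl) with q' | q' <;>
      first
        | exact absurd ((a.1 : Equiv.Perm GolayPt).injective (q.trans q'.symm)) (by simp)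
        | exact hi ((a.1 : Equiv.Perm GolayPt).injective (r.trans q.symm))
        | exact hi' ((a.1 : Equiv.Perm GolayPt).injective (r.trans q'.symm))
  obtain ⟨l, -, hl⟩ := exists_mem_notMem_of_card_lt_card
    (s := ({none, some 0, i, j} : Finset GolayPt)) (t := univ)
    (lt_of_le_of_lt Finset.card_le_four (by decide))
  simp only [mem_insert, mem_singleton, not_or] at hl
  obtain ⟨s, hs, hsv⟩ := exists_M24_map' (k := 4) (by norm_num) (x := ![none, some 0, i, j])
    (y := ![none, some 0, i, l])
    (by intro u v; fin_cases u <;> fin_cases v <;>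
      simp [hi, hi.symm, hi', hi'.symm, hjn.1, hjn.1.symm, hjn.2, hjn.2.symm, hne, Ne.symm hne])
    (by intro u v; fin_cases u <;> fin_cases v <;>
      simp [hi, hi.symm, hi', hi'.symm, hl.1, Ne.symm hl.1, hl.2.1, Ne.symm hl.2.1, hl.2.2.1, Ne.symm hl.2.2.1])
  have hh := congrArg (fun z : M24 => (z : Equiv.Perm GolayPt) i) (hcen ⟨s, hs⟩ (hsv 0) (hsv 1))
  have e2 : s i = i := hsv 2
  have e3 : s j = l := hsv 3
  simp only [MulMemClass.coe_mul, Equiv.Perm.mul_apply, e2, ← hj, e3] at hh
  exact hl.2.2.2 hh.symm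

theorem isSimpleGroup_stab4 {v : leechLattice} (hv : ip v v = 4) :
    IsSimpleGroup (MulAction.stabilizer Co0 v) := by
  obtain ⟨g, rfl⟩ := transitive4 norm_vec4 hv
  suffices IsSimpleGroup (MulAction.stabilizer Co0 vec4) from
    SimpleCriteria.isSimpleGroup_congr (MulAction.stabilizerEquivStabilizer (g := g) rfl)
  set K := MulAction.stabilizer Co0 vec4
  have hle : permSub [{(none : GolayPt)}] ≤ K := permSub23_le vec4_apply
  set M := (permSub [{(none : GolayPt)}]).subgroupOf K
  let e : M ≃* permSub [{(none : GolayPt)}] := Subgroup.subgroupOfEquivOfLe hle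
  have := simple_permSub23
  have : IsSimpleGroup M := SimpleCriteria.isSimpleGroup_congr e.symm
  have hn := card_stab4 norm_vec4
  have : Finite K := Nat.finite_of_card_ne_zero (by rw [hn]; norm_num)
  have : Fact (Nat.Prime 23) := ⟨by norm_num⟩
  have hcM : Nat.card M = 10200960 := by rw [Nat.card_congr e.toEquiv, card_permSub23]
  refine SylowSimple.isSimpleGroup_of_subgroup (p := 23) M (x := ⟨_, hle e23_mem⟩) e23_mem
    (by rw [← Subgroup.orderOf_coe]; exact order_e23) ?_ (by rw [hn]; norm_num) 11 ?_ ?_ ?_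
  · intro h hh
    obtain ⟨i, hi⟩ := cent23 (congrArg Subtype.val hh) h.2 (by simp [vec4_apply])
    exact ⟨i, Subtype.ext (by simpa using hi)⟩
  · rw [hn]
    intro d h1 _ h3
    have := Nat.le_of_dvd (by norm_num) h1
    interval_cases d <;> first | rfl | (norm_num at h1; done) | (norm_num at h3; done)
  · rw [hcM]
    intro d h1 _ h3
    have := Nat.le_of_dvd (by norm_num) h1
    interval_cases d <;> first | rfl | (norm_num at h1; done) | (norm_num at h3; done)
  · intro N hNn _ _ hidx hpow
    have hidx' : Nat.card N ∣ 4147200 := by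
      have h2 : M.index = 4147200 := by
        have := M.card_mul_index
        rw [hcM, hn] at this
        omega
      exact h2 ▸ hidx
    have h0 : Nat.card N ≠ 0 := Nat.card_pos.ne'
    have h3 : ¬ 3 ∣ Nat.card N := not_dvd_of_pow_mod Nat.prime_three h0 (hpow 3 Nat.prime_three)
      (v := 4) (pow_bound Nat.prime_three hidx' (by norm_num)) (fun j hj hm => by interval_cases j <;> simp at hm ⊢)
    have h5 : ¬ 5 ∣ Nat.card N := not_dvd_of_pow_mod Nat.prime_five h0 (hpow 5 Nat.prime_five)
      (v := 2) (pow_bound Nat.prime_five hidx' (by norm_num)) (fun j hj hm => by interval_cases j <;> simp at hm ⊢)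
    by_cases h2 : 2 ∣ Nat.card N
    swap
    · exact Subgroup.eq_bot_of_card_eq N (eq_one_of_smooth hidx' (m := 11) (by norm_num)
        (by rintro q (rfl | rfl | rfl) <;> assumption))
    exfalso
    have hle11 := pow_bound (v := 11) Nat.prime_two hidx' (by norm_num)
    have hj : (Nat.card N).factorization 2 = 11 := by
      have h1 := (Nat.prime_two.dvd_iff_one_le_factorization h0).1 h2
      have hm := hpow 2 Nat.prime_two
      revert hm
      interval_cases (Nat.card N).factorization 2 <;> simp at *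
    obtain ⟨m, hm⟩ := Nat.ordProj_dvd (Nat.card N) 2
    rw [hj] at hm
    have hm1 : m = 1 := by
      have hd : m ∣ 2025 := by
        have h := hidx'
        rw [hm, show 4147200 = 2 ^ 11 * 2025 by norm_num] at h
        exact Nat.dvd_of_mul_dvd_mul_left (by norm_num) h
      refine eq_one_of_smooth hd (m := 4) (by norm_num) ?_
      rintro q (rfl | rfl | rfl) hq
      · have := hq.trans hd; norm_num at this
      · exact h3 (hm ▸ hq.mul_left _)
      · exact h5 (hm ▸ hq.mul_left _)
    rw [hm1, mul_one] at hm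
    obtain ⟨h, hh⟩ := transitive4 norm_vec4 ip_stdA
    let φ := MulAction.stabilizerEquivStabilizer (g := h) hh.symm
    have : (N.map φ.toMonoidHom).Normal := hNn.map _ φ.surjective
    refine no_normal_2048 rfl (N.map φ.toMonoidHom) ?_
    rw [Subgroup.card_map_of_injective (f := φ.toMonoidHom) φ.injective, hm]
    norm_num

theorem isSimpleGroup_stab6 {v : leechLattice} (hv : ip v v = 6) :
    IsSimpleGroup (MulAction.stabilizer Co0 v) := by
  obtain ⟨g, rfl⟩ := transitive6 norm_vec6 hv
  suffices IsSimpleGroup (MulAction.stabilizer Co0 vec6) from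
    SimpleCriteria.isSimpleGroup_congr (MulAction.stabilizerEquivStabilizer (g := g) rfl)
  set K := MulAction.stabilizer Co0 vec6
  have hle : permSub [{(none : GolayPt)}] ≤ K := permSub23_le vec6_apply
  set M := (permSub [{(none : GolayPt)}]).subgroupOf K
  let e : M ≃* permSub [{(none : GolayPt)}] := Subgroup.subgroupOfEquivOfLe hle
  have := simple_permSub23
  have : IsSimpleGroup M := SimpleCriteria.isSimpleGroup_congr e.symm
  have hn := card_stab6 norm_vec6
  have : Finite K := Nat.finite_of_card_ne_zero (by rw [hn]; norm_num)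
  have : Fact (Nat.Prime 23) := ⟨by norm_num⟩
  have hcM : Nat.card M = 10200960 := by rw [Nat.card_congr e.toEquiv, card_permSub23]
  refine SylowSimple.isSimpleGroup_of_subgroup (p := 23) M (x := ⟨_, hle e23_mem⟩) e23_mem
    (by rw [← Subgroup.orderOf_coe]; exact order_e23) ?_ (by rw [hn]; norm_num) 11 ?_ ?_ ?_
  · intro h hh
    obtain ⟨i, hi⟩ := cent23 (congrArg Subtype.val hh) h.2 (by simp [vec6_apply])
    exact ⟨i, Subtype.ext (by simpa using hi)⟩
  · rw [hn]
    intro d h1 _ h3
    have := Nat.le_of_dvd (by norm_num) h1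
    interval_cases d <;> first | rfl | (norm_num at h1; done) | (norm_num at h3; done)
  · rw [hcM]
    intro d h1 _ h3
    have := Nat.le_of_dvd (by norm_num) h1
    interval_cases d <;> first | rfl | (norm_num at h1; done) | (norm_num at h3; done)
  · intro N _ _ _ hidx hpow
    have hidx' : Nat.card N ∣ 48600 := by
      have h2 : M.index = 48600 := by
        have := M.card_mul_index
        rw [hcM, hn] at this
        omega
      exact h2 ▸ hidx
    have h0 : Nat.card N ≠ 0 := Nat.card_pos.ne'
    refine Subgroup.eq_bot_of_card_eq N (eq_one_of_smooth hidx' (m := 5) (by norm_num) ?_)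
    rintro q (rfl | rfl | rfl)
    · exact not_dvd_of_pow_mod Nat.prime_two h0 (hpow 2 Nat.prime_two) (v := 3)
        (pow_bound Nat.prime_two hidx' (by norm_num)) (fun j hj hm => by interval_cases j <;> simp at hm ⊢)
    · exact not_dvd_of_pow_mod Nat.prime_three h0 (hpow 3 Nat.prime_three) (v := 5)
        (pow_bound Nat.prime_three hidx' (by norm_num)) (fun j hj hm => by interval_cases j <;> simp at hm ⊢)
    · exact not_dvd_of_pow_mod Nat.prime_five h0 (hpow 5 Nat.prime_five) (v := 2)
        (pow_bound Nat.prime_five hidx' (by norm_num)) (fun j hj hm => by interval_cases j <;> simp at hm ⊢)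

theorem isCo2_stab {v : leechLattice} (hv : ip v v = 4) : IsCo2 (MulAction.stabilizer Co0 v) :=
  ⟨isSimpleGroup_stab4 hv, card_stab4 hv⟩

theorem isCo3_stab {v : leechLattice} (hv : ip v v = 6) : IsCo3 (MulAction.stabilizer Co0 v) :=
  ⟨isSimpleGroup_stab6 hv, card_stab6 hv⟩

/-- Conjugation of joint stabilisers. -/
noncomputable def stabPairEquiv {g : Co0} {v w v' w' : leechLattice} (hv : g • v = v') (hw : g • w = w') :
    ↥(MulAction.stabilizer Co0 v ⊓ MulAction.stabilizer Co0 w) ≃*
      ↥(MulAction.stabilizer Co0 v' ⊓ MulAction.stabilizer Co0 w') :=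
  ((MulAut.conj g).subgroupMap _).trans (MulEquiv.subgroupCongr (by
    rw [← hv, ← hw, MulAction.stabilizer_smul_eq_stabilizer_map_conj,
      MulAction.stabilizer_smul_eq_stabilizer_map_conj, ← MulEquiv.toMonoidHom_eq_coe]
    exact Subgroup.map_inf _ _ _ (MulAut.conj g).injective))

theorem isMcL_stab {v w : leechLattice} (hv : ip v v = 4) (hw : ip w w = 4) (h : ip v w = -1) :
    IsMcL ↥(MulAction.stabilizer Co0 v ⊓ MulAction.stabilizer Co0 w) := by
  refine ⟨?_, card_stab_neg1 hv hw h⟩
  obtain ⟨g, hg⟩ := transitive4 ip_stdA hv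
  obtain ⟨k, k1, k2⟩ := transitive_neg1 hv (w := g • vec4) (w' := w) ((co0_ip _ _ _).trans norm_vec4) hw
    (by rw [← hg, co0_ip, ip_stdA_vec4]) h
  have := isSimpleGroup_mclSub
  exact SimpleCriteria.isSimpleGroup_congr
    (stabPairEquiv (g := k * g) (by rw [mul_smul, hg, k1]) (by rw [mul_smul, k2]))

end Cfsg.Agent.Leech
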