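import Cfsg.Agent.Lib.Leech.Co0

/-!
Elements of the automorphism group of the Leech lattice from certified integer matrices, and coded lattice
vectors.
-/

namespace Cfsg.Agent.Leech.MatCert

open Cfsg Cfsg.Agent.Golay Finset
open Cfsg.Agent.PermCert (allBelow allBelow_spec)

/-- The vector of a list of coordinates. -/
def toVec (l : List ℤ) : GolayPt → ℤ := fun p => l.getD (idx p) 0

/-- A dot product of lists. -/
def dotL : List ℤ → List ℤ → ℤ
  | a :: r, b :: l => a * b + dotL r l
  | _, _ => 0

/-- Membership in the lattice, decided on lists. -/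
def latB (l : List ℤ) : Bool :=
  let m := l.getD 23 0 % 2
  Nat.beq l.length 24 && l.all (fun a => decide ((a - m) % 2 = 0)) && decide ((l.sum - 4 * m) % 8 = 0) &&
    inCode (mkMask (fun i => decide ((l.getD i 0 - m) / 2 % 2 = 1)) 24)

/-- The image of a list under a matrix with common denominator eight. -/
def imgL (M : List (List ℤ)) (l : List ℤ) : List ℤ := M.map fun r => dotL r l / 8

/-- All entries of the product are divisible by eight. -/
def divL (M : List (List ℤ)) (l : List ℤ) : Bool := M.all fun r => decide (dotL r l % 8 = 0)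

/-- Decide equality of lists of integers. -/
def eqL (a b : List ℤ) : Bool := decide (a = b)

theorem dotL_eq : ∀ (n : ℕ) (r l : List ℤ), r.length = n → l.length = n →
    dotL r l = ∑ k : Fin n, r.getD k 0 * l.getD k 0
  | 0, r, l, hr, hl => by
    rw [List.eq_nil_of_length_eq_zero hr]; simp [dotL]
  | n + 1, [], l, hr, hl => by simp at hr
  | n + 1, a :: r, [], hr, hl => by simp at hl
  | n + 1, a :: r, b :: l, hr, hl => by
    rw [dotL, Fin.sum_univ_succ, dotL_eq n r l (by simpa using hr) (by simpa using hl)]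
    simp

theorem dotL_vec {r l : List ℤ} (hr : r.length = 24) (hl : l.length = 24) :
    dotL r l = dotInt (toVec r) (toVec l) := by
  rw [dotL_eq 24 r l hr hl, dotInt, ← Equiv.sum_comp ptEquiv.symm]
  refine sum_congr rfl fun k _ => ?_
  show _ = r.getD (idx (pt k)) 0 * l.getD (idx (pt k)) 0
  rw [idx_pt]

theorem sum_toVec {l : List ℤ} (hl : l.length = 24) : ∑ p, toVec l p = l.sum := by
  rw [← Equiv.sum_comp ptEquiv.symm]
  have : ∀ k : Fin 24, toVec l (ptEquiv.symm k) = l[(k : ℕ)]'(by omega) := fun k => by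
    show l.getD (idx (pt k)) 0 = _
    rw [idx_pt, List.getD_eq_getElem]
  simp only [this]
  have e : List.ofFn (fun k : Fin 24 => l[(k : ℕ)]'(by omega)) = l :=
    List.ext_getElem (by rw [List.length_ofFn, hl]) fun i _ _ => List.getElem_ofFn _
  conv_rhs => rw [← e, List.sum_ofFn]

theorem toVec_inj {a b : List ℤ} (ha : a.length = 24) (hb : b.length = 24) (h : toVec a = toVec b) : a = b := by
  refine List.ext_getElem (ha.trans hb.symm) fun i h1 h2 => ?_
  have := congrFun h (pt ⟨i, ha ▸ h1⟩)
  simp only [toVec, idx_pt, List.getD_eq_getElem _ _ h1, List.getD_eq_getElem _ _ h2] at this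
  exact this

theorem latB_length {l : List ℤ} (h : latB l = true) : l.length = 24 := by
  simp only [latB, Bool.and_eq_true, Nat.beq_eq] at h
  exact h.1.1.1

theorem latB_spec {l : List ℤ} (h : latB l = true) : toVec l ∈ leechLattice := by
  have hl := latB_length h
  simp only [latB, Bool.and_eq_true, List.all_eq_true, decide_eq_true_eq] at h
  set m := l.getD 23 0 % 2 with hm
  obtain ⟨⟨⟨-, hpar⟩, hsum⟩, hcode⟩ := h
  refine mem_leech.2 ⟨m, fun p => ?_, ?_, ?_⟩
  · have hp : idx p < l.length := hl ▸ idx_lt p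
    have := hpar (toVec l p) (by rw [toVec, List.getD_eq_getElem _ _ hp]; exact List.getElem_mem hp)
    omega
  · rw [sum_toVec hl]; omega
  · convert ofMask_mem_golayCode hcode using 1
    funext p
    simp only [hword, ofMask, testBit_mkMask, idx_lt, decide_true, Bool.true_and, decide_eq_true_eq, toVec]
    split_ifs with q
    · exact (ZMod.intCast_eq_intCast_iff_dvd_sub _ 1 2).2 (by omega) |>.trans Int.cast_one
    · exact (ZMod.intCast_zmod_eq_zero_iff_dvd _ 2).2 (by omega)

/-- The lattice vector of a checked list. -/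
def latV (l : List ℤ) (h : latB l = true) : leechLattice := ⟨toVec l, latB_spec h⟩

/-- An odd vector. -/
def oddGen : List ℤ := (List.range 24).map fun i => if i = 23 then -3 else 1

/-- Twice a word. -/
def wordGen (m : ℕ) : List ℤ := (List.range 24).map fun i => if m.testBit i then 2 else 0

/-- Two fours, or an eight at the extra point. -/
def fourGen (k : ℕ) : List ℤ := (List.range 24).map fun i => (if i = k then 4 else 0) + if i = 23 then 4 else 0

/-- Generators of the lattice. -/
def genL : List (List ℤ) :=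
  oddGen :: ((gBasis.map fun v => wordGen v.2) ++ (List.range 24).map fourGen)

theorem genL_ok : (genL.all latB) = true := by decide +kernel

/-- The generated subgroup. -/
def span : AddSubgroup (GolayPt → ℤ) := AddSubgroup.closure {x | ∃ l ∈ genL, x = toVec l}

theorem exists_word : ∀ ws : List ℕ, (∀ w ∈ ws, toVec (wordGen w) ∈ span) → ∀ m ∈ spanList ws,
    ∃ z ∈ span, ∀ i, ∃ q : ℤ, z i = 2 * q ∧ (q : ZMod 2) = ofMask m i := by
  intro ws
  induction ws with
  | nil =>
    intro _ m hm
    rw [spanList, List.mem_singleton] at hm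
    subst hm
    exact ⟨0, zero_mem _, fun i => ⟨0, by simp, by simp [ofMask_zero]⟩⟩
  | cons c ws ih =>
    intro h m hm
    have ih := ih fun w hw => h w (List.mem_cons_of_mem _ hw)
    simp only [spanList, List.mem_append, List.mem_map] at hm
    rcases hm with hm | ⟨x, hx, rfl⟩
    · exact ih m hm
    obtain ⟨z, hz, hzq⟩ := ih x hx
    refine ⟨toVec (wordGen c) + z, add_mem (h c List.mem_cons_self) hz, fun i => ?_⟩
    obtain ⟨q, hq, hq'⟩ := hzq i
    have hc : toVec (wordGen c) i = 2 * (if c.testBit (idx i) then 1 else 0) := by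
      rw [toVec, wordGen, List.getD_eq_getElem _ _ (by simp [idx_lt])]
      simp only [List.getElem_map, List.getElem_range]
      split_ifs <;> rfl
    refine ⟨(if c.testBit (idx i) then 1 else 0) + q, by rw [Pi.add_apply, hc, hq]; ring, ?_⟩
    rw [ofMask_xor, Pi.add_apply, ← hq', Int.cast_add, apply_ite (fun z : ℤ => (z : ZMod 2))]
    simp [ofMask]

theorem four_mem (i : GolayPt) : (Pi.single i 4 + Pi.single none 4 : GolayPt → ℤ) ∈ span := by
  refine AddSubgroup.subset_closure ⟨fourGen (idx i),
    List.mem_cons_of_mem _ (List.mem_append_right _ (List.mem_map.2 ⟨_, List.mem_range.2 (idx_lt i), rfl⟩)), ?_⟩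
  funext p
  rw [toVec, fourGen, List.getD_eq_getElem _ _ (by simp [idx_lt])]
  simp only [List.getElem_map, List.getElem_range, Pi.add_apply, Pi.single_apply]
  have h23 : idx p = 23 ↔ p = none := idx_injective.eq_iff (a := p) (b := none)
  simp only [h23, idx_injective.eq_iff]

theorem word_mem : ∀ w ∈ gBasis.map (fun v => v.2), toVec (wordGen w) ∈ span := by
  intro w hw
  have hg : wordGen w ∈ genL := by
    rw [List.mem_map] at hw
    obtain ⟨v, hv, rfl⟩ := hw
    rw [genL, List.mem_cons, List.mem_append, List.mem_map]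
    exact Or.inr (Or.inl ⟨v, hv, rfl⟩)
  exact AddSubgroup.subset_closure ⟨wordGen w, hg, rfl⟩

set_option maxHeartbeats 1000000 in
theorem leech_le : leechLattice ≤ span := by
  intro x hx
  obtain ⟨m, hm, hL⟩ := exists_parity hx
  have hodd : toVec oddGen ∈ span := AddSubgroup.subset_closure ⟨_, List.mem_cons_self, rfl⟩
  have hoddL : toVec oddGen ∈ leechLattice :=
    latB_spec (List.all_eq_true.1 genL_ok _ List.mem_cons_self)
  obtain ⟨y, hy⟩ : ∃ y : GolayPt → ℤ, y = x - m • toVec oddGen := ⟨_, rfl⟩
  have hpar : ∀ p, (2 : ℤ) ∣ y p := by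
    intro p
    have h1 : toVec oddGen p % 2 = 1 := by revert p; decide +kernel
    have := hL.1 p
    simp only [hy, Pi.sub_apply, Pi.smul_apply, smul_eq_mul]
    rcases hm with rfl | rfl <;> omega
  have hyL : y ∈ leechLattice := hy ▸ sub_mem hx (zsmul_mem hoddL m)
  obtain ⟨m', hm', hL'⟩ := exists_parity hyL
  obtain rfl : m' = 0 := by
    have := hL'.1 none; have := hpar none
    omega
  obtain ⟨mk', hmk, hw⟩ := mem_golayCode.1 hL'.2.2
  rw [codeList] at hmk
  obtain ⟨z, hz, hzq⟩ := exists_word _ word_mem mk' hmk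
  have h4 : ∀ p, ∃ t : ℤ, y p - z p = 4 * t := fun p => by
    obtain ⟨a, ha⟩ := hpar p
    obtain ⟨b, hb, hb'⟩ := hzq p
    have e : ((a - b : ℤ) : ZMod 2) = 0 := by
      rw [Int.cast_sub, hb', congrFun hw p, hword, sub_zero, ha, Int.mul_ediv_cancel_left _ two_ne_zero,
        sub_self]
    obtain ⟨c, hc⟩ := (ZMod.intCast_zmod_eq_zero_iff_dvd _ 2).1 e
    exact ⟨c, by push_cast at hc; omega⟩
  choose t ht using h4
  have hzL : z ∈ leechLattice := by
    refine (AddSubgroup.closure_le _).2 ?_ hz
    rintro _ ⟨l, hl, rfl⟩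
    exact latB_spec (List.all_eq_true.1 genL_ok _ hl)
  have hte : (2 : ℤ) ∣ ∑ p, t p := by
    obtain ⟨m'', -, hL''⟩ := exists_parity (sub_mem hyL hzL)
    have := hL''.2.1; have := hL''.1 none
    simp only [Pi.sub_apply, ht, ← mul_sum] at *
    omega
  obtain ⟨c, hc⟩ := hte
  have key : y - z = (∑ p, t p • (Pi.single p 4 + Pi.single none 4 : GolayPt → ℤ)) -
      c • (Pi.single none 4 + Pi.single none 4 : GolayPt → ℤ) := by
    funext q
    simp only [Pi.sub_apply, ht, Finset.sum_apply, Pi.smul_apply, Pi.add_apply, Pi.single_apply, smul_eq_mul, mul_add,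
      sum_add_distrib, mul_ite, mul_zero, sum_ite_eq, mem_univ, if_true]
    by_cases hq : q = none
    · simp only [hq, if_true, ← sum_mul, hc]; ring
    · simp only [if_neg hq, sum_const_zero]; ring
  have : x = (y - z) + z + m • toVec oddGen := by rw [hy]; abel
  rw [this, key]
  exact add_mem (add_mem (sub_mem (sum_mem fun p _ => zsmul_mem (four_mem p) _) (zsmul_mem (four_mem none) _)) hz)
    (zsmul_mem hodd m)

/-- The checks on a matrix with common denominator eight. -/
def matOK (M : List (List ℤ)) : Bool :=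
  Nat.beq M.length 24 && M.all (fun r => Nat.beq r.length 24) &&
    genL.all fun l => divL M l && latB (imgL M l)

/-- The matrix times a vector. -/
def mulV (M : List (List ℤ)) (x : GolayPt → ℤ) : GolayPt → ℤ := fun p => dotInt (toVec (M.getD (idx p) [])) x

theorem mulV_add (M : List (List ℤ)) (x y : GolayPt → ℤ) : mulV M (x + y) = mulV M x + mulV M y := by
  funext p; simp only [mulV, dotInt, Pi.add_apply, mul_add, sum_add_distrib]

theorem img_spec {M : List (List ℤ)} (hM : M.length = 24) (hR : ∀ r ∈ M, r.length = 24) {l : List ℤ}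
    (hl : l.length = 24) (hd : divL M l = true) : mulV M (toVec l) = 8 • toVec (imgL M l) := by
  funext p
  have hp : idx p < M.length := hM ▸ idx_lt p
  have hr := List.getElem_mem (l := M) hp
  rw [mulV, List.getD_eq_getElem _ _ hp, ← dotL_vec (hR _ hr) hl, Pi.smul_apply, toVec, imgL,
    List.getD_eq_getElem _ _ (by simpa using hp), List.getElem_map]
  have := List.all_eq_true.1 hd _ hr
  simp only [decide_eq_true_eq] at this
  rw [nsmul_eq_mul]
  push_cast
  omega

theorem lengths {M : List (List ℤ)} (h : matOK M = true) : M.length = 24 ∧ ∀ r ∈ M, r.length = 24 := by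
  simp only [matOK, Bool.and_eq_true, Nat.beq_eq, List.all_eq_true] at h
  exact ⟨h.1.1, fun r hr => h.1.2 r hr⟩

theorem exists_img {M : List (List ℤ)} (h : matOK M = true) {x : GolayPt → ℤ} (hx : x ∈ leechLattice) :
    ∃ y ∈ leechLattice, mulV M x = 8 • y := by
  have hlen := lengths h
  simp only [matOK, Bool.and_eq_true, List.all_eq_true] at h
  have h' := leech_le hx
  clear hx
  induction h' using AddSubgroup.closure_induction with
  | mem z hz =>
    obtain ⟨l, hl, rfl⟩ := hz
    exact ⟨_, latB_spec (h.2 l hl).2,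
      img_spec hlen.1 hlen.2 (latB_length (List.all_eq_true.1 genL_ok l hl)) (h.2 l hl).1⟩
  | zero => exact ⟨0, zero_mem _, funext fun p => by simp [mulV, dotInt]⟩
  | add a b _ _ ha hb =>
    obtain ⟨y, hy, ey⟩ := ha
    obtain ⟨z, hz, ez⟩ := hb
    exact ⟨y + z, add_mem hy hz, by rw [mulV_add, ey, ez, nsmul_add]⟩
  | neg a _ ha =>
    obtain ⟨y, hy, ey⟩ := ha
    refine ⟨-y, neg_mem hy, ?_⟩
    rw [smul_neg, ← ey]
    funext p; simp [mulV, dotInt]

/-- The columns as rows. -/
def transp (M : List (List ℤ)) : List (List ℤ) := (List.range 24).map fun j => M.map fun r => r.getD j 0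

/-- Orthogonality of the rows. -/
def orthOK (M : List (List ℤ)) : Bool :=
  allBelow (fun i => allBelow (fun j => decide (dotL (M.getD i []) (M.getD j []) = if i = j then 64 else 0)) 24) 24

/-- The full certificate. -/
def certOK (M : List (List ℤ)) : Bool :=
  matOK M && matOK (transp M) && orthOK M && orthOK (transp M)

theorem transp_entry {M : List (List ℤ)} (hl : M.length = 24) (p q : GolayPt) :
    toVec ((transp M).getD (idx p) []) q = toVec (M.getD (idx q) []) p := by
  simp [toVec, transp, List.getD_eq_getElem?_getD, idx_lt, hl]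

theorem transp_inv {M : List (List ℤ)} (h : matOK M = true) (ho : orthOK (transp M) = true)
    (ht : matOK (transp M) = true) (x : GolayPt → ℤ) :
    mulV (transp M) (mulV M x) = (64 : ℤ) • x := by
  obtain ⟨hl, hr⟩ := lengths h
  have hlt := lengths ht
  have hent := transp_entry hl
  funext p
  simp only [mulV, dotInt, Pi.smul_apply, smul_eq_mul, mul_sum]
  rw [sum_comm]
  have hrow : ∀ q, ∑ r, toVec ((transp M).getD (idx p) []) r * toVec (M.getD (idx r) []) q =
      if p = q then 64 else 0 := fun q => by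
    have := allBelow_spec _ _ (allBelow_spec _ _ ho _ (idx_lt p)) _ (idx_lt q)
    simp only [decide_eq_true_eq, idx_injective.eq_iff] at this
    rw [← this, dotL_vec (hlt.2 _ (by rw [List.getD_eq_getElem _ _ (hlt.1 ▸ idx_lt p)]; exact List.getElem_mem _))
      (hlt.2 _ (by rw [List.getD_eq_getElem _ _ (hlt.1 ▸ idx_lt q)]; exact List.getElem_mem _)), dotInt]
    exact sum_congr rfl fun r _ => by rw [← hent q r]
  simp only [← mul_assoc, ← sum_mul, hrow, ite_mul, zero_mul, sum_ite_eq, mem_univ, if_true]

theorem transp_transp {M : List (List ℤ)} (h : matOK M = true) : transp (transp M) = M := by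
  obtain ⟨hl, hr⟩ := lengths h
  refine List.ext_getElem (by simp [transp, hl]) fun i h1 h2 => ?_
  have hlen : M[i].length = 24 := hr _ (List.getElem_mem h2)
  refine List.ext_getElem (by simp [transp, hlen]) fun j h3 h4 => ?_
  simp [transp, h2, h4]

theorem exists_co0_mat {M : List (List ℤ)} (h : certOK M = true) :
    ∃ g : Co0, ∀ v : leechLattice, mulV M (v : GolayPt → ℤ) = 8 • ((g • v : leechLattice) : GolayPt → ℤ) := by
  simp only [certOK, Bool.and_eq_true] at h
  obtain ⟨⟨⟨h1, h2⟩, h3⟩, h4⟩ := h
  have inv2 : ∀ x, mulV M (mulV (transp M) x) = (64 : ℤ) • x := fun x => by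
    have := transp_inv (M := transp M) h2 (by rw [transp_transp h1]; exact h3) (by rw [transp_transp h1]; exact h1) x
    rwa [transp_transp h1] at this
  choose f hfL hf using fun v : leechLattice => exists_img h1 v.2
  choose k hkL hk using fun v : leechLattice => exists_img h2 v.2
  have hs : ∀ (N : List (List ℤ)) (c : ℕ) (x : GolayPt → ℤ), mulV N (c • x) = c • mulV N x := fun N c x => by
    funext p
    simp only [mulV, dotInt, Pi.smul_apply, nsmul_eq_mul, mul_sum]
    exact sum_congr rfl fun _ _ => by ring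
  have cancel : ∀ a b : GolayPt → ℤ, 8 • a = 8 • b → a = b := fun a b e => funext fun p => by
    have := congrFun e p
    simp only [Pi.smul_apply, nsmul_eq_mul] at this
    push_cast at this
    omega
  let e : Equiv.Perm leechLattice :=
    { toFun := fun v => ⟨f v, hfL v⟩
      invFun := fun v => ⟨k v, hkL v⟩
      left_inv := fun v => Subtype.ext <| cancel _ _ <| cancel _ _ <| by
        show 8 • (8 • k ⟨f v, hfL v⟩) = _
        rw [← hk ⟨f v, hfL v⟩, ← hs, ← hf, transp_inv h1 h4 h2]
        funext p; simp [Pi.smul_apply]; ring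
      right_inv := fun v => Subtype.ext <| cancel _ _ <| cancel _ _ <| by
        show 8 • (8 • f ⟨k v, hkL v⟩) = _
        rw [← hf ⟨k v, hkL v⟩, ← hs, ← hk, inv2]
        funext p; simp [Pi.smul_apply]; ring }
  have hdot : ∀ x : GolayPt → ℤ, sqNorm (mulV M x) = 64 * sqNorm x := fun x => by
    have : dotInt (mulV M x) (mulV M x) = dotInt x (mulV (transp M) (mulV M x)) := by
      obtain ⟨hl, -⟩ := lengths h1
      simp only [dotInt, mulV, mul_sum, sum_mul]
      rw [sum_comm]
      refine sum_congr rfl fun p _ => sum_congr rfl fun q _ => sum_congr rfl fun r _ => ?_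
      rw [transp_entry hl p q]
      ring
    rw [← dotInt_self, this, transp_inv h1 h4 h2, ← dotInt_self]
    simp only [dotInt, Pi.smul_apply, smul_eq_mul, mul_sum]
    exact sum_congr rfl fun _ _ => by ring
  have he : e ∈ Co0 := by
    refine ⟨fun v w => Subtype.ext (cancel _ _ ?_), fun v => ?_⟩
    · show 8 • f (v + w) = 8 • (f v + f w)
      rw [nsmul_add, ← hf, ← hf, ← hf, AddSubgroup.coe_add, mulV_add]
    · have := hdot v
      rw [hf] at this
      simp only [sqNorm, Pi.smul_apply, nsmul_eq_mul, mul_pow, ← mul_sum] at this ⊢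
      push_cast at this
      show ∑ i, f v i ^ 2 = _
      linarith
  exact ⟨⟨e, he⟩, fun v => hf v⟩

/-- The action on a checked list. -/
theorem smul_latV {M : List (List ℤ)} (h : certOK M = true) {g : Co0}
    (hg : ∀ v : leechLattice, mulV M (v : GolayPt → ℤ) = 8 • ((g • v : leechLattice) : GolayPt → ℤ))
    {a b : List ℤ} (ha : latB a = true) (hb : latB b = true) (hd : divL M a = true) (he : imgL M a = b) :
    g • latV a ha = latV b hb := by
  simp only [certOK, Bool.and_eq_true] at h
  obtain ⟨hl, hr⟩ := lengths h.1.1.1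
  have e := (hg (latV a ha)).symm.trans (img_spec hl hr (latB_length ha) hd)
  refine Subtype.ext (funext fun p => ?_)
  have := congrFun e p
  simp only [Pi.smul_apply, nsmul_eq_mul, he] at this
  push_cast at this
  show ((g • latV a ha : leechLattice) : GolayPt → ℤ) p = toVec b p
  omega

/-- A vector from its code, five bits per entry. -/
def decV (c : ℕ) : List ℤ := (List.range 24).map fun k => ((c / 2 ^ (5 * k) % 32 : ℕ) : ℤ) - 16

/-- The code of a vector. -/
def encV (l : List ℤ) : ℕ := l.foldr (fun a r => r * 32 + (a + 16).toNat) 0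

/-- One table entry: the image of a coded vector is the expected coded vector. -/
def moveOK (M : List (List ℤ)) (a b : ℕ) : Bool := divL M (decV a) && eqL (imgL M (decV a)) (decV b)

theorem smul_dec {M : List (List ℤ)} (h : certOK M = true) {g : Co0}
    (hg : ∀ v : leechLattice, mulV M (v : GolayPt → ℤ) = 8 • ((g • v : leechLattice) : GolayPt → ℤ))
    {a b : ℕ} (ha : latB (decV a) = true) (hb : latB (decV b) = true) (hm : moveOK M a b = true) :
    g • latV (decV a) ha = latV (decV b) hb := by
  simp only [moveOK, Bool.and_eq_true, eqL, decide_eq_true_eq] at hm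
  exact smul_latV h hg ha hb hm.1 hm.2

theorem code_inj {a b : ℕ} (ha : latB (decV a) = true) (hb : latB (decV b) = true)
    (ea : encV (decV a) = a) (eb : encV (decV b) = b) (h : latV (decV a) ha = latV (decV b) hb) : a = b := by
  have := toVec_inj (latB_length ha) (latB_length hb) (congrArg Subtype.val h)
  rw [← ea, this, eb]

/-! ### Packed images -/

/-- The digits in base 32 of a code against a list of weights. -/
def dotN : List ℕ → ℕ → ℕ
  | [], _ => 0
  | p :: ps, c => c % 32 * p + dotN ps (c / 32)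

theorem dotN_eq : ∀ (n : ℕ) (ps : List ℕ) (c : ℕ), ps.length = n →
    dotN ps c = ∑ k : Fin n, c / 2 ^ (5 * (k : ℕ)) % 32 * ps.getD k 0
  | 0, ps, c, h => by rw [List.eq_nil_of_length_eq_zero h]; simp [dotN]
  | n + 1, [], c, h => by simp at h
  | n + 1, p :: ps, c, h => by
    rw [dotN, Fin.sum_univ_succ, dotN_eq n ps (c / 32) (by simpa using h)]
    simp [Nat.div_div_eq_div_mul, show ∀ k : ℕ, 2 ^ (5 * (k + 1)) = 32 * 2 ^ (5 * k) from
      fun k => by rw [Nat.mul_succ, pow_add]; ring]

/-- A place value. -/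
def place (i : ℕ) : ℕ := 2 ^ (16 * i)

/-- A shifted entry of a matrix. -/
def entN (M : List (List ℤ)) (i j : ℕ) : ℕ := ((M.getD i []).getD j 0 + 8).toNat

/-- The packed shifted columns, base `2 ^ 16`. -/
def colsN (M : List (List ℤ)) : List ℕ :=
  (List.range 24).map fun j => ((List.range 24).map fun i => entN M i j * place i).sum

/-- Sixteen times the packed shifted row sums. -/
def rowsN (M : List (List ℤ)) : ℕ :=
  ((List.range 24).map fun i => 16 * ((List.range 24).map fun j => entN M i j).sum * place i).sum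

/-- The packed places. -/
def placesN : List ℕ := (List.range 24).map fun i => place i

/-- The sum of the packed places. -/
def unitN : ℕ := placesN.sum

/-- The entries are small and the packed data are right. -/
def packOK (M : List (List ℤ)) (P : List ℕ) (R : ℕ) : Bool :=
  allBelow (fun i => allBelow (fun j => decide (-8 ≤ (M.getD i []).getD j 0 ∧ (M.getD i []).getD j 0 ≤ 8)) 24) 24 &&
    decide (P = colsN M) && Nat.beq R (rowsN M)

/-- One table entry on packed data. -/
def moveF (P : List ℕ) (R : ℕ) (a b : ℕ) : Bool :=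
  Nat.beq (dotN P a + 3200 * unitN) (8 * dotN placesN b + R + 8 * dotN (List.replicate 24 1) a * unitN)

theorem range_sum (n : ℕ) (f : ℕ → ℕ) : ((List.range n).map f).sum = ∑ i : Fin n, f i := by
  rw [Fin.sum_univ_eq_sum_range (f := f) (n := n)]
  rfl

theorem base_inj {f g : Fin 24 → ℕ} (hf : ∀ i, f i < 2 ^ 16) (hg : ∀ i, g i < 2 ^ 16)
    (h : ∑ i, f i * place i = ∑ i, g i * place i) : f = g := by
  have e : ((finFunctionFinEquiv fun i => (⟨f i, hf i⟩ : Fin (2 ^ 16))) : ℕ) =
      ((finFunctionFinEquiv fun i => (⟨g i, hg i⟩ : Fin (2 ^ 16))) : ℕ) := by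
    rw [finFunctionFinEquiv_apply_val, finFunctionFinEquiv_apply_val]
    simpa only [place, pow_mul] using h
  funext i
  exact congrArg Fin.val (congrFun (finFunctionFinEquiv.injective (Fin.ext e)) i)

theorem toVec_decV (c : ℕ) (p : GolayPt) :
    toVec (decV c) p = ((c / 2 ^ (5 * idx p) % 32 : ℕ) : ℤ) - 16 := by
  rw [toVec, decV, List.getD_eq_getElem _ _ (by simp [idx_lt]), List.getElem_map, List.getElem_range]

theorem moveF_spec {M : List (List ℤ)} {P : List ℕ} {R a b : ℕ} (hp : packOK M P R = true)
    (hm : moveF P R a b = true) : mulV M (toVec (decV a)) = 8 • toVec (decV b) := by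
  simp only [packOK, Bool.and_eq_true, decide_eq_true_eq, Nat.beq_eq] at hp
  obtain ⟨⟨hent, hP⟩, hR⟩ := hp
  simp only [moveF, Nat.beq_eq, hP, hR] at hm
  rw [dotN_eq 24 _ a (by simp [colsN]), dotN_eq 24 placesN b (by simp [placesN]),
    dotN_eq 24 (List.replicate 24 1) a (by simp), rowsN, unitN, placesN, range_sum, range_sum] at hm
  have hcol : ∀ j : Fin 24, (colsN M).getD j 0 = ∑ i : Fin 24, entN M i j * place i := fun j => by
    rw [colsN, List.getD_eq_getElem _ _ (by simp), List.getElem_map, List.getElem_range, range_sum]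
  have hpl : ∀ i : Fin 24, ((List.range 24).map fun i => place i).getD i 0 = place i := fun i => by
    rw [List.getD_eq_getElem _ _ (by simp), List.getElem_map, List.getElem_range]
  have hone : ∀ i : Fin 24, (List.replicate 24 1).getD i 0 = 1 := fun i => by
    rw [List.getD_eq_getElem _ _ (by simp), List.getElem_replicate]
  simp only [hcol, hpl, hone, mul_one, range_sum] at hm
  have hm' : ∑ i : Fin 24, ((∑ j : Fin 24, a / 2 ^ (5 * (j : ℕ)) % 32 * entN M i j) + 3200) * place i =
      ∑ i : Fin 24, (8 * (b / 2 ^ (5 * (i : ℕ)) % 32) + 16 * (∑ j : Fin 24, entN M i j) +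
        8 * ∑ j : Fin 24, a / 2 ^ (5 * (j : ℕ)) % 32) * place i := by
    simp only [add_mul, Finset.sum_add_distrib, ← Finset.mul_sum]
    simp only [Finset.sum_mul]
    rw [Finset.sum_comm]
    simp only [mul_assoc, Finset.mul_sum, Finset.sum_mul] at hm ⊢
    exact hm
  have hA : ∀ j : ℕ, a / 2 ^ (5 * j) % 32 ≤ 31 := fun j => Nat.le_of_lt_succ (Nat.mod_lt _ (by norm_num))
  have hB : ∀ j : ℕ, b / 2 ^ (5 * j) % 32 ≤ 31 := fun j => Nat.le_of_lt_succ (Nat.mod_lt _ (by norm_num))
  have hE : ∀ i j : Fin 24, entN M i j ≤ 16 ∧ (entN M i j : ℤ) = (M.getD i []).getD j 0 + 8 := fun i j => by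
    have := allBelow_spec _ _ (allBelow_spec _ _ hent i i.2) j j.2
    simp only [decide_eq_true_eq] at this
    simp only [entN]
    omega
  have hsA : ∑ j : Fin 24, a / 2 ^ (5 * (j : ℕ)) % 32 ≤ 744 :=
    calc _ ≤ ∑ _j : Fin 24, 31 := Finset.sum_le_sum fun (j : Fin 24) _ => hA j
      _ = 744 := by rw [Finset.sum_const, Finset.card_univ, Fintype.card_fin]; rfl
  have key := base_inj (fun i => ?_) (fun i => ?_) hm'
  · funext p
    have e := congrArg (fun z : ℕ => (z : ℤ)) (congrFun key ⟨idx p, idx_lt p⟩)
    have hE' : ∀ x : Fin 24, (entN M (idx p) x : ℤ) = (M.getD (idx p) []).getD x 0 + 8 :=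
      fun x => (hE ⟨idx p, idx_lt p⟩ x).2
    simp only [Nat.cast_add, Nat.cast_mul, Nat.cast_sum, hE', Nat.cast_ofNat] at e
    show dotInt (toVec (M.getD (idx p) [])) (toVec (decV a)) = (8 • toVec (decV b)) p
    rw [Pi.smul_apply, toVec_decV, nsmul_eq_mul, dotInt, ← Equiv.sum_comp ptEquiv.symm]
    have hk : ∀ k : Fin 24, toVec (M.getD (idx p) []) (ptEquiv.symm k) * toVec (decV a) (ptEquiv.symm k) =
        (M.getD (idx p) []).getD k 0 * (((a / 2 ^ (5 * (k : ℕ)) % 32 : ℕ) : ℤ) - 16) := fun k => by
      rw [toVec_decV]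
      show (M.getD (idx p) []).getD (idx (pt k)) 0 * (((a / 2 ^ (5 * idx (pt k)) % 32 : ℕ) : ℤ) - 16) = _
      rw [idx_pt]
    rw [Finset.sum_congr rfl fun k _ => hk k]
    simp only [mul_sub, Finset.sum_sub_distrib, mul_add, Finset.sum_add_distrib, ← Finset.mul_sum,
      ← Finset.sum_mul, Finset.sum_const, Finset.card_univ, Fintype.card_fin, nsmul_eq_mul] at e ⊢
    rw [Finset.sum_congr rfl fun (k : Fin 24) _ => mul_comm ((M.getD (idx p) []).getD k 0) _]
    push_cast at e ⊢
    linarith
  · have h1 : ∑ j : Fin 24, a / 2 ^ (5 * (j : ℕ)) % 32 * entN M i j ≤ 11904 :=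
      calc _ ≤ ∑ _j : Fin 24, 31 * 16 := Finset.sum_le_sum fun (j : Fin 24) _ => Nat.mul_le_mul (hA j) (hE i j).1
        _ = 11904 := by rw [Finset.sum_const, Finset.card_univ, Fintype.card_fin]; rfl
    omega
  · have h1 : ∑ j : Fin 24, entN M i j ≤ 384 :=
      calc _ ≤ ∑ _j : Fin 24, 16 := Finset.sum_le_sum fun (j : Fin 24) _ => (hE i j).1
        _ = 384 := by rw [Finset.sum_const, Finset.card_univ, Fintype.card_fin]; rfl
    have := hB i
    omega

theorem smul_pack {M : List (List ℤ)} {g : Co0}
    (hg : ∀ v : leechLattice, mulV M (v : GolayPt → ℤ) = 8 • ((g • v : leechLattice) : GolayPt → ℤ))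
    {P : List ℕ} {R a b : ℕ} (hp : packOK M P R = true) (ha : latB (decV a) = true) (hb : latB (decV b) = true)
    (hm : moveF P R a b = true) : g • latV (decV a) ha = latV (decV b) hb := by
  have e := (hg (latV (decV a) ha)).symm.trans (moveF_spec hp hm)
  refine Subtype.ext (funext fun p => ?_)
  have := congrFun e p
  simp only [Pi.smul_apply, nsmul_eq_mul] at this
  push_cast at this
  show ((g • latV (decV a) ha : leechLattice) : GolayPt → ℤ) p = toVec (decV b) p
  omega

/-- The low bit of each of the 24 entries. -/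
def lowBits : ℕ := ((List.range 24).map fun k => 2 ^ (5 * k)).sum

/-- Membership in the lattice, decided on a code. -/
def latC (c : ℕ) : Bool :=
  let m := c / 2 ^ 115 % 2
  Nat.beq (Nat.land (Nat.xor c (m * lowBits)) lowBits) 0 &&
    Nat.beq ((dotN (List.replicate 24 1) c + 4 * m) % 8) 0 &&
    inCode (mkMask (fun k => c.testBit (5 * k + 1)) 24)

theorem latB_of_latC {c : ℕ} (h : latC c = true) : latB (decV c) = true := by
  simp only [latC, Bool.and_eq_true, Nat.beq_eq] at h
  obtain ⟨⟨hpar, hsum⟩, hcode⟩ := h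
  set m := c / 2 ^ 115 % 2 with hm
  rw [dotN_eq 24 (List.replicate 24 1) c (by simp)] at hsum
  have hone : ∀ i : Fin 24, (List.replicate 24 1).getD i 0 = 1 := fun i => by
    rw [List.getD_eq_getElem _ _ (by simp), List.getElem_replicate]
  simp only [hone, mul_one] at hsum
  have hget : ∀ k < 24, (decV c).getD k 0 = ((c / 2 ^ (5 * k) % 32 : ℕ) : ℤ) - 16 := fun k hk => by
    rw [decV, List.getD_eq_getElem _ _ (by simpa using hk), List.getElem_map, List.getElem_range]
  have hlow : ∀ k : Fin 24, lowBits.testBit (5 * k) = true ∧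
      (0 * lowBits).testBit (5 * k) = false ∧ (1 * lowBits).testBit (5 * k) = true := by decide +kernel
  have hp : ∀ k < 24, c / 2 ^ (5 * k) % 32 % 2 = m := fun k hk => by
    have := congrArg (fun x : ℕ => x.testBit (5 * k)) hpar
    obtain ⟨l1, l2, l3⟩ := hlow ⟨k, hk⟩
    simp only [show ∀ x y, Nat.land x y = x &&& y from fun _ _ => rfl, show ∀ x y, Nat.xor x y = x ^^^ y from
      fun _ _ => rfl, Nat.testBit_and, Nat.testBit_xor, l1, Bool.and_true, Nat.zero_testBit] at this
    have e := Nat.toNat_testBit c (5 * k)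
    rcases Nat.mod_two_eq_zero_or_one (c / 2 ^ 115) with h0 | h0 <;> rw [hm, h0] at this ⊢
    · rw [l2] at this
      cases hb : c.testBit (5 * k) <;> simp_all <;> omega
    · rw [l3] at this
      cases hb : c.testBit (5 * k) <;> simp_all <;> omega
  have h23 : (decV c).getD 23 0 % 2 = (m : ℤ) := by
    rw [hget 23 (by norm_num)]
    have := hp 23 (by norm_num)
    omega
  have hm2 : m < 2 := hm ▸ Nat.mod_lt _ (by norm_num)
  clear_value m
  clear hm hpar
  simp only [latB, Bool.and_eq_true, Nat.beq_eq, List.all_eq_true, decide_eq_true_eq]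
  simp only [h23]
  refine ⟨⟨⟨by simp [decV], fun a ha => ?_⟩, ?_⟩, ?_⟩
  · obtain ⟨k, hk, rfl⟩ := List.mem_map.1 ha
    have := hp k (List.mem_range.1 hk)
    omega
  · rw [← sum_toVec (by simp [decV]), ← Equiv.sum_comp ptEquiv.symm]
    have e : ∀ k : Fin 24, toVec (decV c) (ptEquiv.symm k) = ((c / 2 ^ (5 * (k : ℕ)) % 32 : ℕ) : ℤ) - 16 := fun k => by
      show (decV c).getD (idx (pt k)) 0 = _
      rw [idx_pt, hget k k.2]
    rw [Finset.sum_congr rfl fun k _ => e k, Finset.sum_sub_distrib, Finset.sum_const, Finset.card_univ,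
      Fintype.card_fin, ← Nat.cast_sum, nsmul_eq_mul]
    generalize (∑ x : Fin 24, c / 2 ^ (5 * (x : ℕ)) % 32) = S at hsum ⊢
    push_cast
    omega
  · convert hcode using 2
    refine Nat.eq_of_testBit_eq fun i => ?_
    rw [testBit_mkMask, testBit_mkMask]
    by_cases hi : i < 24
    · have := hp i hi
      have e := Nat.toNat_testBit c (5 * i + 1)
      have h2 : c / 2 ^ (5 * i + 1) = c / 2 ^ (5 * i) / 2 := by rw [Nat.div_div_eq_div_mul, ← pow_succ]
      rw [hget i hi]
      rw [h2] at e
      generalize c / 2 ^ (5 * i) = A at *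
      cases hb : c.testBit (5 * i + 1) <;> rw [hb] at e <;> simp [hi] at e ⊢ <;> omega
    · simp [hi]

/-- A subgroup of a product that is injective on the first factor and onto in the second gives an isomorphism. -/
theorem equiv_of_graph {A B : Type*} [Group A] [Group B] (Γ : Subgroup (A × B)) (K : Subgroup A) (P : Subgroup B)
    (N : ℕ) (hN : 0 < N) (hK : Nat.card K = N) (hP : Nat.card P = N) (h1 : ∀ x ∈ Γ, x.1 = 1 → x.2 = 1)
    (hle : ∀ x ∈ Γ, x.1 ∈ K) (hon : ∀ b ∈ P, ∃ a, (a, b) ∈ Γ) (hin : ∀ x ∈ Γ, x.2 ∈ P) :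
    Nonempty (K ≃* P) := by
  have : Finite K := Nat.finite_of_card_ne_zero (by omega)
  have : Finite P := Nat.finite_of_card_ne_zero (by omega)
  let f : Γ →* K := ((MonoidHom.fst A B).comp Γ.subtype).codRestrict K fun x => hle x.1 x.2
  let s : Γ →* P := ((MonoidHom.snd A B).comp Γ.subtype).codRestrict P fun x => hin x.1 x.2
  have hf : Function.Injective f := by
    rw [injective_iff_map_eq_one]
    intro x hx
    have e : x.1.1 = 1 := congrArg Subtype.val hx
    exact Subtype.ext (Prod.ext e (h1 _ x.2 e))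
  have : Finite Γ := Finite.of_injective f hf
  have hs : Function.Surjective s := fun b => by
    obtain ⟨a, ha⟩ := hon b b.2
    exact ⟨⟨(a, b), ha⟩, Subtype.ext rfl⟩
  have c1 := Nat.card_le_card_of_injective f hf
  have c2 := Nat.card_le_card_of_surjective s hs
  have bf : Function.Bijective f := hf.bijective_of_nat_card_le (by omega)
  have bs : Function.Bijective s :=
    ⟨(Function.Surjective.bijective_of_nat_card_le hs (by omega)).1, hs⟩
  exact ⟨(MulEquiv.ofBijective f bf).symm.trans (MulEquiv.ofBijective s bs)⟩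

end Cfsg.Agent.Leech.MatCert
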