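import Mathlib.GroupTheory.Index
import Cfsg.Agent.Lib.Golay.Basic

/-!
The Leech lattice of `Def_Sporadic_a`: a linear membership criterion, evenness, minimum norm and
index.
-/

namespace Cfsg.Agent.Leech

open Cfsg Cfsg.Agent.Golay

/-- The word `((x i - m) / 2) mod 2`. -/
def hword (m : ℤ) (x : GolayPt → ℤ) : GolayPt → ZMod 2 := fun i => (((x i - m) / 2 : ℤ) : ZMod 2)

/-- All coordinates of parity `m`, sum `4 m` mod 8, and the residue word in the code. -/
def InLeech (m : ℤ) (x : GolayPt → ℤ) : Prop :=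
  (∀ i, 2 ∣ x i - m) ∧ 8 ∣ ∑ i, x i - 4 * m ∧ hword m x ∈ golayCode

theorem one_mem_code : (1 : GolayPt → ZMod 2) ∈ golayCode :=
  Submodule.subset_span (Or.inr rfl)

theorem support_injective : Function.Injective (support₂ : (GolayPt → ZMod 2) → Finset GolayPt) := by
  intro a b h
  rw [← ofMask_toMask a, ← ofMask_toMask b, h]

theorem mem_code_iff_support {w : GolayPt → ZMod 2} :
    w ∈ golayCode ↔ support₂ w ∈ supports (golayCode : Set (GolayPt → ZMod 2)) := by
  refine ⟨fun h => ⟨w, h, rfl⟩, ?_⟩
  rintro ⟨v, hv, he⟩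
  rwa [← support_injective he]

theorem mem_leechSet_iff {x : GolayPt → ℤ} : x ∈ leechSet ↔ ∃ m, InLeech m x := by
  constructor
  · rintro ⟨m, hpar, hsum, hk⟩
    refine ⟨m, fun i => (hpar i).symm.dvd, hsum.symm.dvd, mem_code_iff_support.2 ?_⟩
    convert hk (m + 2) using 1
    ext i
    have hd : 2 ∣ x i - m := (hpar i).symm.dvd
    obtain ⟨q, hq⟩ := hd
    have h2 : (x i - m) / 2 = q := by omega
    simp only [support₂, hword, Finset.mem_filter, Finset.mem_univ, true_and, h2, ne_eq,
      ZMod.intCast_zmod_eq_zero_iff_dvd, Int.modEq_iff_dvd]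
    omega
  · rintro ⟨m, hpar, hsum, hw⟩
    refine ⟨m, fun i => (Int.modEq_iff_dvd.2 (hpar i)).symm, (Int.modEq_iff_dvd.2 hsum).symm,
      fun k => ?_⟩
    have hodd : ∀ i, hword m x i ≠ 0 ↔ (4 : ℤ) ∣ x i - m - 2 := by
      intro i
      obtain ⟨q, hq⟩ := hpar i
      have h2 : (x i - m) / 2 = q := by omega
      simp only [hword, h2, ne_eq, ZMod.intCast_zmod_eq_zero_iff_dvd]
      omega
    rcases (show (2 : ℤ) ∣ k - m - 1 ∨ (4 : ℤ) ∣ k - m ∨ (4 : ℤ) ∣ k - m - 2 by omega) with h | h | h
    · convert (mem_code_iff_support.1 golayCode.zero_mem) using 1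
      ext i
      have := hpar i
      simp only [support₂, Finset.mem_filter, Finset.mem_univ, true_and, Pi.zero_apply, ne_eq,
        not_true_eq_false, iff_false, Int.modEq_iff_dvd]
      omega
    · convert (mem_code_iff_support.1 (golayCode.add_mem hw one_mem_code)) using 1
      ext i
      have h1 := hodd i
      have := hpar i
      rcases zmod2_cases (hword m x i) with hz | hz <;> simp [hz] at h1 <;>
        simp [support₂, hz, Int.modEq_iff_dvd, show (1 : ZMod 2) + 1 = 0 from rfl] <;> first | omega | (constructor <;> omega) | trivial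
    · convert (mem_code_iff_support.1 hw) using 1
      ext i
      have h1 := hodd i
      have := hpar i
      simp only [support₂, Finset.mem_filter, Finset.mem_univ, true_and, Int.modEq_iff_dvd]
      rw [h1]
      omega

theorem InLeech.add {m n : ℤ} {x y : GolayPt → ℤ} (hx : InLeech m x) (hy : InLeech n y) :
    InLeech (m + n) (x + y) := by
  refine ⟨fun i => ?_, ?_, ?_⟩
  · have := hx.1 i; have := hy.1 i; simp only [Pi.add_apply]; omega
  · have := hx.2.1; have := hy.2.1
    simp only [Pi.add_apply, Finset.sum_add_distrib]; omega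
  · have : hword (m + n) (x + y) = hword m x + hword n y := by
      funext i
      obtain ⟨a, ha⟩ := hx.1 i
      obtain ⟨b, hb⟩ := hy.1 i
      have h1 : (x i + y i - (m + n)) / 2 = a + b := by omega
      have h2 : (x i - m) / 2 = a := by omega
      have h3 : (y i - n) / 2 = b := by omega
      simp [hword, h1, h2, h3]
    rw [this]; exact golayCode.add_mem hx.2.2 hy.2.2

theorem InLeech.neg {m : ℤ} {x : GolayPt → ℤ} (hx : InLeech m x) : InLeech (-m) (-x) := by
  refine ⟨fun i => ?_, ?_, ?_⟩
  · have := hx.1 i; simp only [Pi.neg_apply]; omega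
  · have := hx.2.1
    simp only [Pi.neg_apply, Finset.sum_neg_distrib]; omega
  · have : hword (-m) (-x) = hword m x := by
      funext i
      obtain ⟨a, ha⟩ := hx.1 i
      have h1 : (-x i - -m) / 2 = -a := by omega
      have h2 : (x i - m) / 2 = a := by omega
      simp only [hword, Pi.neg_apply, h1, h2, Int.cast_neg, ZMod.neg_eq_self_mod_two]
    rw [this]; exact hx.2.2

theorem inLeech_zero : InLeech 0 (0 : GolayPt → ℤ) := by
  refine ⟨fun i => by simp, by simp, ?_⟩
  have : hword 0 (0 : GolayPt → ℤ) = 0 := by funext i; simp [hword]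
  rw [this]; exact golayCode.zero_mem

/-- The subgroup with carrier `leechSet`. -/
def leechSub : AddSubgroup (GolayPt → ℤ) where
  carrier := leechSet
  add_mem' := by
    intro x y hx hy
    obtain ⟨m, hm⟩ := mem_leechSet_iff.1 hx
    obtain ⟨n, hn⟩ := mem_leechSet_iff.1 hy
    exact mem_leechSet_iff.2 ⟨_, hm.add hn⟩
  zero_mem' := mem_leechSet_iff.2 ⟨0, inLeech_zero⟩
  neg_mem' := by
    intro x hx
    obtain ⟨m, hm⟩ := mem_leechSet_iff.1 hx
    exact mem_leechSet_iff.2 ⟨_, hm.neg⟩

theorem leechLattice_eq : leechLattice = leechSub := AddSubgroup.closure_eq leechSub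

theorem mem_leech {x : GolayPt → ℤ} : x ∈ leechLattice ↔ ∃ m, InLeech m x := by
  rw [leechLattice_eq]; exact mem_leechSet_iff

theorem hword_shift (m : ℤ) (k : ℤ) {x : GolayPt → ℤ} (hx : ∀ i, 2 ∣ x i - m) :
    hword (m + 2 * k) x = hword m x + (k : ZMod 2) • (1 : GolayPt → ZMod 2) := by
  funext i
  obtain ⟨a, ha⟩ := hx i
  have h1 : (x i - (m + 2 * k)) / 2 = a - k := by omega
  have h2 : (x i - m) / 2 = a := by omega
  simp only [hword, h1, h2, Pi.add_apply, Pi.smul_apply]
  simp [sub_eq_add_neg, ZMod.neg_eq_self_mod_two]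

theorem InLeech.shift {m : ℤ} {x : GolayPt → ℤ} (hx : InLeech m x) (k : ℤ) :
    InLeech (m + 2 * k) x := by
  refine ⟨fun i => ?_, ?_, ?_⟩
  · have := hx.1 i; omega
  · have := hx.2.1; omega
  · rw [hword_shift m k hx.1]
    exact golayCode.add_mem hx.2.2 (golayCode.smul_mem _ one_mem_code)

/-- Normalised form: the parity is 0 or 1. -/
theorem exists_parity {x : GolayPt → ℤ} (hx : x ∈ leechLattice) :
    ∃ m, (m = 0 ∨ m = 1) ∧ InLeech m x := by
  obtain ⟨m, hm⟩ := mem_leech.1 hx
  exact ⟨m + 2 * -(m / 2), by omega, hm.shift _⟩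

theorem card_support_mod4 {w : GolayPt → ZMod 2} (hw : w ∈ golayCode) :
    4 ∣ (support₂ w).card := by
  obtain ⟨m, hm, rfl⟩ := mem_golayCode.1 hw
  rw [support_ofMask, card_maskSet]
  rcases weight_cases hm with h | h | h | h | h <;> rw [h] <;> norm_num

theorem card_support_ge {w : GolayPt → ZMod 2} (hw : w ∈ golayCode) (h0 : w ≠ 0) :
    8 ≤ (support₂ w).card := by
  obtain ⟨m, hm, rfl⟩ := mem_golayCode.1 hw
  rcases weight_cases hm with h | h
  · exfalso
    refine h0 (support_injective ?_)
    rw [Finset.card_eq_zero.1 (by rw [support_ofMask, card_maskSet, h] : (support₂ (ofMask m)).card = 0)]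
    ext i; simp [support₂]
  · rw [support_ofMask, card_maskSet]; omega

/-- The residue as an integer in `{0, 1}`. -/
def bit (m : ℤ) (x : GolayPt → ℤ) (i : GolayPt) : ℤ := if hword m x i = 0 then 0 else 1

theorem sum_bit (m : ℤ) (x : GolayPt → ℤ) :
    ∑ i, bit m x i = ((support₂ (hword m x)).card : ℤ) := by
  simp only [bit, support₂]
  rw [Finset.card_filter, Nat.cast_sum]
  exact Finset.sum_congr rfl fun i _ => by split_ifs <;> simp_all

theorem exists_decomp {m : ℤ} {x : GolayPt → ℤ} (hx : InLeech m x) :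
    ∃ y : GolayPt → ℤ, ∀ i, x i = m + 2 * bit m x i + 4 * y i := by
  refine ⟨fun i => (x i - m - 2 * bit m x i) / 4, fun i => ?_⟩
  obtain ⟨q, hq⟩ := hx.1 i
  have h2 : (x i - m) / 2 = q := by omega
  simp only [bit, hword, h2, ZMod.intCast_zmod_eq_zero_iff_dvd]
  split_ifs <;> omega

/-- **The lattice is even.** -/
theorem sixteen_dvd_sqNorm {x : GolayPt → ℤ} (hx : x ∈ leechLattice) : (16 : ℤ) ∣ sqNorm x := by
  obtain ⟨m, hm, hL⟩ := exists_parity hx
  obtain ⟨y, hy⟩ := exists_decomp hL
  have hbit : ∀ i, bit m x i = 0 ∨ bit m x i = 1 := fun i => by simp only [bit]; split_ifs <;> simp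
  have h4 : (4 : ℤ) ∣ ∑ i, bit m x i := by
    rw [sum_bit]; exact_mod_cast card_support_mod4 hL.2.2
  have hcard : (Finset.univ : Finset GolayPt).card = 24 := rfl
  have hsum : ∑ i, x i = 24 * m + 2 * ∑ i, bit m x i + 4 * ∑ i, y i := by
    rw [Finset.mul_sum, Finset.mul_sum,
      show (24 : ℤ) * m = ∑ _i : GolayPt, m by rw [Finset.sum_const, hcard]; simp,
      ← Finset.sum_add_distrib, ← Finset.sum_add_distrib]
    exact Finset.sum_congr rfl fun i _ => hy i
  have hsq : sqNorm x = 24 * m + (4 * m + 4) * ∑ i, bit m x i + 8 * m * ∑ i, y i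
      + 16 * ∑ i, (bit m x i * y i + y i ^ 2) := by
    rw [sqNorm, Finset.mul_sum, Finset.mul_sum, Finset.mul_sum,
      show (24 : ℤ) * m = ∑ _i : GolayPt, m by rw [Finset.sum_const, hcard]; simp,
      ← Finset.sum_add_distrib, ← Finset.sum_add_distrib, ← Finset.sum_add_distrib]
    refine Finset.sum_congr rfl fun i _ => ?_
    rw [hy i]
    rcases hm with rfl | rfl <;> rcases hbit i with h | h <;> rw [h] <;> ring
  have h8 := hL.2.1
  rw [hsum] at h8
  rw [hsq]
  rcases hm with rfl | rfl <;> simp only [mul_zero, mul_one, zero_mul] at * <;> omega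

theorem single_le_sqNorm (x : GolayPt → ℤ) (i : GolayPt) : x i ^ 2 ≤ sqNorm x :=
  Finset.single_le_sum (f := fun i => x i ^ 2) (fun j _ => sq_nonneg _) (Finset.mem_univ i)

/-- **No roots: nonzero vectors have sum of squares at least 32.** -/
theorem min_norm {x : GolayPt → ℤ} (hx : x ∈ leechLattice) (h0 : x ≠ 0) : 32 ≤ sqNorm x := by
  obtain ⟨m, hm, hL⟩ := exists_parity hx
  rcases hm with rfl | rfl
  · by_cases hw : hword 0 x = 0
    · obtain ⟨y, hy⟩ := exists_decomp hL
      have hb : ∀ i, bit 0 x i = 0 := fun i => by simp [bit, hw]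
      have hx4 : ∀ i, x i = 4 * y i := fun i => by have := hy i; rw [hb] at this; omega
      obtain ⟨i, hi⟩ := Function.ne_iff.1 h0
      have hyi : y i ≠ 0 := fun h => hi (by rw [hx4 i, h]; rfl)
      by_cases hall : ∀ j, j ≠ i → y j = 0
      · have hs := hL.2.1
        rw [Finset.sum_eq_single i (fun j _ hj => by rw [hx4 j, hall j hj, mul_zero]) (by simp),
          hx4 i] at hs
        have h1 := single_le_sqNorm x i
        rw [hx4 i] at h1
        have : y i ≤ -2 ∨ 2 ≤ y i := by omega
        rcases this with h | h <;> nlinarith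
      · push_neg at hall
        obtain ⟨j, hji, hj⟩ := hall
        have h2 : x i ^ 2 + x j ^ 2 ≤ sqNorm x := by
          rw [← Finset.sum_pair (f := fun k => x k ^ 2) hji.symm]
          exact Finset.sum_le_sum_of_subset_of_nonneg (Finset.subset_univ _) fun k _ _ => sq_nonneg _
        rw [hx4 i, hx4 j] at h2
        have a1 : 1 ≤ y i ^ 2 := by
          rcases lt_or_gt_of_ne hyi with h | h <;> nlinarith
        have a2 : 1 ≤ y j ^ 2 := by
          rcases lt_or_gt_of_ne hj with h | h <;> nlinarith
        nlinarith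
    · have h8 := card_support_ge hL.2.2 hw
      have : ∑ _i ∈ support₂ (hword 0 x), (4 : ℤ) ≤ ∑ i ∈ support₂ (hword 0 x), x i ^ 2 := by
        refine Finset.sum_le_sum fun i hi => ?_
        obtain ⟨q, hq⟩ := hL.1 i
        have h2 : (x i - 0) / 2 = q := by omega
        simp only [support₂, hword, Finset.mem_filter, h2, ne_eq,
          ZMod.intCast_zmod_eq_zero_iff_dvd] at hi
        have hxq : x i = 2 * q := by omega
        have : q ≤ -1 ∨ 1 ≤ q := by omega
        rw [hxq]
        rcases this with h | h <;> nlinarith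
      rw [Finset.sum_const, nsmul_eq_mul] at this
      have hle : ∑ i ∈ support₂ (hword 0 x), x i ^ 2 ≤ sqNorm x :=
        Finset.sum_le_sum_of_subset_of_nonneg (Finset.subset_univ _) fun k _ _ => sq_nonneg _
      have : (8 : ℤ) ≤ ((support₂ (hword 0 x)).card : ℤ) := by exact_mod_cast h8
      omega
  · have h24 : (24 : ℤ) ≤ sqNorm x := by
      have : ∑ _i : GolayPt, (1 : ℤ) ≤ sqNorm x := by
        refine Finset.sum_le_sum fun i _ => ?_
        obtain ⟨q, hq⟩ := hL.1 i
        have : x i ≤ -1 ∨ 1 ≤ x i := by omega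
        rcases this with h | h <;> nlinarith
      simpa using this
    have := sixteen_dvd_sqNorm hx
    omega

/-! ### Index -/

/-- Vectors whose coordinates have equal parity. -/
def evenSub : AddSubgroup (GolayPt → ℤ) where
  carrier := {x | ∀ i, 2 ∣ x i - x none}
  add_mem' := fun {x y} hx hy i => by
    have := hx i; have := hy i; simp only [Pi.add_apply]; omega
  zero_mem' := fun i => by simp
  neg_mem' := fun {x} hx i => by have := hx i; simp only [Pi.neg_apply]; omega

/-- Parity differences from the extra coordinate. -/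
def parityHom : (GolayPt → ℤ) →+ (ZMod 23 → ZMod 2) where
  toFun x t := ((x (some t) - x none : ℤ) : ZMod 2)
  map_zero' := by ext; simp
  map_add' x y := by ext; simp only [Pi.add_apply]; push_cast; ring

theorem ker_parityHom : parityHom.ker = evenSub := by
  ext x
  constructor
  · intro h i
    cases i with
    | none => simp
    | some t => exact (ZMod.intCast_zmod_eq_zero_iff_dvd _ 2).1 (congrFun h t)
  · intro h
    funext t
    exact (ZMod.intCast_zmod_eq_zero_iff_dvd _ 2).2 (h (some t))

/-- The residue word of a vector with equal parities, modulo the code. -/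
def residueHom : evenSub →+ (GolayPt → ZMod 2) ⧸ golayCode where
  toFun x := Submodule.Quotient.mk (hword ((x : GolayPt → ℤ) none) x)
  map_zero' := by
    simpa [hword] using congrArg Submodule.Quotient.mk (show hword 0 (0 : GolayPt → ℤ) = 0 by
      funext i; simp [hword])
  map_add' x y := by
    rw [← Submodule.Quotient.mk_add]
    congr 1
    funext i
    obtain ⟨a, ha⟩ := x.2 i
    obtain ⟨b, hb⟩ := y.2 i
    simp only [hword, AddSubgroup.coe_add, Pi.add_apply]
    rw [show ((x : GolayPt → ℤ) i + (y : GolayPt → ℤ) i - ((x : GolayPt → ℤ) none + (y : GolayPt → ℤ) none)) / 2 = a + b by omega,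
      show ((x : GolayPt → ℤ) i - (x : GolayPt → ℤ) none) / 2 = a by omega,
      show ((y : GolayPt → ℤ) i - (y : GolayPt → ℤ) none) / 2 = b by omega, Int.cast_add]

end Cfsg.Agent.Leech
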