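import Cfsg.Agent.Lib.Compute.PermCert
import Cfsg.Agent.Lib.Leech.Basic

/-!
Counting lattice vectors of bounded norm by a packed dynamic programme.
-/

namespace Cfsg.Agent.Leech

open Cfsg Cfsg.Agent.Golay
open Cfsg.Agent.PermCert (get pack get_pack)

/-! ### Choices with prescribed norm and sum -/

/-- All lists with the `i`-th entry in the `i`-th list (never evaluated). -/
def choices : List (List ℤ) → List (List ℤ)
  | [] => [[]]
  | a :: A => a.flatMap fun v => (choices A).map (v :: ·)

/-- Square of an entry as a natural number. -/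
def sqNat (v : ℤ) : ℕ := v.natAbs * v.natAbs

/-- Number of choices with norm `N` and sum `s` modulo 8. -/
def cnt : List (List ℤ) → ℕ → ℕ → ℕ
  | [], N, s => if N = 0 ∧ s % 8 = 0 then 1 else 0
  | a :: A, N, s => (a.map fun v =>
      if sqNat v ≤ N then cnt A (N - sqNat v) ((s + 8 - (v % 8).toNat) % 8) else 0).sum

/-- The counting condition. -/
def Hits (N : ℕ) (s : ℕ) (l : List ℤ) : Bool :=
  decide ((l.map fun v => v ^ 2).sum = (N : ℤ) ∧ (l.sum - (s : ℤ)) % 8 = 0)

theorem cnt_eq : ∀ (A : List (List ℤ)) (N s : ℕ), cnt A N s = (choices A).countP (Hits N s) := by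
  intro A
  induction A with
  | nil =>
    intro N s
    simp only [cnt, choices, Hits, List.countP_cons, List.countP_nil, List.map_nil, List.sum_nil,
      decide_eq_true_eq, Nat.zero_add]
    by_cases h : N = 0 ∧ s % 8 = 0
    · rw [if_pos h, if_pos (by omega)]
    · rw [if_neg h, if_neg (by omega)]
  | cons a A ih =>
    intro N s
    rw [cnt, choices, List.countP_flatMap]
    congr 1
    refine List.map_congr_left fun v _ => ?_
    simp only [Function.comp_apply, List.countP_map]
    have hsq : (sqNat v : ℤ) = v ^ 2 := by rw [sqNat, Nat.cast_mul, Int.natCast_natAbs, abs_mul_abs_self, sq]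
    split_ifs with h
    · rw [ih]
      refine List.countP_congr fun l _ => ?_
      simp only [Function.comp_apply, Hits, decide_eq_true_eq, List.map_cons, List.sum_cons]
      have hN : ((N - sqNat v : ℕ) : ℤ) = N - v ^ 2 := by rw [Nat.cast_sub h, hsq]
      constructor
      · rintro ⟨h1, h2⟩; exact ⟨by omega, by omega⟩
      · rintro ⟨h1, h2⟩; exact ⟨by omega, by omega⟩
    · symm
      rw [List.countP_eq_zero]
      intro l _
      simp only [Function.comp_apply, Hits, decide_eq_true_eq, List.map_cons, List.sum_cons]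
      rintro ⟨h1, -⟩
      have h0 : 0 ≤ (l.map fun v => v ^ 2).sum := List.sum_nonneg (by simp; exact fun v _ => sq_nonneg v)
      omega

theorem cnt_perm {A B : List (List ℤ)} (h : A.Perm B) : ∀ N s, cnt A N s = cnt B N s := by
  induction h with
  | nil => intro N s; rfl
  | cons a _ ih => intro N s; simp [cnt, ih]
  | trans _ _ ih1 ih2 => intro N s; rw [ih1, ih2]
  | swap a b A =>
    intro N s
    simp only [cnt]
    have hcomm : ∀ (l₁ l₂ : List ℤ) (F : ℤ → ℤ → ℕ),
        (l₁.map fun u => (l₂.map fun v => F u v).sum).sum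
          = (l₂.map fun v => (l₁.map fun u => F u v).sum).sum := by
      intro l₁ l₂ F
      induction l₁ with
      | nil => simp
      | cons u l₁ ih => simp only [List.map_cons, List.sum_cons, ih, List.sum_map_add]
    have hguard : ∀ (l : List ℤ) (c : Prop) [Decidable c] (G : ℤ → ℕ),
        (if c then (l.map G).sum else 0) = (l.map fun v => if c then G v else 0).sum := by
      intro l c _ G
      split_ifs <;> simp
    simp only [hguard]
    rw [hcomm]
    congr 1
    refine List.map_congr_left fun u _ => ?_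
    congr 1
    refine List.map_congr_left fun v _ => ?_
    split_ifs <;> first | rfl | omega | (congr 1 <;> omega)

/-- Table width in bits. -/
def width : ℕ := 100

/-- One step of the table, on (square, shift) pairs. -/
def stepTab (e : List (ℕ × ℕ)) (t : ℕ) : ℕ :=
  pack width (fun k => (e.map fun p => bif Nat.ble p.1 (k / 8) then
    get width t (8 * (k / 8 - p.1) + (k % 8 + p.2) % 8) else 0).sum) 520

/-- Table of counts for norms at most 64, entry `8 N + s`. -/
def table : List (List ℤ) → ℕ
  | [] => pack width (fun k => if k / 8 = 0 ∧ k % 8 = 0 then 1 else 0) 520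
  | a :: A => stepTab (a.map fun v => (sqNat v, 8 - (v % 8).toNat)) (table A)

theorem get_table : ∀ (A : List (List ℤ)) (k : ℕ), k < 520 →
    get width (table A) k = cnt A (k / 8) (k % 8) % 2 ^ width := by
  intro A
  induction A with
  | nil =>
    intro k hk
    rw [table, get_pack _ _ _ _ hk]
    simp [cnt]
  | cons a A ih =>
    intro k hk
    rw [table, stepTab]
    rw [get_pack _ _ _ _ hk, cnt, List.sum_nat_mod]
    conv_rhs => rw [List.sum_nat_mod]
    congr 2
    simp only [List.map_map]
    refine List.map_congr_left fun v _ => ?_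
    simp only [Function.comp_apply]
    have hsh : k % 8 + (8 - (v % 8).toNat) = k % 8 + 8 - (v % 8).toNat := by omega
    rw [hsh]
    by_cases h : sqNat v ≤ k / 8
    swap
    · rw [if_neg h, show Nat.ble (sqNat v) (k / 8) = false by
        rw [Bool.eq_false_iff]; simpa using h]
      simp
    rw [if_pos h, show Nat.ble (sqNat v) (k / 8) = true by simpa using h, cond_true]
    · have hj : 8 * (k / 8 - sqNat v) + (k % 8 + 8 - (v % 8).toNat) % 8 < 520 := by omega
      rw [ih _ hj, show (8 * (k / 8 - sqNat v) + (k % 8 + 8 - (v % 8).toNat) % 8) / 8 = k / 8 - sqNat v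
        by omega, show (8 * (k / 8 - sqNat v) + (k % 8 + 8 - (v % 8).toNat) % 8) % 8
          = (k % 8 + 8 - (v % 8).toNat) % 8 by omega, Nat.mod_mod]

/-- Total number of choices. -/
def choicesLen : List (List ℤ) → ℕ
  | [] => 1
  | a :: A => a.length * choicesLen A

theorem length_choices : ∀ A : List (List ℤ), (choices A).length = choicesLen A := by
  intro A
  induction A with
  | nil => rfl
  | cons a A ih => simp [choices, choicesLen, List.length_flatMap, ih]

theorem cnt_eq_get (A : List (List ℤ)) (N s : ℕ) (hN : N ≤ 64) (hs : s < 8)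
    (hb : choicesLen A < 2 ^ width) : cnt A N s = get width (table A) (8 * N + s) := by
  rw [get_table A _ (by omega), show (8 * N + s) / 8 = N by omega, show (8 * N + s) % 8 = s by omega,
    Nat.mod_eq_of_lt]
  rw [cnt_eq]
  exact lt_of_le_of_lt List.countP_le_length (by rwa [length_choices])

/-! ### Vectors as lists -/

/-- The points in bit order. -/
def pts : List GolayPt := (List.range 24).map fun i => pt (Fin.ofNat 24 i)

theorem pts_nodup : pts.Nodup := by decide

theorem mem_pts : ∀ p : GolayPt, p ∈ pts := by decide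

theorem mem_choices {g : GolayPt → List ℤ} : ∀ {L : List GolayPt} {l : List ℤ},
    l ∈ choices (L.map g) ↔ List.Forall₂ (fun p v => v ∈ g p) L l := by
  intro L
  induction L with
  | nil => intro l; simp [choices]
  | cons p L ih =>
    intro l
    simp only [List.map_cons, choices, List.mem_flatMap, List.mem_map, List.forall₂_cons_left_iff, ih]
    constructor
    · rintro ⟨v, hv, r, hr, rfl⟩; exact ⟨v, r, hv, hr, rfl⟩
    · rintro ⟨v, r, hv, hr, rfl⟩; exact ⟨v, hv, r, hr, rfl⟩

theorem nodup_choices : ∀ {A : List (List ℤ)}, (∀ a ∈ A, a.Nodup) → (choices A).Nodup := by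
  intro A
  induction A with
  | nil => intro _; simp [choices]
  | cons a A ih =>
    intro h
    simp only [choices]
    rw [List.nodup_flatMap]
    refine ⟨fun v _ => (ih fun b hb => h b (List.mem_cons_of_mem _ hb)).map fun _ _ e => (List.cons.inj e).2, ?_⟩
    refine (h a List.mem_cons_self).imp fun {v w} hvw l hl hl' => ?_
    simp only [List.mem_map] at hl hl'
    obtain ⟨r, -, rfl⟩ := hl
    obtain ⟨r', -, he⟩ := hl'
    exact hvw (List.cons.inj he).1.symm

theorem exists_fun_of_forall₂ {g : GolayPt → List ℤ} {l : List ℤ}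
    (h : List.Forall₂ (fun p v => v ∈ g p) pts l) :
    ∃ x : GolayPt → ℤ, (∀ p, x p ∈ g p) ∧ pts.map x = l := by
  have hlen := h.length_eq
  refine ⟨fun p => l.getD (pts.idxOf p) 0, fun p => ?_, ?_⟩
  · have hi : pts.idxOf p < pts.length := List.idxOf_lt_length_iff.2 (mem_pts p)
    have := List.Forall₂.get h hi (hlen ▸ hi)
    show l.getD (pts.idxOf p) 0 ∈ g p
    rw [List.getD_eq_getElem _ _ (hlen ▸ hi)]
    simpa [List.getElem_idxOf] using this
  · refine List.ext_getElem (by simpa using hlen) fun i h1 h2 => ?_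
    rw [List.getElem_map, pts_nodup.idxOf_getElem, List.getD_eq_getElem]

theorem sum_pts (x : GolayPt → ℤ) : (pts.map x).sum = ∑ i, x i := by
  rw [← List.sum_toFinset _ pts_nodup]
  exact Finset.sum_congr (Finset.eq_univ_of_forall fun p => List.mem_toFinset.2 (mem_pts p)) fun _ _ => rfl

theorem ncard_eq_cnt (g : GolayPt → List ℤ) (hg : ∀ p, (g p).Nodup) (N s : ℕ) :
    {x : GolayPt → ℤ | (∀ p, x p ∈ g p) ∧ sqNorm x = N ∧ (∑ i, x i - (s : ℤ)) % 8 = 0}.ncard
      = cnt (pts.map g) N s := by
  have hinj : Function.Injective (fun x : GolayPt → ℤ => pts.map x) := fun a b h => by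
    funext p
    exact (List.map_inj_left.1 h) p (mem_pts p)
  have hnd : (choices (pts.map g)).Nodup := nodup_choices (by
    intro a ha; obtain ⟨p, -, rfl⟩ := List.mem_map.1 ha; exact hg p)
  rw [cnt_eq, List.countP_eq_length_filter, ← List.toFinset_card_of_nodup (hnd.filter _),
    ← Set.ncard_coe_finset]
  have himg : (fun x : GolayPt → ℤ => pts.map x) ''
      {x | (∀ p, x p ∈ g p) ∧ sqNorm x = N ∧ (∑ i, x i - (s : ℤ)) % 8 = 0}
      = ↑((choices (pts.map g)).filter (Hits N s)).toFinset := by
    have hsq : ∀ x : GolayPt → ℤ, ((pts.map x).map fun v => v ^ 2).sum = sqNorm x := fun x => by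
      rw [List.map_map, sum_pts]; rfl
    ext l
    simp only [Set.mem_image, Set.mem_ofPred_eq, List.coe_toFinset, List.mem_filter, Hits,
      decide_eq_true_eq]
    constructor
    · rintro ⟨x, ⟨h1, h2, h3⟩, rfl⟩
      refine ⟨mem_choices.2 ?_, by rw [hsq, h2], by rw [sum_pts]; exact h3⟩
      rw [List.forall₂_map_right_iff, List.forall₂_same]
      exact fun p _ => h1 p
    · rintro ⟨hl, h2, h3⟩
      obtain ⟨x, hx, rfl⟩ := exists_fun_of_forall₂ (mem_choices.1 hl)
      exact ⟨x, ⟨hx, by rw [← hsq, h2], by rw [← sum_pts]; exact h3⟩, rfl⟩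
  rw [← himg, Set.ncard_image_of_injective _ hinj]

/-! ### The census -/

/-- The allowed values with residue `r` modulo 4. -/
def valList (P : ℤ → Bool) (r : ℤ) : List ℤ :=
  [-8, -7, -6, -5, -4, -3, -2, -1, 0, 1, 2, 3, 4, 5, 6, 7, 8].filter
    fun v => decide ((v - r) % 4 = 0) && P v

/-- The value lists of a parity and code weight. -/
def profileLists (P : ℤ → Bool) (m w : ℕ) : List (List ℤ) :=
  List.replicate w (valList P (m + 2)) ++ List.replicate (24 - w) (valList P m)

/-- One summand of the census. -/
def censusTerm (P : ℤ → Bool) (N m w : ℕ) : ℕ :=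
  get width (table (profileLists P m w)) (8 * N + 4 * m % 8)

/-- The census: weight distribution `1, 759, 2576, 759, 1`. -/
def census (P : ℤ → Bool) (N : ℕ) : ℕ :=
  (fun f => f 0 + f 1) fun m => censusTerm P N m 0 + 759 * censusTerm P N m 8 +
    2576 * censusTerm P N m 12 + 759 * censusTerm P N m 16 + censusTerm P N m 24

theorem abs_le_eight {x : GolayPt → ℤ} {N : ℕ} (hN : N ≤ 64) (h : sqNorm x = N) (i : GolayPt) :
    -8 ≤ x i ∧ x i ≤ 8 := by
  have := single_le_sqNorm x i
  constructor <;> nlinarith

theorem mem_valList {P : ℤ → Bool} {r v : ℤ} (hv : -8 ≤ v ∧ v ≤ 8) :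
    v ∈ valList P r ↔ 4 ∣ v - r ∧ P v = true := by
  simp only [valList, List.mem_filter, Bool.and_eq_true, decide_eq_true_eq]
  refine ⟨fun h => ⟨Int.dvd_of_emod_eq_zero h.2.1, h.2.2⟩, fun h => ⟨?_, Int.emod_eq_zero_of_dvd h.1, h.2⟩⟩
  obtain ⟨h1, h2⟩ := hv
  interval_cases v <;> simp

theorem nodup_valList (P : ℤ → Bool) (r : ℤ) : (valList P r).Nodup :=
  List.Nodup.filter _ (by decide)

theorem valList_len (P : ℤ → Bool) (r : ℤ) : (valList P r).length ≤ 17 :=
  (List.length_filter_le _ _).trans (by simp)

theorem choicesLen_le (A : List (List ℤ)) (h : ∀ a ∈ A, a.length ≤ 17) :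
    choicesLen A ≤ 17 ^ A.length := by
  induction A with
  | nil => simp [choicesLen]
  | cons a A ih =>
    rw [choicesLen, List.length_cons, pow_succ, Nat.mul_comm]
    exact Nat.mul_le_mul (ih fun b hb => h b (List.mem_cons_of_mem _ hb)) (h a List.mem_cons_self)

/-- The class of a parity and a code mask. -/
def classSet (P : ℤ → Bool) (N m a : ℕ) : Set (GolayPt → ℤ) :=
  {x | (∀ p, x p ∈ valList P (if a.testBit (idx p) then (m : ℤ) + 2 else m)) ∧
    sqNorm x = N ∧ (∑ i, x i - ((4 * m % 8 : ℕ) : ℤ)) % 8 = 0}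

theorem ncard_classSet (P : ℤ → Bool) {N m a : ℕ} (hN : N ≤ 64) :
    (classSet P N m a).ncard = censusTerm P N m (popCount a 24) := by
  rw [classSet, ncard_eq_cnt _ (fun p => by split_ifs <;> exact nodup_valList _ _)]
  have hperm : List.Perm (pts.map fun p => valList P (if a.testBit (idx p) then (m : ℤ) + 2 else m))
      (profileLists P m (popCount a 24)) := by
    refine List.Perm.trans ((List.filter_append_perm (fun p => a.testBit (idx p)) pts).symm.map _) ?_
    rw [List.map_append, profileLists]
    have hlen : (pts.filter fun p => a.testBit (idx p)).length = popCount a 24 := by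
      rw [← card_maskSet, ← List.toFinset_card_of_nodup (pts_nodup.filter _)]
      congr 1
      ext p; simp [mem_maskSet, mem_pts]
    have hsum : (pts.filter fun p => a.testBit (idx p)).length
        + (pts.filter fun p => !a.testBit (idx p)).length = 24 := by
      rw [← List.length_append, (List.filter_append_perm (fun p => a.testBit (idx p)) pts).length_eq]
      rfl
    refine List.Perm.append (List.Perm.of_eq ?_) (List.Perm.of_eq ?_)
    · refine List.eq_replicate_iff.2 ⟨by rw [List.length_map, hlen], ?_⟩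
      intro l hl
      obtain ⟨p, hp, rfl⟩ := List.mem_map.1 hl
      rw [List.mem_filter] at hp
      rw [if_pos hp.2]
    · refine List.eq_replicate_iff.2 ⟨by rw [List.length_map]; omega, ?_⟩
      intro l hl
      obtain ⟨p, hp, rfl⟩ := List.mem_map.1 hl
      rw [List.mem_filter] at hp
      have h2 := hp.2
      simp only [Bool.not_eq_true'] at h2
      rw [if_neg (by simp [h2])]
  rw [cnt_perm hperm, cnt_eq_get _ _ _ hN (by omega), censusTerm]
  refine lt_of_le_of_lt (choicesLen_le _ fun l hl => ?_) ?_
  · simp only [profileLists, List.mem_append, List.mem_replicate] at hl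
    rcases hl with ⟨-, rfl⟩ | ⟨-, rfl⟩ <;> exact valList_len _ _
  · have h24 : popCount a 24 ≤ 24 := by
      rw [← card_maskSet]; exact Finset.card_le_univ _
    rw [show (profileLists P m (popCount a 24)).length = 24 by simp [profileLists]; omega]
    norm_num [width]

theorem class_decomp (P : ℤ → Bool) {N : ℕ} (hN : N ≤ 64) :
    {x : GolayPt → ℤ | x ∈ leechLattice ∧ sqNorm x = N ∧ ∀ i, P (x i) = true}
      = {x : GolayPt → ℤ | ∃ m < 2, ∃ a ∈ codeList, x ∈ classSet P N m a} := by
  ext x
  constructor
  · rintro ⟨hx, hn, hP⟩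
    obtain ⟨m, hm, hL⟩ := exists_parity hx
    obtain ⟨a, ha, hae⟩ := mem_golayCode.1 hL.2.2
    refine ⟨m.toNat, by omega, a, ha, fun p => ?_, hn, ?_⟩
    · obtain ⟨q, hq⟩ := hL.1 p
      have h2 : (x p - m) / 2 = q := by omega
      have hb : a.testBit (idx p) = true ↔ ¬ (2 : ℤ) ∣ q := by
        have := congrFun hae p
        simp only [ofMask, hword, h2] at this
        rw [show (¬ (2 : ℤ) ∣ q) ↔ ¬ ((q : ZMod 2) = 0) from
          not_congr (ZMod.intCast_zmod_eq_zero_iff_dvd q 2).symm]
        cases ht : a.testBit (idx p) <;> simp [ht] at this <;> simp [← this]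
      rw [mem_valList (abs_le_eight hN hn p)]
      refine ⟨?_, hP p⟩
      cases ht : a.testBit (idx p) <;> simp [ht] at hb ⊢ <;> omega
    · have := hL.2.1; omega
  · rintro ⟨m, hm, a, ha, h1, h2, h3⟩
    have hv := fun p => (mem_valList (abs_le_eight hN h2 p)).1 (h1 p)
    refine ⟨mem_leech.2 ⟨m, fun p => ?_, ?_, ?_⟩, h2, fun p => (hv p).2⟩
    · have := (hv p).1; split_ifs at this <;> omega
    · omega
    · convert mem_golayCode.2 ⟨a, ha, rfl⟩ using 1
      funext p
      have h := (hv p).1
      simp only [hword, ofMask]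
      split_ifs at h ⊢ with ht
      · rw [show ((1 : ZMod 2)) = ((1 : ℤ) : ZMod 2) by simp, ZMod.intCast_eq_intCast_iff']
        omega
      · rw [show ((0 : ZMod 2)) = ((0 : ℤ) : ZMod 2) by simp, ZMod.intCast_eq_intCast_iff']
        omega

theorem classSet_finite (P : ℤ → Bool) {N m a : ℕ} (hN : N ≤ 64) : (classSet P N m a).Finite := by
  refine Set.Finite.subset (Set.finite_Icc (fun _ : GolayPt => (-8 : ℤ)) (fun _ => 8)) ?_
  rintro x ⟨-, hn, -⟩
  exact ⟨fun p => (abs_le_eight hN hn p).1, fun p => (abs_le_eight hN hn p).2⟩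

theorem classSet_eq {P : ℤ → Bool} {N m m' a a' : ℕ} {x : GolayPt → ℤ} (hN : N ≤ 64) (hm : m < 2)
    (hm' : m' < 2) (ha : a ∈ codeList) (ha' : a' ∈ codeList) (h : x ∈ classSet P N m a)
    (h' : x ∈ classSet P N m' a') : m = m' ∧ a = a' := by
  have h1 := fun p => (mem_valList (abs_le_eight hN h.2.1 p)).1 (h.1 p)
  have h2 := fun p => (mem_valList (abs_le_eight hN h'.2.1 p)).1 (h'.1 p)
  have hmm : m = m' := by
    have := (h1 none).1; have := (h2 none).1
    split_ifs at * <;> omega
  subst hmm
  refine ⟨rfl, ofMask_inj (lt_of_mem_codeList ha) (lt_of_mem_codeList ha') (funext fun p => ?_)⟩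
  have := (h1 p).1; have := (h2 p).1
  simp only [ofMask]
  split_ifs at * <;> first | rfl | omega

theorem sum_weights_gen (f : ℕ → ℕ) (l : List ℕ) (hnd : l.Nodup)
    (hw : ∀ a ∈ l, popCount a 24 = 0 ∨ popCount a 24 = 8 ∨ popCount a 24 = 12 ∨ popCount a 24 = 16 ∨
      popCount a 24 = 24) : ∑ a ∈ l.toFinset, f (popCount a 24)
    = (l.filter fun a => Nat.beq (popCount a 24) 0).length * f 0
      + (l.filter fun a => Nat.beq (popCount a 24) 8).length * f 8
      + (l.filter fun a => Nat.beq (popCount a 24) 12).length * f 12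
      + (l.filter fun a => Nat.beq (popCount a 24) 16).length * f 16
      + (l.filter fun a => Nat.beq (popCount a 24) 24).length * f 24 := by
  have hc : ∀ k, (l.toFinset.filter fun a => popCount a 24 = k).card
      = (l.filter fun a => Nat.beq (popCount a 24) k).length := fun k => by
    rw [← List.toFinset_card_of_nodup (hnd.filter _)]
    congr 1
    ext a; simp
  have hmaps : ∀ a ∈ l.toFinset, popCount a 24 ∈ ({0, 8, 12, 16, 24} : Finset ℕ) := fun a ha => by
    simpa using hw a (List.mem_toFinset.1 ha)
  rw [← Finset.sum_fiberwise_of_maps_to hmaps]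
  have : ∀ k, ∑ a ∈ l.toFinset.filter (fun a => popCount a 24 = k), f (popCount a 24)
      = (l.filter fun a => Nat.beq (popCount a 24) k).length * f k := fun k => by
    rw [← hc, Finset.sum_congr rfl (fun a ha => by rw [(Finset.mem_filter.1 ha).2]), Finset.sum_const,
      smul_eq_mul]
  simp only [this]
  simp only [Finset.sum_insert, Finset.mem_insert, Finset.mem_singleton, Finset.sum_singleton,
    OfNat.ofNat_ne_zero, Nat.reduceEqDiff, or_self, not_false_eq_true, OfNat.zero_ne_ofNat]
  omega

theorem sum_weights (f : ℕ → ℕ) : ∑ a ∈ codeList.toFinset, f (popCount a 24)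
    = f 0 + 759 * f 8 + 2576 * f 12 + 759 * f 16 + f 24 := by
  rw [sum_weights_gen f codeList codeList_nodup (fun a ha => weight_cases ha)]
  have hcnt : [0, 8, 12, 16, 24].map (fun k => (codeList.filter fun a => Nat.beq (popCount a 24) k).length)
      = [1, 759, 2576, 759, 1] := beqList_spec _ _ (by decide +kernel)
  simp only [List.map_cons, List.map_nil, List.cons.injEq, and_true] at hcnt
  obtain ⟨h0, h8, h12, h16, h24⟩ := hcnt
  rw [h0, h8, h12, h16, h24]
  omega

/-- **Counting lattice vectors of norm `N ≤ 64` with all entries satisfying `P`.** -/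
theorem ncard_census (P : ℤ → Bool) {N : ℕ} (hN : N ≤ 64) :
    {x : GolayPt → ℤ | x ∈ leechLattice ∧ sqNorm x = N ∧ ∀ i, P (x i) = true}.ncard = census P N := by
  classical
  have hU : {x : GolayPt → ℤ | x ∈ leechLattice ∧ sqNorm x = N ∧ ∀ i, P (x i) = true}
      = ↑((Finset.range 2 ×ˢ codeList.toFinset).biUnion
          fun q => (classSet_finite P (m := q.1) (a := q.2) hN).toFinset) := by
    rw [class_decomp P hN]
    ext x
    simp [and_assoc]
  rw [hU, Set.ncard_coe_finset, Finset.card_biUnion]
  · simp only [← Set.ncard_eq_toFinset_card _ (classSet_finite P hN), ncard_classSet P hN]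
    rw [Finset.sum_product, Finset.sum_range_succ, Finset.sum_range_one,
      sum_weights (fun w => censusTerm P N 0 w), sum_weights (fun w => censusTerm P N 1 w)]
    rfl
  · intro q hq q' hq' hne
    refine Finset.disjoint_left.2 fun x hx hx' => hne ?_
    simp only [Finset.mem_coe, Finset.mem_product, Finset.mem_range, List.mem_toFinset] at hq hq'
    simp only [Set.Finite.mem_toFinset] at hx hx'
    exact Prod.ext_iff.2 (classSet_eq hN hq.1 hq'.1 hq.2 hq'.2 hx hx')

theorem ncard_norm {N : ℕ} (hN : N ≤ 64) :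
    {x : GolayPt → ℤ | x ∈ leechLattice ∧ sqNorm x = N}.ncard = census (fun _ => true) N := by
  rw [← ncard_census _ hN]
  congr 1
  ext x; simp

theorem census_all : census (fun _ => true) 32 = 196560 ∧ census (fun _ => true) 48 = 16773120 ∧
    census (fun _ => true) 64 = 398034000 := by decide +kernel

theorem ncard_32 : {x : GolayPt → ℤ | x ∈ leechLattice ∧ sqNorm x = 32}.ncard = 196560 :=
  (ncard_norm (N := 32) (by norm_num)).trans census_all.1

theorem ncard_48 : {x : GolayPt → ℤ | x ∈ leechLattice ∧ sqNorm x = 48}.ncard = 16773120 :=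
  (ncard_norm (N := 48) (by norm_num)).trans census_all.2.1

theorem ncard_64 : {x : GolayPt → ℤ | x ∈ leechLattice ∧ sqNorm x = 64}.ncard = 398034000 :=
  (ncard_norm (N := 64) (by norm_num)).trans census_all.2.2

end Cfsg.Agent.Leech
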