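import Cfsg.Agent.Lib.Leech.PairStab
import Cfsg.Agent.Lib.Leech.Census

/-!
The 891 coded vectors are all minimal vectors with inner products two and zero against the standard pair.
-/

set_option autoImplicit false
set_option maxRecDepth 10000

namespace Cfsg.Agent.Leech.PairStab

open Cfsg Cfsg.Agent.Golay MatCert Finset

/-- Binary search among the coded vectors. -/
def findY (c : ℕ) : ℕ → ℕ → ℕ → ℕ
  | 0, lo, _ => lo
  | k + 1, lo, hi => if Nat.blt c (yc ((lo + hi) / 2)) then findY c k lo ((lo + hi) / 2)
      else findY c k ((lo + hi) / 2) hi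

/-- A list is one of the coded vectors. -/
def inTable (l : List ℤ) : Bool :=
  Nat.blt (findY (encV l) 12 0 891) 891 && eqL (decV (yc (findY (encV l) 12 0 891))) l

/-- The options at a point in the odd case. -/
def optOdd (a : ℕ) (p : GolayPt) : List ℤ :=
  if p = none then [1] else if p = some 0 then [3] else if p = some 1 then [-1] else
    if a.testBit (idx p) then [-1] else [1]

/-- The options at a point in the octad case. -/
def optOct (a : ℕ) (p : GolayPt) : List ℤ :=
  if p = none then [2] else if p = some 0 then [2] else if p = some 1 then [-2] else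
    if a.testBit (idx p) then [2, -2] else [0]

/-- The options at a point when all entries are multiples of four. -/
def optFour (k p : GolayPt) : List ℤ :=
  if p = none then [0] else if p = some 0 then [4] else if p = some 1 then [0] else
    if p = k then [4, -4] else [0]

/-- The exceptional vector. -/
def optTop (p : GolayPt) : List ℤ :=
  if p = none then [4] else if p = some 0 then [0] else if p = some 1 then [-4] else [0]

/-- The three bits of the mask of a code word. -/
def threeBits (a : ℕ) (x y z : Bool) : Bool :=
  Bool.xor (a.testBit 23) x == false && Bool.xor (a.testBit 0) y == false && Bool.xor (a.testBit 1) z == false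

/-- All candidates from an option function lie in the table. -/
def allIn (g : GolayPt → List ℤ) : Bool :=
  (choices (pts.map g)).all fun l => !latB l || inTable l

theorem odd_all : codeList.all (fun a => !threeBits a false true true || allIn (optOdd a)) = true := by
  decide +kernel

theorem oct_all : codeList.all (fun a => !threeBits a true true true || !Nat.beq (popCount a 24) 8 ||
    allIn (optOct a)) = true := by decide +kernel

theorem four_all : pts.all (fun k => allIn (optFour k)) = true := by decide +kernel

theorem top_all : allIn optTop = true := by decide +kernel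

theorem idx_one : idx (some (1 : ZMod 23)) = 1 := by decide

theorem zero_ne_one23 : ¬(0 : ZMod 23) = 1 := by decide

theorem idx_zero : idx (some (0 : ZMod 23)) = 0 := by decide

theorem idx_none : idx (none : GolayPt) = 23 := rfl

theorem toVec_pts (x : GolayPt → ℤ) : toVec (pts.map x) = x := by
  funext p
  rw [toVec, List.getD_eq_getElem _ _ (by simp [pts, idx_lt]), List.getElem_map]
  congr 1
  simp only [pts, List.getElem_map, List.getElem_range]
  rw [show Fin.ofNat 24 (idx p) = ⟨idx p, idx_lt p⟩ from Fin.ext (Nat.mod_eq_of_lt (idx_lt p)), pt_idx]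

theorem latB_of_mem {w : leechLattice} {l : List ℤ} (hl : l.length = 24) (h : toVec l = (w : GolayPt → ℤ)) :
    latB l = true := by
  obtain ⟨m, hm, hL⟩ := exists_parity w.2
  rw [← h] at hL
  have h23 : toVec l none = l.getD 23 0 := rfl
  have hm' : l.getD 23 0 % 2 = m := by
    have := hL.1 none
    rw [h23] at this
    rcases hm with rfl | rfl <;> omega
  simp only [latB, hm', Bool.and_eq_true, Nat.beq_eq, List.all_eq_true, decide_eq_true_eq]
  refine ⟨⟨⟨hl, fun a ha => ?_⟩, ?_⟩, ?_⟩
  · obtain ⟨i, hi, rfl⟩ := List.getElem_of_mem ha
    have := hL.1 (pt ⟨i, hl ▸ hi⟩)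
    rw [toVec, idx_pt, List.getD_eq_getElem _ _ hi] at this
    omega
  · have := hL.2.1
    rw [sum_toVec hl] at this
    omega
  · refine (ofMask_mem_iff (mkMask_lt _ _)).1 ?_
    convert hL.2.2 using 1
    funext p
    simp only [hword, ofMask, testBit_mkMask, idx_lt, decide_true, Bool.true_and, decide_eq_true_eq, toVec]
    have := hL.1 p
    simp only [toVec] at this
    split_ifs with q
    · exact ((ZMod.intCast_eq_intCast_iff_dvd_sub _ 1 2).2 (by omega) |>.trans Int.cast_one).symm
    · exact ((ZMod.intCast_zmod_eq_zero_iff_dvd _ 2).2 (by omega)).symm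

theorem in_table (w : leechLattice) {g : GolayPt → List ℤ} (hg : allIn g = true)
    (hw : ∀ p, (w : GolayPt → ℤ) p ∈ g p) : ∃ i : Fin 891, yv i = w := by
  have hmem : pts.map (w : GolayPt → ℤ) ∈ choices (pts.map g) := by
    refine mem_choices.2 ?_
    rw [List.forall₂_map_right_iff, List.forall₂_same]
    exact fun p _ => hw p
  have h := List.all_eq_true.1 hg _ hmem
  rw [latB_of_mem (by simp [pts]) (toVec_pts _)] at h
  simp only [Bool.not_true, Bool.false_or, inTable, Bool.and_eq_true, Nat.blt_eq, eqL, decide_eq_true_eq] at h
  refine ⟨⟨_, h.1⟩, Subtype.ext ?_⟩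
  show toVec (decV (yc _)) = _
  rw [h.2, toVec_pts]

/-- Every minimal vector with inner products two and zero against the pair is in the table. -/
theorem pair_set_complete {w : leechLattice} (hw : ip w w = 4) (hA : ip stdA w = 2)
    (hB : ip (-stdB) w = 0) : ∃ i : Fin 891, yv i = w := by
  set x := (w : GolayPt → ℤ) with hx
  have hn : ∑ p, x p ^ 2 = 32 := (ip_self_iff (n := 4)).1 hw
  have hA' : x none + x (some 0) = 4 := by
    have := ip_stdA_eq (v := w) (n := 2) (by rw [ip_comm, hA])
    linarith
  have hB' : x none + x (some 1) = 0 := by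
    rw [LatticeMod2.neg_left rootless_ip, neg_eq_zero] at hB
    have := eight_ip stdB w
    rw [hB] at this
    simp only [dotInt, stdB, pairV_apply, ← hx, add_mul, sum_add_distrib, ite_mul, zero_mul, sum_ite_eq', mem_univ,
      if_true] at this
    linarith
  set R := (((univ : Finset GolayPt).erase none).erase (some 0)).erase (some 1) with hR
  have hsplit : ∀ f : GolayPt → ℤ, ∑ p, f p = f none + f (some 0) + f (some 1) + ∑ p ∈ R, f p := fun f => by
    rw [← add_sum_erase _ f (mem_univ none),
      ← add_sum_erase _ f (show some 0 ∈ (univ : Finset GolayPt).erase none by decide),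
      ← add_sum_erase _ f (show some 1 ∈ ((univ : Finset GolayPt).erase none).erase (some 0) by decide)]
    ring
  have hcard : R.card = 21 := by rw [hR]; decide
  have hrest : ∀ p : GolayPt, p ≠ none → p ≠ some 0 → p ≠ some 1 → p ∈ R := fun p h1 h2 h3 => by
    simp [hR, h1, h2, h3]
  have hsum := hsplit fun p => x p ^ 2
  rw [hn] at hsum
  have hpos : 0 ≤ ∑ p ∈ R, x p ^ 2 := sum_nonneg fun p _ => sq_nonneg _
  obtain ⟨m, hm, hL⟩ := exists_parity w.2
  obtain ⟨a, ha, hae⟩ := mem_golayCode.1 hL.2.2
  have hbit : ∀ p, a.testBit (idx p) = decide ((x p - m) / 2 % 2 = 1) := fun p => by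
    have e := congrFun hae p
    simp only [hword, ← hx, ofMask] at e
    cases hb : a.testBit (idx p) <;> simp only [hb, if_true, Bool.false_eq_true, if_false] at e
    · rw [eq_comm, ZMod.intCast_zmod_eq_zero_iff_dvd] at e
      simp only [eq_comm (a := false), decide_eq_false_iff_not]
      omega
    · simp only [eq_comm (a := true), decide_eq_true_eq]
      rcases Int.emod_two_eq_zero_or_one ((x p - m) / 2) with h | h
      · rw [(ZMod.intCast_zmod_eq_zero_iff_dvd _ 2).2 (Int.dvd_of_emod_eq_zero h)] at e
        exact absurd e one_ne_zero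
      · exact h
  have h0 := hL.1 none
  rw [← hx] at h0
  have b1 : -4 ≤ x none ∧ x none ≤ 5 := by constructor <;> nlinarith
  have b0 : x (some 0) = 4 - x none := by omega
  have b2 : x (some 1) = -x none := by omega
  rw [b0, b2] at hsum
  rcases hm with rfl | rfl
  · -- even
    have hev : ∀ p, x p % 2 = 0 := fun p => by have := hL.1 p; rw [← hx] at this; omega
    obtain ⟨t, ht⟩ : ∃ t, x none = 2 * t := ⟨x none / 2, by have := hev none; omega⟩
    have ht' : t = 0 ∨ t = 1 ∨ t = 2 := by
      have : 3 * t * t - 4 * t ≤ 4 := by nlinarith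
      have h1 : -1 ≤ t := by nlinarith
      have h2 : t ≤ 2 := by nlinarith
      interval_cases t <;> simp_all
    have hhalf : ∀ p, x p = 2 * (x p / 2) := fun p => by have := hev p; omega
    rcases ht' with rfl | rfl | rfl
    · -- multiples of four
      rw [ht] at hsum
      have hr : ∑ p ∈ R, (x p / 2) ^ 2 = 4 := by
        have : ∑ p ∈ R, x p ^ 2 = ∑ p ∈ R, 4 * (x p / 2) ^ 2 :=
          sum_congr rfl fun p _ => by conv_lhs => rw [hhalf p, mul_pow]; norm_num
        rw [this, ← mul_sum] at hsum
        linarith
      have hsub : (univ.filter fun p => a.testBit (idx p) = true) ⊆ R.filter fun p => (x p / 2) % 2 ≠ 0 := by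
        intro p hp
        simp only [mem_filter, mem_univ, true_and] at hp
        rw [hbit, decide_eq_true_eq, sub_zero] at hp
        refine mem_filter.2 ⟨hrest p ?_ ?_ ?_, by omega⟩ <;> rintro rfl
        · omega
        · rw [b0, ht] at hp; omega
        · rw [b2, ht] at hp; omega
      have hle : (R.filter fun p => (x p / 2) % 2 ≠ 0).card ≤ 4 := by
        have : ((R.filter fun p => (x p / 2) % 2 ≠ 0).card : ℤ) ≤ 4 := by
          rw [← hr]
          calc ((R.filter fun p => (x p / 2) % 2 ≠ 0).card : ℤ)
              = ∑ _p ∈ R.filter (fun p => (x p / 2) % 2 ≠ 0), (1 : ℤ) := by simp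
            _ ≤ ∑ p ∈ R.filter (fun p => (x p / 2) % 2 ≠ 0), (x p / 2) ^ 2 := sum_le_sum fun p hp => by
                have h1 := (mem_filter.1 hp).2
                have : x p / 2 ≠ 0 := fun q => h1 (by rw [q]; rfl)
                have := Int.one_le_abs this
                nlinarith [sq_abs (x p / 2)]
            _ ≤ _ := sum_le_sum_of_subset_of_nonneg (filter_subset _ _) fun p _ _ => sq_nonneg _
        exact_mod_cast this
      have hzero : ∀ p, a.testBit (idx p) = false := by
        have hsupp : support₂ (ofMask a) = univ.filter fun p => a.testBit (idx p) = true := by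
          ext p; simp [support₂, ofMask]
        intro p
        by_contra hne
        have h8 := card_support_ge (hae ▸ hL.2.2 : ofMask a ∈ golayCode) fun q => by
          have := congrFun q p
          simp only [ofMask, (Bool.not_eq_false _).mp hne, if_true, Pi.zero_apply] at this
          exact one_ne_zero this
        rw [hsupp] at h8
        have := card_le_card hsub
        omega
      have hfour : ∀ p, x p = 4 * (x p / 4) := fun p => by
        have := hzero p
        rw [hbit, decide_eq_false_iff_not] at this
        have := hev p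
        omega
      have hr' : ∑ p ∈ R, (x p / 4) ^ 2 = 1 := by
        have : ∑ p ∈ R, (x p / 2) ^ 2 = ∑ p ∈ R, 4 * (x p / 4) ^ 2 := sum_congr rfl fun p _ => by
          have := hfour p
          rw [show x p / 2 = 2 * (x p / 4) by omega]; ring
        rw [this, ← mul_sum] at hr
        linarith
      obtain ⟨k, hk, hk0⟩ : ∃ k ∈ R, x k / 4 ≠ 0 := by
        by_contra hne
        simp only [not_exists, not_and, not_not] at hne
        rw [sum_eq_zero fun p hp => by rw [hne p hp]; rfl] at hr'
        exact zero_ne_one hr'
      rw [← add_sum_erase _ _ hk] at hr'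
      have hk1 : 1 ≤ (x k / 4) ^ 2 := by
        have := Int.one_le_abs hk0
        nlinarith [sq_abs (x k / 4)]
      have hother : ∀ p ∈ R.erase k, (x p / 4) ^ 2 = 0 := by
        have hnn : ∀ p ∈ R.erase k, 0 ≤ (x p / 4) ^ 2 := fun p _ => sq_nonneg _
        have hle0 : ∑ p ∈ R.erase k, (x p / 4) ^ 2 ≤ 0 := by linarith
        exact (sum_eq_zero_iff_of_nonneg hnn).1 (le_antisymm hle0 (sum_nonneg hnn))
      have hksq : (x k / 4) ^ 2 = 1 := by
        rw [sum_eq_zero hother] at hr'; linarith
      refine in_table w (g := optFour k) (List.all_eq_true.1 four_all k (mem_pts k)) fun p => ?_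
      show x p ∈ optFour k p
      simp only [optFour]
      split_ifs with e1 e2 e3 e4
      · simp [e1, ht]
      · simp [e2, b0, ht]
      · simp [e3, b2, ht]
      · subst e4
        rcases sq_eq_one_iff.1 hksq with h | h <;> rw [hfour p, h] <;> simp
      · have := hother p (mem_erase.2 ⟨e4, hrest p e1 e2 e3⟩)
        rw [sq_eq_zero_iff] at this
        rw [hfour p, this]
        simp
    · -- octads
      rw [ht] at hsum
      have hr : ∑ p ∈ R, (x p / 2) ^ 2 = 5 := by
        have : ∑ p ∈ R, x p ^ 2 = ∑ p ∈ R, 4 * (x p / 2) ^ 2 :=
          sum_congr rfl fun p _ => by conv_lhs => rw [hhalf p, mul_pow]; norm_num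
        rw [this, ← mul_sum] at hsum
        linarith
      have t1 : a.testBit 23 = true := by
        have := hbit none; rw [ht] at this; simpa [idx_zero, idx_none] using this
      have t2 : a.testBit 0 = true := by
        have := hbit (some 0); rw [b0, ht] at this; simpa [idx_zero, idx_none] using this
      have t3 : a.testBit 1 = true := by
        have := hbit (some 1); rw [b2, ht] at this; simpa [idx_one] using this
      set P := R.filter fun p => a.testBit (idx p) = true with hP
      have hsupp : support₂ (ofMask a) = insert none (insert (some 0) (insert (some 1) P)) := by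
        ext p
        simp only [support₂, ofMask, mem_filter, mem_univ, true_and, mem_insert, hP]
        by_cases e1 : p = none
        · simp [e1, idx_none, t1]
        by_cases e2 : p = some 0
        · simp [e2, idx_zero, t2]
        by_cases e3 : p = some 1
        · simp [e3, idx_one, t3]
        simp [e1, e2, e3, hrest p e1 e2 e3]
      have hne : ofMask a ≠ 0 := fun q => by
        have := congrFun q none
        simp [ofMask, idx_none, t1] at this
      have h8 := card_support_ge (hae ▸ hL.2.2 : ofMask a ∈ golayCode) hne
      have hcardP : (support₂ (ofMask a)).card = P.card + 3 := by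
        rw [hsupp, card_insert_of_notMem (by simp [hP, hR, zero_ne_one23]), card_insert_of_notMem (by simp [hP, hR, zero_ne_one23]),
          card_insert_of_notMem (by simp [hP, hR, zero_ne_one23])]
      have hone : ∀ p ∈ P, 1 ≤ (x p / 2) ^ 2 := fun p hp => by
        have h1 := (mem_filter.1 hp).2
        rw [hbit, decide_eq_true_eq, sub_zero] at h1
        have : x p / 2 ≠ 0 := fun q => by rw [q] at h1; norm_num at h1
        have := Int.one_le_abs this
        nlinarith [sq_abs (x p / 2)]
      have hPR : P ⊆ R := filter_subset _ _
      rw [← sum_sdiff hPR] at hr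
      have hP5 : (P.card : ℤ) ≤ ∑ p ∈ P, (x p / 2) ^ 2 := by
        calc (P.card : ℤ) = ∑ _p ∈ P, (1 : ℤ) := by simp
          _ ≤ _ := sum_le_sum hone
      have hPc : P.card = 5 := by
        have : (P.card : ℤ) ≤ 5 := by
          have : 0 ≤ ∑ p ∈ R \ P, (x p / 2) ^ 2 := sum_nonneg fun p _ => sq_nonneg _
          linarith
        omega
      rw [hPc] at hP5
      have hnn : ∀ p ∈ R \ P, 0 ≤ (x p / 2) ^ 2 := fun p _ => sq_nonneg _
      have hout := (sum_eq_zero_iff_of_nonneg hnn).1 (le_antisymm (by push_cast at hP5; linarith) (sum_nonneg hnn))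
      have hin : ∀ p ∈ P, (x p / 2) ^ 2 = 1 := fun p hp => by
        rw [sum_eq_zero hout, ← add_sum_erase _ _ hp] at hr
        have h4 : ((P.erase p).card : ℤ) ≤ ∑ q ∈ P.erase p, (x q / 2) ^ 2 :=
          calc ((P.erase p).card : ℤ) = ∑ _q ∈ P.erase p, (1 : ℤ) := by simp
            _ ≤ _ := sum_le_sum fun q hq => hone q (mem_of_mem_erase hq)
        rw [card_erase_of_mem hp, hPc] at h4
        have := hone p hp
        push_cast at h4
        linarith
      have hpop : popCount a 24 = 8 := by
        rw [← card_maskSet, ← support_ofMask, hcardP, hPc]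
      have := List.all_eq_true.1 oct_all a ha
      simp only [threeBits, t1, t2, t3, hpop, Bool.xor_self, beq_self_eq_true, Bool.and_true, Bool.not_true,
        Bool.false_or, Nat.beq_refl] at this
      refine in_table w (g := optOct a) this fun p => ?_
      show x p ∈ optOct a p
      simp only [optOct]
      split_ifs with e1 e2 e3 e4
      · simp [e1, ht]
      · simp [e2, b0, ht]
      · simp [e3, b2, ht]
      · rcases sq_eq_one_iff.1 (hin p (mem_filter.2 ⟨hrest p e1 e2 e3, e4⟩)) with h | h <;>
          rw [hhalf p, h] <;> simp
      · have := hout p (mem_sdiff.2 ⟨hrest p e1 e2 e3, fun q => e4 (mem_filter.1 q).2⟩)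
        rw [sq_eq_zero_iff] at this
        rw [hhalf p, this]
        simp
    · -- the exceptional vector
      rw [ht] at hsum
      have hz : ∀ p ∈ R, x p ^ 2 = 0 :=
        (sum_eq_zero_iff_of_nonneg fun p _ => sq_nonneg _).1 (by linarith)
      refine in_table w (g := optTop) top_all fun p => ?_
      show x p ∈ optTop p
      simp only [optTop]
      split_ifs with e1 e2 e3
      · simp [e1, ht]
      · simp [e2, b0, ht]
      · simp [e3, b2, ht]
      · simp [sq_eq_zero_iff.1 (hz p (hrest p e1 e2 e3))]
  · -- odd
    have hodd : ∀ p, x p % 2 = 1 := fun p => by have := hL.1 p; rw [← hx] at this; omega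
    have hsq : ∀ p, 1 ≤ x p ^ 2 := fun p => by
      have : x p ≠ 0 := fun q => by have := hodd p; omega
      have := Int.one_le_abs this
      nlinarith [sq_abs (x p)]
    have h21 : (21 : ℤ) ≤ ∑ p ∈ R, x p ^ 2 :=
      calc (21 : ℤ) = ∑ _p ∈ R, (1 : ℤ) := by simp [hcard]
        _ ≤ _ := sum_le_sum fun p _ => hsq p
    have hx1 : x none = 1 := by
      have := hodd none
      have h2 : -1 ≤ x none := by nlinarith
      have h3 : x none ≤ 3 := by nlinarith
      interval_cases hq : x none <;> (first | omega | (norm_num at hsum this ⊢; omega))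
    have hall : ∀ p ∈ R, x p ^ 2 = 1 := fun p hp => by
      rw [← add_sum_erase _ _ hp, hx1] at hsum
      have : (20 : ℤ) ≤ ∑ q ∈ R.erase p, x q ^ 2 :=
        calc (20 : ℤ) = ∑ _q ∈ R.erase p, (1 : ℤ) := by simp [card_erase_of_mem hp, hcard]
          _ ≤ _ := sum_le_sum fun q _ => hsq q
      have := hsq p
      linarith
    have t1 : a.testBit 23 = false := by
      have := hbit none; rw [hx1] at this; simpa [idx_zero, idx_none] using this
    have t2 : a.testBit 0 = true := by
      have := hbit (some 0); rw [b0, hx1] at this; simpa [idx_zero, idx_none] using this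
    have t3 : a.testBit 1 = true := by
      have := hbit (some 1); rw [b2, hx1] at this; simpa [idx_one] using this
    have := List.all_eq_true.1 odd_all a ha
    simp only [threeBits, t1, t2, t3, Bool.xor_self, beq_self_eq_true, Bool.and_true, Bool.not_true,
      Bool.false_or] at this
    refine in_table w (g := optOdd a) this fun p => ?_
    show x p ∈ optOdd a p
    simp only [optOdd]
    split_ifs with e1 e2 e3 e4
    · simp [e1, hx1]
    · simp [e2, b0, hx1]
    · simp [e3, b2, hx1]
    · have := hbit p
      rw [e4, eq_comm, decide_eq_true_eq] at this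
      rcases sq_eq_one_iff.1 (hall p (hrest p e1 e2 e3)) with h | h <;> rw [h] at this ⊢ <;>
        first | (simp; done) | omega
    · have := hbit p
      rw [Bool.not_eq_true] at e4
      rw [e4, eq_comm, decide_eq_false_iff_not] at this
      rcases sq_eq_one_iff.1 (hall p (hrest p e1 e2 e3)) with h | h <;> rw [h] at this ⊢ <;>
        first | (simp; done) | omega

end Cfsg.Agent.Leech.PairStab
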