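import Cfsg.Agent.Lib.Leech.FiveElt
import Cfsg.Agent.Lib.Leech.PairSet

/-!
An upper bound for the centraliser of the element of order five.
-/

set_option autoImplicit false
set_option maxRecDepth 10000

namespace Cfsg.Agent.Leech.Five

open Cfsg Cfsg.Agent.Golay Finset MatCert
open Cfsg.Agent.PermCert (allBelow allBelow_spec)
open PairStab (yc yv y_in fixedL)

/-- A fixed list. -/
def fx (j : ℕ) : List ℤ := fixedV.getD j []

/-- The checks on the fixed lists: lattice vectors, orbits of the base. -/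
def fixedOK : Bool :=
  allBelow (fun j => latB (fx j)) 24 &&
    allBelow (fun j => Nat.beq (j % 4) 3 || (divL aMat (fx j) && eqL (imgL aMat (fx j)) (fx (j + 1)))) 24 &&
    eqL (fx 0) (fixedL.getD 0 []) && eqL (fx 2) (fixedL.getD 1 []) &&
    allBelow (fun k => eqL (fx (4 * (k + 1))) (decV (yc (basePos.getD k 0)))) 5

theorem fixed_all : fixedOK = true := by decide +kernel

theorem fx_in (j : Fin 24) : latB (fx j) = true := by
  have := fixed_all
  simp only [fixedOK, Bool.and_eq_true] at this
  exact allBelow_spec _ _ this.1.1.1.1 j j.2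

/-- A fixed vector. -/
noncomputable def fv (j : Fin 24) : leechLattice := latV (fx j) (fx_in j)

theorem fv_step {i j : Fin 24} (hj : (j : ℕ) = i + 1) (h : (i : ℕ) % 4 ≠ 3) : aG • fv i = fv j := by
  have := fixed_all
  simp only [fixedOK, Bool.and_eq_true] at this
  have h2 := allBelow_spec _ _ this.1.1.1.2 i i.2
  simp only [Bool.or_eq_true, Bool.and_eq_true, Nat.beq_eq, eqL, decide_eq_true_eq] at h2
  obtain ⟨hd, he⟩ := h2.resolve_left h
  exact smul_latV aMat_ok aG_spec _ _ hd (he.trans (by rw [hj]))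

theorem fv_zero : fv 0 = stdA ∧ fv 2 = -stdB := by
  have := fixed_all
  simp only [fixedOK, Bool.and_eq_true, eqL, decide_eq_true_eq] at this
  have h : (∀ p : GolayPt, ((if p = none then (4 : ℤ) else 0) + if p = some 0 then 4 else 0) = toVec (fixedL.getD 0 []) p) ∧
      ∀ p : GolayPt, -((if p = none then (4 : ℤ) else 0) + if p = some 1 then 4 else 0) = toVec (fixedL.getD 1 []) p := by
    decide +kernel
  constructor
  · refine Subtype.ext (funext fun p => ?_)
    show toVec (fx 0) p = _
    rw [this.1.1.2, ← h.1 p, stdA_apply]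
  · refine Subtype.ext (funext fun p => ?_)
    show toVec (fx 2) p = _
    rw [this.1.2, ← h.2 p, AddSubgroup.coe_neg, Pi.neg_apply, stdB, pairV_apply]
    simp

/-- The inner product with the image, on lists. -/
def qL (l : List ℤ) : ℤ := dotL l (imgL aMat l) / 8

/-- A position has the key of a base vector. -/
def hasKey (lev i : ℕ) : Bool :=
  allBelow (fun j => decide (dotL (fx j) (decV (yc i)) / 8 = (baseKeys.getD lev []).getD (j + 1) 0))
      (4 * (lev + 1)) &&
    decide (qL (decV (yc i)) = (baseKeys.getD lev []).getD 0 0)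

/-- The checks on a level. -/
def levelOK (lev : ℕ) : Bool :=
  hasKey lev (basePos.getD lev 0) &&
    Nat.ble ((List.range 891).countP fun i => hasKey lev i) (baseCount.getD lev 0) &&
    Nat.blt (basePos.getD lev 0) 891

/-- The candidates are mapped into the lattice with exact quotients. -/
def candOK (lev : ℕ) : Bool :=
  allBelow (fun i => !(allBelow (fun j => decide (dotL (fx j) (decV (yc i)) / 8 =
      (baseKeys.getD lev []).getD (j + 1) 0)) (4 * (lev + 1))) ||
    (divL aMat (decV (yc i)) && latB (imgL aMat (decV (yc i))))) 891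

theorem levels_ok : allBelow levelOK 5 = true ∧ allBelow candOK 5 = true := by
  constructor <;> decide +kernel

theorem ip_latV {a b : List ℤ} (ha : latB a = true) (hb : latB b = true) :
    ip (latV a ha) (latV b hb) = dotL a b / 8 := by
  rw [dotL_vec (latB_length ha) (latB_length hb)]
  rfl

/-- The pointwise stabiliser of the first base orbits in the centraliser. -/
noncomputable def levelGrp : ℕ → Subgroup Co0
  | 0 => Subgroup.centralizer {aG} ⊓ MulAction.stabilizer Co0 stdA
  | k + 1 => levelGrp k ⊓ MulAction.stabilizer Co0 (fv (Fin.ofNat 24 (4 * (k + 1))))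

theorem levelGrp_comm : ∀ (k : ℕ) {g : Co0}, g ∈ levelGrp k → g * aG = aG * g
  | 0, g, hg => Subgroup.mem_centralizer_singleton_iff.1 hg.1
  | k + 1, g, hg => levelGrp_comm k hg.1

theorem fix_next {g : Co0} (hc : g * aG = aG * g) {i j : Fin 24} (hj : (j : ℕ) = i + 1) (h : (i : ℕ) % 4 ≠ 3)
    (hi : g • fv i = fv i) : g • fv j = fv j := by
  rw [← fv_step hj h, ← mul_smul, hc, mul_smul, hi]

theorem levelGrp_base : ∀ (k : ℕ) {g : Co0}, g ∈ levelGrp k → ∀ m, m ≤ k →
    g • fv (Fin.ofNat 24 (4 * m)) = fv (Fin.ofNat 24 (4 * m))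
  | 0, g, hg, m, hm => by
    obtain rfl : m = 0 := by omega
    show g • fv 0 = fv 0
    rw [fv_zero.1]
    exact hg.2
  | k + 1, g, hg, m, hm => by
    rcases eq_or_lt_of_le hm with rfl | hlt
    · exact hg.2
    · exact levelGrp_base k hg.1 m (by omega)

theorem levelGrp_fix : ∀ (k : ℕ), k < 6 → ∀ {g : Co0}, g ∈ levelGrp k → ∀ j : Fin 24, (j : ℕ) < 4 * (k + 1) →
    g • fv j = fv j := by
  intro k hk g hg j hj
  have hc := levelGrp_comm k hg
  have base := levelGrp_base k hg
  obtain ⟨j, hj24⟩ := j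
  induction j with
  | zero => exact base 0 (Nat.zero_le _)
  | succ j ih =>
    by_cases h : j % 4 = 3
    · have e : (⟨j + 1, hj24⟩ : Fin 24) = Fin.ofNat 24 (4 * ((j + 1) / 4)) := Fin.ext (by
        simp only [Fin.val_ofNat]
        omega)
      rw [e]
      exact base _ (by simp only at hj; omega)
    · exact fix_next hc (i := ⟨j, by omega⟩) rfl h (ih (by omega) (by simp only at hj ⊢; omega))

theorem card_le_mul_stab {G α : Type*} [Group G] [Finite G] [MulAction G α] (H : Subgroup G) (x : α)
    (T : Set α) (hT : T.Finite) (h : ∀ g ∈ H, g • x ∈ T) :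
    Nat.card H ≤ T.ncard * Nat.card (H ⊓ MulAction.stabilizer G x : Subgroup G) := by
  have hst : MulAction.stabilizer H x = (H ⊓ MulAction.stabilizer G x).subgroupOf H := by
    ext g
    exact ⟨fun e => ⟨g.2, e⟩, fun e => e.2⟩
  rw [← (MulAction.stabilizer H x).index_mul_card, MulAction.index_stabilizer, hst,
    Nat.card_congr (Subgroup.subgroupOfEquivOfLe (inf_le_left : H ⊓ MulAction.stabilizer G x ≤ H)).toEquiv]
  refine Nat.mul_le_mul_right _ (Set.ncard_le_ncard ?_ hT)
  rintro _ ⟨g, rfl⟩
  exact h g g.2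

theorem base_mem {k : ℕ} (hk : k < 5) :
    ∃ hb : basePos.getD k 0 < 891, fv (Fin.ofNat 24 (4 * (k + 1))) = yv ⟨_, hb⟩ := by
  have h := allBelow_spec _ _ levels_ok.1 k hk
  have hf := fixed_all
  simp only [fixedOK, levelOK, Bool.and_eq_true, Nat.blt_eq] at h hf
  refine ⟨h.2, Subtype.ext ?_⟩
  have := allBelow_spec _ _ hf.2 k hk
  show toVec (fx ((Fin.ofNat 24 (4 * (k + 1)) : Fin 24) : ℕ)) = toVec (decV (yc _))
  rw [Fin.val_ofNat, Nat.mod_eq_of_lt (by omega), of_decide_eq_true this]

theorem level_step {k : ℕ} (hk : k < 5) :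
    Nat.card (levelGrp k) ≤ baseCount.getD k 0 * Nat.card (levelGrp (k + 1)) := by
  have h := allBelow_spec _ _ levels_ok.1 k hk
  simp only [levelOK, Bool.and_eq_true, Nat.ble_eq] at h
  obtain ⟨⟨hkey, hcount⟩, hb'⟩ := h
  obtain ⟨hb, hfv⟩ := base_mem hk
  classical
  haveI : Finite Co0 := Nat.finite_of_card_ne_zero (by rw [card_Co0]; norm_num)
  let T : Finset leechLattice := ((univ : Finset (Fin 891)).filter fun i : Fin 891 => hasKey k (i : ℕ) = true).image yv
  refine le_trans (card_le_mul_stab (levelGrp k) (fv (Fin.ofNat 24 (4 * (k + 1)))) T T.finite_toSet ?_)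
    (Nat.mul_le_mul_right _ ?_)
  swap
  · rw [Set.ncard_coe_finset]
    refine card_image_le.trans (le_trans ?_ hcount)
    rw [List.countP_eq_length_filter,
      ← List.toFinset_card_of_nodup ((List.nodup_range (n := 891)).filter _),
      ← card_map Fin.valEmbedding]
    refine card_le_card fun i hi => ?_
    simp only [mem_map, mem_filter, mem_univ, true_and, Fin.valEmbedding_apply] at hi
    obtain ⟨i, hi, rfl⟩ := hi
    simp [hi, i.2]
  intro g hg
  have hfix := levelGrp_fix k (by omega) hg
  have hc := levelGrp_comm k hg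
  simp only [hasKey, Bool.and_eq_true, decide_eq_true_eq] at hkey
  have hcand : ∀ i : Fin 891, (∀ j < 4 * (k + 1), dotL (fx j) (decV (yc i)) / 8 =
      (baseKeys.getD k []).getD (j + 1) 0) → qv (yv i) = qL (decV (yc i)) := by
    intro i hi
    have hc' := allBelow_spec _ _ (allBelow_spec _ _ levels_ok.2 k hk) i i.2
    simp only [Bool.or_eq_true, Bool.not_eq_true', Bool.and_eq_true] at hc'
    rcases hc' with h0 | ⟨hd, hl⟩
    · rw [PairStab.allBelow_of fun j hj => decide_eq_true (hi j hj)] at h0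
      exact absurd h0 (by simp)
    · rw [qv, yv, smul_latV aMat_ok aG_spec (y_in i) hl hd rfl, ip_latV, qL]
  have hbk : ∀ j < 4 * (k + 1), dotL (fx j) (decV (yc (basePos.getD k 0))) / 8 =
      (baseKeys.getD k []).getD (j + 1) 0 := fun j hj => of_decide_eq_true (allBelow_spec _ _ hkey.1 j hj)
  have hip : ∀ j : Fin 24, (j : ℕ) < 4 * (k + 1) →
      ip (fv j) (g • yv ⟨_, hb⟩) = (baseKeys.getD k []).getD (j + 1) 0 := fun j hj => by
    conv_lhs => rw [← hfix j hj, co0_ip]
    rw [fv, yv, ip_latV, hbk j hj]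
  have hnorm : ip (g • yv ⟨_, hb⟩) (g • yv ⟨_, hb⟩) = 4 := by
    rw [co0_ip, yv, ip_latV]
    exact (by decide +kernel : ∀ k : Fin 5, dotL (decV (yc (basePos.getD k 0))) (decV (yc (basePos.getD k 0))) / 8 = 4)
      ⟨k, hk⟩
  obtain ⟨i, hi⟩ := PairStab.pair_set_complete hnorm
    (by rw [← fv_zero.1, hip 0 (by simp)]; exact (by decide : ∀ k : Fin 5, (baseKeys.getD k []).getD 1 0 = 2) ⟨k, hk⟩)
    (by rw [← fv_zero.2, hip 2 (by show 2 < _; omega)]
        exact (by decide : ∀ k : Fin 5, (baseKeys.getD k []).getD 3 0 = 0) ⟨k, hk⟩)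
  rw [hfv]
  simp only [T, coe_image, Set.mem_image, coe_filter, mem_univ, true_and, Set.mem_ofPred_eq]
  refine ⟨i, ?_, hi⟩
  have hik : ∀ j < 4 * (k + 1), dotL (fx j) (decV (yc i)) / 8 = (baseKeys.getD k []).getD (j + 1) 0 := fun j hj => by
    have := hip ⟨j, by omega⟩ hj
    rw [← hi, fv, yv, ip_latV] at this
    exact this
  simp only [hasKey, Bool.and_eq_true, decide_eq_true_eq]
  refine ⟨PairStab.allBelow_of fun j hj => decide_eq_true (hik j hj), ?_⟩
  rw [← hcand i hik, ← hkey.2, ← hcand ⟨_, hb⟩ hbk, hi, qv, qv, ← mul_smul, ← hc, mul_smul, co0_ip]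

/-- The inverse of the base. -/
def invOK : Bool :=
  allBelow (fun i => allBelow (fun k => decide (((List.range 24).map fun j =>
    (fx j).getD i 0 * (baseInv.getD j []).getD k 0).sum = if i = k then baseDen else 0)) 24) 24

theorem inv_all : invOK = true := by decide +kernel

theorem list_sum_range (n : ℕ) (f : ℕ → ℤ) : ((List.range n).map f).sum = ∑ i : Fin n, f i := by
  rw [Fin.sum_univ_eq_sum_range (f := f) (n := n)]
  rfl

theorem co0_hom (g : Co0) : ∃ f : leechLattice →+ leechLattice, ∀ x, f x = g • x :=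
  ⟨AddMonoidHom.mk' (fun x => g • x) (co0_add g), fun _ => rfl⟩

theorem levelGrp_top : levelGrp 5 = ⊥ := by
  refine (Subgroup.eq_bot_iff_forall _).2 fun g hg => ?_
  have hfix := levelGrp_fix 5 (by norm_num) hg
  refine Subtype.ext (Equiv.ext fun v => ?_)
  show g • v = v
  set c : Fin 24 → ℤ := fun j => ∑ k : Fin 24, (baseInv.getD j []).getD k 0 * (v : GolayPt → ℤ) (pt k) with hc
  have e : baseDen • v = ∑ j : Fin 24, c j • fv j := by
    refine Subtype.ext (funext fun p => ?_)
    simp only [AddSubgroup.coe_zsmul, AddSubgroup.val_finsetSum, Finset.sum_apply, Pi.smul_apply, smul_eq_mul, hc,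
      sum_mul]
    rw [sum_comm]
    have hrow : ∀ k : Fin 24, ∑ j : Fin 24, (fx j).getD (idx p) 0 * (baseInv.getD j []).getD k 0 =
        if idx p = (k : ℕ) then baseDen else 0 := fun k => by
      have := allBelow_spec _ _ (allBelow_spec _ _ inv_all (idx p) (idx_lt p)) k k.2
      rw [decide_eq_true_eq] at this
      rw [← this]
      exact (list_sum_range 24 fun j => (fx j).getD (idx p) 0 * (baseInv.getD j []).getD k 0).symm
    have : ∀ k : Fin 24, ∑ j : Fin 24, (baseInv.getD j []).getD k 0 * (v : GolayPt → ℤ) (pt k) *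
        ((fv j : leechLattice) : GolayPt → ℤ) p = (if idx p = (k : ℕ) then baseDen else 0) * (v : GolayPt → ℤ) (pt k) :=
      fun k => by
        rw [← hrow k, sum_mul]
        refine sum_congr rfl fun j _ => ?_
        show _ * _ * (fx j).getD (idx p) 0 = _
        ring
    rw [sum_congr rfl fun k _ => this k, sum_eq_single ⟨idx p, idx_lt p⟩]
    · rw [if_pos rfl, pt_idx]
    · intro k _ hk
      rw [if_neg fun q => hk (Fin.ext q.symm), zero_mul]
    · simp
  obtain ⟨f, hf⟩ := co0_hom g
  have h2 : baseDen • (g • v) = baseDen • v := by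
    rw [← hf, ← map_zsmul, e, map_sum]
    refine sum_congr rfl fun j _ => ?_
    rw [map_zsmul, hf, hfix j (by have := j.2; omega)]
  refine Subtype.ext (funext fun p => ?_)
  have := congrFun (congrArg Subtype.val h2) p
  simp only [AddSubgroup.coe_zsmul, Pi.smul_apply, smul_eq_mul] at this
  exact mul_left_cancel₀ (by decide) this

theorem card_centralizer_le : Nat.card (Subgroup.centralizer ({aG} : Set Co0)) ≤ 6048000 := by
  have hfin : Finite Co0 := Nat.finite_of_card_ne_zero (by rw [card_Co0]; norm_num)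
  have hbot : Nat.card (levelGrp 5) = 1 := by rw [levelGrp_top, Subgroup.card_bot]
  have hA : stdA ∈ zeroQ := by
    refine mem_filter.2 ⟨mem_min4.2 ip_stdA, ?_⟩
    have h2 : qv (fv 0) = 0 := by
      rw [qv, fv_step (i := 0) (j := 1) rfl (by decide), fv, fv, ip_latV]
      decide +kernel
    rwa [fv_zero.1] at h2
  have h0 := card_le_mul_stab (Subgroup.centralizer ({aG} : Set Co0)) stdA (zeroQ : Set leechLattice)
    zeroQ.finite_toSet (fun g hg => by
      simp only [mem_coe, zeroQ, mem_filter, mem_min4] at hA ⊢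
      refine ⟨(co0_ip _ _ _).trans hA.1, ?_⟩
      rw [← hA.2, qv, qv, ← mul_smul, ← Subgroup.mem_centralizer_singleton_iff.1 hg, mul_smul, co0_ip])
  rw [Set.ncard_coe_finset, card_zeroQ] at h0
  have s0 : Nat.card (levelGrp 0) ≤ 5 * Nat.card (levelGrp 1) := level_step (by norm_num)
  have s1 : Nat.card (levelGrp 1) ≤ 16 * Nat.card (levelGrp 2) := level_step (by norm_num)
  have s2 : Nat.card (levelGrp 2) ≤ 1 * Nat.card (levelGrp 3) := level_step (by norm_num)
  have s3 : Nat.card (levelGrp 3) ≤ 2 * Nat.card (levelGrp 4) := level_step (by norm_num)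
  have s4 : Nat.card (levelGrp 4) ≤ 1 * Nat.card (levelGrp 5) := level_step (by norm_num)
  change _ ≤ 37800 * Nat.card (levelGrp 0) at h0
  omega

end Cfsg.Agent.Leech.Five
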