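import Cfsg.Agent.Lib.Leech.Pairs

/-!
The second and fourth moments of the minimal vectors of the Leech lattice against quadratic forms.
-/

set_option autoImplicit false

namespace Cfsg.Agent.Leech

open Cfsg Cfsg.Agent.Golay Finset

/-- The value of a minimal vector at a point. -/
local notation w "⟪[" p "]⟫" => ((w : leechLattice) : GolayPt → ℤ) p

theorem sgn_four (c : GolayPt → ZMod 2) (p q r s : GolayPt) (h : c p + c q + c r + c s = 1) :
    sgn c p * sgn c q * sgn c r * sgn c s = -1 := by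
  simp only [sgn]
  generalize c p = a, c q = b, c r = d, c s = e at h ⊢
  revert a b d e
  decide

theorem sum_odd_zero {p q r s : GolayPt} (h : ∃ c ∈ golayCode, c p + c q + c r + c s = 1) :
    ∑ w ∈ min4, w⟪[p]⟫ * w⟪[q]⟫ * w⟪[r]⟫ * w⟪[s]⟫ = 0 := by
  obtain ⟨c, hc, hcs⟩ := h
  have e := sum_min4_smul (mono (1, ⟨c, hc⟩)) (fun w => w⟪[p]⟫ * w⟪[q]⟫ * w⟪[r]⟫ * w⟪[s]⟫)
  have e' : ∀ w : leechLattice, (mono (1, ⟨c, hc⟩) • w)⟪[p]⟫ * (mono (1, ⟨c, hc⟩) • w)⟪[q]⟫ *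
      (mono (1, ⟨c, hc⟩) • w)⟪[r]⟫ * (mono (1, ⟨c, hc⟩) • w)⟪[s]⟫ = -(w⟪[p]⟫ * w⟪[q]⟫ * w⟪[r]⟫ * w⟪[s]⟫) := fun w => by
    simp only [mono_smul, monoFun, Equiv.Perm.one_def, OneMemClass.coe_one, Equiv.refl_symm, Equiv.refl_apply]
    linear_combination (w⟪[p]⟫ * w⟪[q]⟫ * w⟪[r]⟫ * w⟪[s]⟫) * sgn_four c p q r s hcs
  simp only [e', sum_neg_distrib] at e
  linarith

theorem paired_or_odd (p q r s : GolayPt) :
    (p = q ∧ r = s) ∨ (p = r ∧ q = s) ∨ (p = s ∧ q = r) ∨ ∃ c ∈ golayCode, c p + c q + c r + c s = 1 := by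
  have get : ∀ x : GolayPt, ∃ c ∈ golayCode, c x = 1 ∧ ∀ y ∈ ({p, q, r, s} : Finset GolayPt), y ≠ x → c y = 0 := by
    intro x
    obtain ⟨c, hc, hv⟩ := exists_code_eq_on_small (insert x {p, q, r, s})
      ((card_insert_le _ _).trans (le_trans (Nat.succ_le_succ
        (le_trans (card_insert_le _ _) (Nat.succ_le_succ (le_trans (card_insert_le _ _)
          (Nat.succ_le_succ ((card_insert_le _ _).trans (by rw [card_singleton]))))))) (by norm_num)))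
      (fun k => if k = x then 1 else 0)
    exact ⟨c, hc, by rw [hv x (mem_insert_self _ _), if_pos rfl],
      fun y hy hne => by rw [hv y (mem_insert_of_mem hy), if_neg hne]⟩
  by_cases hpq : p = q
  · subst hpq
    by_cases hrs : r = s
    · exact Or.inl ⟨rfl, hrs⟩
    obtain ⟨c, hc, h1, h0⟩ := get r
    refine Or.inr (Or.inr (Or.inr ⟨c, hc, ?_⟩))
    rw [CharTwo.add_self_eq_zero, h1, h0 s (by simp) (Ne.symm hrs)]
    simp
  by_cases hpr : p = r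
  · subst hpr
    by_cases hqs : q = s
    · exact Or.inr (Or.inl ⟨rfl, hqs⟩)
    obtain ⟨c, hc, h1, h0⟩ := get q
    refine Or.inr (Or.inr (Or.inr ⟨c, hc, ?_⟩))
    rw [h1, h0 s (by simp) (Ne.symm hqs), h0 p (by simp) hpq]
    simp
  by_cases hps : p = s
  · subst hps
    by_cases hqr : q = r
    · exact Or.inr (Or.inr (Or.inl ⟨rfl, hqr⟩))
    obtain ⟨c, hc, h1, h0⟩ := get q
    refine Or.inr (Or.inr (Or.inr ⟨c, hc, ?_⟩))
    rw [h1, h0 r (by simp) (Ne.symm hqr), h0 p (by simp) hpq]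
    simp
  obtain ⟨c, hc, h1, h0⟩ := get p
  refine Or.inr (Or.inr (Or.inr ⟨c, hc, ?_⟩))
  rw [h1, h0 q (by simp) (Ne.symm hpq), h0 r (by simp) (Ne.symm hpr), h0 s (by simp) (Ne.symm hps)]
  simp

theorem fourth_const {p q p' q' : GolayPt} (h : p ≠ q) (h' : p' ≠ q') :
    ∑ w ∈ min4, w⟪[p]⟫ ^ 2 * w⟪[q]⟫ ^ 2 = ∑ w ∈ min4, w⟪[p']⟫ ^ 2 * w⟪[q']⟫ ^ 2 := by
  obtain ⟨σ, hσ, hm⟩ := exists_M24_map' (k := 2) (x := ![p', q']) (y := ![p, q]) (by norm_num)
    (by intro i j; fin_cases i <;> fin_cases j <;> simp [h', Ne.symm h'])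
    (by intro i j; fin_cases i <;> fin_cases j <;> simp [h, Ne.symm h])
  have h0 : σ p' = p := hm 0
  have h1 : σ q' = q := hm 1
  rw [← sum_min4_smul (mono (⟨σ, hσ⟩, 0)) (fun w => w⟪[p]⟫ ^ 2 * w⟪[q]⟫ ^ 2)]
  refine sum_congr rfl fun w _ => ?_
  simp [mono_smul, monoFun, ← h0, ← h1, sgn]

theorem fourth_point (p : GolayPt) : ∑ w ∈ min4, w⟪[p]⟫ ^ 4 = ∑ w ∈ min4, w⟪[none]⟫ ^ 4 := by
  obtain ⟨σ, hσ, hσp⟩ := exists_M24_point none p
  rw [← sum_min4_smul (mono (⟨σ, hσ⟩, 0)) (fun w => w⟪[p]⟫ ^ 4)]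
  refine sum_congr rfl fun w _ => ?_
  rw [mono_smul, monoFun, ← hσp]
  simp [Equiv.symm_apply_apply, sgn]

theorem sum_ip_four : ∑ w ∈ min4, ip stdA w ^ 4 = 241920 := by
  classical
  have hc : ∀ n, (min4.filter fun w => ip stdA w = n).card = (withIp stdA n).ncard := fun n => by
    rw [← Set.ncard_coe_finset]
    congr 1
    ext w
    simp [withIp, mem_min4]
  have hmaps : ∀ w ∈ min4, ip stdA w ∈ ({-4, -2, -1, 0, 1, 2, 4} : Finset ℤ) :=
    fun w hw => ip_values ip_stdA (mem_min4.1 hw)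
  have h4 : (withIp stdA 4).ncard = 1 := by
    rw [show withIp stdA 4 = {stdA} from Set.ext fun w => ⟨fun h => ?_, fun h => ?_⟩, Set.ncard_singleton]
    · have e := LatticeMod2.norm_sub rootless_ip stdA w
      rw [ip_stdA, h.1, h.2] at e
      refine (sub_eq_zero.1 ?_).symm
      by_contra hne
      have := rootless_ip.pos _ hne
      omega
    · rw [Set.mem_singleton_iff.1 h]; exact ⟨ip_stdA, ip_stdA⟩
  obtain ⟨c2, c1, -⟩ := census4 ip_stdA
  rw [← sum_fiberwise_of_maps_to hmaps]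
  have e2 : ∀ n, ∑ w ∈ min4.filter (fun w => ip stdA w = n), ip stdA w ^ 4
      = ((withIp stdA n).ncard : ℤ) * n ^ 4 := fun n => by
    rw [sum_congr rfl (fun w hw => show ip stdA w ^ 4 = n ^ 4 by rw [(mem_filter.1 hw).2]), sum_const,
      hc, nsmul_eq_mul]
  simp only [e2]
  rw [sum_insert (by simp), sum_insert (by simp), sum_insert (by simp), sum_insert (by simp),
    sum_insert (by simp), sum_insert (by simp), sum_singleton]
  rw [ncard_withIp_neg _ 4, ← ncard_withIp_neg _ 2, ← ncard_withIp_neg _ 1, h4, c2, c1]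
  norm_num

theorem fourth_values (p q : GolayPt) :
    ∑ w ∈ min4, w⟪[p]⟫ ^ 2 * w⟪[q]⟫ ^ 2 = if p = q then 967680 else 322560 := by
  set a := ∑ w ∈ min4, w⟪[none]⟫ ^ 4 with ha
  set b := ∑ w ∈ min4, w⟪[none]⟫ ^ 2 * w⟪[some 0]⟫ ^ 2 with hb
  have hT : ∀ p q : GolayPt, ∑ w ∈ min4, w⟪[p]⟫ ^ 2 * w⟪[q]⟫ ^ 2 = if p = q then a else b := by
    intro p q
    split_ifs with h
    · subst h
      rw [ha, ← fourth_point p]
      exact sum_congr rfl fun w _ => by ring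
    · exact fourth_const h (by simp)
  have e1 : ∑ p : GolayPt, ∑ q : GolayPt, (if p = q then a else b) = 1024 * 196560 := by
    simp only [← hT]
    rw [sum_congr rfl (fun p _ => sum_comm), sum_comm]
    simp only [← mul_sum, ← sum_mul]
    have hs : ∀ w ∈ min4, ∑ x, w⟪[x]⟫ ^ 2 = (32 : ℤ) := fun w hw => (ip_self_iff (n := 4)).1 (mem_min4.1 hw)
    rw [sum_congr rfl (fun w hw => show _ = (1024 : ℤ) by rw [hs w hw]; norm_num), sum_const, card_min4]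
    norm_num
  have e2 : a + a + 6 * b = 16 * 241920 := by
    rw [← sum_ip_four]
    have hterm : ∀ w : leechLattice, 16 * ip stdA w ^ 4 = w⟪[none]⟫ ^ 4 + w⟪[some 0]⟫ ^ 4 +
        6 * (w⟪[none]⟫ ^ 2 * w⟪[some 0]⟫ ^ 2) + 4 * (w⟪[none]⟫ * w⟪[none]⟫ * w⟪[none]⟫ * w⟪[some 0]⟫) +
        4 * (w⟪[some 0]⟫ * w⟪[some 0]⟫ * w⟪[some 0]⟫ * w⟪[none]⟫) := fun w => by
      have := ip_stdA_eq (v := w) (n := ip stdA w) (ip_comm _ _)
      rw [show (16 : ℤ) * ip stdA w ^ 4 = (2 * ip stdA w) ^ 4 by ring, ← this]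
      ring
    rw [mul_sum (a := (16 : ℤ)), sum_congr rfl fun w _ => hterm w]
    simp only [sum_add_distrib, ← mul_sum]
    have hs : ∀ x y : GolayPt, x ≠ y → ∑ w ∈ min4, w⟪[x]⟫ * w⟪[x]⟫ * w⟪[x]⟫ * w⟪[y]⟫ = 0 := fun x y hxy => by
      rcases paired_or_odd x x x y with h | h | h | h
      exacts [absurd h.2 hxy, absurd h.2 hxy, absurd h.1 hxy, sum_odd_zero h]
    rw [hs _ _ (by simp), hs _ _ (by simp), fourth_point (some 0), ← hb]
    ring
  have e3 : ∑ p : GolayPt, ∑ q : GolayPt, (if p = q then a else b) = 24 * a + 552 * b := by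
    have : ∀ p : GolayPt, ∑ q : GolayPt, (if p = q then a else b) = a + 23 * b := fun p => by
      rw [← add_sum_erase _ _ (mem_univ p), if_pos rfl, sum_congr rfl fun q hq => if_neg (ne_of_mem_erase hq).symm,
        sum_const, card_erase_of_mem (mem_univ p), show (univ : Finset GolayPt).card = 24 from rfl, nsmul_eq_mul]
      norm_num
    simp only [this, sum_const, show (univ : Finset GolayPt).card = 24 from rfl, nsmul_eq_mul]
    push_cast
    ring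
  rw [hT]
  split_ifs <;> linarith

theorem fourth_moment (p q r s : GolayPt) : ∑ w ∈ min4, w⟪[p]⟫ * w⟪[q]⟫ * w⟪[r]⟫ * w⟪[s]⟫ =
    322560 * ((if p = q ∧ r = s then 1 else 0) + (if p = r ∧ q = s then 1 else 0) +
      (if p = s ∧ q = r then 1 else 0)) := by
  rcases paired_or_odd p q r s with ⟨rfl, rfl⟩ | ⟨rfl, rfl⟩ | ⟨rfl, rfl⟩ | h
  · rw [sum_congr rfl fun w _ => show w⟪[p]⟫ * w⟪[p]⟫ * w⟪[r]⟫ * w⟪[r]⟫ = w⟪[p]⟫ ^ 2 * w⟪[r]⟫ ^ 2 by ring, fourth_values]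
    by_cases h : p = r <;> simp [h]
  · rw [sum_congr rfl fun w _ => show w⟪[p]⟫ * w⟪[q]⟫ * w⟪[p]⟫ * w⟪[q]⟫ = w⟪[p]⟫ ^ 2 * w⟪[q]⟫ ^ 2 by ring, fourth_values]
    by_cases h : p = q <;> simp [h]
  · rw [sum_congr rfl fun w _ => show w⟪[p]⟫ * w⟪[q]⟫ * w⟪[q]⟫ * w⟪[p]⟫ = w⟪[p]⟫ ^ 2 * w⟪[q]⟫ ^ 2 by ring, fourth_values]
    by_cases h : p = q <;> simp [h]
  · rw [sum_odd_zero h]
    obtain ⟨c, -, hc⟩ := h
    have h1 : ¬(p = q ∧ r = s) := by
      rintro ⟨rfl, rfl⟩; simp [CharTwo.add_self_eq_zero, add_assoc] at hc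
    have h2 : ¬(p = r ∧ q = s) := by
      rintro ⟨rfl, rfl⟩
      rw [show c p + c q + c p + c q = (c p + c p) + (c q + c q) by ring] at hc
      simp [CharTwo.add_self_eq_zero] at hc
    have h3 : ¬(p = s ∧ q = r) := by
      rintro ⟨rfl, rfl⟩
      rw [show c p + c q + c q + c p = (c p + c p) + (c q + c q) by ring] at hc
      simp [CharTwo.add_self_eq_zero] at hc
    simp [h1, h2, h3]

theorem second_entries (p q : GolayPt) :
    ∑ w ∈ min4, w⟪[p]⟫ * w⟪[q]⟫ = if p = q then 262080 else 0 := by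
  have hsq : ∀ i, ∑ w ∈ min4, w⟪[i]⟫ ^ 2 = ∑ w ∈ min4, w⟪[none]⟫ ^ 2 := by
    intro i
    obtain ⟨σ, hσ, hσp⟩ := exists_M24_point none i
    rw [← sum_min4_smul (mono (⟨σ, hσ⟩, 0)) (fun w => w⟪[i]⟫ ^ 2)]
    refine sum_congr rfl fun w _ => ?_
    rw [mono_smul, monoFun, ← hσp, Equiv.symm_apply_apply, mul_pow, sq (sgn _ _), sgn_mul_self, one_mul]
  split_ifs with h
  · subst h
    have e : ∑ i, ∑ w ∈ min4, w⟪[i]⟫ ^ 2 = 32 * 196560 := by
      rw [sum_comm, sum_congr rfl (fun w hw => show ∑ x, w⟪[x]⟫ ^ 2 = (32 : ℤ) from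
        (ip_self_iff (n := 4)).1 (mem_min4.1 hw)), sum_const, card_min4]
      norm_num
    rw [sum_congr rfl (fun i _ => hsq i), sum_const, show (univ : Finset GolayPt).card = 24 from rfl,
      nsmul_eq_mul] at e
    rw [sum_congr rfl fun w _ => show w⟪[p]⟫ * w⟪[p]⟫ = w⟪[p]⟫ ^ 2 by ring, hsq]
    push_cast at e
    linarith
  · obtain ⟨c, hc, h0, h1⟩ := exists_code_separating h
    have e := sum_min4_smul (mono (1, ⟨c, hc⟩)) (fun w => w⟪[p]⟫ * w⟪[q]⟫)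
    have e' : ∀ w : leechLattice, (mono (1, ⟨c, hc⟩) • w)⟪[p]⟫ * (mono (1, ⟨c, hc⟩) • w)⟪[q]⟫
        = -(w⟪[p]⟫ * w⟪[q]⟫) := fun w => by
      simp [mono_smul, monoFun, sgn, h0, h1, Equiv.Perm.one_def]
    simp only [e', sum_neg_distrib] at e
    linarith

/-- A quadratic form of a matrix at a vector. -/
def quad (S : GolayPt → GolayPt → ℤ) (x : GolayPt → ℤ) : ℤ := ∑ p, ∑ q, S p q * x p * x q

theorem quad_moment_one (S : GolayPt → GolayPt → ℤ) :
    ∑ w ∈ min4, quad S (w : GolayPt → ℤ) = 262080 * ∑ p, S p p := by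
  simp only [quad]
  rw [sum_comm]
  simp only [sum_comm (s := min4), mul_assoc, ← mul_sum, second_entries, mul_ite, mul_zero, sum_ite_eq, mem_univ,
    if_true, mul_comm (262080 : ℤ), sum_mul]

theorem quad_moment_two (S : GolayPt → GolayPt → ℤ) :
    ∑ w ∈ min4, quad S (w : GolayPt → ℤ) ^ 2 =
      322560 * ((∑ p, S p p) ^ 2 + ∑ p, ∑ q, S p q ^ 2 + ∑ p, ∑ q, S p q * S q p) := by
  have e : ∀ w : leechLattice, quad S (w : GolayPt → ℤ) ^ 2 =
      ∑ p, ∑ q, ∑ r, ∑ s, S p q * S r s * (w⟪[p]⟫ * w⟪[q]⟫ * w⟪[r]⟫ * w⟪[s]⟫) := fun w => by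
    simp only [quad, sq, sum_mul]
    refine sum_congr rfl fun p _ => sum_congr rfl fun q _ => ?_
    simp only [mul_sum]
    exact sum_congr rfl fun r _ => sum_congr rfl fun s _ => by ring
  simp only [e]
  rw [sum_comm]
  simp only [sum_comm (s := min4), ← mul_sum, fourth_moment, mul_add, sum_add_distrib]
  simp only [ite_and, mul_ite, mul_one, mul_zero, sum_ite_irrel, sum_ite_eq, mem_univ, if_true, sum_const_zero]
  rw [sq, sum_mul, mul_sum, mul_sum, mul_sum]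
  simp only [mul_sum]
  congr 1
  congr 1
  all_goals exact sum_congr rfl fun p _ => sum_congr rfl fun q _ => by ring

end Cfsg.Agent.Leech
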