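import Cfsg.Agent.Lib.Leech.Crosses

/-!
The six orbits of the monomial group on crosses; maximality of the cross stabiliser.
-/

namespace Cfsg.Agent.Leech

open Cfsg Cfsg.Agent.Golay Finset
open Cfsg.Agent.LatticeMod2 (Rootless Cong)
open scoped Pointwise

set_option maxRecDepth 10000

/-- The explicit cross of a type. -/
def XType.list : XType → List (List ℤ)
  | .B => crossListB
  | .C6 => crossListC6
  | .C42 => crossListC42
  | .D => crossListD
  | .G => crossListG

/-- The number of vectors of the type in its crosses. -/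
def XType.mult : XType → ℕ
  | .B => 48
  | .C6 => 16
  | .C42 => 32
  | .D => 48
  | .G => 6

/-- The number of crosses of the type. -/
def XType.size : XType → ℕ
  | .B => 3542
  | .C6 => 48576
  | .C42 => 1457280
  | .D => 2637824
  | .G => 4145152

/-- All types. -/
def allTypes : List XType := [.B, .C6, .C42, .D, .G]

theorem mem_allTypes (t : XType) : t ∈ allTypes := by cases t <;> simp [allTypes]

/-- The check of one explicit cross. -/
def typeCheck (t : XType) : Bool :=
  crossListOK t.list && (allTypes.all fun s =>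
    (t.list.countP fun l => decide (s.prop (vecL l))) == if s = t then t.mult else 0) &&
    decide (t.prop (vecL t.list.headI))

theorem checkB : typeCheck .B = true := by decide +kernel
theorem checkC6 : typeCheck .C6 = true := by decide +kernel
theorem checkC42 : typeCheck .C42 = true := by decide +kernel
theorem checkD : typeCheck .D = true := by decide +kernel
theorem checkG : typeCheck .G = true := by decide +kernel

theorem typeCheck_ok (t : XType) : typeCheck t = true := by
  cases t
  exacts [checkB, checkC6, checkC42, checkD, checkG]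

/-- The representative of a type. -/
def XType.rep (t : XType) : leechLattice := toLeech t.list.headI

/-- The vectors of norm 8 of a type. -/
def typeSet (t : XType) : Set leechLattice := {v | ip v v = 8 ∧ t.prop (v : GolayPt → ℤ)}

theorem rep_spec (t : XType) : ip t.rep t.rep = 8 ∧ t.prop (t.rep : GolayPt → ℤ) ∧
    ∀ s : XType, (xCross t.rep ∩ typeSet s).ncard = if s = t then t.mult else 0 := by
  have h := typeCheck_ok t
  simp only [typeCheck, Bool.and_eq_true, decide_eq_true_eq, List.all_eq_true, beq_iff_eq] at h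
  obtain ⟨⟨hok, hcnt⟩, hp⟩ := h
  unfold XType.rep
  generalize t.list = L at hok hcnt hp ⊢
  obtain _ | ⟨l₀, ls⟩ := L
  · simp [crossListOK] at hok
  obtain ⟨h8, hX, hnd, hin⟩ := crossList_spec hok
  refine ⟨h8, by rw [List.headI_cons, coe_toLeech (hin l₀ List.mem_cons_self)]; exact hp, fun s => ?_⟩
  rw [← hcnt s (mem_allTypes s), List.countP_eq_length_filter, List.headI_cons]
  have hset : xCross (toLeech l₀) ∩ typeSet s
      = (((((l₀ :: ls).filter fun l => decide (s.prop (vecL l))).map toLeech).toFinset : Finset leechLattice) :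
        Set leechLattice) := by
    ext v
    simp only [Set.mem_inter_iff, List.coe_toFinset, Set.mem_ofPred_eq, List.mem_map, List.mem_filter,
      decide_eq_true_eq]
    constructor
    · rintro ⟨hv, -, hvs⟩
      rw [hX] at hv
      obtain ⟨l, hl, rfl⟩ := List.mem_map.1 hv
      exact ⟨l, ⟨hl, by rwa [coe_toLeech (hin l hl)] at hvs⟩, rfl⟩
    · rintro ⟨l, ⟨hl, hls⟩, rfl⟩
      have hm : toLeech l ∈ xCross (toLeech l₀) := by rw [hX]; exact List.mem_map_of_mem hl
      exact ⟨hm, hm.1, by rwa [coe_toLeech (hin l hl)]⟩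
  rw [hset, Set.ncard_coe_finset, List.toFinset_card_of_nodup, List.length_map]
  exact (List.Sublist.map _ (List.filter_sublist)).nodup hnd

/-! ### The number of vectors of each type -/

theorem ncard_typeSet_eq (t : XType) :
    (typeSet t).ncard = {x : GolayPt → ℤ | x ∈ leechLattice ∧ sqNorm x = 64 ∧ t.prop x}.ncard := by
  rw [← Set.ncard_image_of_injective _ Subtype.coe_injective]
  congr 1
  ext x
  constructor
  · rintro ⟨v, ⟨h8, hp⟩, rfl⟩; exact ⟨v.2, (ip_self_iff (n := 8)).1 h8, hp⟩
  · rintro ⟨hx, hn, hp⟩; exact ⟨⟨x, hx⟩, ⟨(ip_self_iff (n := 8)).2 hn, hp⟩, rfl⟩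

/-- The census set of a value predicate. -/
def censusSet (P : ℤ → Bool) : Set (GolayPt → ℤ) :=
  {x | x ∈ leechLattice ∧ sqNorm x = 64 ∧ ∀ i, P (x i) = true}

theorem ncard_censusSet (P : ℤ → Bool) : (censusSet P).ncard = census P 64 :=
  ncard_census P (N := 64) le_rfl

theorem censusSet_finite (P : ℤ → Bool) : (censusSet P).Finite := by
  refine Set.Finite.subset (Set.finite_Icc (fun _ : GolayPt => (-8 : ℤ)) (fun _ => 8)) ?_
  rintro x ⟨-, hn, -⟩
  exact ⟨fun p => (abs_le_eight (N := 64) le_rfl hn p).1, fun p => (abs_le_eight (N := 64) le_rfl hn p).2⟩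

/-- Value predicates for the census. -/
def P04 (v : ℤ) : Bool := v == 0 || v == 4 || v == -4
/-- Value predicates for the census. -/
def P026 (v : ℤ) : Bool := v == 0 || v == 2 || v == -2 || v == 6 || v == -6
/-- Value predicates for the census. -/
def P02 (v : ℤ) : Bool := v == 0 || v == 2 || v == -2
/-- Value predicates for the census. -/
def P024 (v : ℤ) : Bool := v == 0 || v == 2 || v == -2 || v == 4 || v == -4
/-- Value predicates for the census. -/
def Podd (v : ℤ) : Bool := v % 2 == 1
/-- Value predicates for the census. -/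
def P13 (v : ℤ) : Bool := v == 1 || v == -1 || v == 3 || v == -3

theorem census_values : census P04 64 = 170016 ∧ census P026 64 = census P02 64 + 777216 ∧
    census Podd 64 = census P13 64 + 24870912 ∧
    759 * censusTerm P024 64 0 8 = 46632960 ∧ 2576 * censusTerm P024 64 0 12 = 126615552 := by
  decide +kernel

theorem ncard_typeB : (typeSet .B).ncard = 170016 := by
  rw [ncard_typeSet_eq, ← census_values.1, ← ncard_censusSet]
  congr 1
  ext x
  simp [censusSet, P04, XType.prop, or_assoc]

theorem ncard_typeC6 : (typeSet .C6).ncard = 777216 := by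
  have hsub : censusSet P02 ⊆ censusSet P026 := by
    rintro x ⟨h1, h2, h3⟩
    refine ⟨h1, h2, fun i => ?_⟩
    have := h3 i
    simp [P02, P026] at this ⊢
    tauto
  have hA := Set.ncard_diff hsub (censusSet_finite P02)
  rw [ncard_censusSet, ncard_censusSet, census_values.2.1, Nat.add_sub_cancel_left] at hA
  rw [ncard_typeSet_eq, ← hA]
  congr 1
  ext x
  simp only [censusSet, Set.mem_sdiff, Set.mem_ofPred_eq, XType.prop]
  constructor
  · rintro ⟨hx, hn, p, hp⟩
    obtain ⟨o, -, q, -, hv⟩ := shapeC6 (x := ⟨x, hx⟩) ((ip_self_iff (n := 8)).2 hn) ⟨p, hp⟩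
    refine ⟨⟨hx, hn, fun i => ?_⟩, fun h => ?_⟩
    · have := hv i
      simp only at this
      simp only [P026, Bool.or_eq_true, beq_iff_eq]
      split_ifs at this
      · rcases sq_eq_sq_iff_eq_or_eq_neg.1 (this.trans (by norm_num : (36 : ℤ) = 6 ^ 2)) with r | r <;> simp [r]
      · rcases sq_eq_sq_iff_eq_or_eq_neg.1 (this.trans (by norm_num : (4 : ℤ) = 2 ^ 2)) with r | r <;> simp [r]
      · simp [sq_eq_pos this]
    · have := h.2.2 p
      simp only [P02, Bool.or_eq_true, beq_iff_eq] at this
      rcases this with (r | r) | r <;> simp [r] at hp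
  · rintro ⟨⟨hx, hn, h1⟩, h2⟩
    have : ∃ i, P02 (x i) ≠ true := by
      by_contra hall
      push Not at hall
      exact h2 ⟨hx, hn, hall⟩
    obtain ⟨i, hi⟩ := this
    have := h1 i
    simp only [P026, P02, Bool.or_eq_true, beq_iff_eq, ne_eq, not_or] at this hi
    refine ⟨hx, hn, i, ?_⟩
    rcases this with (((r | r) | r) | r) | r <;> simp [r] at hi ⊢

theorem ncard_typeG : (typeSet .G).ncard = 24870912 := by
  have hsub : censusSet P13 ⊆ censusSet Podd := by
    rintro x ⟨h1, h2, h3⟩
    refine ⟨h1, h2, fun i => ?_⟩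
    have := h3 i
    simp only [P13, Podd, Bool.or_eq_true, beq_iff_eq] at this ⊢
    omega
  have hA := Set.ncard_diff hsub (censusSet_finite P13)
  rw [ncard_censusSet, ncard_censusSet, census_values.2.2.1, Nat.add_sub_cancel_left] at hA
  rw [ncard_typeSet_eq, ← hA]
  congr 1
  ext x
  simp only [censusSet, Set.mem_sdiff, Set.mem_ofPred_eq, XType.prop]
  constructor
  · rintro ⟨hx, hn, p, hp⟩
    obtain ⟨hL, -⟩ := shapeG (x := ⟨x, hx⟩) ((ip_self_iff (n := 8)).2 hn) ⟨p, hp⟩
    refine ⟨⟨hx, hn, fun i => ?_⟩, fun h => ?_⟩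
    · have := hL.1 i
      simp only at this
      simp only [Podd, beq_iff_eq]
      omega
    · have := h.2.2 p
      simp only [P13, Bool.or_eq_true, beq_iff_eq] at this
      rcases this with ((r | r) | r) | r <;> simp [r] at hp
  · rintro ⟨⟨hx, hn, h1⟩, h2⟩
    have : ∃ i, P13 (x i) ≠ true := by
      by_contra hall
      push Not at hall
      exact h2 ⟨hx, hn, hall⟩
    obtain ⟨i, hi⟩ := this
    have ho : ∀ j, x j % 2 = 1 := fun j => by
      have := h1 j; simpa [Podd] using this
    simp only [P13, Bool.or_eq_true, beq_iff_eq, ne_eq, not_or] at hi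
    have hn' : sqNorm x = 64 := hn
    rw [sqNorm, ← add_sum_erase _ _ (mem_univ i)] at hn'
    have hle := card_nsmul_le_sum (univ.erase i) (fun j => x j ^ 2) 1 (fun j _ => by
      have := ho j
      rcases (show x j ≤ -1 ∨ 1 ≤ x j by omega) with q | q <;> nlinarith)
    rw [card_erase_of_mem (mem_univ i), show (univ : Finset GolayPt).card = 24 from rfl,
      nsmul_eq_mul] at hle
    push_cast at hle
    obtain ⟨h7, h7'⟩ := abs_le_of_sq' (z := x i) (N := 7) (by linarith) (by norm_num)
    have := ho i
    refine ⟨hx, hn, i, ?_⟩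
    rcases (show x i = 5 ∨ x i = -5 by omega) with r | r <;> simp [r]
where
  abs_le_of_sq' {z N : ℤ} (h : z ^ 2 < N ^ 2) (hN : 0 ≤ N) : -N < z ∧ z < N := by
    constructor <;> nlinarith

theorem ncard_weightType (w : ℕ) (L : List ℕ) (hL : ∀ a, a ∈ L ↔ a ∈ codeList ∧ popCount a 24 = w)
    (hnd : L.Nodup) :
    {x : GolayPt → ℤ | x ∈ leechLattice ∧ sqNorm x = 64 ∧
      ((∀ i, x i ^ 2 = 0 ∨ x i ^ 2 = 4 ∨ x i ^ 2 = 16) ∧ #{i | x i ^ 2 = 4} = w)}.ncard
      = L.length * censusTerm P024 64 0 w := by
  classical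
  have hN : (64 : ℕ) ≤ 64 := le_rfl
  have hP : ∀ v : ℤ, P024 v = true ↔ v ^ 2 = 0 ∨ v ^ 2 = 4 ∨ v ^ 2 = 16 := fun v => by
    rw [pow_eq_zero_iff two_ne_zero, show (4 : ℤ) = 2 ^ 2 by norm_num, show (16 : ℤ) = 4 ^ 2 by norm_num,
      sq_eq_sq_iff_eq_or_eq_neg, sq_eq_sq_iff_eq_or_eq_neg]
    simp [P024, or_assoc]
  have hset : {x : GolayPt → ℤ | x ∈ leechLattice ∧ sqNorm x = 64 ∧
      ((∀ i, x i ^ 2 = 0 ∨ x i ^ 2 = 4 ∨ x i ^ 2 = 16) ∧ #{i | x i ^ 2 = 4} = w)}
      = ↑(L.toFinset.biUnion fun a => (classSet_finite P024 (m := 0) (a := a) hN).toFinset) := by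
    ext x
    simp only [Set.mem_ofPred_eq, coe_biUnion, List.coe_toFinset, Set.mem_iUnion, exists_prop,
      Set.Finite.coe_toFinset]
    have hword : ∀ (a : ℕ), x ∈ classSet P024 64 0 a →
        (univ.filter fun i => x i ^ 2 = 4) = maskSet a := by
      intro a ha
      ext i
      obtain ⟨hd, hp⟩ := (mem_valList (abs_le_eight hN ha.2.1 i)).1 (ha.1 i)
      rw [mem_filter, mem_maskSet]
      simp only [mem_univ, true_and]
      rcases (hP _).1 hp with q | q | q
      · rw [sq_eq_pos q] at hd ⊢
        split_ifs at hd with ht <;> simp_all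
      · rcases sq_eq_sq_iff_eq_or_eq_neg.1 (q.trans (by norm_num : (4 : ℤ) = 2 ^ 2)) with r | r <;>
          rw [r] at hd <;> split_ifs at hd with ht <;> simp_all
      · rcases sq_eq_sq_iff_eq_or_eq_neg.1 (q.trans (by norm_num : (16 : ℤ) = 4 ^ 2)) with r | r <;>
          rw [r] at hd <;> split_ifs at hd with ht <;> simp_all
    constructor
    · rintro ⟨hx, hn, hv, hc⟩
      obtain ⟨m, hm, a, ha, hxa⟩ := (class_decomp P024 hN).subset ⟨hx, hn, fun i => (hP _).2 (hv i)⟩
      have hm0 : m = 0 := by
        obtain ⟨hd, hp⟩ := (mem_valList (abs_le_eight hN hxa.2.1 none)).1 (hxa.1 none)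
        simp only [P024, Bool.or_eq_true, beq_iff_eq] at hp
        split_ifs at hd <;> omega
      subst hm0
      refine ⟨a, (hL a).2 ⟨ha, ?_⟩, hxa⟩
      rw [← card_maskSet, ← hword a hxa]; exact hc
    · rintro ⟨a, ha, hxa⟩
      obtain ⟨hx, hn, hp⟩ := (class_decomp P024 hN).symm.subset ⟨0, by norm_num, a, ((hL a).1 ha).1, hxa⟩
      refine ⟨hx, hn, fun i => (hP _).1 (hp i), ?_⟩
      rw [hword a hxa, card_maskSet, ((hL a).1 ha).2]
  rw [hset, Set.ncard_coe_finset, card_biUnion]
  · simp only [← Set.ncard_eq_toFinset_card _ (classSet_finite P024 hN), ncard_classSet P024 hN]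
    rw [sum_congr rfl (fun a ha => by rw [((hL a).1 (List.mem_toFinset.1 ha)).2]), sum_const,
      smul_eq_mul, List.toFinset_card_of_nodup hnd]
  · intro a ha b hb hne
    refine disjoint_left.2 fun x hx hx' => hne ?_
    simp only [Set.Finite.mem_toFinset] at hx hx'
    exact (classSet_eq hN (by norm_num) (by norm_num) ((hL a).1 (List.mem_toFinset.1 ha)).1
      ((hL b).1 (List.mem_toFinset.1 hb)).1 hx hx').2

theorem ncard_typeC42 : (typeSet .C42).ncard = 46632960 := by
  rw [ncard_typeSet_eq, ← census_values.2.2.2.1, ← octadList_length]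
  exact ncard_weightType 8 octadList (fun _ => mem_octadList) octadList_nodup

theorem ncard_typeD : (typeSet .D).ncard = 126615552 := by
  rw [ncard_typeSet_eq, ← census_values.2.2.2.2, ← dodecadList_length]
  exact ncard_weightType 12 dodecadList (fun _ => mem_dodecadList) dodecadList_nodup

theorem ncard_typeSet (t : XType) : (typeSet t).ncard = t.size * t.mult := by
  cases t <;> simp only [ncard_typeB, ncard_typeC6, ncard_typeC42, ncard_typeD, ncard_typeG,
    XType.size, XType.mult]

/-! ### Orbits of crosses -/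

/-- The orbit of crosses of a type. -/
def crossOrbit (t : XType) : Set (Set leechLattice) :=
  Set.range fun a => mono a • xCross t.rep

theorem mono_smul_typeSet (t : XType) (a : M24 × golayCode) : mono a • typeSet t = typeSet t := by
  ext v
  rw [Set.mem_smul_set_iff_inv_smul_mem]
  simp only [typeSet, Set.mem_ofPred_eq, co0_ip]
  rw [← prop_mono t a, smul_inv_smul]

theorem ncard_inter_of_mem {t : XType} {X : Set leechLattice} (h : X ∈ crossOrbit t) (s : XType) :
    (X ∩ typeSet s).ncard = if s = t then t.mult else 0 := by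
  obtain ⟨a, rfl⟩ := h
  simp only
  rw [← mono_smul_typeSet s a, ← Set.smul_set_inter,
    show mono a • (xCross t.rep ∩ typeSet s) = (fun v => mono a • v) '' (xCross t.rep ∩ typeSet s) from rfl,
    Set.ncard_image_of_injective _ (MulAction.injective _), (rep_spec t).2.2]

theorem mult_ne_zero (t : XType) : t.mult ≠ 0 := by cases t <;> simp [XType.mult]

theorem crossOrbit_unique {s t : XType} {X : Set leechLattice} (h : X ∈ crossOrbit s)
    (h' : X ∈ crossOrbit t) : s = t := by
  by_contra hne
  have a := ncard_inter_of_mem h s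
  have b := ncard_inter_of_mem h' s
  rw [if_pos rfl] at a
  rw [if_neg hne, a] at b
  exact mult_ne_zero s b

theorem xCross_mem_crossOrbit {t : XType} {v : leechLattice} (hv : v ∈ typeSet t) :
    xCross v ∈ crossOrbit t := by
  obtain ⟨a, ha⟩ := transitive_type t (rep_spec t).1 hv.1 (rep_spec t).2.1 hv.2
  exact ⟨a, by simp only; rw [smul_xCross, ha]⟩

theorem crossOrbit_eq_image (t : XType) : crossOrbit t = xCross '' typeSet t := by
  refine Set.Subset.antisymm ?_ (fun X ⟨v, hv, e⟩ => e ▸ xCross_mem_crossOrbit hv)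
  rintro _ ⟨a, rfl⟩
  exact ⟨mono a • t.rep, ⟨(co0_ip _ _ _).trans (rep_spec t).1, (prop_mono t a _).2 (rep_spec t).2.1⟩,
    (smul_xCross _ _).symm⟩

theorem ncard_crossOrbit (t : XType) : (crossOrbit t).ncard = t.size := by
  classical
  have hfin : (typeSet t).Finite := Set.finite_of_ncard_ne_zero (by
    rw [ncard_typeSet]; cases t <;> norm_num [XType.size, XType.mult])
  rw [crossOrbit_eq_image, ← hfin.coe_toFinset, ← coe_image, Set.ncard_coe_finset]
  have h := card_eq_sum_card_image xCross hfin.toFinset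
  suffices key : ∀ X ∈ hfin.toFinset.image xCross,
      (hfin.toFinset.filter fun a => xCross a = X).card = t.mult by
    rw [← Set.ncard_eq_toFinset_card _ hfin, ncard_typeSet, sum_congr rfl key, sum_const, smul_eq_mul] at h
    exact (Nat.eq_of_mul_eq_mul_right (Nat.pos_of_ne_zero (mult_ne_zero t)) h).symm
  intro X hX
  obtain ⟨v, hv, rfl⟩ := mem_image.1 hX
  rw [Set.Finite.mem_toFinset] at hv
  have := ncard_inter_of_mem (xCross_mem_crossOrbit hv) t
  rw [if_pos rfl] at this
  rw [← this, ← Set.ncard_coe_finset]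
  congr 1
  ext w
  simp only [coe_filter, Set.Finite.mem_toFinset, Set.mem_ofPred_eq, Set.mem_inter_iff]
  exact ⟨fun hw => ⟨hw.2 ▸ self_mem_xCross hw.1.1, hw.1⟩, fun hw => ⟨hw.2, xCross_eq_of_mem hw.1⟩⟩

/-- The standard cross. -/
def stdX : Set leechLattice := xCross (axis none)

theorem mono_smul_stdX (a : M24 × golayCode) : mono a • stdX = stdX :=
  MulAction.mem_stabilizer_iff.1 (mem_crossStab.2 (fixesStd_iff.2 ⟨a, rfl⟩))

theorem not_prop_axis (t : XType) {v : GolayPt → ℤ} (hv : v ∈ stdCross) : ¬ t.prop v := by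
  obtain ⟨i, s, hs, rfl⟩ := hv
  have hsq : ∀ j, (Pi.single i s : GolayPt → ℤ) j ^ 2 = if j = i then 64 else 0 := fun j => by
    rcases eq_or_ne j i with rfl | hj
    · rcases hs with rfl | rfl <;> simp
    · simp [hj]
  cases t <;> simp only [XType.prop]
  · intro h; have := h i; rcases hs with rfl | rfl <;> simp at this
  · rintro ⟨j, hj⟩; rw [hsq] at hj; split_ifs at hj <;> norm_num at hj
  · rintro ⟨h, -⟩; have := h i; rw [hsq, if_pos rfl] at this; norm_num at this
  · rintro ⟨h, -⟩; have := h i; rw [hsq, if_pos rfl] at this; norm_num at this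
  · rintro ⟨j, hj⟩; rw [hsq] at hj; split_ifs at hj <;> norm_num at hj

theorem stdX_not_mem (t : XType) : stdX ∉ crossOrbit t := fun h => by
  rw [crossOrbit_eq_image] at h
  obtain ⟨v, hv, he⟩ := h
  exact not_prop_axis t (mem_xCross_axis.1 (show v ∈ stdX from he ▸ self_mem_xCross hv.1)) hv.2

theorem sum_allTypes (f : XType → ℕ) :
    (allTypes.map f).sum = f .B + (f .C6 + (f .C42 + (f .D + f .G))) := by simp [allTypes]

/-- **Every cross lies in one of the six orbits.** -/
theorem cross_cases {x : leechLattice} (hx : ip x x = 8) :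
    xCross x = stdX ∨ ∃ t, xCross x ∈ crossOrbit t := by
  classical
  let U : Set (Set leechLattice) := {stdX} ∪ crossOrbit .B ∪ crossOrbit .C6 ∪ crossOrbit .C42 ∪
    crossOrbit .D ∪ crossOrbit .G
  have hfin : ∀ t, (crossOrbit t).Finite := fun t => Set.finite_of_ncard_ne_zero (by
    rw [ncard_crossOrbit]; cases t <;> norm_num [XType.size])
  have hd : ∀ s t, s ≠ t → Disjoint (crossOrbit s) (crossOrbit t) := fun s t hne =>
    Set.disjoint_left.2 fun X h h' => hne (crossOrbit_unique h h')
  have hd0 : ∀ t, Disjoint ({stdX} : Set (Set leechLattice)) (crossOrbit t) := fun t =>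
    Set.disjoint_singleton_left.2 (stdX_not_mem t)
  have f1 := (Set.finite_singleton stdX).union (hfin .B)
  have f2 := f1.union (hfin .C6)
  have f3 := f2.union (hfin .C42)
  have f4 := f3.union (hfin .D)
  have hU : U.ncard = 8292375 := by
    rw [Set.ncard_union_eq (by
        simp only [Set.disjoint_union_left]
        exact ⟨⟨⟨⟨hd0 _, hd _ _ (by decide)⟩, hd _ _ (by decide)⟩, hd _ _ (by decide)⟩, hd _ _ (by decide)⟩)
        f4 (hfin .G),
      Set.ncard_union_eq (by
        simp only [Set.disjoint_union_left]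
        exact ⟨⟨⟨hd0 _, hd _ _ (by decide)⟩, hd _ _ (by decide)⟩, hd _ _ (by decide)⟩) f3 (hfin .D),
      Set.ncard_union_eq (by
        simp only [Set.disjoint_union_left]
        exact ⟨⟨hd0 _, hd _ _ (by decide)⟩, hd _ _ (by decide)⟩) f2 (hfin .C42),
      Set.ncard_union_eq (by
        simp only [Set.disjoint_union_left]
        exact ⟨hd0 _, hd _ _ (by decide)⟩) f1 (hfin .C6),
      Set.ncard_union_eq (hd0 _) (Set.finite_singleton stdX) (hfin .B), Set.ncard_singleton,
      ncard_crossOrbit, ncard_crossOrbit, ncard_crossOrbit, ncard_crossOrbit, ncard_crossOrbit]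
    rfl
  have hsub : U ⊆ MulAction.orbit Co0 stdX := by
    have hmem : ∀ {t X}, X ∈ crossOrbit t → X ∈ MulAction.orbit Co0 stdX := by
      intro t X hX
      rw [crossOrbit_eq_image] at hX
      obtain ⟨v, hv, rfl⟩ := hX
      rw [stdX, orbit_xCross]
      exact ⟨v, hv.1, rfl⟩
    rintro X (((((h | h) | h) | h) | h) | h)
    · rw [h]; exact MulAction.mem_orbit_self _
    all_goals exact hmem h
  have heq : U = MulAction.orbit Co0 stdX := Set.eq_of_subset_of_ncard_le hsub
    (by rw [hU]; exact ncard_orbit.le) (Set.finite_of_ncard_ne_zero (by rw [stdX, ncard_orbit]; norm_num))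
  have hmem : xCross x ∈ U := by rw [heq, stdX, orbit_xCross]; exact ⟨x, hx, rfl⟩
  rcases hmem with ((((h | h) | h) | h) | h) | h
  · exact Or.inl h
  all_goals exact Or.inr ⟨_, h⟩

/-! ### Maximality -/

theorem subset_sums : ∀ a b c d e : Bool,
    8292375 % (1 + (cond a 3542 0 + (cond b 48576 0 + (cond c 1457280 0 +
      (cond d 2637824 0 + cond e 4145152 0))))) = 0 →
      (a = false ∧ b = false ∧ c = false ∧ d = false ∧ e = false) ∨
      (a = true ∧ b = true ∧ c = true ∧ d = true ∧ e = true) := by
  decide +kernel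

/-- **The stabiliser of a cross is maximal.** -/
theorem isCoatom_crossStab : IsCoatom crossStab := by
  classical
  refine ⟨fun h => ?_, fun H hH => ?_⟩
  · have := index_crossStab
    rw [h, Subgroup.index_top] at this
    norm_num at this
  set O := MulAction.orbit H stdX with hO
  have hstab : (MulAction.stabilizer H stdX) = crossStab.subgroupOf H := by
    ext g; rfl
  have hd : O.ncard ∣ 8292375 := by
    rw [hO, ← MulAction.index_stabilizer, hstab, ← index_crossStab]
    exact ⟨H.index, (Subgroup.relIndex_mul_index hH.le).symm⟩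
  have hinv : ∀ a X, X ∈ O → mono a • X ∈ O := by
    rintro a X ⟨g, rfl⟩
    exact ⟨⟨mono a, hH.le (mem_crossStab.2 (fixesStd_iff.2 ⟨a, rfl⟩))⟩ * g, mul_smul _ _ _⟩
  have hsub : O ⊆ MulAction.orbit Co0 stdX := by rintro X ⟨g, rfl⟩; exact ⟨(g : Co0), rfl⟩
  have hall : ∀ t, crossOrbit t ⊆ O ∨ Disjoint (crossOrbit t) O := by
    intro t
    by_cases hne : ∃ X ∈ crossOrbit t, X ∈ O
    · left
      obtain ⟨_, ⟨a, rfl⟩, hX⟩ := hne
      rintro _ ⟨b, rfl⟩
      obtain ⟨c, hc⟩ : ∃ c, mono c = mono b * (mono a)⁻¹ := by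
        refine fixesStd_iff.1 (mem_crossStab.1 (mul_mem ?_ (inv_mem ?_))) <;>
          exact mem_crossStab.2 (fixesStd_iff.2 ⟨_, rfl⟩)
      have := hinv c _ hX
      simp only at this
      rwa [hc, smul_smul, inv_mul_cancel_right] at this
    · right
      exact Set.disjoint_left.2 fun X h h' => hne ⟨X, h, h'⟩
  let bit : XType → Bool := fun t => decide (crossOrbit t ⊆ O)
  let part : XType → Finset (Set leechLattice) := fun t =>
    if bit t then (Set.finite_of_ncard_ne_zero (s := crossOrbit t) (by
      rw [ncard_crossOrbit]; cases t <;> norm_num [XType.size])).toFinset else ∅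
  have hpart : ∀ t, ((part t : Finset (Set leechLattice)) : Set (Set leechLattice)) = crossOrbit t ∩ O := by
    intro t
    simp only [part]
    rcases hall t with h | h
    · rw [if_pos (by simp [bit, h]), Set.Finite.coe_toFinset, Set.inter_eq_left.2 h]
    · rw [Set.disjoint_iff_inter_eq_empty.1 h, if_neg, coe_empty]
      simp only [bit, decide_eq_true_eq]
      intro hs
      obtain ⟨X, hX⟩ : (crossOrbit t).Nonempty := ⟨_, ⟨(1, 0), rfl⟩⟩
      exact Set.disjoint_left.1 h hX (hs hX)
  have hcardpart : ∀ t, (part t).card = cond (bit t) t.size 0 := by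
    intro t
    simp only [part]
    cases hb : bit t
    · simp
    · simp only [if_true, cond_true, ← Set.ncard_eq_toFinset_card, ncard_crossOrbit]
  let S : Finset (Set leechLattice) :=
    {stdX} ∪ (part .B ∪ (part .C6 ∪ (part .C42 ∪ (part .D ∪ part .G))))
  have hS : (S : Set (Set leechLattice)) = O := by
    simp only [S, coe_union, coe_singleton, hpart]
    refine Set.Subset.antisymm ?_ fun X hX => ?_
    · rintro X (h | h | h | h | h | h)
      · rw [h]; exact MulAction.mem_orbit_self _
      all_goals exact h.2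
    · have hmem := hsub hX
      rw [stdX, orbit_xCross] at hmem
      obtain ⟨x, hx, rfl⟩ := hmem
      rcases cross_cases hx with e | ⟨t, ht⟩
      · exact Or.inl e
      · right
        cases t <;> simp [ht, hX]
  have hne : ∀ s t, s ≠ t → Disjoint (part s) (part t) := fun s t h => by
    rw [← disjoint_coe, hpart, hpart]
    exact Set.disjoint_left.2 fun X a b => h (crossOrbit_unique a.1 b.1)
  have hne0 : ∀ t, Disjoint ({stdX} : Finset (Set leechLattice)) (part t) := fun t => by
    rw [← disjoint_coe, hpart, coe_singleton]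
    exact Set.disjoint_singleton_left.2 fun h => stdX_not_mem t h.1
  have hOc : O.ncard = 1 + (cond (bit .B) 3542 0 + (cond (bit .C6) 48576 0 + (cond (bit .C42) 1457280 0 +
      (cond (bit .D) 2637824 0 + cond (bit .G) 4145152 0)))) := by
    rw [← hS, Set.ncard_coe_finset, card_union_of_disjoint (by
        simp only [disjoint_union_right]; exact ⟨hne0 _, hne0 _, hne0 _, hne0 _, hne0 _⟩),
      card_union_of_disjoint (by
        simp only [disjoint_union_right]
        exact ⟨hne _ _ (by decide), hne _ _ (by decide), hne _ _ (by decide), hne _ _ (by decide)⟩),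
      card_union_of_disjoint (by
        simp only [disjoint_union_right]
        exact ⟨hne _ _ (by decide), hne _ _ (by decide), hne _ _ (by decide)⟩),
      card_union_of_disjoint (by
        simp only [disjoint_union_right]
        exact ⟨hne _ _ (by decide), hne _ _ (by decide)⟩),
      card_union_of_disjoint (hne _ _ (by decide)), card_singleton, hcardpart, hcardpart, hcardpart,
      hcardpart, hcardpart]
    rfl
  rcases subset_sums _ _ _ _ _ (by rw [← hOc]; exact Nat.mod_eq_zero_of_dvd hd) with h | h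
  · exfalso
    obtain ⟨g, hgH, hgS⟩ := SetLike.exists_of_lt hH
    refine hgS ?_
    have hgO : g • stdX ∈ O := ⟨⟨g, hgH⟩, rfl⟩
    rw [← hS] at hgO
    simp only [S, part, h.1, h.2.1, h.2.2.1, h.2.2.2.1, h.2.2.2.2] at hgO
    exact MulAction.mem_stabilizer_iff.2 (show g • stdX = stdX by simpa using hgO)
  · rw [eq_top_iff]
    intro g _
    have hgO : g • stdX ∈ O := by
      have hmem : g • stdX ∈ MulAction.orbit Co0 stdX := ⟨g, rfl⟩
      rw [stdX, orbit_xCross] at hmem
      obtain ⟨x, hx, e⟩ := hmem
      rw [stdX, ← e]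
      rcases cross_cases hx with e' | ⟨t, ht⟩
      · rw [e']; exact MulAction.mem_orbit_self _
      · have hb : crossOrbit t ⊆ O := by
          refine of_decide_eq_true (?_ : bit t = true)
          cases t
          exacts [h.1, h.2.1, h.2.2.1, h.2.2.2.1, h.2.2.2.2]
        exact hb ht
    obtain ⟨k, hk⟩ := hgO
    have : (k : Co0)⁻¹ * g ∈ crossStab := MulAction.mem_stabilizer_iff.2 (by
      rw [mul_smul]; exact inv_smul_eq_iff.2 hk.symm)
    have := H.mul_mem k.2 (hH.le this)
    rwa [mul_inv_cancel_left] at this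

end Cfsg.Agent.Leech
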