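import Cfsg.Agent.Lib.Leech.Basic
import Cfsg.Agent.Lib.Golay.Local.PermModule

/-!
Monomial automorphisms of the Leech lattice: permutations of the code and sign changes on code
words.
-/

namespace Cfsg.Agent.Leech

open Cfsg Cfsg.Agent.Golay

theorem inLeech_comp {σ : Equiv.Perm GolayPt} (hσ : σ ∈ M24) {m : ℤ} {x : GolayPt → ℤ}
    (h : InLeech m x) : InLeech m fun p => x (σ.symm p) := by
  refine ⟨fun i => h.1 _, ?_, ?_⟩
  · rw [Equiv.sum_comp σ.symm x]; exact h.2.1
  · exact Golay.Local.inv24_golayCode σ hσ _ h.2.2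

theorem comp_mem {σ : Equiv.Perm GolayPt} (hσ : σ ∈ M24) {x : GolayPt → ℤ} (hx : x ∈ leechLattice) :
    (fun p => x (σ.symm p)) ∈ leechLattice := by
  obtain ⟨m, hm⟩ := mem_leech.1 hx
  exact mem_leech.2 ⟨m, inLeech_comp hσ hm⟩

/-- The sign change on the support of a word. -/
def flipSign (c : GolayPt → ZMod 2) (x : GolayPt → ℤ) : GolayPt → ℤ :=
  fun p => if c p = 0 then x p else -x p

theorem flipSign_flipSign (c : GolayPt → ZMod 2) (x : GolayPt → ℤ) : flipSign c (flipSign c x) = x := by
  funext p; unfold flipSign; split <;> simp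

theorem flipSign_add (c : GolayPt → ZMod 2) (x y : GolayPt → ℤ) :
    flipSign c (x + y) = flipSign c x + flipSign c y := by
  funext p; simp only [flipSign, Pi.add_apply]; split <;> omega

theorem inLeech_flip {c : GolayPt → ZMod 2} (hc : c ∈ golayCode) {m : ℤ} {x : GolayPt → ℤ}
    (h : InLeech m x) : InLeech m (flipSign c x) := by
  refine ⟨fun i => ?_, ?_, ?_⟩
  · have := h.1 i
    unfold flipSign; split <;> omega
  · have hflip : ∑ i, flipSign c x i = (∑ i, x i) - 2 * ∑ i ∈ support₂ c, x i := by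
      rw [support₂, Finset.sum_filter, Finset.mul_sum, ← Finset.sum_sub_distrib]
      refine Finset.sum_congr rfl fun i _ => ?_
      unfold flipSign
      by_cases hi : c i = 0 <;> simp [hi] <;> ring
    have horth := self_orthogonal h.2.2 hc
    have hsum : ∑ i ∈ support₂ c, (((x i - m) / 2 : ℤ) : ZMod 2) = 0 := by
      rw [support₂, Finset.sum_filter]
      refine Eq.trans ?_ horth
      refine Finset.sum_congr rfl fun i _ => ?_
      rcases zmod2_cases (c i) with hi | hi <;> simp [hi, hword]
    rw [← Int.cast_sum, ZMod.intCast_zmod_eq_zero_iff_dvd] at hsum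
    have hx : ∑ i ∈ support₂ c, x i = (support₂ c).card * m + 2 * ∑ i ∈ support₂ c, (x i - m) / 2 := by
      rw [Finset.mul_sum, ← nsmul_eq_mul, ← Finset.sum_const, ← Finset.sum_add_distrib]
      refine Finset.sum_congr rfl fun i _ => ?_
      have := h.1 i
      omega
    obtain ⟨d, hd⟩ := card_support_mod4 hc
    obtain ⟨s, hs⟩ := hsum
    have := h.2.1
    rw [hflip, hx, hs, hd]
    push_cast
    rw [show (4 : ℤ) * (d : ℤ) * m = 4 * ((d : ℤ) * m) from mul_assoc _ _ _]
    omega
  · have he : hword m (flipSign c x) = hword m x + (m : ZMod 2) • c := by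
      funext i
      obtain ⟨a, ha⟩ := h.1 i
      have h2 : (x i - m) / 2 = a := by omega
      rcases zmod2_cases (c i) with hi | hi
      · simp [hword, flipSign, hi]
      · have h3 : (-x i - m) / 2 = -a - m := by omega
        simp only [hword, flipSign, hi, one_ne_zero, if_false, Pi.add_apply, Pi.smul_apply, smul_eq_mul, h2, h3]
        simp [sub_eq_add_neg, ZMod.neg_eq_self_mod_two]
    rw [he]
    exact golayCode.add_mem h.2.2 (golayCode.smul_mem _ hc)

theorem flip_mem {c : GolayPt → ZMod 2} (hc : c ∈ golayCode) {x : GolayPt → ℤ}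
    (hx : x ∈ leechLattice) : flipSign c x ∈ leechLattice := by
  obtain ⟨m, hm⟩ := mem_leech.1 hx
  exact mem_leech.2 ⟨m, inLeech_flip hc hm⟩

/-- An additive isometry of the coordinate space preserving the lattice gives an automorphism. -/
theorem exists_co0 (e : (GolayPt → ℤ) ≃ (GolayPt → ℤ)) (hadd : ∀ x y, e (x + y) = e x + e y)
    (hnorm : ∀ x, sqNorm (e x) = sqNorm x) (h1 : ∀ x ∈ leechLattice, e x ∈ leechLattice)
    (h2 : ∀ x ∈ leechLattice, e.symm x ∈ leechLattice) :
    ∃ g : Co0, ∀ v : leechLattice, ((g • v : leechLattice) : GolayPt → ℤ) = e v := by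
  let f : Equiv.Perm leechLattice :=
    { toFun := fun v => ⟨e v, h1 _ v.2⟩
      invFun := fun v => ⟨e.symm v, h2 _ v.2⟩
      left_inv := fun v => Subtype.ext (e.symm_apply_apply _)
      right_inv := fun v => Subtype.ext (e.apply_symm_apply _) }
  have hf : f ∈ Co0 := ⟨fun v w => Subtype.ext (hadd v w), fun v => hnorm v⟩
  exact ⟨⟨f, hf⟩, fun v => rfl⟩

theorem exists_co0_perm {σ : Equiv.Perm GolayPt} (hσ : σ ∈ M24) :
    ∃ g : Co0, ∀ v : leechLattice, ((g • v : leechLattice) : GolayPt → ℤ) = fun p => (v : GolayPt → ℤ) (σ.symm p) := by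
  refine exists_co0 (Equiv.arrowCongr σ (Equiv.refl ℤ)) (fun x y => rfl) (fun x => ?_)
    (fun x hx => comp_mem hσ hx) fun x hx => ?_
  · exact Equiv.sum_comp σ.symm fun i => x i ^ 2
  · exact comp_mem (σ := σ⁻¹) (inv_mem hσ) hx

theorem exists_co0_flip {c : GolayPt → ZMod 2} (hc : c ∈ golayCode) :
    ∃ g : Co0, ∀ v : leechLattice, ((g • v : leechLattice) : GolayPt → ℤ) = flipSign c v := by
  refine exists_co0
    { toFun := flipSign c, invFun := flipSign c
      left_inv := flipSign_flipSign c, right_inv := flipSign_flipSign c }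
    (flipSign_add c) (fun x => ?_) (fun x hx => flip_mem hc hx) fun x hx => flip_mem hc hx
  refine Finset.sum_congr rfl fun i _ => ?_
  show flipSign c x i ^ 2 = x i ^ 2
  unfold flipSign; split <;> simp

end Cfsg.Agent.Leech
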