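import Cfsg.Agent.Lib.Leech.HS
import Cfsg.Prelude.Def_Spor_Conway

/-!
The stabilisers named in the definitions: orders and simplicity.
-/

namespace Cfsg.Agent.Leech

open Cfsg Cfsg.Agent.Golay Finset
open scoped Pointwise

/-- A subgroup of the automorphism group given inside the permutations. -/
noncomputable def inCo0Equiv (H : Subgroup (Equiv.Perm leechLattice)) (K : Subgroup Co0)
    (h : ∀ g : Co0, g ∈ K ↔ (g : Equiv.Perm leechLattice) ∈ H) (hle : H ≤ Co0) : K ≃* H where
  toFun g := ⟨((g : Co0) : Equiv.Perm leechLattice), (h g).1 g.2⟩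
  invFun g := ⟨⟨g, hle g.2⟩, (h _).2 g.2⟩
  left_inv _ := rfl
  right_inv _ := rfl
  map_mul' _ _ := rfl

/-- The named group is the stabiliser of the vector `(4, 4, 0²²)`. -/
noncomputable def sporCo2Equiv : MulAction.stabilizer Co0 Spor.leechU ≃* Spor.Co2 :=
  inCo0Equiv _ _ (fun g => ⟨fun h => ⟨g.2, h⟩, fun h => h.2⟩) inf_le_left

/-- The named group is the stabiliser of the vector `(-5, -1²³)`. -/
noncomputable def sporCo3Equiv : MulAction.stabilizer Co0 Spor.leechV ≃* Spor.Co3 :=
  inCo0Equiv _ _ (fun g => ⟨fun h => ⟨g.2, h⟩, fun h => h.2⟩) inf_le_left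

theorem ip_leechU : ip Spor.leechU Spor.leechU = 4 := by
  refine (ip_self_iff (n := 4)).2 ?_
  show ∑ i, Spor.vecU i ^ 2 = 32
  decide

theorem ip_leechV : ip Spor.leechV Spor.leechV = 6 := by
  refine (ip_self_iff (n := 6)).2 ?_
  show ∑ i, Spor.vecV i ^ 2 = 48
  decide

theorem isCo2_spor : IsCo2 Spor.Co2 :=
  have := isSimpleGroup_stab4 ip_leechU
  ⟨SimpleCriteria.isSimpleGroup_congr sporCo2Equiv,
    (Nat.card_congr sporCo2Equiv.toEquiv).symm.trans (card_stab4 ip_leechU)⟩

theorem isCo3_spor : IsCo3 Spor.Co3 :=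
  have := isSimpleGroup_stab6 ip_leechV
  ⟨SimpleCriteria.isSimpleGroup_congr sporCo3Equiv,
    (Nat.card_congr sporCo3Equiv.toEquiv).symm.trans (card_stab6 ip_leechV)⟩

theorem isMcL_spor : IsMcL Spor.McL := by
  have hv : ip (-(Spor.leechV + Spor.leechU)) (-(Spor.leechV + Spor.leechU)) = 4 := by
    refine (ip_self_iff (n := 4)).2 ?_
    show ∑ i, (-(Spor.vecV i + Spor.vecU i)) ^ 2 = 32
    decide
  have hvw : ip Spor.leechU (-(Spor.leechV + Spor.leechU)) = -1 := by
    refine ip_eq_of_dot ?_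
    show ∑ i, Spor.vecU i * -(Spor.vecV i + Spor.vecU i) = _
    decide
  have h := isMcL_stab ip_leechU hv hvw
  have e : ↥(MulAction.stabilizer Co0 Spor.leechU ⊓ MulAction.stabilizer Co0 (-(Spor.leechV + Spor.leechU)))
      ≃* Spor.McL := inCo0Equiv _ _ (fun g => by
    constructor
    · rintro ⟨hU, hw⟩
      have hU' : g • Spor.leechU = Spor.leechU := hU
      have hw' : g • -(Spor.leechV + Spor.leechU) = -(Spor.leechV + Spor.leechU) := hw
      rw [co0_neg, co0_add, hU'] at hw'
      exact ⟨⟨g.2, add_right_cancel (neg_injective hw')⟩, hU⟩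
    · rintro ⟨⟨-, hV⟩, hU⟩
      have hV' : g • Spor.leechV = Spor.leechV := hV
      have hU' : g • Spor.leechU = Spor.leechU := hU
      refine ⟨hU, ?_⟩
      show g • -(Spor.leechV + Spor.leechU) = -(Spor.leechV + Spor.leechU)
      rw [co0_neg, co0_add, hU', hV']) (inf_le_left.trans inf_le_left)
  have := h.1
  exact ⟨SimpleCriteria.isSimpleGroup_congr e, (Nat.card_congr e.toEquiv).symm.trans h.2⟩

theorem isHS_spor : IsHS Spor.HS := by
  have hv : ip (-(Spor.leechV + Spor.leechU')) (-(Spor.leechV + Spor.leechU')) = 6 := by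
    refine (ip_self_iff (n := 6)).2 ?_
    show ∑ i, (-(Spor.vecV i + Spor.vecU' i)) ^ 2 = 48
    decide
  have hvw : ip Spor.leechV (-(Spor.leechV + Spor.leechU')) = -4 := by
    refine ip_eq_of_dot ?_
    show ∑ i, Spor.vecV i * -(Spor.vecV i + Spor.vecU' i) = _
    decide
  have h := isHS_stab ip_leechV hv hvw
  have e : ↥(MulAction.stabilizer Co0 Spor.leechV ⊓ MulAction.stabilizer Co0 (-(Spor.leechV + Spor.leechU')))
      ≃* Spor.HS := inCo0Equiv _ _ (fun g => by
    constructor
    · rintro ⟨hV, hw⟩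
      have hV' : g • Spor.leechV = Spor.leechV := hV
      have hw' : g • -(Spor.leechV + Spor.leechU') = -(Spor.leechV + Spor.leechU') := hw
      rw [co0_neg, co0_add, hV'] at hw'
      exact ⟨⟨g.2, hV⟩, add_left_cancel (neg_injective hw')⟩
    · rintro ⟨⟨-, hV⟩, hU⟩
      have hV' : g • Spor.leechV = Spor.leechV := hV
      have hU' : g • Spor.leechU' = Spor.leechU' := hU
      refine ⟨hV, ?_⟩
      show g • -(Spor.leechV + Spor.leechU') = -(Spor.leechV + Spor.leechU')
      rw [co0_neg, co0_add, hU', hV']) (inf_le_left.trans inf_le_left)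
  have := h.1
  exact ⟨SimpleCriteria.isSimpleGroup_congr e, (Nat.card_congr e.toEquiv).symm.trans h.2⟩

end Cfsg.Agent.Leech
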