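import Cfsg.Agent.Lib.Leech.Pairs
import Cfsg.Agent.Lib.Leech.Conway
import Cfsg.Agent.Lib.Leech.PairStabData
import Cfsg.Agent.Lib.FischerPresented.U62Group

/-!
The joint stabiliser of two minimal vectors of inner product minus two is the six-dimensional unitary group
over four elements: both act in the same way on 891 objects.
-/

set_option autoImplicit false
set_option maxRecDepth 100000
set_option maxHeartbeats 1000000

namespace Cfsg.Agent.Leech.PairStab

open Cfsg Cfsg.Agent.Golay MatCert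
open Cfsg.Agent.PermCert (allBelow allBelow_spec get)
open Cfsg.Agent.RigidGraph.He (K4)
open Cfsg.Agent.FischerPresented

/-- The code of a vector. -/
def yc (i : ℕ) : ℕ := get 128 (yCodes.getD (i / 64) 0) (i % 64)

/-- The code of a plane. -/
def pl (i : ℕ) : ℕ := get 48 (planeCodes.getD (i / 64) 0) (i % 64)

/-- The image of a plane index. -/
def perm (j i : ℕ) : ℕ := get 10 ((permCodes.getD j []).getD (i / 64) 0) (i % 64)

/-- A digit of a packed vector. -/
def vd (v k : ℕ) : ℕ := v / 4 ^ k % 4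

/-- A packed vector. -/
def of12 (v : ℕ) : Fin 6 → K4 := fun k => K4.ofDigit (vd v k)

/-- Multiplication by the primitive element, digitwise. -/
def wmul (v : ℕ) : ℕ := Nat.land (v / 2) 1365 ||| (Nat.xor (Nat.land v 1365) (Nat.land (v / 2) 1365)) <<< 1

/-- Multiplication by a digit, digitwise. -/
def sc (s v : ℕ) : ℕ :=
  bif Nat.beq s 0 then 0 else bif Nat.beq s 1 then v else bif Nat.beq s 2 then wmul v else Nat.xor v (wmul v)

theorem vd_lt (v k : ℕ) : vd v k < 4 := Nat.mod_lt _ (by norm_num)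

theorem vd_bits (v k : ℕ) : vd v k = (v.testBit (2 * k)).toNat + 2 * (v.testBit (2 * k + 1)).toNat := by
  rw [Nat.toNat_testBit, Nat.toNat_testBit, pow_succ, ← Nat.div_div_eq_div_mul, vd, pow_mul]
  norm_num
  omega

theorem vd_xor (v w k : ℕ) : vd (Nat.xor v w) k = Nat.xor (vd v k) (vd w k) := by
  rw [vd_bits, vd_bits, vd_bits, show Nat.xor v w = v ^^^ w from rfl, Nat.testBit_xor, Nat.testBit_xor]
  cases v.testBit (2 * k) <;> cases v.testBit (2 * k + 1) <;> cases w.testBit (2 * k) <;>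
    cases w.testBit (2 * k + 1) <;> rfl

theorem vd_wmul (v : ℕ) (k : Fin 6) : vd (wmul v) k = U62.mulD 2 (vd v k) := by
  have hm : ∀ k : Fin 6, Nat.testBit 1365 (2 * k) = true ∧ Nat.testBit 1365 (2 * k + 1) = false ∧
      (2 * (k : ℕ) + 1 ≠ 0) ∧ (0 < (k : ℕ) → Nat.testBit 1365 (2 * k - 1) = false) := by decide
  obtain ⟨h0, h1, -, h2⟩ := hm k
  have hb : ∀ i, (Nat.land (v / 2) 1365).testBit i = (v.testBit (i + 1) && Nat.testBit 1365 i) := fun i => by
    rw [show Nat.land (v / 2) 1365 = v / 2 &&& 1365 from rfl, Nat.testBit_and, Nat.testBit_div_two]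
  have hl : ∀ i, (Nat.xor (Nat.land v 1365) (Nat.land (v / 2) 1365)).testBit i =
      ((v.testBit i && Nat.testBit 1365 i) ^^ (v.testBit (i + 1) && Nat.testBit 1365 i)) := fun i => by
    rw [show ∀ x y, Nat.xor x y = x ^^^ y from fun _ _ => rfl, Nat.testBit_xor, hb,
      show Nat.land v 1365 = v &&& 1365 from rfl, Nat.testBit_and]
  rw [vd_bits, vd_bits, wmul, Nat.testBit_or, Nat.testBit_or, hb, hb, h0, h1, Nat.testBit_shiftLeft,
    Nat.testBit_shiftLeft, hl, hl, Nat.add_sub_cancel, h0]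
  rcases Nat.eq_zero_or_pos (k : ℕ) with hk | hk
  · rw [hk]
    cases v.testBit (2 * 0) <;> cases v.testBit (2 * 0 + 1) <;> simp <;> rfl
  · rw [h2 hk, Bool.and_false, Bool.and_false]
    cases v.testBit (2 * (k : ℕ)) <;> cases v.testBit (2 * (k : ℕ) + 1) <;> simp <;> rfl

theorem of12_xor (v w : ℕ) : of12 (Nat.xor v w) = of12 v + of12 w := by
  funext k
  show K4.ofDigit (vd (Nat.xor v w) k) = _
  rw [vd_xor, (U62.ofDigit_xor _ (vd_lt v k) _ (vd_lt w k)).2]
  rfl

theorem of12_sc {s : ℕ} (hs : s < 4) (v : ℕ) : of12 (sc s v) = K4.ofDigit s • of12 v := by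
  funext k
  show K4.ofDigit (vd (sc s v) k) = K4.ofDigit s * K4.ofDigit (vd v k)
  rw [← (U62.ofDigit_mulD s hs _ (vd_lt v k)).2]
  have h3 : ∀ d < 4, U62.mulD 0 d = 0 ∧ U62.mulD 1 d = d ∧ U62.mulD 3 d = Nat.xor d (U62.mulD 2 d) := by decide
  obtain ⟨a, b, c⟩ := h3 _ (vd_lt v k)
  congr 1
  interval_cases s
  · rw [a]; show vd 0 k = 0; simp [vd]
  · exact b.symm
  · exact vd_wmul v k
  · show vd (Nat.xor v (wmul v)) k = _
    rw [vd_xor, vd_wmul, c]

/-- A row of a plane. -/
def row (c r : ℕ) : ℕ := c / 2 ^ (12 * r) % 4096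

/-- A pivot of a plane. -/
def pivot (c r : ℕ) : ℕ := c / 2 ^ (36 + 3 * r) % 8

/-- The combination of the rows of a plane. -/
def comb (c : ℕ) (a₀ a₁ a₂ : ℕ) : ℕ :=
  Nat.xor (sc a₀ (row c 0)) (Nat.xor (sc a₁ (row c 1)) (sc a₂ (row c 2)))

/-- Membership in a plane, read at the pivots. -/
def inP (c x : ℕ) : Bool := Nat.beq x (comb c (vd x (pivot c 0)) (vd x (pivot c 1)) (vd x (pivot c 2)))

/-- The plane of an index. -/
noncomputable def W (i : Fin 891) : Submodule K4 (Fin 6 → K4) :=
  Submodule.span K4 (Set.range fun r : Fin 3 => of12 (row (pl i) r))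

theorem comb_mem (i : Fin 891) {a₀ a₁ a₂ : ℕ} (h₀ : a₀ < 4) (h₁ : a₁ < 4) (h₂ : a₂ < 4) :
    of12 (comb (pl i) a₀ a₁ a₂) ∈ W i := by
  rw [comb, of12_xor, of12_xor, of12_sc h₀, of12_sc h₁, of12_sc h₂]
  exact add_mem (Submodule.smul_mem _ _ (Submodule.subset_span ⟨0, rfl⟩))
    (add_mem (Submodule.smul_mem _ _ (Submodule.subset_span ⟨1, rfl⟩))
      (Submodule.smul_mem _ _ (Submodule.subset_span ⟨2, rfl⟩)))

theorem mem_of_inP {i : Fin 891} {x : ℕ} (h : inP (pl i) x = true) : of12 x ∈ W i := by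
  rw [Nat.eq_of_beq_eq_true h]
  exact comb_mem i (vd_lt _ _) (vd_lt _ _) (vd_lt _ _)

/-- The digit of an element. -/
def digit (a : K4) : ℕ := if a = 0 then 0 else if a = 1 then 1 else if a = K4.w then 2 else 3

theorem digit_spec : ∀ a : K4, digit a < 4 ∧ K4.ofDigit (digit a) = a := by decide

/-- The code of a vector. -/
def code12 (u : Fin 6 → K4) : ℕ := digit (u 0) + 4 * digit (u 1) + 16 * digit (u 2) + 64 * digit (u 3) +
  256 * digit (u 4) + 1024 * digit (u 5)

theorem of12_code (u : Fin 6 → K4) : of12 (code12 u) = u := by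
  funext k
  have := (digit_spec (u 0)).1; have := (digit_spec (u 1)).1; have := (digit_spec (u 2)).1
  have := (digit_spec (u 3)).1; have := (digit_spec (u 4)).1; have := (digit_spec (u 5)).1
  have e : vd (code12 u) k = digit (u k) := by
    fin_cases k <;> simp [vd, code12] <;> omega
  show K4.ofDigit (vd (code12 u) k) = u k
  rw [e, (digit_spec _).2]

/-- The shape of a reduced plane. -/
def reduced (c : ℕ) : Bool :=
  allBelow (fun r => Nat.blt (pivot c r) 6 &&
    allBelow (fun s => Nat.beq (vd (row c r) (pivot c s)) (if r = s then 1 else 0)) 3) 3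

theorem planes_ok : allBelow (fun i => reduced (pl i) && latC (yc i) && Nat.beq (encV (decV (yc i))) (yc i) &&
    (Nat.beq i 890 || Nat.blt (yc i) (yc (i + 1)))) 891 = true := by decide +kernel

theorem coef_of_mem {i : Fin 891} {x : ℕ} (h : of12 x ∈ W i) :
    of12 x = of12 (comb (pl i) (vd x (pivot (pl i) 0)) (vd x (pivot (pl i) 1)) (vd x (pivot (pl i) 2))) := by
  have hok := allBelow_spec _ _ planes_ok i i.2
  simp only [Bool.and_eq_true] at hok
  have hr := hok.1.1.1
  obtain ⟨a, ha⟩ := (Submodule.mem_span_range_iff_exists_fun K4).1 h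
  have key : ∀ s : Fin 3, a s = K4.ofDigit (vd x (pivot (pl i) s)) := by
    intro s
    have hs := allBelow_spec _ _ hr s s.2
    rw [Bool.and_eq_true, Nat.blt_eq] at hs
    have := congrFun ha ⟨_, hs.1⟩
    simp only [Finset.sum_apply, Pi.smul_apply, smul_eq_mul] at this
    rw [Finset.sum_eq_single s] at this
    · refine Eq.trans ?_ this
      have e := allBelow_spec _ _ hs.2 s s.2
      rw [Nat.beq_eq, if_pos rfl] at e
      show a s = a s * K4.ofDigit (vd (row (pl i) s) (pivot (pl i) s))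
      rw [e]
      exact (mul_one _).symm
    · intro t _ hts
      have ht := allBelow_spec _ _ hr t t.2
      rw [Bool.and_eq_true] at ht
      have e := allBelow_spec _ _ ht.2 s s.2
      rw [Nat.beq_eq, if_neg (fun q => hts (Fin.ext q))] at e
      show a t * K4.ofDigit (vd (row (pl i) t) (pivot (pl i) s)) = 0
      rw [e]
      exact mul_zero _
    · simp
  rw [comb, of12_xor, of12_xor, of12_sc (vd_lt _ _), of12_sc (vd_lt _ _), of12_sc (vd_lt _ _), ← ha,
    Fin.sum_univ_three, key, key, key]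
  exact add_assoc _ _ _

theorem y_in (i : Fin 891) : latB (decV (yc i)) = true := by
  have := allBelow_spec _ _ planes_ok i i.2
  simp only [Bool.and_eq_true] at this
  exact latB_of_latC this.1.1.2

/-- A vector of the configuration. -/
def yv (i : Fin 891) : leechLattice := latV _ (y_in i)

theorem allBelow_of {f : ℕ → Bool} : ∀ {n : ℕ}, (∀ i < n, f i = true) → allBelow f n = true
  | 0, _ => rfl
  | n + 1, h => by
    have := allBelow_of (f := f) (n := n) fun i hi => h i (Nat.lt_succ_of_lt hi)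
    show (allBelow f n && f n) = true
    rw [this, h n (Nat.lt_succ_self n)]
    rfl

theorem yc_lt : ∀ i j : ℕ, i < j → j < 891 → yc i < yc j := by
  intro i j hij
  induction j, hij using Nat.le_induction with
  | base =>
    intro h
    have := allBelow_spec _ _ planes_ok i (by omega)
    simp only [Bool.and_eq_true, Bool.or_eq_true, Nat.beq_eq, Nat.blt_eq] at this
    exact this.2.resolve_left (by omega)
  | succ n hn ih =>
    intro h
    have := allBelow_spec _ _ planes_ok n (by omega)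
    simp only [Bool.and_eq_true, Bool.or_eq_true, Nat.beq_eq, Nat.blt_eq] at this
    exact (ih (by omega)).trans (this.2.resolve_left (by omega))

theorem yv_injective : Function.Injective yv := by
  intro i j h
  have hi := allBelow_spec _ _ planes_ok i i.2
  have hj := allBelow_spec _ _ planes_ok j j.2
  simp only [Bool.and_eq_true, Nat.beq_eq] at hi hj
  have e := code_inj (y_in i) (y_in j) hi.1.2 hj.1.2 h
  rcases lt_trichotomy (i : ℕ) (j : ℕ) with q | q | q
  · exact absurd e (yc_lt _ _ q j.2).ne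
  · exact Fin.ext q
  · exact absurd e (yc_lt _ _ q i.2).ne'

/-- The matrix moves the planes as the element moves the vectors. -/
def Rel (g : Co0) (A : U62.SU6) : Prop :=
  ∀ i : Fin 891, ∃ k : Fin 891, g • yv i = yv k ∧ ∀ u, u ∈ W i ↔ U62.mv A u ∈ W k

theorem rel_one : Rel 1 1 := fun i => ⟨i, one_smul _ _, fun u => by rw [U62.mv_one]⟩

theorem rel_mul {g h : Co0} {A B : U62.SU6} (ha : Rel g A) (hb : Rel h B) : Rel (g * h) (A * B) := fun i => by
  obtain ⟨k, e1, q1⟩ := hb i
  obtain ⟨l, e2, q2⟩ := ha k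
  exact ⟨l, by rw [mul_smul, e1, e2], fun u => by rw [q1, q2, U62.mv_mul]⟩

theorem rel_inv {g : Co0} {A : U62.SU6} (ha : Rel g A) : Rel g⁻¹ A⁻¹ := by
  choose t ht hW using ha
  have hinj : Function.Injective t := fun a b e => yv_injective (MulAction.injective g (by
    show g • yv a = g • yv b
    rw [ht, ht, e]))
  intro i
  obtain ⟨k, rfl⟩ := (Finite.injective_iff_surjective.1 hinj) i
  refine ⟨k, by rw [← ht, inv_smul_smul], fun u => ?_⟩
  rw [hW k, ← U62.mv_mul, mul_inv_cancel, U62.mv_one]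

/-- The pairs with a lift. -/
def graph : Subgroup (Co0 × Cfsg.PSU 6 K4 2) where
  carrier := {p | ∃ A, QuotientGroup.mk' (Subgroup.center U62.SU6) A = p.2 ∧ Rel p.1 A}
  one_mem' := ⟨1, map_one _, rel_one⟩
  mul_mem' := fun {p q} ⟨A, hA, hA'⟩ ⟨B, hB, hB'⟩ => ⟨A * B, by rw [map_mul, hA, hB]; rfl, rel_mul hA' hB'⟩
  inv_mem' := fun {p} ⟨A, hA, hA'⟩ => ⟨A⁻¹, by rw [map_inv, hA]; rfl, rel_inv hA'⟩

theorem frame_pts : ∀ f < 7, ∀ k : Fin 6,
    K4.ofDigit (U62.dig (U62.pointOf (U62.frame.getD f 0)) k) = of12 (framePts.getD f 0) k := by decide +kernel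

/-- Equality up to a nonzero scalar, or vanishing. -/
def zeroOrMult (x p : ℕ) : Bool :=
  allBelow (fun k => Nat.beq (vd x k) 0) 6 ||
    [1, 2, 3].any fun s => allBelow (fun k => Nat.beq (vd x k) (U62.mulD s (vd p k))) 6

theorem frame_meet : allBelow (fun f =>
    ((framePlanes.getD f []).all fun i => Nat.blt i 891 && inP (pl i) (framePts.getD f 0)) &&
    !(allBelow (fun k => Nat.beq (vd (framePts.getD f 0) k) 0) 6) && !(framePlanes.getD f []).isEmpty &&
    allBelow (fun n =>
      let x := comb (pl ((framePlanes.getD f []).getD 0 0)) (n % 4) (n / 4 % 4) (n / 16)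
      zeroOrMult x (framePts.getD f 0) || !((framePlanes.getD f []).all fun i => allBelow (fun k =>
        Nat.beq (vd x k) (vd (comb (pl i) (vd x (pivot (pl i) 0)) (vd x (pivot (pl i) 1)) (vd x (pivot (pl i) 2))) k)) 6))
      64) 7 = true := by decide +kernel

theorem scalar_of_fix {A : U62.SU6} (h : ∀ i u, u ∈ W i ↔ U62.mv A u ∈ W i) : A ∈ Subgroup.center U62.SU6 := by
  suffices key : ∀ f < 7, ∃ s : K4, s ≠ 0 ∧ U62.mv A (U62.of6 (U62.pointOf (U62.frame.getD f 0))) =
      s • U62.of6 (U62.pointOf (U62.frame.getD f 0)) by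
    obtain ⟨s, -, hs⟩ := U62.scalar_of_frame A key
    exact U62.mem_center_of_scalar hs
  intro f hf
  have := allBelow_spec _ _ frame_meet f hf
  simp only [Bool.and_eq_true, Bool.not_eq_true'] at this
  obtain ⟨⟨⟨hin, hne⟩, hemp⟩, hall⟩ := this
  rw [show U62.of6 (U62.pointOf (U62.frame.getD f 0)) = of12 (framePts.getD f 0) from funext (frame_pts f hf)]
  set p := framePts.getD f 0 with hp
  set z := U62.mv A (of12 p) with hz
  set L := framePlanes.getD f [] with hL
  have hp0 : of12 p ≠ 0 := fun e => by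
    rw [Bool.eq_false_iff] at hne
    refine hne (allBelow_of fun k hk => ?_)
    have hinj : ∀ d < 4, K4.ofDigit d = 0 → d = 0 := by decide
    rw [Nat.beq_eq]
    exact hinj _ (vd_lt _ _) (congrFun e ⟨k, hk⟩)
  have hz0 : z ≠ 0 := fun e => hp0 (by
    have := congrArg (U62.mv A⁻¹) e
    rw [hz, ← U62.mv_mul, inv_mul_cancel, U62.mv_one] at this
    exact this.trans (Matrix.mulVec_zero _))
  have hmem : ∀ i ∈ L, ∃ hi : i < 891, z ∈ W ⟨i, hi⟩ := fun i hi => by
    have := List.all_eq_true.1 hin i hi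
    rw [Bool.and_eq_true, Nat.blt_eq] at this
    exact ⟨this.1, by rw [hz, ← h]; exact mem_of_inP (i := ⟨i, this.1⟩) this.2⟩
  have h0 : L.getD 0 0 ∈ L := by
    cases hcase : L with
    | nil => rw [hcase] at hemp; simp at hemp
    | cons a l => simp
  obtain ⟨hi0, hz1⟩ := hmem _ h0
  have hzc := coef_of_mem (i := ⟨_, hi0⟩) (x := code12 z) (by rwa [of12_code])
  rw [of12_code] at hzc
  set a₀ := vd (code12 z) (pivot (pl (L.getD 0 0)) 0)
  set a₁ := vd (code12 z) (pivot (pl (L.getD 0 0)) 1)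
  set a₂ := vd (code12 z) (pivot (pl (L.getD 0 0)) 2)
  have d0 : a₀ < 4 := vd_lt _ _
  have d1 : a₁ < 4 := vd_lt _ _
  have d2 : a₂ < 4 := vd_lt _ _
  have hn := allBelow_spec _ _ hall (a₀ + 4 * a₁ + 16 * a₂) (by omega)
  simp only [show (a₀ + 4 * a₁ + 16 * a₂) % 4 = a₀ by omega, show (a₀ + 4 * a₁ + 16 * a₂) / 4 % 4 = a₁ by omega,
    show (a₀ + 4 * a₁ + 16 * a₂) / 16 = a₂ by omega, Bool.or_eq_true, Bool.not_eq_true', zeroOrMult,
    List.any_eq_true] at hn
  set x := comb (pl (L.getD 0 0)) a₀ a₁ a₂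
  rcases hn with (hn | ⟨s, hs, hn⟩) | hn
  · refine absurd (hzc.trans (funext fun k => ?_)) hz0
    have := allBelow_spec _ _ hn k k.2
    rw [Nat.beq_eq] at this
    show K4.ofDigit (vd x k) = 0
    rw [this]; rfl
  · have h2 : ∀ s ∈ [1, 2, 3], s < 4 ∧ K4.ofDigit s ≠ 0 := by decide
    refine ⟨_, (h2 s hs).2, hzc.trans (funext fun k => ?_)⟩
    have := allBelow_spec _ _ hn k k.2
    rw [Nat.beq_eq] at this
    show K4.ofDigit (vd x k) = K4.ofDigit s * K4.ofDigit (vd p k)
    rw [this, (U62.ofDigit_mulD s (h2 s hs).1 _ (vd_lt p k)).2]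
  · exfalso
    rw [Bool.eq_false_iff] at hn
    refine hn (List.all_eq_true.2 fun i hi => allBelow_of fun k hk => ?_)
    obtain ⟨hlt, hzi⟩ := hmem i hi
    rw [hzc] at hzi
    have e := congrFun (coef_of_mem (i := ⟨i, hlt⟩) hzi) ⟨k, hk⟩
    rw [Nat.beq_eq]
    exact U62.ofDigit_inj _ (vd_lt _ _) _ (vd_lt _ _) e

/-- The coordinates of the two fixed vectors. -/
def fixedL : List (List ℤ) :=
  [(List.range 24).map (fun i => if i = 23 ∨ i = 0 then 4 else 0),
    (List.range 24).map (fun i => if i = 23 ∨ i = 1 then -4 else 0)]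

/-- The check of one integer matrix. -/
def certAll (j : ℕ) : Bool :=
  certOK (coMats.getD j []) && packOK (coMats.getD j []) (coCols.getD j []) (coRows.getD j 0) &&
    fixedL.all fun l => latB l && divL (coMats.getD j []) l && eqL (imgL (coMats.getD j []) l) l

theorem cert0 : certAll 0 = true := by decide +kernel

theorem cert1 : certAll 1 = true := by decide +kernel

theorem cert2 : certAll 2 = true := by decide +kernel

theorem cert3 : certAll 3 = true := by decide +kernel

theorem cert4 : certAll 4 = true := by decide +kernel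

theorem cert5 : certAll 5 = true := by decide +kernel

theorem cert6 : certAll 6 = true := by decide +kernel

theorem cert7 : certAll 7 = true := by decide +kernel

theorem cert8 : certAll 8 = true := by decide +kernel

theorem mats_cert : ∀ j < 9, certOK (coMats.getD j []) = true ∧
    packOK (coMats.getD j []) (coCols.getD j []) (coRows.getD j 0) = true ∧
    (fixedL.all fun l => latB l && divL (coMats.getD j []) l && eqL (imgL (coMats.getD j []) l) l) = true := by
  intro j hj
  have : certAll j = true := by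
    interval_cases j
    exacts [cert0, cert1, cert2, cert3, cert4, cert5, cert6, cert7, cert8]
  simp only [certAll, Bool.and_eq_true] at this
  exact ⟨this.1.1, this.1.2, this.2⟩

/-- A packed unitary matrix times a packed vector. -/
def mulP (C : List ℕ) (x : ℕ) : ℕ :=
  Nat.xor (Nat.xor (Nat.xor (Nat.xor (Nat.xor (sc (vd x 0) (C.getD 0 0)) (sc (vd x 1) (C.getD 1 0)))
    (sc (vd x 2) (C.getD 2 0))) (sc (vd x 3) (C.getD 3 0))) (sc (vd x 4) (C.getD 4 0))) (sc (vd x 5) (C.getD 5 0))

theorem gen_cols : ∀ j < 9, ∀ i k : Fin 6,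
    K4.ofDigit (U62.dig ((U62.mats.getD j []).getD i []) k) = of12 ((genCols.getD j []).getD k 0) i := by
  decide +kernel

theorem mv_gen12 {j : ℕ} (hj : j < 9) (x : ℕ) :
    U62.mv (U62.gen j) (of12 x) = of12 (mulP (genCols.getD j []) x) := by
  funext i
  rw [U62.mv, U62.gen, dif_pos hj, mulP, of12_xor, of12_xor, of12_xor, of12_xor, of12_xor,
    of12_sc (vd_lt x 0), of12_sc (vd_lt x 1), of12_sc (vd_lt x 2), of12_sc (vd_lt x 3), of12_sc (vd_lt x 4),
    of12_sc (vd_lt x 5)]
  show ∑ k, U62.matOf (U62.mats.getD j []) i k * of12 x k = _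
  rw [Fin.sum_univ_six]
  simp only [U62.matOf, Matrix.of_apply, Pi.add_apply, Pi.smul_apply, smul_eq_mul, U62.of6, gen_cols j hj]
  simp [of12, mul_comm]

/-- The check of one generator at one index. -/
def moveAll (j i : ℕ) : Bool :=
  let k := perm j i
  Nat.blt k 891 && Nat.beq (perm j k) i && moveF (coCols.getD j []) (coRows.getD j 0) (yc i) (yc k) &&
    allBelow (fun r => inP (pl k) (mulP (genCols.getD j []) (row (pl i) r))) 3

theorem move0 : allBelow (moveAll 0) 891 = true := by decide +kernel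

theorem move1 : allBelow (moveAll 1) 891 = true := by decide +kernel

theorem move2 : allBelow (moveAll 2) 891 = true := by decide +kernel

theorem move3 : allBelow (moveAll 3) 891 = true := by decide +kernel

theorem move4 : allBelow (moveAll 4) 891 = true := by decide +kernel

theorem move5 : allBelow (moveAll 5) 891 = true := by decide +kernel

theorem move6 : allBelow (moveAll 6) 891 = true := by decide +kernel

theorem move7 : allBelow (moveAll 7) 891 = true := by decide +kernel

theorem move8 : allBelow (moveAll 8) 891 = true := by decide +kernel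

theorem moves : ∀ j < 9, allBelow (moveAll j) 891 = true := by
  intro j hj
  interval_cases j
  exacts [move0, move1, move2, move3, move4, move5, move6, move7, move8]

/-- The stabiliser of the standard pair. -/
noncomputable abbrev stdStab : Subgroup Co0 :=
  MulAction.stabilizer Co0 stdA ⊓ MulAction.stabilizer Co0 (-stdB)

theorem ip_stdB : ip stdB stdB = 4 := ip_pairV_self

theorem ip_stdA_negB : ip stdA (-stdB) = -2 := by
  have e : ip stdA stdB = 2 := ip_eq_of_dot (by
    show ∑ i, (stdA : GolayPt → ℤ) i * (stdB : GolayPt → ℤ) i = _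
    simp only [stdA, stdB, pairV_apply]
    decide +kernel)
  rw [ip_comm, LatticeMod2.neg_left rootless_ip, ip_comm, e]

theorem fixed_vecs : ∀ v ∈ [(stdA : GolayPt → ℤ), ((-stdB : leechLattice) : GolayPt → ℤ)],
    ∃ l ∈ fixedL, v = toVec l := by
  have h : (∀ p : GolayPt, ((if p = none then (4 : ℤ) else 0) + if p = some 0 then 4 else 0) = toVec (fixedL.getD 0 []) p) ∧
      ∀ p : GolayPt, -((if p = none then (4 : ℤ) else 0) + if p = some 1 then 4 else 0) = toVec (fixedL.getD 1 []) p := by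
    decide +kernel
  intro v hv
  simp only [List.mem_cons, List.not_mem_nil, or_false] at hv
  rcases hv with rfl | rfl
  · exact ⟨fixedL.getD 0 [], by decide +kernel, funext fun p => (stdA_apply p).trans (h.1 p)⟩
  · exact ⟨fixedL.getD 1 [], by decide +kernel, funext fun p => by
      rw [AddSubgroup.coe_neg, Pi.neg_apply, stdB, pairV_apply, ← h.2 p]; simp⟩

theorem exists_gen {j : ℕ} (hj : j < 9) :
    ∃ g : Co0, g ∈ stdStab ∧ (g, QuotientGroup.mk' (Subgroup.center U62.SU6) (U62.gen j)) ∈ graph := by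
  obtain ⟨hc, hpack, hfix⟩ := mats_cert j hj
  obtain ⟨g, hg⟩ := exists_co0_mat hc
  have hf : ∀ v : leechLattice, (v : GolayPt → ℤ) ∈ [(stdA : GolayPt → ℤ), ((-stdB : leechLattice) : GolayPt → ℤ)] →
      g • v = v := fun v hv => by
    obtain ⟨l, hl, el⟩ := fixed_vecs _ hv
    have := List.all_eq_true.1 hfix l hl
    simp only [Bool.and_eq_true, eqL, decide_eq_true_eq] at this
    obtain rfl : v = latV l this.1.1 := Subtype.ext el
    exact smul_latV hc hg this.1.1 this.1.1 this.1.2 this.2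
  have hm := fun i (hi : i < 891) => allBelow_spec _ _ (moves j hj) i hi
  simp only [moveAll, Bool.and_eq_true, Nat.blt_eq, Nat.beq_eq] at hm
  have sub : ∀ (i : Fin 891) (k : Fin 891), (k : ℕ) = perm j i → ∀ u ∈ W i, U62.mv (U62.gen j) u ∈ W k := by
    intro i k hk u hu
    have hle : W i ≤ (W k).comap (Matrix.toLin' ((U62.gen j : Matrix.SpecialLinearGroup (Fin 6) K4) :
        Matrix (Fin 6) (Fin 6) K4)) := by
      rw [W, Submodule.span_le]
      rintro _ ⟨r, rfl⟩
      have := allBelow_spec _ _ (hm i i.2).2 r r.2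
      rw [← hk] at this
      show U62.mv (U62.gen j) (of12 (row (pl i) r)) ∈ W k
      rw [mv_gen12 hj]
      exact mem_of_inP this
    exact hle hu
  have hsq : ∀ u, U62.mv (U62.gen j) (U62.mv (U62.gen j) u) = u := fun u => by
    have := (U62.mats_ok _ (U62.getD_mem j hj)).2
    rw [U62.gen, dif_pos hj, U62.mv, U62.mv, Matrix.mulVec_mulVec]
    show (U62.matOf _ * U62.matOf _).mulVec u = u
    rw [this, Matrix.one_mulVec]
  refine ⟨g, ⟨hf _ (by simp), hf _ (by simp)⟩, U62.gen j, rfl, fun i => ⟨⟨_, (hm i i.2).1.1.1⟩, ?_, fun u => ?_⟩⟩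
  · exact smul_pack hg hpack (y_in i) (y_in ⟨_, (hm i i.2).1.1.1⟩) (hm i i.2).1.2
  · refine ⟨sub i _ rfl u, fun h => ?_⟩
    have := sub ⟨_, (hm i i.2).1.1.1⟩ i (hm i i.2).1.1.2.symm _ h
    rwa [hsq] at this

theorem card_stdStab : Nat.card stdStab = 9196830720 := by
  have hn : ip (-stdB) (-stdB) = 4 := by
    rw [LatticeMod2.neg_left rootless_ip, ip_comm, LatticeMod2.neg_left rootless_ip, neg_neg, ip_stdB]
  have := card_stab_mul (MulAction.stabilizer Co0 stdA) (-stdB) (withIp stdA (-2)) ⟨hn, ip_stdA_negB⟩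
    (fun g hg x hx => ⟨(co0_ip g x x).trans hx.1, by
      rw [← MulAction.mem_stabilizer_iff.1 hg, co0_ip]; exact hx.2⟩)
    (fun x hx => by
      obtain ⟨g, g1, g2⟩ := transitive_neg2 ip_stdA hn hx.1 ip_stdA_negB hx.2
      exact ⟨g, g1, g2⟩)
  rw [(census4 ip_stdA).1, card_stab4 ip_stdA] at this
  unfold stdStab
  omega

theorem gens_top :
    Subgroup.closure (Set.range fun j : Fin 9 => QuotientGroup.mk' (Subgroup.center U62.SU6) (U62.gen j)) = ⊤ := by
  rw [eq_top_iff]
  intro q _
  obtain ⟨⟨h, hh⟩, rfl⟩ := U62.surjective q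
  suffices ∃ A, U62.Rel h A ∧ QuotientGroup.mk' (Subgroup.center U62.SU6) A ∈
      Subgroup.closure (Set.range fun j : Fin 9 => QuotientGroup.mk' (Subgroup.center U62.SU6) (U62.gen j)) by
    obtain ⟨A, hA, hA'⟩ := this
    rwa [U62.θ_eq (g := ⟨h, hh⟩) hA]
  exact U62.induct
    (motive := fun h => ∃ A, U62.Rel h A ∧ QuotientGroup.mk' (Subgroup.center U62.SU6) A ∈
      Subgroup.closure (Set.range fun j : Fin 9 => QuotientGroup.mk' (Subgroup.center U62.SU6) (U62.gen j)))
    (fun j hj => ⟨_, U62.rel_gen hj, Subgroup.subset_closure ⟨⟨j, hj⟩, rfl⟩⟩) ⟨1, U62.rel_one, one_mem _⟩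
    (fun _ _ ⟨_, ha, ha'⟩ ⟨_, hb, hb'⟩ => ⟨_, U62.rel_mul ha hb, by rw [map_mul]; exact mul_mem ha' hb'⟩) hh

theorem stdStab_equiv : Nonempty (stdStab ≃* Cfsg.PSU 6 K4 2) := by
  choose g hgS hgG using fun j : Fin 9 => exists_gen j.2
  let S : Set (Co0 × Cfsg.PSU 6 K4 2) :=
    Set.range fun j => (g j, QuotientGroup.mk' (Subgroup.center U62.SU6) (U62.gen j))
  have hle : Subgroup.closure S ≤ graph ⊓ stdStab.prod ⊤ := by
    rw [Subgroup.closure_le]
    rintro _ ⟨j, rfl⟩
    exact ⟨hgG j, hgS j, trivial⟩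
  refine (equiv_of_graph (Subgroup.closure S) stdStab ⊤ 9196830720 (by norm_num) card_stdStab
    (by rw [Subgroup.card_top, U62.card_psu]) (fun x hx h => ?_) (fun x hx => (hle hx).2.1) (fun c _ => ?_)
    (fun x _ => trivial)).map fun e => e.trans Subgroup.topEquiv
  · obtain ⟨A, hA, hR⟩ := (hle hx).1
    rw [← hA, QuotientGroup.mk'_apply, QuotientGroup.eq_one_iff]
    refine scalar_of_fix fun i u => ?_
    obtain ⟨k, hk, hW⟩ := hR i
    rw [h, one_smul] at hk
    obtain rfl := yv_injective hk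
    exact hW u
  · have hc : c ∈ (Subgroup.closure S).map (MonoidHom.snd Co0 _) := by
      rw [MonoidHom.map_closure, ← Set.range_comp]
      show c ∈ Subgroup.closure (Set.range fun j : Fin 9 => QuotientGroup.mk' (Subgroup.center U62.SU6) (U62.gen j))
      rw [gens_top]
      trivial
    obtain ⟨x, hx, rfl⟩ := hc
    exact ⟨x.1, hx⟩

/-- Unitary groups over isomorphic fields. -/
theorem psu_congr {E F : Type*} [Field E] [Field F] (f : E ≃+* F) (n q : ℕ) :
    Nonempty (Cfsg.PSU n E q ≃* Cfsg.PSU n F q) := by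
  let e : Matrix.SpecialLinearGroup (Fin n) E ≃* Matrix.SpecialLinearGroup (Fin n) F :=
    MonoidHom.toMulEquiv (Matrix.SpecialLinearGroup.map f.toRingHom) (Matrix.SpecialLinearGroup.map f.symm.toRingHom)
      (MonoidHom.ext fun x => Subtype.ext (Matrix.ext fun i j => f.symm_apply_apply _))
      (MonoidHom.ext fun x => Subtype.ext (Matrix.ext fun i j => f.apply_symm_apply _))
  have hh : ∀ (u v : Fin n → E), f (Cfsg.hermForm n E q u v) = Cfsg.hermForm n F q (f ∘ u) (f ∘ v) := fun u v => by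
    simp [Cfsg.hermForm]
  have hm : ∀ (x : Matrix.SpecialLinearGroup (Fin n) E) (u : Fin n → E),
      ((e x : Matrix.SpecialLinearGroup (Fin n) F) : Matrix (Fin n) (Fin n) F).mulVec (f ∘ u)
        = f ∘ (x : Matrix (Fin n) (Fin n) E).mulVec u := fun x u => funext fun i =>
    (RingHom.map_mulVec f.toRingHom _ u i).symm
  have hSU : (Cfsg.SU n E q).map e.toMonoidHom = Cfsg.SU n F q := by
    ext y
    obtain ⟨x, rfl⟩ := e.surjective y
    rw [Subgroup.mem_map_equiv, e.symm_apply_apply]
    constructor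
    · intro hx u v
      obtain ⟨u, rfl⟩ : ∃ u', f ∘ u' = u := ⟨f.symm ∘ u, funext fun i => f.apply_symm_apply _⟩
      obtain ⟨v, rfl⟩ : ∃ v', f ∘ v' = v := ⟨f.symm ∘ v, funext fun i => f.apply_symm_apply _⟩
      show Cfsg.hermForm n F q ((e x : Matrix (Fin n) (Fin n) F).mulVec (f ∘ u))
        ((e x : Matrix (Fin n) (Fin n) F).mulVec (f ∘ v)) = _
      rw [hm, hm, ← hh, ← hh]
      exact congrArg f (hx u v)
    · intro hy u v
      have := hy (f ∘ u) (f ∘ v)
      change Cfsg.hermForm n F q ((e x : Matrix (Fin n) (Fin n) F).mulVec (f ∘ u))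
        ((e x : Matrix (Fin n) (Fin n) F).mulVec (f ∘ v)) = _ at this
      rw [hm, hm, ← hh, ← hh] at this
      exact f.injective this
  let eS : Cfsg.SU n E q ≃* Cfsg.SU n F q :=
    (e.subgroupMap (Cfsg.SU n E q)).trans (MulEquiv.subgroupCongr hSU)
  refine ⟨QuotientGroup.congr _ _ eS ?_⟩
  ext y
  obtain ⟨x, rfl⟩ := eS.surjective y
  rw [Subgroup.mem_center_iff]
  refine (Subgroup.mem_map_iff_mem eS.injective).trans ?_
  rw [Subgroup.mem_center_iff]
  exact ⟨fun h z => by
      obtain ⟨z, rfl⟩ := eS.surjective z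
      rw [← map_mul, ← map_mul, h z],
    fun h z => eS.injective (by rw [map_mul, map_mul, h (eS z)])⟩

/-- The stabiliser of any such pair. -/
theorem stab_equiv_psu {v w : leechLattice} (hv : ip v v = 4) (hw : ip w w = 4) (h : ip v w = -2)
    (F : Type) [Field F] [Fintype F] (hF : Fintype.card F = 4) :
    Nonempty (↥(MulAction.stabilizer Co0 v ⊓ MulAction.stabilizer Co0 w) ≃* Cfsg.PSU 6 F 2) := by
  obtain ⟨k, k1, k2⟩ := exists_pair2 hv
    (show ip (-w) (-w) = 4 by rw [LatticeMod2.neg_left rootless_ip, ip_comm, LatticeMod2.neg_left rootless_ip, neg_neg, hw])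
    (show ip (-w) v = 2 by rw [LatticeMod2.neg_left rootless_ip, ip_comm, h]; norm_num)
  obtain ⟨e⟩ := stdStab_equiv
  obtain ⟨e'⟩ := psu_congr (FiniteField.ringEquivOfCardEq (K4.card_K4.trans hF.symm) : K4 ≃+* F) 6 2
  have k2' : k • w = -stdB := by rw [← k2, co0_neg, neg_neg]
  have hmap : (MulAction.stabilizer Co0 v ⊓ MulAction.stabilizer Co0 w).map (MulAut.conj k).toMonoidHom = stdStab := by
    rw [Subgroup.map_inf _ _ _ (MulAut.conj k).injective, ← MulAction.stabilizer_smul_eq_stabilizer_map_conj,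
      ← MulAction.stabilizer_smul_eq_stabilizer_map_conj, k1, k2']
  exact ⟨((Subgroup.equivMapOfInjective _ _ (MulAut.conj k).injective).trans
    (MulEquiv.subgroupCongr hmap)).trans (e.trans e')⟩

end Cfsg.Agent.Leech.PairStab
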