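import Mathlib.LinearAlgebra.Dimension.Finite
import Mathlib.GroupTheory.Coset.Card
import Cfsg.Agent.Lib.Leech.Basic

/-!
The Leech lattice has index `2 ^ 36`.
-/

namespace Cfsg.Agent.Leech

open Cfsg Cfsg.Agent.Golay

theorem index_evenSub : evenSub.index = 2 ^ 23 := by
  rw [← ker_parityHom, AddSubgroup.index_ker]
  have hsurj : Function.Surjective parityHom := by
    intro f
    refine ⟨fun p => p.elim 0 fun t => ((f t).val : ℤ), ?_⟩
    funext t
    simp [parityHom]
  rw [AddMonoidHom.range_eq_top.2 hsurj, AddSubgroup.card_top, Nat.card_eq_fintype_card]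
  simp

theorem card_code_quotient : Nat.card ((GolayPt → ZMod 2) ⧸ golayCode) = 2 ^ 12 := by
  have hcode : Nat.card golayCode = 4096 := by
    have h : (golayCode : Set (GolayPt → ZMod 2)) = ↑(codeList.toFinset.image ofMask) := by
      ext w; simp [mem_golayCode]
    show Nat.card (golayCode : Set (GolayPt → ZMod 2)) = _
    rw [Nat.card_coe_set_eq, h, Set.ncard_coe_finset, Finset.card_image_of_injOn,
      List.toFinset_card_of_nodup codeList_nodup]
    · rw [← List.length_map (fun x => x >>> 12), codeList_top, List.length_range]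
    · intro a ha b hb hab
      simp at ha hb
      exact ofMask_inj (lt_of_mem_codeList ha) (lt_of_mem_codeList hb) hab
  have h := AddSubgroup.card_eq_card_quotient_mul_card_addSubgroup golayCode.toAddSubgroup
  have hall : Nat.card (GolayPt → ZMod 2) = 2 ^ 24 := by simp [Nat.card_eq_fintype_card]
  have hc : Nat.card golayCode.toAddSubgroup = 4096 := hcode
  rw [hall, hc] at h
  change Nat.card ((GolayPt → ZMod 2) ⧸ golayCode.toAddSubgroup) = _
  show Nat.card _ = 4096
  apply Nat.eq_of_mul_eq_mul_right (show 0 < 4096 by norm_num)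
  exact h.symm.trans (by norm_num)

theorem residueHom_surjective : Function.Surjective residueHom := by
  intro q
  obtain ⟨w, rfl⟩ := Submodule.Quotient.mk_surjective _ q
  refine ⟨⟨fun i => 2 * ((w i).val : ℤ), fun i => ⟨((w i).val : ℤ) - ((w none).val : ℤ), by ring⟩⟩, ?_⟩
  show Submodule.Quotient.mk (hword _ _) = _
  rw [Submodule.Quotient.eq]
  have : hword (2 * ((w none).val : ℤ)) (fun i => 2 * ((w i).val : ℤ)) - w
      = (w none) • (1 : GolayPt → ZMod 2) := by
    funext i
    have h : (2 * ((w i).val : ℤ) - 2 * ((w none).val : ℤ)) / 2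
        = ((w i).val : ℤ) - ((w none).val : ℤ) := by omega
    simp only [hword, Pi.sub_apply, Pi.smul_apply, Pi.one_apply, smul_eq_mul, mul_one, h]
    simp [sub_eq_add_neg, ZMod.neg_eq_self_mod_two]
    rcases zmod2_cases (w i) with h1 | h1 <;> rcases zmod2_cases (w none) with h2 | h2 <;>
      rw [h1, h2] <;> decide
  rw [this]
  exact golayCode.smul_mem _ one_mem_code

theorem four_dvd_sum (x : evenSub) (hx : residueHom x = 0) :
    (4 : ℤ) ∣ ∑ i, ((x : GolayPt → ℤ) i - (x : GolayPt → ℤ) none) := by
  have hw : hword ((x : GolayPt → ℤ) none) x ∈ golayCode :=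
    (Submodule.Quotient.mk_eq_zero _).1 hx
  have h2 : ∀ i, ∃ q, (x : GolayPt → ℤ) i - (x : GolayPt → ℤ) none = 2 * q := fun i => x.2 i
  choose q hq using h2
  simp_rw [hq]
  rw [← Finset.mul_sum]
  have : (2 : ℤ) ∣ ∑ i, q i := by
    refine (ZMod.intCast_zmod_eq_zero_iff_dvd (∑ i, q i) 2).1 ?_
    rw [Int.cast_sum]
    have hcast : ∀ i, ((q i : ℤ) : ZMod 2) = hword ((x : GolayPt → ℤ) none) x i := by
      intro i
      have : ((x : GolayPt → ℤ) i - (x : GolayPt → ℤ) none) / 2 = q i := by
        have := hq i; omega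
      simp [hword, this]
    simp_rw [hcast]
    have := self_orthogonal one_mem_code hw
    simpa using this
  omega

/-- Vectors with equal parities whose residue word lies in the code. -/
def codeSub : AddSubgroup (GolayPt → ℤ) := residueHom.ker.map evenSub.subtype

/-- The sum condition as a map to `ZMod 2`. -/
def sumHom : residueHom.ker →+ ZMod 2 where
  toFun x := (((∑ i, (((x : evenSub) : GolayPt → ℤ) i - ((x : evenSub) : GolayPt → ℤ) none)) / 4
      + 5 * ((x : evenSub) : GolayPt → ℤ) none : ℤ) : ZMod 2)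
  map_zero' := by simp
  map_add' x y := by
    obtain ⟨a, ha⟩ := four_dvd_sum (x : evenSub) x.2
    obtain ⟨b, hb⟩ := four_dvd_sum (y : evenSub) y.2
    have hadd : ∑ i, ((((x + y : residueHom.ker) : evenSub) : GolayPt → ℤ) i -
        (((x + y : residueHom.ker) : evenSub) : GolayPt → ℤ) none) = 4 * a + 4 * b := by
      rw [← ha, ← hb, ← Finset.sum_add_distrib]
      refine Finset.sum_congr rfl fun i _ => ?_
      simp; ring
    rw [hadd, ha, hb, ← Int.cast_add]
    congr 1
    simp only [AddSubgroup.coe_add, Pi.add_apply]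
    omega

theorem ker_sumHom : sumHom.ker.map (evenSub.subtype.comp residueHom.ker.subtype) = leechLattice := by
  ext x
  have hsum : ∀ y : GolayPt → ℤ, ∑ i, (y i - y none) = ∑ i, y i - 24 * y none := fun y => by
    rw [Finset.sum_sub_distrib, Finset.sum_const,
      show (Finset.univ : Finset GolayPt).card = 24 from rfl]
    simp
  constructor
  · rintro ⟨u, hu, rfl⟩
    refine mem_leech.2 ⟨((u : evenSub) : GolayPt → ℤ) none, fun i => (u : evenSub).2 i, ?_,
      (Submodule.Quotient.mk_eq_zero _).1 u.2⟩
    have h4 := four_dvd_sum (u : evenSub) u.2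
    have h := (ZMod.intCast_zmod_eq_zero_iff_dvd _ 2).1 hu
    simp only [hsum, AddMonoidHom.coe_comp, Function.comp_apply, AddSubgroup.coe_subtype] at h h4 ⊢
    omega
  · intro hx
    obtain ⟨m, hm⟩ := mem_leech.1 hx
    have hpar : x ∈ evenSub := fun i => by have := hm.1 i; have := hm.1 none; omega
    obtain ⟨k, hk⟩ : ∃ k, x none = m + 2 * k :=
      ⟨(x none - m) / 2, by have := hm.1 none; omega⟩
    have hm' := hm.shift k
    rw [← hk] at hm'
    have hker : (⟨x, hpar⟩ : evenSub) ∈ residueHom.ker :=
      (Submodule.Quotient.mk_eq_zero _).2 hm'.2.2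
    refine ⟨⟨⟨x, hpar⟩, hker⟩, ?_, rfl⟩
    show (((∑ i, (x i - x none)) / 4 + 5 * x none : ℤ) : ZMod 2) = 0
    refine (ZMod.intCast_zmod_eq_zero_iff_dvd _ 2).2 ?_
    have h8 := hm'.2.1
    have h4 := four_dvd_sum ⟨x, hpar⟩ hker
    simp only [hsum] at h4 ⊢
    omega

theorem sumHom_surjective : Function.Surjective sumHom := by
  intro z
  rcases zmod2_cases z with rfl | rfl
  · exact ⟨0, map_zero _⟩
  · let e : GolayPt → ℤ := fun i => if i = some 0 then 4 else 0
    have hpar : e ∈ evenSub := fun i => by simp only [e]; split_ifs <;> simp_all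
    have hker : (⟨e, hpar⟩ : evenSub) ∈ residueHom.ker := by
      refine (Submodule.Quotient.mk_eq_zero _).2 ?_
      have : hword (e none) e = 0 := by
        funext i; simp only [hword, e]; split_ifs <;> simp_all <;> decide
      rw [show ((⟨e, hpar⟩ : evenSub) : GolayPt → ℤ) = e from rfl, this]
      exact golayCode.zero_mem
    refine ⟨⟨⟨e, hpar⟩, hker⟩, ?_⟩
    show (((∑ i, (e i - e none)) / 4 + 5 * e none : ℤ) : ZMod 2) = 1
    decide +kernel

/-- **The lattice has index `2 ^ 36`.** -/
theorem index_leech : leechLattice.index = 2 ^ 36 := by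
  rw [← ker_sumHom, ← AddSubgroup.map_map, AddSubgroup.index_map_subtype,
    AddSubgroup.index_map_subtype, index_evenSub, AddSubgroup.index_ker,
    AddSubgroup.index_ker, AddMonoidHom.range_eq_top.2 sumHom_surjective,
    AddMonoidHom.range_eq_top.2 residueHom_surjective, AddSubgroup.card_top, AddSubgroup.card_top,
    card_code_quotient, Nat.card_zmod]
  norm_num

end Cfsg.Agent.Leech
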