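import Mathlib.LinearAlgebra.Dimension.Finite
import Mathlib.Algebra.Order.Ring.Rat
import Mathlib.Tactic

/-!
Classes modulo 2 in a rootless even lattice with the shell sizes of the Leech lattice.
-/

namespace Cfsg.Agent.LatticeMod2

variable {L : Type*} [AddCommGroup L]

/-- Axioms used: a biadditive symmetric positive form, even, no vectors of norm 2, at most 24
pairwise orthogonal nonzero vectors, and `|L / 2L| = 2 ^ 24`. -/
structure Rootless (B : L → L → ℤ) : Prop where
  symm : ∀ x y, B x y = B y x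
  add : ∀ x y z, B (x + y) z = B x z + B y z
  even : ∀ x, 2 ∣ B x x
  pos : ∀ x, x ≠ 0 → 4 ≤ B x x
  orth : ∀ s : Finset L, (∀ x ∈ s, x ≠ 0) → (∀ x ∈ s, ∀ y ∈ s, x ≠ y → B x y = 0) → s.card ≤ 24

/-- Congruence modulo `2 L`. -/
def Cong (x y : L) : Prop := ∃ z, x - y = 2 • z

variable {B : L → L → ℤ} (h : Rootless B)

include h

theorem map_zero_left (x : L) : B 0 x = 0 := by
  have := h.add 0 0 x; rw [add_zero] at this; omega

theorem neg_left (x y : L) : B (-x) y = -B x y := by
  have := h.add x (-x) y; rw [add_neg_cancel, map_zero_left h] at this; omega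

theorem sub_left (x y z : L) : B (x - y) z = B x z - B y z := by
  rw [sub_eq_add_neg, h.add, neg_left h, sub_eq_add_neg]

theorem norm_sub (x y : L) : B (x - y) (x - y) = B x x - 2 * B x y + B y y := by
  rw [sub_left h, h.symm x (x - y), sub_left h, h.symm y (x - y), sub_left h, h.symm y x]; ring

theorem norm_add (x y : L) : B (x + y) (x + y) = B x x + 2 * B x y + B y y := by
  rw [h.add, h.symm x (x + y), h.add, h.symm y (x + y), h.add, h.symm y x]; ring

theorem norm_two_smul (z : L) : B (2 • z) (2 • z) = 4 * B z z := by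
  rw [two_nsmul, norm_add h]; ring

theorem norm_nonneg (x : L) : 0 ≤ B x x := by
  rcases eq_or_ne x 0 with rfl | hx
  · rw [map_zero_left h]
  · linarith [h.pos x hx]

/-- Congruent short vectors are equal, opposite, or orthogonal of norm 8. -/
theorem cong_short {x y : L} (hx : B x x ≤ 8) (hy : B y y ≤ 8) (hc : Cong x y) :
    y = x ∨ y = -x ∨ (B x x = 8 ∧ B y y = 8 ∧ B x y = 0) := by
  obtain ⟨z, hz⟩ := hc
  by_cases h1 : y = x
  · exact Or.inl h1
  by_cases h2 : y = -x
  · exact Or.inr (Or.inl h2)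
  refine Or.inr (Or.inr ?_)
  have hz0 : z ≠ 0 := by
    rintro rfl; rw [smul_zero, sub_eq_zero] at hz; exact h1 hz.symm
  have hw : x + y = 2 • (z + y) := by rw [smul_add, ← hz, two_nsmul]; abel
  have hw0 : z + y ≠ 0 := by
    intro h0; rw [h0, smul_zero, add_eq_zero_iff_eq_neg] at hw
    exact h2 (by rw [hw, neg_neg])
  have e1 := norm_sub h x y
  have e2 := norm_add h x y
  rw [hz, norm_two_smul h] at e1
  rw [hw, norm_two_smul h] at e2
  have := h.pos z hz0
  have := h.pos _ hw0
  omega

omit h in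
/-- The quotient by `2 L`. -/
def two (L : Type*) [AddCommGroup L] : AddSubgroup L := (nsmulAddMonoidHom (α := L) 2).range

omit h in
theorem mk_eq_iff {x y : L} : (QuotientAddGroup.mk x : L ⧸ two L) = QuotientAddGroup.mk y ↔ Cong x y := by
  rw [QuotientAddGroup.eq_iff_sub_mem]
  constructor
  · rintro ⟨z, hz⟩; exact ⟨z, hz.symm⟩
  · rintro ⟨z, hz⟩; exact ⟨z, hz.symm⟩

omit h in
/-- The weight of a short vector: 48 divided by the largest class containing it. -/
def wt (B : L → L → ℤ) (x : L) : ℕ := if B x x = 0 then 48 else if B x x = 8 then 1 else 24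

variable (hq : Nat.card (L ⧸ two L) = 2 ^ 24)
  (h4 : {x : L | B x x = 4}.ncard = 196560) (h6 : {x : L | B x x = 6}.ncard = 16773120)
  (h8 : {x : L | B x x = 8}.ncard = 398034000)

theorem neg_ne_self {x : L} (hx : x ≠ 0) : -x ≠ x := by
  intro e
  have h2 : 2 • x = 0 := by rw [two_nsmul]; nth_rewrite 1 [← e]; exact neg_add_cancel x
  have := norm_two_smul h x
  rw [h2, map_zero_left h] at this
  linarith [h.pos x hx]

theorem fiber_bound [DecidableEq L] (S : Finset L) (hS : ∀ x ∈ S, B x x ≤ 8)
    (hc : ∀ x ∈ S, ∀ y ∈ S, Cong x y) : ∑ x ∈ S, wt B x ≤ 48 := by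
  rcases S.eq_empty_or_nonempty with rfl | ⟨x, hx⟩
  · simp
  by_cases h8' : ∃ x ∈ S, B x x = 8
  · obtain ⟨x, hx, hx8⟩ := h8'
    have hall : ∀ y ∈ S, B y y = 8 := by
      intro y hy
      rcases cong_short h (hS x hx) (hS y hy) (hc x hx y hy) with rfl | rfl | ⟨-, h', -⟩
      · exact hx8
      · rw [neg_left h, h.symm, neg_left h, neg_neg]; exact hx8
      · exact h'
    rw [Finset.sum_congr rfl (fun y hy => show wt B y = 1 by simp [wt, hall y hy]),
      Finset.sum_const, smul_eq_mul, mul_one]
    classical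
    -- one representative from each pair of opposite vectors
    let P : Finset (Finset L) := S.image fun y => {y, -y}
    have hne : ∀ y ∈ S, y ≠ 0 := fun y hy e => by
      have := hall y hy; rw [e, map_zero_left h] at this; omega
    have hPcard : P.card ≤ 24 := by
      have hchoice : ∀ p ∈ P, ∃ y ∈ S, ({y, -y} : Finset L) = p := fun p hp => Finset.mem_image.1 hp
      choose g hgS hg using hchoice
      have hinj : Function.Injective (fun p : P => g p.1 p.2) := fun p q e => by
        apply Subtype.ext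
        rw [← hg p.1 p.2, ← hg q.1 q.2]
        simp only at e
        rw [e]
      have := h.orth (Finset.univ.image fun p : P => g p.1 p.2) (fun y hy => by
          obtain ⟨p, -, rfl⟩ := Finset.mem_image.1 hy
          exact hne _ (hgS _ p.2))
        (fun y hy z hz hyz => by
          obtain ⟨p, -, rfl⟩ := Finset.mem_image.1 hy
          obtain ⟨q, -, rfl⟩ := Finset.mem_image.1 hz
          rcases cong_short h (hS _ (hgS _ p.2)) (hS _ (hgS _ q.2)) (hc _ (hgS _ p.2) _ (hgS _ q.2))
            with e | e | ⟨-, -, e⟩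
          · exact absurd e.symm hyz
          · exfalso
            refine hyz ?_
            have hpq : p = q := Subtype.ext (by
              rw [← hg p.1 p.2, ← hg q.1 q.2, e, neg_neg, Finset.pair_comm])
            subst hpq; rfl
          · exact e)
      rwa [Finset.card_image_of_injective _ hinj, Finset.card_univ, Fintype.card_coe] at this
    have hsub : S ⊆ P.biUnion id := fun y hy =>
      Finset.mem_biUnion.2 ⟨_, Finset.mem_image_of_mem _ hy, by simp⟩
    calc S.card ≤ (P.biUnion id).card := Finset.card_le_card hsub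
      _ ≤ ∑ p ∈ P, p.card := Finset.card_biUnion_le
      _ ≤ ∑ _p ∈ P, 2 := Finset.sum_le_sum fun p hp => by
          obtain ⟨y, -, rfl⟩ := Finset.mem_image.1 hp
          exact Finset.card_le_two
      _ ≤ 48 := by rw [Finset.sum_const, smul_eq_mul]; omega
  · push_neg at h8'
    have hsub : S ⊆ {x, -x} := fun y hy => by
      rcases cong_short h (hS x hx) (hS y hy) (hc x hx y hy) with rfl | rfl | ⟨h', -, -⟩
      · simp
      · simp
      · exact absurd h' (h8' x hx)
    rcases eq_or_ne x 0 with rfl | hx0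
    · rw [neg_zero, Finset.pair_eq_singleton] at hsub
      refine (Finset.sum_le_sum_of_subset hsub).trans ?_
      rw [Finset.sum_singleton]; unfold wt; split_ifs <;> norm_num
    · refine (Finset.sum_le_sum_of_subset hsub).trans ?_
      rw [Finset.sum_pair (neg_ne_self h hx0).symm]
      have hx' := h.pos x hx0
      have hnx : B (-x) (-x) = B x x := by rw [neg_left h, h.symm, neg_left h, neg_neg]
      have h8x := h8' x hx
      simp only [wt, hnx]
      split_ifs <;> omega

include hq h4 h6 h8

/-- Each class modulo `2 L` has weight exactly 48. -/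
theorem counting : (∀ x : L, ∃ y, B y y ≤ 8 ∧ Cong x y) ∧
    ∀ x : L, B x x = 8 → {y : L | B y y = 8 ∧ Cong x y}.ncard = 48 := by
  classical
  have f4 : {x : L | B x x = 4}.Finite := Set.finite_of_ncard_ne_zero (by rw [h4]; norm_num)
  have f6 : {x : L | B x x = 6}.Finite := Set.finite_of_ncard_ne_zero (by rw [h6]; norm_num)
  have f8 : {x : L | B x x = 8}.Finite := Set.finite_of_ncard_ne_zero (by rw [h8]; norm_num)
  have : Finite (L ⧸ two L) := Nat.finite_of_card_ne_zero (by rw [hq]; norm_num)
  have : Fintype (L ⧸ two L) := Fintype.ofFinite _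
  let S : Finset L := {0} ∪ f4.toFinset ∪ f6.toFinset ∪ f8.toFinset
  have hmem : ∀ x, x ∈ S ↔ B x x ≤ 8 := by
    intro x
    simp only [S, Finset.mem_union, Finset.mem_singleton, Set.Finite.mem_toFinset, Set.mem_ofPred_eq]
    refine ⟨fun hx => ?_, fun hx => ?_⟩
    · rcases hx with ((rfl | h') | h') | h' <;> first | (rw [map_zero_left h]; norm_num) | omega
    · rcases eq_or_ne x 0 with rfl | hx0
      · simp
      · have := h.pos x hx0; obtain ⟨k, hk⟩ := h.even x; omega
  have hfib : ∀ c : L ⧸ two L,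
      ∑ x ∈ S.filter (fun x => (QuotientAddGroup.mk x : L ⧸ two L) = c), wt B x ≤ 48 := fun c =>
    fiber_bound h _ (fun x hx => (hmem x).1 (Finset.mem_filter.1 hx).1) fun x hx y hy =>
      mk_eq_iff.1 ((Finset.mem_filter.1 hx).2.trans (Finset.mem_filter.1 hy).2.symm)
  have htot : ∑ x ∈ S, wt B x = 48 * 2 ^ 24 := by
    have d : ∀ a b : ℤ, a ≠ b → ∀ (sa : {x : L | B x x = a}.Finite) (sb : {x : L | B x x = b}.Finite),
        Disjoint sa.toFinset sb.toFinset := fun a b hab sa sb => by
      rw [Finset.disjoint_left]; intro x hx hx'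
      simp only [Set.Finite.mem_toFinset, Set.mem_ofPred_eq] at hx hx'
      exact hab (hx ▸ hx')
    have d0 : ∀ a : ℤ, a ≠ 0 → ∀ (sa : {x : L | B x x = a}.Finite), Disjoint ({0} : Finset L) sa.toFinset :=
      fun a ha sa => by
        rw [Finset.disjoint_singleton_left, Set.Finite.mem_toFinset]
        intro e; rw [Set.mem_ofPred_eq, map_zero_left h] at e; exact ha e.symm
    have c : ∀ (a : ℤ) (w : ℕ) (sa : {x : L | B x x = a}.Finite),
        (∀ x, B x x = a → wt B x = w) → ∑ x ∈ sa.toFinset, wt B x = {x : L | B x x = a}.ncard * w := by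
      intro a w sa hw
      rw [Finset.sum_congr rfl (fun x hx => hw x (sa.mem_toFinset.1 hx)), Finset.sum_const,
        smul_eq_mul, Set.ncard_eq_toFinset_card _ sa]
    rw [Finset.sum_union, Finset.sum_union, Finset.sum_union, Finset.sum_singleton,
      c 4 24 f4 (fun x e => by simp [wt, e]), c 6 24 f6 (fun x e => by simp [wt, e]),
      c 8 1 f8 (fun x e => by simp [wt, e]), h4, h6, h8]
    · simp [wt, map_zero_left h]
    · exact d0 4 (by norm_num) f4
    · rw [Finset.disjoint_union_left]; exact ⟨d0 6 (by norm_num) f6, d 4 6 (by norm_num) f4 f6⟩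
    · rw [Finset.disjoint_union_left, Finset.disjoint_union_left]
      exact ⟨⟨d0 8 (by norm_num) f8, d 4 8 (by norm_num) f4 f8⟩, d 6 8 (by norm_num) f6 f8⟩
  rw [← Finset.sum_fiberwise S (fun x => (QuotientAddGroup.mk x : L ⧸ two L))] at htot
  have hcard : (Finset.univ : Finset (L ⧸ two L)).card = 2 ^ 24 := by
    rw [Finset.card_univ, ← Nat.card_eq_fintype_card, hq]
  have heq : ∀ c : L ⧸ two L,
      ∑ x ∈ S.filter (fun x => (QuotientAddGroup.mk x : L ⧸ two L) = c), wt B x = 48 := by
    intro c
    refine (Finset.sum_eq_sum_iff_of_le (g := fun _ => 48) fun i _ => hfib i).1 ?_ c (Finset.mem_univ c)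
    rw [htot, Finset.sum_const, hcard, smul_eq_mul, Nat.mul_comm]
  constructor
  · intro x
    obtain ⟨y, hy, -⟩ := Finset.exists_ne_zero_of_sum_ne_zero
      (show ∑ z ∈ S.filter (fun z => (QuotientAddGroup.mk z : L ⧸ two L) = QuotientAddGroup.mk x), wt B z ≠ 0
        by rw [heq]; norm_num)
    obtain ⟨hyS, hyc⟩ := Finset.mem_filter.1 hy
    exact ⟨y, (hmem y).1 hyS, mk_eq_iff.1 hyc.symm⟩
  · intro x hx
    have hclass : {y : L | B y y = 8 ∧ Cong x y}
        = ↑(S.filter (fun y => (QuotientAddGroup.mk y : L ⧸ two L) = QuotientAddGroup.mk x)) := by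
      ext y
      simp only [Set.mem_ofPred_eq, Finset.coe_filter, hmem]
      refine ⟨fun hy => ⟨by omega, (mk_eq_iff.2 hy.2).symm⟩, fun hy => ?_⟩
      have hc := mk_eq_iff.1 hy.2.symm
      refine ⟨?_, hc⟩
      rcases cong_short h (by omega) hy.1 hc with rfl | rfl | ⟨-, h', -⟩
      · exact hx
      · rw [neg_left h, h.symm, neg_left h, neg_neg]; exact hx
      · exact h'
    rw [hclass, Set.ncard_coe_finset, ← heq (QuotientAddGroup.mk x), Finset.card_eq_sum_ones]
    refine Finset.sum_congr rfl fun y hy => ?_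
    obtain ⟨hyS, hyc⟩ := Finset.mem_filter.1 hy
    have hy8 : B y y = 8 := by
      have : y ∈ {y : L | B y y = 8 ∧ Cong x y} := by rw [hclass]; exact hy
      exact this.1
    simp [wt, hy8]

omit h hq h4 h6 h8

/-- Pairwise orthogonal nonzero vectors of a positive definite form on `K ^ n` number at most `n`. -/
theorem orth_bound {n : Type*} [Fintype n] (φ : L →+ (n → ℚ)) (F : (n → ℚ) →ₗ[ℚ] (n → ℚ) →ₗ[ℚ] ℚ)
    (hF : ∀ x y, (B x y : ℚ) = F (φ x) (φ y)) (hpos : ∀ x, x ≠ 0 → 4 ≤ B x x) (s : Finset L)
    (hs : ∀ x ∈ s, x ≠ 0) (ho : ∀ x ∈ s, ∀ y ∈ s, x ≠ y → B x y = 0) :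
    s.card ≤ Fintype.card n := by
  classical
  have hli : LinearIndependent ℚ (fun x : s => φ (x : L)) := by
    rw [Fintype.linearIndependent_iff]
    intro g hg i
    have h0 : F (φ (i : L)) (∑ x : s, g x • φ (x : L)) = 0 := by rw [hg, map_zero]
    rw [map_sum, Finset.sum_eq_single i] at h0
    · rw [map_smul, smul_eq_mul, ← hF] at h0
      rcases mul_eq_zero.1 h0 with h' | h'
      · exact h'
      · exfalso
        have h1 := hpos _ (hs _ i.2)
        have h2 : B (i : L) i = 0 := by exact_mod_cast h'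
        omega
    · intro x _ hxi
      rw [map_smul, smul_eq_mul, ← hF, ho _ i.2 _ x.2 (fun e => hxi (Subtype.ext e.symm))]
      simp
    · simp
  have := hli.fintype_card_le_finrank
  simpa using this

end Cfsg.Agent.LatticeMod2
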