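import Mathlib.LinearAlgebra.Matrix.ToLinearEquiv
import Mathlib.LinearAlgebra.BilinearForm.Basic
import Cfsg.Agent.Lib.Leech.Mod2
import Cfsg.Agent.Lib.Leech.Census
import Cfsg.Agent.Lib.Leech.Index
import Cfsg.Prelude.Def_SporadicCombinatorics

/-!
The classes of the Leech lattice modulo 2, and of a lattice given by a Gram matrix.
-/

namespace Cfsg.Agent.Leech

open Cfsg Cfsg.Agent.Golay
open Cfsg.Agent.LatticeMod2 (Rootless Cong two)
open Matrix

theorem index_two_pi (ι : Type*) [Fintype ι] [DecidableEq ι] :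
    (nsmulAddMonoidHom (α := ι → ℤ) 2).range.index = 2 ^ Fintype.card ι := by
  let f : (ι → ℤ) →+ (ι → ZMod 2) :=
    { toFun := fun x i => (x i : ZMod 2)
      map_zero' := by ext; simp
      map_add' := fun x y => by ext; simp }
  have hker : (nsmulAddMonoidHom (α := ι → ℤ) 2).range = f.ker := by
    ext x
    constructor
    · rintro ⟨y, rfl⟩
      funext i
      exact (ZMod.intCast_zmod_eq_zero_iff_dvd _ 2).2 ⟨y i, by simp [nsmulAddMonoidHom]⟩
    · intro hx
      refine ⟨fun i => x i / 2, funext fun i => ?_⟩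
      have := (ZMod.intCast_zmod_eq_zero_iff_dvd (x i) 2).1 (congrFun hx i)
      simp [nsmulAddMonoidHom]; omega
  have hsurj : Function.Surjective f := fun w =>
    ⟨fun i => ((w i).val : ℤ), funext fun i => by simp [f]⟩
  rw [hker, AddSubgroup.index_ker, AddMonoidHom.range_eq_top.2 hsurj, AddSubgroup.card_top]
  simp [Nat.card_eq_fintype_card]

theorem card_mod_two_leech : Nat.card (leechLattice ⧸ two leechLattice) = 2 ^ 24 := by
  show (two leechLattice).index = _
  have hmap : (two leechLattice).map leechLattice.subtype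
      = leechLattice.map (nsmulAddMonoidHom (α := GolayPt → ℤ) 2) := by
    ext x
    constructor
    · rintro ⟨_, ⟨z, rfl⟩, rfl⟩; exact ⟨z, z.2, rfl⟩
    · rintro ⟨z, hz, rfl⟩; exact ⟨_, ⟨⟨z, hz⟩, rfl⟩, rfl⟩
  have hinj : Function.Injective (nsmulAddMonoidHom (α := GolayPt → ℤ) 2) := fun x y h => by
    funext i
    have := congrFun h i
    simp [nsmulAddMonoidHom] at this
    omega
  have h := AddSubgroup.index_map_subtype (two leechLattice)
  rw [hmap, AddSubgroup.index_map_of_injective _ hinj, index_two_pi, index_leech,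
    show Fintype.card GolayPt = 24 from rfl] at h
  rw [Nat.mul_comm (two leechLattice).index] at h
  exact (Nat.eq_of_mul_eq_mul_left (Nat.two_pow_pos 36) h).symm

theorem norm_add (x y : GolayPt → ℤ) : sqNorm (x + y) = sqNorm x + 2 * dotInt x y + sqNorm y := by
  simp only [sqNorm, dotInt, Finset.mul_sum, ← Finset.sum_add_distrib, Pi.add_apply]
  exact Finset.sum_congr rfl fun i _ => by ring

theorem dotInt_self (x : GolayPt → ℤ) : dotInt x x = sqNorm x :=
  Finset.sum_congr rfl fun i _ => by ring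

theorem dotInt_comm (x y : GolayPt → ℤ) : dotInt x y = dotInt y x :=
  Finset.sum_congr rfl fun i _ => by ring

theorem dotInt_add_left (x y z : GolayPt → ℤ) : dotInt (x + y) z = dotInt x z + dotInt y z := by
  simp only [dotInt, ← Finset.sum_add_distrib, Pi.add_apply]
  exact Finset.sum_congr rfl fun i _ => by ring

theorem eight_dvd_dot {x y : GolayPt → ℤ} (hx : x ∈ leechLattice) (hy : y ∈ leechLattice) :
    (8 : ℤ) ∣ dotInt x y := by
  have h1 := sixteen_dvd_sqNorm (leechLattice.add_mem hx hy)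
  have h2 := sixteen_dvd_sqNorm hx
  have h3 := sixteen_dvd_sqNorm hy
  rw [norm_add] at h1
  omega

/-- The customary inner product on the lattice. -/
def ip (x y : leechLattice) : ℤ := dotInt (x : GolayPt → ℤ) y / 8

theorem eight_ip (x y : leechLattice) : 8 * ip x y = dotInt (x : GolayPt → ℤ) y :=
  Int.mul_ediv_cancel' (eight_dvd_dot x.2 y.2)

theorem eight_ip_self (x : leechLattice) : 8 * ip x x = sqNorm (x : GolayPt → ℤ) := by
  rw [eight_ip, dotInt_self]

theorem rootless_ip : Rootless ip := by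
  refine ⟨fun x y => ?_, fun x y z => ?_, fun x => ?_, fun x hx => ?_, ?_⟩
  · rw [ip, ip, dotInt_comm]
  · have := eight_ip (x + y) z; have := eight_ip x z; have := eight_ip y z
    have := dotInt_add_left (x : GolayPt → ℤ) y z
    simp only [AddSubgroup.coe_add] at *
    omega
  · have := eight_ip_self x; have := sixteen_dvd_sqNorm x.2; omega
  · have := eight_ip_self x
    have := min_norm x.2 (fun h => hx (Subtype.ext h))
    omega
  · intro s hs ho
    let φ : leechLattice →+ (GolayPt → ℚ) :=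
      { toFun := fun x i => ((x : GolayPt → ℤ) i : ℚ)
        map_zero' := by ext; simp
        map_add' := fun x y => by ext; simp }
    let F : (GolayPt → ℚ) →ₗ[ℚ] (GolayPt → ℚ) →ₗ[ℚ] ℚ :=
      LinearMap.mk₂ ℚ (fun x y => (∑ i, x i * y i) / 8)
        (fun a b c => by simp [add_mul, Finset.sum_add_distrib, add_div])
        (fun r a c => by simp [mul_assoc, ← Finset.mul_sum, mul_div_assoc])
        (fun a b c => by simp [mul_add, Finset.sum_add_distrib, add_div])
        (fun r a c => by simp [mul_left_comm _ r, ← Finset.mul_sum, mul_div_assoc])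
    have hF : ∀ x y : leechLattice, (ip x y : ℚ) = F (φ x) (φ y) := by
      intro x y
      rw [LinearMap.mk₂_apply, eq_div_iff (by norm_num : (8 : ℚ) ≠ 0)]
      have := eight_ip x y
      rw [mul_comm]
      simp only [φ, dotInt, AddMonoidHom.coe_mk, ZeroHom.coe_mk] at this ⊢
      exact_mod_cast this
    exact le_of_le_of_eq (LatticeMod2.orth_bound φ F hF (fun x hx => by
      have := eight_ip_self x
      have := min_norm x.2 (fun h => hx (Subtype.ext h))
      omega) s hs ho) rfl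

theorem shell_ip (n : ℤ) : {x : leechLattice | ip x x = n}.ncard
    = {x : GolayPt → ℤ | x ∈ leechLattice ∧ sqNorm x = 8 * n}.ncard := by
  rw [← Set.ncard_image_of_injective _ Subtype.coe_injective]
  congr 1
  ext x
  constructor
  · rintro ⟨y, hy, rfl⟩; exact ⟨y.2, by rw [← eight_ip_self, hy]⟩
  · rintro ⟨hx, hn⟩
    refine ⟨⟨x, hx⟩, ?_, rfl⟩
    have := eight_ip_self ⟨x, hx⟩
    simp only [Set.mem_ofPred_eq]
    change sqNorm x = _ at hn
    simp only [hn] at this
    omega

theorem counting_leech : (∀ x : leechLattice, ∃ y, ip y y ≤ 8 ∧ Cong x y) ∧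
    ∀ x : leechLattice, ip x x = 8 → {y : leechLattice | ip y y = 8 ∧ Cong x y}.ncard = 48 :=
  LatticeMod2.counting rootless_ip card_mod_two_leech ((shell_ip 4).trans ncard_32)
    ((shell_ip 6).trans ncard_48) ((shell_ip 8).trans ncard_64)

theorem ncard_cross (x : GolayPt → ℤ) (hx : x ∈ leechLattice) (hn : sqNorm x = 64) :
    (cross x).ncard = 48 := by
  have h8 : ip ⟨x, hx⟩ ⟨x, hx⟩ = 8 := by
    have := eight_ip_self ⟨x, hx⟩
    simp only [hn] at this
    omega
  rw [← counting_leech.2 ⟨x, hx⟩ h8, ← Set.ncard_image_of_injective _ Subtype.coe_injective]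
  congr 1
  ext y
  constructor
  · rintro ⟨hy, hny, z, hz, hxy⟩
    refine ⟨⟨y, hy⟩, ⟨?_, ⟨z, hz⟩, Subtype.ext hxy⟩, rfl⟩
    have := eight_ip_self ⟨y, hy⟩
    simp only [hny, hn] at this
    omega
  · rintro ⟨w, ⟨hw, z, hz⟩, rfl⟩
    refine ⟨w.2, ?_, z, z.2, congrArg Subtype.val hz⟩
    rw [hn, ← eight_ip_self, hw]
    norm_num

theorem exists_short_cong {x : GolayPt → ℤ} (hx : x ∈ leechLattice) :
    ∃ y ∈ leechLattice, sqNorm y ≤ 64 ∧ ∃ z ∈ leechLattice, x - y = 2 • z := by
  obtain ⟨y, hy, z, hz⟩ := counting_leech.1 ⟨x, hx⟩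
  refine ⟨y, y.2, ?_, z, z.2, congrArg Subtype.val hz⟩
  rw [← eight_ip_self]; omega

/-! ### Lattices given by a Gram matrix -/

variable (A : Matrix (Fin 24) (Fin 24) ℤ)

theorem rootless_matrix (hsymm : A.IsSymm) (hpos : ∀ x : Fin 24 → ℤ, x ≠ 0 → 0 < x ⬝ᵥ (A *ᵥ x))
    (heven : ∀ x : Fin 24 → ℤ, (2 : ℤ) ∣ x ⬝ᵥ (A *ᵥ x)) (h2 : ∀ x : Fin 24 → ℤ, x ⬝ᵥ (A *ᵥ x) ≠ 2) :
    Rootless (fun x y : Fin 24 → ℤ => x ⬝ᵥ (A *ᵥ y)) := by
  have hpos4 : ∀ x : Fin 24 → ℤ, x ≠ 0 → 4 ≤ x ⬝ᵥ (A *ᵥ x) := fun x hx => by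
    have := hpos x hx; have := heven x; have := h2 x; omega
  refine ⟨fun x y => ?_, fun x y z => by simp [add_dotProduct], heven, hpos4, ?_⟩
  · conv_lhs => rw [← hsymm.eq]
    rw [dotProduct_mulVec, vecMul_transpose, dotProduct_comm]
  · intro s hs ho
    let φ : (Fin 24 → ℤ) →+ (Fin 24 → ℚ) :=
      { toFun := fun x i => (x i : ℚ)
        map_zero' := by ext; simp
        map_add' := fun x y => by ext; simp }
    have hF : ∀ x y : Fin 24 → ℤ, ((x ⬝ᵥ (A *ᵥ y) : ℤ) : ℚ)
        = Matrix.toLinearMap₂' ℚ (A.map (fun z => (z : ℚ))) (φ x) (φ y) := by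
      intro x y
      rw [Matrix.toLinearMap₂'_apply']
      simp [φ, dotProduct, Matrix.mulVec]
    exact le_of_le_of_eq (LatticeMod2.orth_bound φ _ hF hpos4 s hs ho) (by simp)

theorem card_mod_two_pi : Nat.card ((Fin 24 → ℤ) ⧸ two (Fin 24 → ℤ)) = 2 ^ 24 := by
  show (two (Fin 24 → ℤ)).index = _
  rw [two, index_two_pi, Fintype.card_fin]

theorem cong_pi_iff {x y : Fin 24 → ℤ} : Cong x y ↔ ∀ i, (2 : ℤ) ∣ (x - y) i := by
  constructor
  · rintro ⟨z, hz⟩ i; exact ⟨z i, by rw [hz]; simp⟩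
  · intro h
    refine ⟨fun i => (x - y) i / 2, funext fun i => ?_⟩
    have := h i
    simp only [Pi.smul_apply, nsmul_eq_mul, Pi.sub_apply] at *
    omega

end Cfsg.Agent.Leech
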