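import Cfsg.Agent.Lib.Leech.Frame
import Cfsg.Agent.Lib.Golay.M24
import Cfsg.Agent.Lib.Golay.Aut
import Cfsg.Agent.Lib.Golay.Mathieu

/-!
The automorphism group of the Leech lattice: the monomial subgroup, transitivity on crosses,
the order and the centre.
-/

namespace Cfsg.Agent.Leech

open Cfsg Cfsg.Agent.Golay Finset
open Cfsg.Agent.LatticeMod2 (Rootless Cong)
open scoped Pointwise

set_option maxRecDepth 10000

/-! ### Frames from classes -/

theorem exists_frame {L : Type*} [AddCommGroup L] {B : L → L → ℤ} (h : Rootless B)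
    (h48 : ∀ x : L, B x x = 8 → {y : L | B y y = 8 ∧ Cong x y}.ncard = 48) {x : L} (hx : B x x = 8) :
    ∃ f : Fin 24 → L, IsFrame B f ∧ f 0 = x ∧
      ∀ y, B y y = 8 → Cong x y → ∃ i, y = f i ∨ y = -f i := by
  classical
  have hfin : {y : L | B y y = 8 ∧ Cong x y}.Finite :=
    Set.finite_of_ncard_ne_zero (by rw [h48 x hx]; norm_num)
  set S := hfin.toFinset with hS
  have hmem : ∀ y, y ∈ S ↔ B y y = 8 ∧ Cong x y := fun y => hfin.mem_toFinset
  have hcard : S.card = 48 := by rw [hS, ← Set.ncard_eq_toFinset_card _ hfin, h48 x hx]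
  have hneg : ∀ y ∈ S, -y ∈ S := fun y hy => by
    obtain ⟨h1, z, hz⟩ := (hmem y).1 hy
    refine (hmem _).2 ⟨by rw [LatticeMod2.neg_left h, h.symm, LatticeMod2.neg_left h, neg_neg, h1],
      z + y, ?_⟩
    rw [sub_neg_eq_add, smul_add, ← hz, two_nsmul]; abel
  have hne : ∀ y ∈ S, y ≠ 0 := fun y hy e => by
    have := ((hmem y).1 hy).1
    rw [e, LatticeMod2.map_zero_left h] at this
    norm_num at this
  let P : Finset (Finset L) := S.image fun y => {y, -y}
  have hsub : ∀ p ∈ P, p ⊆ S ∧ p.card = 2 := fun p hp => by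
    obtain ⟨y, hy, rfl⟩ := mem_image.1 hp
    exact ⟨insert_subset_iff.2 ⟨hy, singleton_subset_iff.2 (hneg y hy)⟩,
      card_pair (LatticeMod2.neg_ne_self h (hne y hy)).symm⟩
  have heq : ∀ p ∈ P, ∀ y ∈ p, p = {y, -y} := fun p hp y hy => by
    obtain ⟨z, -, rfl⟩ := mem_image.1 hp
    rcases mem_insert.1 hy with e | e
    · rw [e]
    · rw [mem_singleton.1 e, neg_neg, pair_comm]
  have hP : P.card = 24 := by
    have hU : P.biUnion (fun p => p) = S := by
      refine Subset.antisymm (biUnion_subset.2 fun p hp => (hsub p hp).1) fun y hy => ?_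
      exact mem_biUnion.2 ⟨_, mem_image_of_mem _ hy, by simp⟩
    have := congrArg card hU
    rw [card_biUnion (fun p hp q hq hpq => disjoint_left.2 fun y hy hy' =>
      hpq ((heq p hp y hy).trans (heq q hq y hy').symm)), hcard,
      sum_congr rfl (fun p hp => (hsub p hp).2), sum_const, smul_eq_mul] at this
    omega
  have hxS : x ∈ S := (hmem x).2 ⟨hx, 0, by simp⟩
  let p₀ : P := ⟨{x, -x}, mem_image_of_mem _ hxS⟩
  obtain ⟨e, he⟩ : ∃ e : Fin 24 ≃ P, e 0 = p₀ := by
    let e := (P.equivFinOfCardEq hP).symm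
    exact ⟨(Equiv.swap 0 (e.symm p₀)).trans e, by simp⟩
  have hne' : ∀ p : P, (p : Finset L).Nonempty := fun p =>
    card_pos.1 (by rw [(hsub _ p.2).2]; norm_num)
  let rep : P → L := fun p => if x ∈ (p : Finset L) then x else (hne' p).choose
  have hrep : ∀ p : P, rep p ∈ (p : Finset L) := fun p => by
    simp only [rep]; split_ifs with q
    · exact q
    · exact (hne' p).choose_spec
  refine ⟨fun i => rep (e i), ⟨fun i j => ?_, fun i j => ?_⟩, ?_, fun y hy hc => ?_⟩
  · obtain ⟨hi, hci⟩ := (hmem _).1 ((hsub _ (e i).2).1 (hrep (e i)))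
    obtain ⟨hj, hcj⟩ := (hmem _).1 ((hsub _ (e j).2).1 (hrep (e j)))
    split_ifs with q
    · rw [q, hj]
    · have hc : Cong (rep (e i)) (rep (e j)) := by
        obtain ⟨a, ha⟩ := hci
        obtain ⟨b, hb⟩ := hcj
        exact ⟨b - a, by rw [smul_sub, ← ha, ← hb]; abel⟩
      rcases LatticeMod2.cong_short h hi.le hj.le hc with r | r | ⟨-, -, r⟩
      · refine absurd (e.injective (Subtype.ext ?_)) q
        rw [heq _ (e i).2 _ (hrep (e i)), heq _ (e j).2 _ (hrep (e j)), r]
      · refine absurd (e.injective (Subtype.ext ?_)) q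
        rw [heq _ (e i).2 _ (hrep (e i)), heq _ (e j).2 _ (hrep (e j)), r, neg_neg, pair_comm]
      · exact r
  · obtain ⟨a, ha⟩ := ((hmem _).1 ((hsub _ (e i).2).1 (hrep (e i)))).2
    obtain ⟨b, hb⟩ := ((hmem _).1 ((hsub _ (e j).2).1 (hrep (e j)))).2
    exact ⟨b - a, by rw [smul_sub, ← ha, ← hb]; abel⟩
  · show rep (e 0) = x
    rw [he]
    exact if_pos (by simp [p₀])
  · obtain ⟨i, hi⟩ := e.surjective ⟨{y, -y}, mem_image_of_mem _ ((hmem y).2 ⟨hy, hc⟩)⟩
    refine ⟨i, ?_⟩
    have := hrep (e i)
    show y = rep (e i) ∨ y = -rep (e i)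
    rw [hi] at this ⊢
    rcases mem_insert.1 this with q | q
    · exact Or.inl q.symm
    · exact Or.inr (by rw [mem_singleton.1 q, neg_neg])

/-! ### Lattice vectors -/

theorem ip_comm (x y : leechLattice) : ip x y = ip y x := rootless_ip.symm x y

theorem ip_eq_of_dot {x y : leechLattice} {n : ℤ} (h : dotInt (x : GolayPt → ℤ) y = 8 * n) :
    ip x y = n := by have := eight_ip x y; omega

theorem ip_self_iff {x : leechLattice} {n : ℤ} :
    ip x x = n ↔ sqNorm (x : GolayPt → ℤ) = 8 * n := by
  have := eight_ip_self x; omega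

theorem ncard_shell4 : {x : leechLattice | ip x x = 4}.ncard = 196560 := (shell_ip 4).trans ncard_32
theorem ncard_shell6 : {x : leechLattice | ip x x = 6}.ncard = 16773120 := (shell_ip 6).trans ncard_48
theorem ncard_shell8 : {x : leechLattice | ip x x = 8}.ncard = 398034000 := (shell_ip 8).trans ncard_64

theorem inLeech_pair (i j : GolayPt) (hij : i ≠ j) (s t : ℤ) (hs : s = 4 ∨ s = -4)
    (ht : t = 4 ∨ t = -4) :
    InLeech 0 ((Pi.single i s + Pi.single j t : GolayPt → ℤ)) := by
  refine ⟨fun k => ?_, ?_, ?_⟩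
  · simp only [Pi.add_apply, Pi.single_apply]
    split_ifs <;> omega
  · simp only [Pi.add_apply, sum_add_distrib, sum_pi_single', mem_univ, if_true]
    omega
  · have : hword 0 ((Pi.single i s + Pi.single j t : GolayPt → ℤ)) = 0 := by
      funext k
      simp only [hword, sub_zero, Pi.add_apply, Pi.single_apply, Pi.zero_apply]
      refine (ZMod.intCast_zmod_eq_zero_iff_dvd _ 2).2 ?_
      split_ifs <;> omega
    rw [this]; exact golayCode.zero_mem

theorem single8_mem (i : GolayPt) : (Pi.single i 8 : GolayPt → ℤ) ∈ leechLattice := by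
  refine mem_leech.2 ⟨0, fun k => ?_, ?_, ?_⟩
  · simp only [Pi.single_apply]; split_ifs <;> omega
  · simp only [sum_pi_single', mem_univ, if_true]; omega
  · have : hword 0 (Pi.single i 8 : GolayPt → ℤ) = 0 := by
      funext k
      simp only [hword, sub_zero, Pi.single_apply, Pi.zero_apply]
      refine (ZMod.intCast_zmod_eq_zero_iff_dvd _ 2).2 ?_
      split_ifs <;> omega
    rw [this]; exact golayCode.zero_mem

/-- `8 e_i`. -/
def axis (i : GolayPt) : leechLattice := ⟨Pi.single i 8, single8_mem i⟩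

theorem coe_axis (i : GolayPt) : (axis i : GolayPt → ℤ) = Pi.single i 8 := rfl

theorem dot_single (x : GolayPt → ℤ) (i : GolayPt) (a : ℤ) : dotInt x (Pi.single i a) = a * x i := by
  rw [dotInt, sum_eq_single i (fun j _ hj => by simp [hj]) (by simp), Pi.single_eq_same, mul_comm]

theorem ip_axis (x : leechLattice) (i : GolayPt) : ip x (axis i) = (x : GolayPt → ℤ) i :=
  ip_eq_of_dot (by rw [coe_axis, dot_single])

theorem ip_axis_axis (i j : GolayPt) : ip (axis i) (axis j) = if i = j then 8 else 0 := by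
  rw [ip_axis, coe_axis, Pi.single_apply]
  simp only [eq_comm]

theorem cong_axis (i j : GolayPt) : Cong (axis i) (axis j) := by
  rcases eq_or_ne i j with rfl | hij
  · exact ⟨0, by simp⟩
  · refine ⟨⟨_, mem_leech.2 ⟨0, inLeech_pair i j hij 4 (-4) (Or.inl rfl) (Or.inr rfl)⟩⟩, Subtype.ext ?_⟩
    funext k
    simp only [AddSubgroup.coe_sub, AddSubgroup.coe_nsmul, coe_axis, Pi.sub_apply, Pi.smul_apply,
      Pi.add_apply, Pi.single_apply, nsmul_eq_mul]
    split_ifs <;> norm_num

/-! ### Elements of the group -/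

theorem co0_add (g : Co0) (v w : leechLattice) : g • (v + w) = g • v + g • w := g.2.1 v w

/-- An element as an additive map. -/
def hom0 (g : Co0) : leechLattice →+ leechLattice := AddMonoidHom.mk' (g • ·) (co0_add g)

theorem hom0_apply (g : Co0) (v : leechLattice) : hom0 g v = g • v := rfl

theorem co0_neg (g : Co0) (v : leechLattice) : g • (-v) = -(g • v) := map_neg (hom0 g) v

theorem co0_sub (g : Co0) (v w : leechLattice) : g • (v - w) = g • v - g • w := map_sub (hom0 g) v w

theorem co0_norm (g : Co0) (v : leechLattice) :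
    sqNorm ((g • v : leechLattice) : GolayPt → ℤ) = sqNorm (v : GolayPt → ℤ) := g.2.2 v

theorem co0_ip (g : Co0) (v w : leechLattice) : ip (g • v) (g • w) = ip v w := by
  have h1 := eight_ip_self (g • (v + w)); have h2 := eight_ip_self (v + w)
  rw [co0_norm] at h1
  have h3 := eight_ip_self (g • v); have h4 := eight_ip_self v
  rw [co0_norm] at h3
  have h5 := eight_ip_self (g • w); have h6 := eight_ip_self w
  rw [co0_norm] at h5
  rw [co0_add, LatticeMod2.norm_add rootless_ip] at h1
  rw [LatticeMod2.norm_add rootless_ip] at h2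
  omega

theorem co0_dot (g : Co0) (v w : leechLattice) :
    dotInt ((g • v : leechLattice) : GolayPt → ℤ) (g • w : leechLattice) = dotInt (v : GolayPt → ℤ) w := by
  rw [← eight_ip, ← eight_ip, co0_ip]

theorem co0_cong {g : Co0} {v w : leechLattice} (h : Cong v w) : Cong (g • v) (g • w) := by
  obtain ⟨z, hz⟩ := h
  exact ⟨g • z, by rw [← co0_sub, hz]; exact map_nsmul (hom0 g) 2 z⟩

theorem co0_cong_iff {g : Co0} {v w : leechLattice} : Cong (g • v) (g • w) ↔ Cong v w :=
  ⟨fun h => by simpa using co0_cong (g := g⁻¹) h, co0_cong⟩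

theorem co0_ext {g g' : Co0} (h : ∀ i, g • axis i = g' • axis i) : g = g' := by
  refine Subtype.ext (Equiv.ext fun v => ?_)
  have e : (8 : ℤ) • v = ∑ i, (v : GolayPt → ℤ) i • axis i := by
    refine Subtype.ext (funext fun k => ?_)
    simp only [AddSubgroup.coe_zsmul, AddSubgroup.val_finset_sum, Pi.smul_apply, Finset.sum_apply,
      coe_axis, Pi.single_apply, smul_eq_mul, mul_ite, mul_zero, sum_ite_eq, mem_univ, if_true]
    ring
  have e' : (8 : ℤ) • (g • v) = (8 : ℤ) • (g' • v) := by
    rw [← hom0_apply, ← hom0_apply, ← map_zsmul, ← map_zsmul, e, map_sum, map_sum]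
    exact sum_congr rfl fun i _ => by rw [map_zsmul, map_zsmul, hom0_apply, hom0_apply, h]
  refine Subtype.ext (funext fun k => ?_)
  have := congrFun (congrArg Subtype.val e') k
  simp only [AddSubgroup.coe_zsmul, Pi.smul_apply, smul_eq_mul] at this
  show ((g • v : leechLattice) : GolayPt → ℤ) k = ((g' • v : leechLattice) : GolayPt → ℤ) k
  omega

/-- An isometry of the lattice as an element of the group. -/
def ofIso (ψ : leechLattice ≃+ leechLattice)
    (h : ∀ v, sqNorm (ψ v : GolayPt → ℤ) = sqNorm (v : GolayPt → ℤ)) : Co0 :=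
  ⟨ψ.toEquiv, map_add ψ, h⟩

theorem ofIso_smul (ψ : leechLattice ≃+ leechLattice)
    (h : ∀ v, sqNorm (ψ v : GolayPt → ℤ) = sqNorm (v : GolayPt → ℤ)) (v : leechLattice) :
    ofIso ψ h • v = ψ v := rfl

/-- A group element carrying a frame to the coordinate axes. -/
theorem exists_frame_to_axes {f : Fin 24 → leechLattice} (hf : IsFrame ip f) :
    ∃ (g : Co0) (e : Fin 24 ≃ GolayPt) (sg : GolayPt → ℤ), (∀ p, sg p = 1 ∨ sg p = -1) ∧
      (∀ x p, ((g • x : leechLattice) : GolayPt → ℤ) p = sg p * ip x (f (e.symm p))) ∧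
      ∀ i, g • f i = sg (e i) • axis (e i) := by
  obtain ⟨ψ, hψ, e, sg, hsg, hcoord⟩ := exists_leech_iso rootless_ip hf ncard_shell4
  refine ⟨ofIso ψ fun v => by rw [hψ, eight_ip_self], e, sg, hsg, hcoord, fun i => ?_⟩
  refine Subtype.ext (funext fun p => ?_)
  rw [ofIso_smul, hcoord, hf.inner, AddSubgroup.coe_zsmul, Pi.smul_apply, coe_axis,
    Pi.single_apply, smul_eq_mul]
  rcases eq_or_ne p (e i) with rfl | q
  · simp
  · rw [if_neg q, if_neg (fun r => q (by rw [r, e.apply_symm_apply]))]; simp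

/-! ### Monomial elements -/

theorem code_perm {σ : Equiv.Perm GolayPt} (hσ : σ ∈ M24) {w : GolayPt → ZMod 2}
    (hw : w ∈ golayCode) : (fun i => w (σ.symm i)) ∈ golayCode := by
  rw [mem_code_iff_support] at hw ⊢
  convert mem_M24_iff.1 hσ _ hw using 1
  ext p
  obtain ⟨q, rfl⟩ := σ.surjective p
  have e : σ q ∈ σ • support₂ w ↔ q ∈ support₂ w := Finset.smul_mem_smul_finset_iff σ
  rw [e]
  simp [support₂]

theorem mem_M24_of_code {σ : Equiv.Perm GolayPt}
    (h : ∀ w ∈ golayCode, (fun i => w (σ.symm i)) ∈ golayCode) : σ ∈ M24 := by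
  refine mem_M24_iff.2 ?_
  rintro _ ⟨w, hw, rfl⟩
  refine ⟨_, h w hw, ?_⟩
  ext p
  obtain ⟨q, rfl⟩ := σ.surjective p
  have e : σ q ∈ σ • support₂ w ↔ q ∈ support₂ w := Finset.smul_mem_smul_finset_iff σ
  rw [e]
  simp [support₂]

/-- A code word as a sign vector. -/
def sgn (c : GolayPt → ZMod 2) (i : GolayPt) : ℤ := if c i = 0 then 1 else -1

theorem sgn_cases (c : GolayPt → ZMod 2) (i : GolayPt) : sgn c i = 1 ∨ sgn c i = -1 := by
  simp only [sgn]; split_ifs <;> simp

theorem sgn_mul_self (c : GolayPt → ZMod 2) (i : GolayPt) : sgn c i * sgn c i = 1 := by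
  rcases sgn_cases c i with h | h <;> simp [h]

theorem sgn_inj {c d : GolayPt → ZMod 2} {i : GolayPt} (h : sgn c i = sgn d i) : c i = d i := by
  revert h; simp only [sgn]
  rcases zmod2_cases (c i) with a | a <;> rcases zmod2_cases (d i) with b | b <;> simp [a, b]

/-- The signed permutation with the word `c` as sign set. -/
def monoFun (σ : Equiv.Perm GolayPt) (c : GolayPt → ZMod 2) (x : GolayPt → ℤ) : GolayPt → ℤ :=
  fun i => sgn c i * x (σ.symm i)

theorem monoFun_eq (σ : Equiv.Perm GolayPt) (c : GolayPt → ZMod 2) :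
    monoFun σ c = signedPerm σ (support₂ c) := by
  funext x i
  simp only [monoFun, signedPerm, sgn, support₂, mem_filter, mem_univ, true_and]
  split_ifs <;> simp_all

theorem monoFun_sum (σ : Equiv.Perm GolayPt) (c : GolayPt → ZMod 2) (x : GolayPt → ℤ) :
    ∑ i, monoFun σ c x i = ∑ i, x i - 2 * ∑ i, (if c i = 0 then 0 else x (σ.symm i)) := by
  rw [← Equiv.sum_comp σ.symm x, mul_sum, ← sum_sub_distrib]
  exact sum_congr rfl fun i _ => by simp only [monoFun, sgn]; split_ifs <;> ring

theorem inLeech_monoFun {σ : Equiv.Perm GolayPt} (hσ : σ ∈ M24) {c : GolayPt → ZMod 2}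
    (hc : c ∈ golayCode) {m : ℤ} {x : GolayPt → ℤ} (hx : InLeech m x) :
    InLeech m (monoFun σ c x) := by
  have hpt : ∀ i, (2 : ℤ) ∣ monoFun σ c x i - m := fun i => by
    have := hx.1 (σ.symm i)
    rcases sgn_cases c i with q | q <;> simp only [monoFun, q] <;> omega
  refine ⟨hpt, ?_, ?_⟩
  · have hw := code_perm hσ hx.2.2
    have hev : ∀ i, ∃ q, x (σ.symm i) = m + 2 * q ∧ hword m x (σ.symm i) = (q : ZMod 2) := fun i => by
      obtain ⟨q, hq⟩ := hx.1 (σ.symm i)
      refine ⟨q, by omega, ?_⟩
      show (((x (σ.symm i) - m) / 2 : ℤ) : ZMod 2) = _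
      rw [hq, Int.mul_ediv_cancel_left _ two_ne_zero]
    choose q hq hq' using hev
    have hs : ∑ i, (if c i = 0 then 0 else x (σ.symm i))
        = m * ((support₂ c).card : ℤ) + 2 * ∑ i, (if c i = 0 then 0 else q i) := by
      rw [support₂, card_filter, Nat.cast_sum, mul_sum, mul_sum, ← sum_add_distrib]
      exact sum_congr rfl fun i _ => by rw [hq]; split_ifs <;> simp_all
    have horth : (((∑ i, (if c i = 0 then 0 else q i)) : ℤ) : ZMod 2) = 0 := by
      refine Eq.trans ?_ (self_orthogonal hc hw)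
      rw [Int.cast_sum]
      exact sum_congr rfl fun i _ => by rcases zmod2_cases (c i) with e | e <;> simp [e, hq']
    have hd := (ZMod.intCast_zmod_eq_zero_iff_dvd _ 2).1 horth
    obtain ⟨t, ht⟩ := card_support_mod4 hc
    have h8 := hx.2.1
    rw [monoFun_sum, hs, ht]
    push_cast
    rw [show 2 * (m * (4 * (t : ℤ)) + 2 * ∑ i, if c i = 0 then 0 else q i)
      = 8 * (m * t) + 4 * ∑ i, if c i = 0 then 0 else q i by ring]
    omega
  · have : hword m (monoFun σ c x) = (fun i => hword m x (σ.symm i)) + (m : ZMod 2) • c := by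
      funext i
      obtain ⟨q, hq⟩ := hx.1 (σ.symm i)
      have hx' : x (σ.symm i) = m + 2 * q := by omega
      rcases zmod2_cases (c i) with e | e
      · simp [hword, monoFun, sgn, e]
      · simp only [hword, monoFun, sgn, e, one_ne_zero, if_false, hx', Pi.add_apply, Pi.smul_apply,
          smul_eq_mul, mul_one]
        rw [show (-1 * (m + 2 * q) - m) / 2 = -q - m by omega,
          show (m + 2 * q - m) / 2 = q by omega, Int.cast_sub, Int.cast_neg,
          ZMod.neg_eq_self_mod_two, CharTwo.sub_eq_add]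
    rw [this]
    exact golayCode.add_mem (code_perm hσ hx.2.2) (golayCode.smul_mem _ hc)

/-- The monomial elements. -/
noncomputable def mono (a : M24 × golayCode) : Co0 :=
  let F : leechLattice →+ leechLattice := AddMonoidHom.mk'
    (fun v => ⟨monoFun a.1 a.2 v, by
      obtain ⟨m, hm⟩ := mem_leech.1 v.2
      exact mem_leech.2 ⟨m, inLeech_monoFun a.1.2 a.2.2 hm⟩⟩)
    (fun v w => Subtype.ext (funext fun i => by simp [monoFun, mul_add]))
  have hb : Function.Bijective F := by
    refine ⟨fun v w h => Subtype.ext (funext fun i => ?_), fun v => ?_⟩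
    · have := congrFun (congrArg Subtype.val h) ((a.1 : Equiv.Perm GolayPt) i)
      simp only [F, AddMonoidHom.mk'_apply, monoFun, Equiv.symm_apply_apply] at this
      rcases sgn_cases (a.2 : GolayPt → ZMod 2) ((a.1 : Equiv.Perm GolayPt) i) with q | q <;>
        rw [q] at this <;> omega
    · obtain ⟨m, hm⟩ := mem_leech.1 v.2
      have hc : (fun i => (a.2 : GolayPt → ZMod 2) ((a.1 : Equiv.Perm GolayPt) i)) ∈ golayCode :=
        code_perm (inv_mem a.1.2) a.2.2
      refine ⟨⟨_, mem_leech.2 ⟨m, inLeech_monoFun (inv_mem a.1.2) hc hm⟩⟩, Subtype.ext (funext fun i => ?_)⟩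
      simp only [F, AddMonoidHom.mk'_apply, monoFun, sgn, Equiv.Perm.inv_def, Equiv.symm_symm,
        Equiv.apply_symm_apply]
      split_ifs <;> ring
  ofIso (AddEquiv.ofBijective F hb) fun v => by
    show ∑ i, monoFun a.1 a.2 (v : GolayPt → ℤ) i ^ 2 = ∑ i, (v : GolayPt → ℤ) i ^ 2
    rw [← Equiv.sum_comp (a.1 : Equiv.Perm GolayPt).symm (fun i => (v : GolayPt → ℤ) i ^ 2)]
    exact sum_congr rfl fun i _ => by rw [monoFun, mul_pow, sq (sgn _ i), sgn_mul_self, one_mul]

theorem mono_smul (a : M24 × golayCode) (v : leechLattice) :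
    ((mono a • v : leechLattice) : GolayPt → ℤ) = monoFun a.1 a.2 v := rfl

theorem mono_axis (a : M24 × golayCode) (i : GolayPt) :
    mono a • axis i = sgn a.2 ((a.1 : Equiv.Perm GolayPt) i) • axis ((a.1 : Equiv.Perm GolayPt) i) := by
  refine Subtype.ext (funext fun k => ?_)
  obtain ⟨l, rfl⟩ := (a.1 : Equiv.Perm GolayPt).surjective k
  simp only [mono_smul, monoFun, Equiv.symm_apply_apply, coe_axis, AddSubgroup.coe_zsmul,
    Pi.smul_apply, Pi.single_apply, smul_eq_mul, (a.1 : Equiv.Perm GolayPt).injective.eq_iff]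
  split_ifs with e <;> simp [*]

theorem sgn_axis_inj {s t : ℤ} {i j : GolayPt} (hs : s = 1 ∨ s = -1)
    (h : s • axis i = t • axis j) : i = j ∧ s = t := by
  have := congrFun (congrArg Subtype.val h) i
  simp only [AddSubgroup.coe_zsmul, Pi.smul_apply, coe_axis, Pi.single_apply, smul_eq_mul,
    if_true] at this
  rcases eq_or_ne i j with e | e
  · rw [if_pos e] at this; exact ⟨e, by omega⟩
  · rw [if_neg e] at this; omega

theorem mono_injective : Function.Injective mono := by
  rintro ⟨σ, c⟩ ⟨τ, d⟩ h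
  have key : ∀ i, (σ : Equiv.Perm GolayPt) i = (τ : Equiv.Perm GolayPt) i ∧
      sgn (c : GolayPt → ZMod 2) ((σ : Equiv.Perm GolayPt) i)
        = sgn (d : GolayPt → ZMod 2) ((τ : Equiv.Perm GolayPt) i) := fun i =>
    sgn_axis_inj (sgn_cases _ _) (by rw [← mono_axis (σ, c), h, mono_axis])
  refine Prod.ext (Subtype.ext (Equiv.ext fun i => (key i).1)) (Subtype.ext (funext fun k => ?_))
  obtain ⟨l, rfl⟩ := (σ : Equiv.Perm GolayPt).surjective k
  obtain ⟨h1, h2⟩ := key l
  rw [← h1] at h2
  exact sgn_inj h2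

/-! ### The stabiliser of the standard cross -/

theorem wordVec_mem {w : GolayPt → ZMod 2} (hw : w ∈ golayCode) :
    (fun i => if w i = 0 then (0 : ℤ) else 2) ∈ leechLattice := by
  refine mem_leech.2 ⟨0, fun i => by dsimp only; split_ifs <;> omega, ?_, ?_⟩
  · obtain ⟨t, ht⟩ := card_support_mod4 hw
    have : ∑ i, (if w i = 0 then (0 : ℤ) else 2) = 2 * ((support₂ w).card : ℤ) := by
      rw [support₂, card_filter, Nat.cast_sum, mul_sum]
      exact sum_congr rfl fun i _ => by split_ifs <;> simp_all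
    rw [this, ht]; push_cast; omega
  · convert hw using 1
    funext i
    rcases zmod2_cases (w i) with e | e <;> simp [hword, e]

theorem eq_monoFun_of_axes {g : Co0} {σ : Equiv.Perm GolayPt} {c : GolayPt → ZMod 2}
    (h : ∀ i, g • axis i = sgn c (σ i) • axis (σ i)) (v : leechLattice) :
    ((g • v : leechLattice) : GolayPt → ℤ) = monoFun σ c v := by
  funext k
  obtain ⟨l, rfl⟩ := σ.surjective k
  have e := co0_ip g v (axis l)
  rw [h, ip_axis] at e
  have e2 : ip (g • v) (sgn c (σ l) • axis (σ l)) = sgn c (σ l) * ((g • v : leechLattice) : GolayPt → ℤ) (σ l) := by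
    rw [ip_comm, zsmul_left rootless_ip, ip_comm, ip_axis]
  rw [e2] at e
  rw [monoFun, σ.symm_apply_apply, ← e, ← mul_assoc, sgn_mul_self, one_mul]

theorem exists_mono_of_axes {g : Co0} {σ : Equiv.Perm GolayPt} {c : GolayPt → ZMod 2}
    (h : ∀ i, g • axis i = sgn c (σ i) • axis (σ i)) : ∃ a, mono a = g := by
  have hv := eq_monoFun_of_axes h
  -- images of the vectors carrying code words
  have himg : ∀ w ∈ golayCode, InLeech 0 (monoFun σ c fun i => if w i = 0 then (0 : ℤ) else 2) := by
    intro w hw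
    have hm := (g • (⟨_, wordVec_mem hw⟩ : leechLattice)).2
    rw [hv] at hm
    obtain ⟨m, hm0, hL⟩ := exists_parity hm
    rcases hm0 with rfl | rfl
    · exact hL
    · exfalso
      have := hL.1 none
      simp only [monoFun] at this
      rcases sgn_cases c none with q | q <;> rw [q] at this <;> split_ifs at this <;> omega
  have hσ : σ ∈ M24 := mem_M24_of_code fun w hw => by
    convert (himg w hw).2.2 using 1
    funext i
    rcases zmod2_cases (w (σ.symm i)) with e | e <;> rcases sgn_cases c i with q | q <;>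
      simp [hword, monoFun, e, q]
  have hc : c ∈ golayCode := mem_code_of_orth fun w hw => by
    have hw' : (fun i => w (σ i)) ∈ golayCode := code_perm (inv_mem hσ) hw
    have h8 := (himg _ hw').2.1
    obtain ⟨t, ht⟩ := card_support_mod4 hw
    rw [monoFun_sum] at h8
    simp only [σ.apply_symm_apply] at h8
    have e1 : ∑ i, (if w (σ i) = 0 then (0 : ℤ) else 2) = 2 * ((support₂ w).card : ℤ) := by
      rw [Equiv.sum_comp σ (fun i => if w i = 0 then (0 : ℤ) else 2), support₂, card_filter,
        Nat.cast_sum, mul_sum]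
      exact sum_congr rfl fun i _ => by split_ifs <;> simp_all
    have e2 : ∑ i, (if c i = 0 then 0 else if w i = 0 then (0 : ℤ) else 2)
        = 2 * ∑ i, (if c i = 0 then 0 else if w i = 0 then (0 : ℤ) else 1) := by
      rw [mul_sum]; exact sum_congr rfl fun i _ => by split_ifs <;> rfl
    rw [e1, e2, ht] at h8
    push_cast at h8
    have hd : (2 : ℤ) ∣ ∑ i, (if c i = 0 then 0 else if w i = 0 then (0 : ℤ) else 1) := by omega
    refine Eq.trans ?_ ((ZMod.intCast_zmod_eq_zero_iff_dvd _ 2).2 hd)
    rw [Int.cast_sum]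
    exact sum_congr rfl fun i _ => by
      rcases zmod2_cases (c i) with e | e <;> rcases zmod2_cases (w i) with e' | e' <;> simp [e, e']
  exact ⟨(⟨σ, hσ⟩, ⟨c, hc⟩), co0_ext fun i => by rw [mono_axis]; exact (h i).symm⟩

theorem mem_stdCross_iff {v : leechLattice} :
    (v : GolayPt → ℤ) ∈ stdCross ↔ ∃ (i : GolayPt) (s : ℤ), (s = 1 ∨ s = -1) ∧ v = s • axis i := by
  constructor
  · rintro ⟨i, s, rfl | rfl, hv⟩
    · exact ⟨i, 1, Or.inl rfl, Subtype.ext (by rw [hv, one_smul, coe_axis])⟩
    · refine ⟨i, -1, Or.inr rfl, Subtype.ext ?_⟩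
      rw [hv, neg_one_zsmul, AddSubgroup.coe_neg, coe_axis, ← Pi.single_neg]
  · rintro ⟨i, s, hs, rfl⟩
    refine ⟨i, 8 * s, by omega, funext fun k => ?_⟩
    simp only [AddSubgroup.coe_zsmul, Pi.smul_apply, coe_axis, Pi.single_apply, smul_eq_mul]
    split_ifs <;> ring

/-- The predicate of preserving the standard cross. -/
def FixesStd (g : Co0) : Prop :=
  ∀ v : leechLattice, (v : GolayPt → ℤ) ∈ stdCross → ((g • v : leechLattice) : GolayPt → ℤ) ∈ stdCross

theorem fixesStd_iff {g : Co0} : FixesStd g ↔ ∃ a, mono a = g := by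
  constructor
  · intro hg
    choose σ s hs hσs using fun i => mem_stdCross_iff.1
      (hg (axis i) (mem_stdCross_iff.2 ⟨i, 1, Or.inl rfl, (one_smul _ _).symm⟩))
    have hinj : Function.Injective σ := fun i j e => by
      by_contra hne
      have h1 := co0_ip g (axis i) (axis j)
      rw [ip_axis_axis, if_neg hne, hσs, hσs, zsmul_left rootless_ip, ip_comm,
        zsmul_left rootless_ip, ip_axis_axis, if_pos e.symm] at h1
      rcases hs i with q | q <;> rcases hs j with r | r <;> rw [q, r] at h1 <;> norm_num at h1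
    let σ' : Equiv.Perm GolayPt := Equiv.ofBijective σ (Finite.injective_iff_bijective.1 hinj)
    refine exists_mono_of_axes (σ := σ') (c := fun k => if s (σ'.symm k) = 1 then 0 else 1) fun i => ?_
    rw [hσs]
    congr 1
    simp only [sgn, Equiv.symm_apply_apply]
    rcases hs i with q | q <;> simp [q]
  · rintro ⟨a, rfl⟩ v hv
    obtain ⟨i, s, hs, rfl⟩ := mem_stdCross_iff.1 hv
    refine mem_stdCross_iff.2 ⟨(a.1 : Equiv.Perm GolayPt) i,
      s * sgn a.2 ((a.1 : Equiv.Perm GolayPt) i), ?_, ?_⟩
    · rcases hs with q | q <;> rcases sgn_cases (a.2 : GolayPt → ZMod 2) ((a.1 : Equiv.Perm GolayPt) i)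
        with r | r <;> simp [q, r]
    · rw [← hom0_apply, map_zsmul, hom0_apply, mono_axis, mul_smul]

theorem card_golayCode : Nat.card golayCode = 4096 := by
  rw [Module.natCard_eq_pow_finrank (K := ZMod 2), Cfsg.Agent.S0358.result, Nat.card_zmod]; norm_num

theorem card_fixesStd : Nat.card {g : Co0 // FixesStd g} = 4096 * 244823040 := by
  let F : M24 × golayCode → {g : Co0 // FixesStd g} := fun a => ⟨mono a, fixesStd_iff.2 ⟨a, rfl⟩⟩
  have hb : Function.Bijective F := ⟨fun a b h => mono_injective (congrArg Subtype.val h),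
    fun g => (fixesStd_iff.1 g.2).imp fun _ h => Subtype.ext h⟩
  rw [← Nat.card_eq_of_bijective F hb, Nat.card_prod, card_M24, card_golayCode, mul_comm]

/-! ### Transitivity on crosses -/

theorem exists_M24_point (p q : GolayPt) : ∃ g ∈ M24, g p = q := by
  obtain ⟨g, hg, h⟩ := exists_M24_map' (k := 1) (x := ![p]) (y := ![q]) (by norm_num)
    (fun i j _ => Subsingleton.elim i j) (fun i j _ => Subsingleton.elim i j)
  exact ⟨g, hg, h 0⟩

/-- The negation. -/
noncomputable def negCo0 : Co0 := mono (1, ⟨1, one_mem_code⟩)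

theorem negCo0_smul (v : leechLattice) : negCo0 • v = -v := by
  refine Subtype.ext (funext fun i => ?_)
  rw [negCo0, mono_smul]
  simp [monoFun, sgn, Equiv.Perm.one_def]

/-- Transitivity on the vectors of norm 8, up to the standard form. -/
theorem exists_to_axis {x : leechLattice} (hx : ip x x = 8) (p : GolayPt) :
    ∃ g : Co0, g • x = axis p := by
  obtain ⟨f, hf, hf0, -⟩ := exists_frame rootless_ip counting_leech.2 hx
  obtain ⟨g, e, sg, hsg, -, hax⟩ := exists_frame_to_axes hf
  have h0 := hax 0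
  rw [hf0] at h0
  obtain ⟨σ, hσ, hσp⟩ := exists_M24_point (e 0) p
  have hperm : mono (⟨σ, hσ⟩, 0) • axis (e 0) = axis p := by
    rw [mono_axis, hσp]; simp [sgn]
  rcases hsg (e 0) with q | q
  · exact ⟨mono (⟨σ, hσ⟩, 0) * g, by rw [mul_smul, h0, q, one_smul, hperm]⟩
  · refine ⟨mono (⟨σ, hσ⟩, 0) * (negCo0 * g), ?_⟩
    rw [mul_smul, mul_smul, h0, q, negCo0_smul, neg_one_zsmul, neg_neg, hperm]

/-- The class of a vector of norm 8. -/
def xCross (x : leechLattice) : Set leechLattice := {y | ip y y = 8 ∧ Cong x y}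

theorem ncard_xCross {x : leechLattice} (hx : ip x x = 8) : (xCross x).ncard = 48 :=
  counting_leech.2 x hx

theorem cong_symm {L : Type*} [AddCommGroup L] {x y : L} (h : Cong x y) : Cong y x := by
  obtain ⟨z, hz⟩ := h
  exact ⟨-z, by rw [smul_neg, ← hz, neg_sub]⟩

theorem cong_trans {L : Type*} [AddCommGroup L] {x y z : L} (h : Cong x y) (h' : Cong y z) :
    Cong x z := by
  obtain ⟨a, ha⟩ := h
  obtain ⟨b, hb⟩ := h'
  exact ⟨a + b, by rw [smul_add, ← ha, ← hb]; abel⟩

theorem xCross_eq_of_mem {x y : leechLattice} (h : y ∈ xCross x) : xCross y = xCross x := by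
  ext z
  exact ⟨fun hz => ⟨hz.1, cong_trans h.2 hz.2⟩, fun hz => ⟨hz.1, cong_trans (cong_symm h.2) hz.2⟩⟩

theorem self_mem_xCross {x : leechLattice} (hx : ip x x = 8) : x ∈ xCross x :=
  ⟨hx, 0, by simp⟩

theorem smul_xCross (g : Co0) (x : leechLattice) : g • xCross x = xCross (g • x) := by
  ext y
  rw [Set.mem_smul_set_iff_inv_smul_mem]
  simp only [xCross, Set.mem_ofPred_eq, co0_ip]
  rw [← co0_cong_iff (g := g) (v := x), smul_inv_smul]

theorem ip_axis_self (i : GolayPt) : ip (axis i) (axis i) = 8 := by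
  rw [ip_axis_axis, if_pos rfl]

theorem mem_xCross_axis {p : GolayPt} {v : leechLattice} :
    v ∈ xCross (axis p) ↔ (v : GolayPt → ℤ) ∈ stdCross := by
  constructor
  · intro hv
    obtain ⟨f, hf, hf0, hall⟩ := exists_frame rootless_ip counting_leech.2 (ip_axis_self p)
    by_contra hn
    have h0 : (v : GolayPt → ℤ) = 0 := by
      funext i
      have hz : ip v (axis i) = 0 := by
        rcases LatticeMod2.cong_short rootless_ip hv.1.le (ip_axis_self i).le
          (cong_trans (cong_symm hv.2) (cong_axis p i)) with e | e | ⟨-, -, e⟩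
        · exact absurd (mem_stdCross_iff.2 ⟨i, 1, Or.inl rfl, by rw [e, one_smul]⟩) hn
        · exact absurd (mem_stdCross_iff.2 ⟨i, -1, Or.inr rfl, by rw [neg_one_zsmul, e, neg_neg]⟩) hn
        · exact e
      rwa [ip_axis] at hz
    have := hv.1
    rw [ip_self_iff, h0] at this
    simp [sqNorm] at this
  · intro hv
    obtain ⟨i, s, hs, rfl⟩ := mem_stdCross_iff.1 hv
    rcases hs with rfl | rfl
    · rw [one_smul]; exact ⟨ip_axis_self i, cong_axis p i⟩
    · rw [neg_one_zsmul]
      refine ⟨?_, cong_trans (cong_axis p i) ⟨axis i, by rw [sub_neg_eq_add, two_nsmul]⟩⟩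
      rw [LatticeMod2.neg_left rootless_ip, ip_comm, LatticeMod2.neg_left rootless_ip, neg_neg,
        ip_axis_self]

theorem mem_stab_iff {g : Co0} {p : GolayPt} :
    g ∈ MulAction.stabilizer Co0 (xCross (axis p)) ↔ FixesStd g := by
  rw [MulAction.mem_stabilizer_iff, smul_xCross]
  constructor
  · intro h v hv
    rw [← mem_xCross_axis (p := p)] at hv ⊢
    rw [← h, ← smul_xCross]
    exact Set.smul_mem_smul_set hv
  · intro h
    exact xCross_eq_of_mem (mem_xCross_axis.2 (h (axis p) (mem_xCross_axis.1 (self_mem_xCross (ip_axis_self p)))))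

/-- The stabiliser of the standard cross. -/
noncomputable def crossStab : Subgroup Co0 := MulAction.stabilizer Co0 (xCross (axis none))

theorem mem_crossStab {g : Co0} : g ∈ crossStab ↔ FixesStd g := mem_stab_iff

theorem card_crossStab : Nat.card crossStab = 4096 * 244823040 := by
  rw [← card_fixesStd]
  exact Nat.card_congr (Equiv.subtypeEquivRight fun g => mem_crossStab)

theorem orbit_xCross : MulAction.orbit Co0 (xCross (axis none))
    = xCross '' {x | ip x x = 8} := by
  ext X
  constructor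
  · rintro ⟨g, rfl⟩
    exact ⟨g • axis none, (co0_ip g _ _).trans (ip_axis_self none), (smul_xCross g _).symm⟩
  · rintro ⟨x, hx, rfl⟩
    obtain ⟨g, hg⟩ := exists_to_axis hx none
    exact ⟨g⁻¹, by show g⁻¹ • xCross (axis none) = _; rw [smul_xCross, ← hg, inv_smul_smul]⟩

theorem ncard_orbit : (MulAction.orbit Co0 (xCross (axis none))).ncard = 8292375 := by
  classical
  have hfin : {x : leechLattice | ip x x = 8}.Finite :=
    Set.finite_of_ncard_ne_zero (by rw [ncard_shell8]; norm_num)
  rw [orbit_xCross, ← hfin.coe_toFinset, ← coe_image, Set.ncard_coe_finset]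
  have h := card_eq_sum_card_image xCross hfin.toFinset
  suffices key : ∀ X ∈ hfin.toFinset.image xCross,
      (hfin.toFinset.filter fun a => xCross a = X).card = 48 by
    rw [← Set.ncard_eq_toFinset_card _ hfin, ncard_shell8, sum_congr rfl key,
      sum_const, smul_eq_mul] at h
    omega
  intro X hX
  obtain ⟨x, hx, rfl⟩ := mem_image.1 hX
  rw [← ncard_xCross (hfin.mem_toFinset.1 hx), ← Set.ncard_coe_finset]
  congr 1
  ext y
  simp only [coe_filter, Set.Finite.mem_toFinset, Set.mem_ofPred_eq]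
  exact ⟨fun hy => hy.2 ▸ self_mem_xCross hy.1, fun hy => ⟨hy.1, xCross_eq_of_mem hy⟩⟩

theorem index_crossStab : crossStab.index = 8292375 := by
  rw [crossStab, MulAction.index_stabilizer, ncard_orbit]

theorem card_Co0 : Nat.card Co0 = 8315553613086720000 := by
  rw [← Subgroup.card_mul_index crossStab, card_crossStab, index_crossStab]

/-! ### The centre -/

theorem exists_code_separating {i j : GolayPt} (h : i ≠ j) :
    ∃ c ∈ golayCode, c i = 0 ∧ c j = 1 := by
  obtain ⟨c, hc, hv⟩ := exists_code_eq_on_small {i, j} (by rw [card_pair h]; norm_num)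
    (fun k => if k = j then 1 else 0)
  exact ⟨c, hc, by rw [hv i (by simp), if_neg h], by rw [hv j (by simp), if_pos rfl]⟩

theorem mem_center_iff {z : Co0} : z ∈ Subgroup.center Co0 ↔ z = 1 ∨ z = negCo0 := by
  constructor
  · intro hz
    have hcomm : ∀ (g : Co0) (v : leechLattice), z • g • v = g • z • v := fun g v => by
      rw [← mul_smul, ← mul_smul, Subgroup.mem_center_iff.1 hz g]
    have hax : ∀ i k, k ≠ i → ((z • axis i : leechLattice) : GolayPt → ℤ) k = 0 := by
      intro i k hk
      obtain ⟨c, hc, hci, hck⟩ := exists_code_separating (Ne.symm hk)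
      have e := congrFun (congrArg Subtype.val (hcomm (mono (1, ⟨c, hc⟩)) (axis i))) k
      rw [mono_axis] at e
      simp only [OneMemClass.coe_one, Equiv.Perm.one_apply, sgn, hci, if_true, one_smul, mono_smul,
        monoFun, hck, one_ne_zero, if_false] at e
      simp only [Equiv.Perm.one_def, Equiv.refl_symm, Equiv.refl_apply] at e
      omega
    choose s t ht hzt using fun i => mem_stdCross_iff.1 (show
      ((z • axis i : leechLattice) : GolayPt → ℤ) ∈ stdCross by
        refine ⟨i, ((z • axis i : leechLattice) : GolayPt → ℤ) i, ?_, funext fun k => ?_⟩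
        · have hn := co0_norm z (axis i)
          rw [sqNorm, sqNorm, sum_eq_single i (fun k _ hk => by rw [hax i k hk]; ring) (by simp),
            sum_eq_single i (fun k _ hk => by simp [coe_axis, hk]) (by simp), coe_axis,
            Pi.single_eq_same] at hn
          have : (((z • axis i : leechLattice) : GolayPt → ℤ) i - 8)
              * (((z • axis i : leechLattice) : GolayPt → ℤ) i + 8) = 0 := by linarith
          rcases mul_eq_zero.1 this with q | q <;> omega
        · rcases eq_or_ne k i with rfl | hk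
          · simp
          · simp [hk, hax i k hk])
    have hsi : ∀ i, s i = i := fun i => by
      by_contra hne
      have h1 := congrFun (congrArg Subtype.val (hzt i)) (s i)
      rw [hax i (s i) hne] at h1
      simp [coe_axis] at h1
      rcases ht i with q | q <;> omega
    simp only [hsi] at hzt
    have hconst : ∀ i, t i = t none := fun i => by
      obtain ⟨σ, hσ, hσi⟩ := exists_M24_point none i
      have e := hcomm (mono (⟨σ, hσ⟩, 0)) (axis none)
      rw [mono_axis, hσi] at e
      simp only [sgn, ZeroMemClass.coe_zero, Pi.zero_apply, if_true, one_smul] at e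
      rw [hzt, hzt, ← hom0_apply, map_zsmul, hom0_apply, mono_axis, hσi] at e
      simp only [sgn, ZeroMemClass.coe_zero, Pi.zero_apply, if_true, one_smul] at e
      exact (sgn_axis_inj (ht i) e).2
    rcases ht none with q | q
    · exact Or.inl (co0_ext fun i => by rw [hzt, hconst, q, one_smul, one_smul])
    · exact Or.inr (co0_ext fun i => by rw [hzt, hconst, q, negCo0_smul, neg_one_zsmul])
  · rintro (rfl | rfl)
    · exact one_mem _
    · refine Subgroup.mem_center_iff.2 fun g => co0_ext fun i => ?_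
      rw [mul_smul, mul_smul, negCo0_smul, negCo0_smul, co0_neg]

theorem negCo0_ne_one : negCo0 ≠ 1 := fun h => by
  have := congrFun (congrArg Subtype.val (congrArg (· • axis none) h)) none
  simp only [negCo0_smul, one_smul, AddSubgroup.coe_neg, Pi.neg_apply, coe_axis,
    Pi.single_eq_same] at this
  norm_num at this

theorem card_center : Nat.card (Subgroup.center Co0) = 2 := by
  have : (Subgroup.center Co0 : Set Co0) = {1, negCo0} := Set.ext fun z => mem_center_iff
  show Nat.card (Subgroup.center Co0 : Set Co0) = 2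
  rw [Nat.card_coe_set_eq, this, Set.ncard_pair negCo0_ne_one.symm]

end Cfsg.Agent.Leech
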