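import Cfsg.Agent.Lib.Leech.Co0

/-!
Explicit crosses, one for each type of vector of norm 8.
-/

namespace Cfsg.Agent.Leech

/-- The cross of a representative of type D. -/
def crossListD : List (List ℤ) :=
  [[0, 0, 0, 0, 2, 0, -4, -2, 0, 2, 0, 0, 0, 2, 0, 2, 0, 2, 2, 2, 2, 2, -2, -2],
   [-4, 0, 0, 0, -2, 0, 0, -2, 0, 2, 0, 0, 0, -2, 0, -2, 0, 2, 2, 2, -2, -2, -2, 2],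
   [-2, -2, -2, -2, 0, -2, 2, 0, 2, 0, -2, 2, 2, 0, 2, 4, -2, 0, 0, 0, 0, 0, 0, 0],
   [-2, -2, -2, -2, 0, 2, -2, 0, 2, 0, 2, -2, -2, 0, -2, 0, -2, 0, 0, -4, 0, 0, 0, 0],
   [-2, -2, -2, 2, 0, -2, 2, 0, -2, 0, 2, -2, 2, 4, -2, 0, 2, 0, 0, 0, 0, 0, 0, 0],
   [-2, -2, 2, -2, 0, -2, -2, 0, -2, 0, -2, 2, -2, 0, -2, 0, 2, 0, -4, 0, 0, 0, 0, 0],
   [-2, -2, 2, 2, 0, 2, -2, 0, 2, 0, -2, -2, 2, 0, 2, 0, 2, -4, 0, 0, 0, 0, 0, 0],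
   [-2, -2, 2, 2, 0, 2, 2, 0, -2, 0, 2, 2, -2, 0, 2, 0, -2, 0, 0, 0, 0, 0, 0, -4],
   [-2, 2, -2, -2, 0, 2, 2, 0, -2, 0, -2, -2, -2, 0, 2, 0, 2, 0, 0, 0, 0, 4, 0, 0],
   [-2, 2, -2, 2, 0, -2, -2, 0, 2, -4, 2, 2, -2, 0, 2, 0, 2, 0, 0, 0, 0, 0, 0, 0],
   [-2, 2, -2, 2, 0, 2, -2, 0, -2, 0, -2, 2, 2, 0, -2, 0, -2, 0, 0, 0, 0, 0, 4, 0],
   [-2, 2, 2, -2, 0, -2, -2, 4, -2, 0, 2, -2, 2, 0, 2, 0, -2, 0, 0, 0, 0, 0, 0, 0],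
   [-2, 2, 2, -2, 4, 2, 2, 0, 2, 0, 2, 2, 2, 0, -2, 0, 2, 0, 0, 0, 0, 0, 0, 0],
   [-2, 2, 2, 2, 0, -2, 2, 0, 2, 0, -2, -2, -2, 0, -2, 0, -2, 0, 0, 0, 4, 0, 0, 0],
   [0, -4, 0, 0, 2, 0, 0, 2, 0, -2, 0, 0, 0, -2, 0, -2, 0, 2, 2, 2, 2, 2, 2, 2],
   [0, 0, -4, 0, 2, 0, 0, 2, 0, 2, 0, 0, 0, -2, 0, -2, 0, -2, -2, 2, 2, -2, -2, -2],
   [0, 0, 0, -4, -2, 0, 0, -2, 0, -2, 0, 0, 0, 2, 0, -2, 0, -2, 2, 2, 2, -2, 2, -2],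
   [0, 0, 0, 0, -2, 0, 0, -2, 0, -2, 0, 0, 4, -2, 0, -2, 0, 2, -2, -2, 2, 2, -2, -2],
   [0, 0, 0, 0, -2, 0, 0, -2, 0, 2, 4, 0, 0, -2, 0, 2, 0, -2, -2, 2, 2, 2, 2, 2],
   [0, 0, 0, 0, -2, 0, 0, 2, 0, -2, 0, 0, 0, -2, -4, 2, 0, -2, 2, 2, -2, 2, -2, -2],
   [0, 0, 0, 0, -2, 0, 0, 2, 0, 2, 0, 0, 0, -2, 0, 2, 4, 2, 2, -2, 2, -2, 2, -2],
   [0, 0, 0, 0, -2, 0, 0, 2, 0, 2, 0, 4, 0, 2, 0, -2, 0, -2, 2, -2, 2, 2, -2, 2],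
   [0, 0, 0, 0, -2, 0, 0, 2, 4, 2, 0, 0, 0, 2, 0, -2, 0, 2, -2, 2, -2, 2, 2, -2],
   [0, 0, 0, 0, -2, 0, 4, 2, 0, -2, 0, 0, 0, -2, 0, -2, 0, -2, -2, -2, -2, -2, 2, 2],
   [0, 0, 0, 0, -2, 4, 0, 2, 0, -2, 0, 0, 0, 2, 0, 2, 0, 2, -2, 2, 2, -2, -2, 2],
   [0, 0, 0, 0, 2, -4, 0, -2, 0, 2, 0, 0, 0, -2, 0, -2, 0, -2, 2, -2, -2, 2, 2, -2],
   [0, 0, 0, 0, 2, 0, 0, -2, -4, -2, 0, 0, 0, -2, 0, 2, 0, -2, 2, -2, 2, -2, -2, 2],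
   [0, 0, 0, 0, 2, 0, 0, -2, 0, -2, 0, -4, 0, -2, 0, 2, 0, 2, -2, 2, -2, -2, 2, -2],
   [0, 0, 0, 0, 2, 0, 0, -2, 0, -2, 0, 0, 0, 2, 0, -2, -4, -2, -2, 2, -2, 2, -2, 2],
   [0, 0, 0, 0, 2, 0, 0, -2, 0, 2, 0, 0, 0, 2, 4, -2, 0, 2, -2, -2, 2, -2, 2, 2],
   [0, 0, 0, 0, 2, 0, 0, 2, 0, -2, -4, 0, 0, 2, 0, -2, 0, 2, 2, -2, -2, -2, -2, -2],
   [0, 0, 0, 0, 2, 0, 0, 2, 0, 2, 0, 0, -4, 2, 0, 2, 0, -2, 2, 2, -2, -2, 2, 2],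
   [0, 0, 0, 4, 2, 0, 0, 2, 0, 2, 0, 0, 0, -2, 0, 2, 0, 2, -2, -2, -2, 2, -2, 2],
   [0, 0, 4, 0, -2, 0, 0, -2, 0, -2, 0, 0, 0, 2, 0, 2, 0, 2, 2, -2, -2, 2, 2, 2],
   [0, 4, 0, 0, -2, 0, 0, -2, 0, 2, 0, 0, 0, 2, 0, 2, 0, -2, -2, -2, -2, -2, -2, -2],
   [2, -2, -2, -2, 0, 2, -2, 0, -2, 0, 2, 2, 2, 0, 2, 0, 2, 0, 0, 0, -4, 0, 0, 0],
   [2, -2, -2, 2, -4, -2, -2, 0, -2, 0, -2, -2, -2, 0, 2, 0, -2, 0, 0, 0, 0, 0, 0, 0],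
   [2, -2, -2, 2, 0, 2, 2, -4, 2, 0, -2, 2, -2, 0, -2, 0, 2, 0, 0, 0, 0, 0, 0, 0],
   [2, -2, 2, -2, 0, -2, 2, 0, 2, 0, 2, -2, -2, 0, 2, 0, 2, 0, 0, 0, 0, 0, -4, 0],
   [2, -2, 2, -2, 0, 2, 2, 0, -2, 4, -2, -2, 2, 0, -2, 0, -2, 0, 0, 0, 0, 0, 0, 0],
   [2, -2, 2, 2, 0, -2, -2, 0, 2, 0, 2, 2, 2, 0, -2, 0, -2, 0, 0, 0, 0, -4, 0, 0],
   [2, 2, -2, -2, 0, -2, -2, 0, 2, 0, -2, -2, 2, 0, -2, 0, 2, 0, 0, 0, 0, 0, 0, 4],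
   [2, 2, -2, -2, 0, -2, 2, 0, -2, 0, 2, 2, -2, 0, -2, 0, -2, 4, 0, 0, 0, 0, 0, 0],
   [2, 2, -2, 2, 0, 2, 2, 0, 2, 0, 2, -2, 2, 0, 2, 0, -2, 0, 4, 0, 0, 0, 0, 0],
   [2, 2, 2, -2, 0, 2, -2, 0, 2, 0, -2, 2, -2, -4, 2, 0, -2, 0, 0, 0, 0, 0, 0, 0],
   [2, 2, 2, 2, 0, -2, 2, 0, -2, 0, -2, 2, 2, 0, 2, 0, 2, 0, 0, 4, 0, 0, 0, 0],
   [2, 2, 2, 2, 0, 2, -2, 0, -2, 0, 2, -2, -2, 0, -2, -4, 2, 0, 0, 0, 0, 0, 0, 0],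
   [4, 0, 0, 0, 2, 0, 0, 2, 0, -2, 0, 0, 0, 2, 0, 2, 0, -2, -2, -2, 2, 2, 2, -2]]

/-- The cross of a representative of type C42. -/
def crossListC42 : List (List ℤ) :=
  [[2, -2, 0, -2, 0, 4, 4, 0, 0, 0, -2, 0, 0, 0, -2, 0, 2, 0, 0, 0, -2, 0, -2, 0],
   [-2, -2, -4, -2, 0, 0, 0, 0, 0, 0, -2, 0, 0, 0, 2, 0, -2, 0, 0, -4, -2, 0, 2, 0],
   [-2, -2, 0, -2, 0, 0, 0, 0, -4, 0, 2, 0, 0, 0, -2, -4, -2, 0, 0, 0, 2, 0, -2, 0],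
   [-2, -2, 0, -2, 0, 0, 0, 0, 4, 0, 2, 0, 0, 0, -2, 4, -2, 0, 0, 0, 2, 0, -2, 0],
   [-2, -2, 0, 2, 0, 0, 0, 0, 0, 0, -2, -4, 0, 4, 2, 0, 2, 0, 0, 0, 2, 0, -2, 0],
   [-2, -2, 0, 2, 0, 0, 0, 0, 0, 0, -2, 4, 0, -4, 2, 0, 2, 0, 0, 0, 2, 0, -2, 0],
   [-2, -2, 0, 2, 0, 0, 0, 0, 0, 0, 2, 0, -4, 0, -2, 0, 2, 4, 0, 0, -2, 0, 2, 0],
   [-2, -2, 0, 2, 0, 0, 0, 0, 0, 0, 2, 0, 4, 0, -2, 0, 2, -4, 0, 0, -2, 0, 2, 0],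
   [-2, -2, 4, -2, 0, 0, 0, 0, 0, 0, -2, 0, 0, 0, 2, 0, -2, 0, 0, 4, -2, 0, 2, 0],
   [-2, 2, 0, -2, 0, 0, 0, -4, 0, 4, 2, 0, 0, 0, 2, 0, 2, 0, 0, 0, -2, 0, -2, 0],
   [-2, 2, 0, -2, 0, 0, 0, 0, 0, 0, -2, 0, 0, 0, -2, 0, 2, 0, -4, 0, 2, 0, 2, 4],
   [-2, 2, 0, -2, 0, 0, 0, 0, 0, 0, -2, 0, 0, 0, -2, 0, 2, 0, 4, 0, 2, 0, 2, -4],
   [-2, 2, 0, -2, 0, 0, 0, 4, 0, -4, 2, 0, 0, 0, 2, 0, 2, 0, 0, 0, -2, 0, -2, 0],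
   [-2, 2, 0, 2, -4, 0, 0, 0, 0, 0, -2, 0, 0, 0, -2, 0, -2, 0, 0, 0, -2, -4, -2, 0],
   [-2, 2, 0, 2, 0, -4, -4, 0, 0, 0, 2, 0, 0, 0, 2, 0, -2, 0, 0, 0, 2, 0, 2, 0],
   [-2, 2, 0, 2, 0, 4, 4, 0, 0, 0, 2, 0, 0, 0, 2, 0, -2, 0, 0, 0, 2, 0, 2, 0],
   [-2, 2, 0, 2, 4, 0, 0, 0, 0, 0, -2, 0, 0, 0, -2, 0, -2, 0, 0, 0, -2, 4, -2, 0],
   [0, 0, -2, 0, -2, -2, 2, -2, 2, -2, 0, 2, 2, 2, 0, -2, 0, 2, 2, 2, 0, 2, 0, 2],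
   [0, 0, -2, 0, -2, -2, 2, 2, 2, 2, 0, -2, -2, -2, 0, -2, 0, -2, -2, 2, 0, 2, 0, -2],
   [0, 0, -2, 0, -2, 2, -2, -2, -2, -2, 0, -2, 2, -2, 0, 2, 0, 2, -2, 2, 0, 2, 0, -2],
   [0, 0, -2, 0, -2, 2, -2, 2, -2, 2, 0, 2, -2, 2, 0, 2, 0, -2, 2, 2, 0, 2, 0, 2],
   [0, 0, -2, 0, 2, -2, 2, -2, -2, -2, 0, 2, -2, 2, 0, 2, 0, -2, -2, 2, 0, -2, 0, -2],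
   [0, 0, -2, 0, 2, -2, 2, 2, -2, 2, 0, -2, 2, -2, 0, 2, 0, 2, 2, 2, 0, -2, 0, 2],
   [0, 0, -2, 0, 2, 2, -2, -2, 2, -2, 0, -2, -2, -2, 0, -2, 0, -2, 2, 2, 0, -2, 0, 2],
   [0, 0, -2, 0, 2, 2, -2, 2, 2, 2, 0, 2, 2, 2, 0, -2, 0, 2, -2, 2, 0, -2, 0, -2],
   [0, 0, 2, 0, -2, -2, 2, -2, -2, -2, 0, -2, -2, -2, 0, 2, 0, -2, 2, -2, 0, 2, 0, 2],
   [0, 0, 2, 0, -2, -2, 2, 2, -2, 2, 0, 2, 2, 2, 0, 2, 0, 2, -2, -2, 0, 2, 0, -2],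
   [0, 0, 2, 0, -2, 2, -2, -2, 2, -2, 0, 2, -2, 2, 0, -2, 0, -2, -2, -2, 0, 2, 0, -2],
   [0, 0, 2, 0, -2, 2, -2, 2, 2, 2, 0, -2, 2, -2, 0, -2, 0, 2, 2, -2, 0, 2, 0, 2],
   [0, 0, 2, 0, 2, -2, 2, -2, 2, -2, 0, -2, 2, -2, 0, -2, 0, 2, -2, -2, 0, -2, 0, -2],
   [0, 0, 2, 0, 2, -2, 2, 2, 2, 2, 0, 2, -2, 2, 0, -2, 0, -2, 2, -2, 0, -2, 0, 2],
   [0, 0, 2, 0, 2, 2, -2, -2, -2, -2, 0, 2, 2, 2, 0, 2, 0, 2, 2, -2, 0, -2, 0, 2],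
   [0, 0, 2, 0, 2, 2, -2, 2, -2, 2, 0, -2, -2, -2, 0, 2, 0, -2, -2, -2, 0, -2, 0, -2],
   [2, -2, 0, -2, -4, 0, 0, 0, 0, 0, 2, 0, 0, 0, 2, 0, 2, 0, 0, 0, 2, -4, 2, 0],
   [2, -2, 0, -2, 0, -4, -4, 0, 0, 0, -2, 0, 0, 0, -2, 0, 2, 0, 0, 0, -2, 0, -2, 0],
   [2, -2, 0, -2, 4, 0, 0, 0, 0, 0, 2, 0, 0, 0, 2, 0, 2, 0, 0, 0, 2, 4, 2, 0],
   [2, -2, 0, 2, 0, 0, 0, -4, 0, 4, -2, 0, 0, 0, -2, 0, -2, 0, 0, 0, 2, 0, 2, 0],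
   [2, -2, 0, 2, 0, 0, 0, 0, 0, 0, 2, 0, 0, 0, 2, 0, -2, 0, -4, 0, -2, 0, -2, 4],
   [2, -2, 0, 2, 0, 0, 0, 0, 0, 0, 2, 0, 0, 0, 2, 0, -2, 0, 4, 0, -2, 0, -2, -4],
   [2, -2, 0, 2, 0, 0, 0, 4, 0, -4, -2, 0, 0, 0, -2, 0, -2, 0, 0, 0, 2, 0, 2, 0],
   [2, 2, -4, 2, 0, 0, 0, 0, 0, 0, 2, 0, 0, 0, -2, 0, 2, 0, 0, -4, 2, 0, -2, 0],
   [2, 2, 0, -2, 0, 0, 0, 0, 0, 0, -2, 0, -4, 0, 2, 0, -2, 4, 0, 0, 2, 0, -2, 0],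
   [2, 2, 0, -2, 0, 0, 0, 0, 0, 0, -2, 0, 4, 0, 2, 0, -2, -4, 0, 0, 2, 0, -2, 0],
   [2, 2, 0, -2, 0, 0, 0, 0, 0, 0, 2, -4, 0, 4, -2, 0, -2, 0, 0, 0, -2, 0, 2, 0],
   [2, 2, 0, -2, 0, 0, 0, 0, 0, 0, 2, 4, 0, -4, -2, 0, -2, 0, 0, 0, -2, 0, 2, 0],
   [2, 2, 0, 2, 0, 0, 0, 0, -4, 0, -2, 0, 0, 0, 2, -4, 2, 0, 0, 0, -2, 0, 2, 0],
   [2, 2, 0, 2, 0, 0, 0, 0, 4, 0, -2, 0, 0, 0, 2, 4, 2, 0, 0, 0, -2, 0, 2, 0],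
   [2, 2, 4, 2, 0, 0, 0, 0, 0, 0, 2, 0, 0, 0, -2, 0, 2, 0, 0, 4, 2, 0, -2, 0]]

/-- The cross of a representative of type G. -/
def crossListG : List (List ℤ) :=
  [[1, 1, -1, 1, -1, 1, 1, -3, -1, 1, 1, 1, 1, -5, -3, 1, 1, -1, 1, 1, -1, -1, -1, 1],
   [-3, -3, -1, 1, -1, 1, 1, 1, -1, 1, 1, 1, -3, -1, 1, 1, 1, -1, 1, 1, 3, -1, -1, -3],
   [-3, 1, -1, -3, -1, 1, 1, 1, -1, 1, -3, 1, 1, -1, 1, 1, 1, 3, -3, 1, -1, -1, -1, 1],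
   [-3, 1, -1, 1, -1, 1, -3, 1, 3, 1, 1, 1, 1, -1, 1, -3, 1, -1, 1, -3, -1, -1, -1, 1],
   [-3, 1, -1, 1, -1, 1, 1, 1, -1, -3, 1, -3, 1, -1, 1, 1, -3, -1, 1, 1, -1, -1, 3, 1],
   [-3, 1, 3, 1, 3, -3, 1, 1, -1, 1, 1, 1, 1, -1, 1, 1, 1, -1, 1, 1, -1, 3, -1, 1],
   [-1, -1, -3, -1, 1, -1, -1, -1, -3, -1, -1, 3, -1, 1, -1, -1, -1, 1, 3, -1, -3, 1, 1, -1],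
   [-1, -1, -3, -1, 1, -1, -1, -1, 1, -1, -1, -1, -1, 1, -1, -1, -1, -3, -1, 3, 1, 1, -3, 3],
   [-1, -1, -3, -1, 1, -1, -1, -1, 1, 3, 3, -1, 3, 1, -1, 3, -1, 1, -1, -1, 1, 1, 1, -1],
   [-1, -1, 1, -1, -3, -1, -1, -1, 1, -1, -1, -1, -1, 1, -1, 3, 3, 1, 3, -1, 1, 1, 1, 3],
   [-1, -1, 1, -1, -3, -1, 3, -1, 1, 3, -1, -1, -1, 1, -1, -1, -1, -3, -1, -1, -3, 1, 1, -1],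
   [-1, -1, 1, -1, 1, -1, -1, -5, 1, -1, -1, -1, -1, -3, 3, -1, -1, 1, -1, -1, 1, 1, 1, -1],
   [-1, -1, 1, -1, 1, -1, -1, -1, -3, -1, -1, -1, 3, 1, -1, -1, 3, -3, -1, -1, 1, -3, 1, -1],
   [-1, -1, 1, -1, 1, -1, -1, 3, 1, -1, -1, -1, -1, -3, -5, -1, -1, 1, -1, -1, 1, 1, 1, -1],
   [-1, -1, 1, -1, 1, -1, -1, 3, 1, -1, -1, -1, -1, 5, 3, -1, -1, 1, -1, -1, 1, 1, 1, -1],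
   [-1, -1, 1, -1, 1, -1, 3, -1, 1, -1, 3, 3, -1, 1, -1, -1, -1, 1, -1, -1, 1, -3, 1, 3],
   [-1, -1, 1, -1, 1, 3, -1, -1, 1, -1, 3, -1, -1, 1, -1, -1, 3, 1, -1, 3, -3, 1, 1, -1],
   [-1, -1, 1, -1, 1, 3, 3, -1, 1, -1, -1, -1, 3, 1, -1, -1, -1, 1, 3, -1, 1, 1, -3, -1],
   [-1, -1, 1, 3, -3, -1, -1, -1, 1, -1, -1, 3, 3, 1, -1, -1, -1, 1, -1, 3, 1, 1, 1, -1],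
   [-1, -1, 1, 3, 1, -1, -1, -1, 1, -1, -1, -1, -1, 1, -1, 3, -1, 1, -1, -1, -3, -3, -3, -1],
   [-1, -1, 1, 3, 1, 3, -1, -1, -3, 3, -1, -1, -1, 1, -1, -1, -1, 1, -1, -1, 1, 1, 1, 3],
   [-1, 3, -3, 3, 1, -1, 3, -1, 1, -1, -1, -1, -1, 1, -1, -1, 3, 1, -1, -1, 1, 1, 1, -1],
   [-1, 3, 1, -1, -3, -1, -1, -1, -3, -1, 3, -1, -1, 1, -1, -1, -1, 1, -1, -1, 1, 1, -3, -1],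
   [-1, 3, 1, -1, 1, -1, -1, -1, 1, 3, -1, -1, -1, 1, -1, -1, -1, 1, 3, 3, 1, -3, 1, -1],
   [-1, 3, 1, -1, 1, 3, -1, -1, 1, -1, -1, 3, -1, 1, -1, 3, -1, -3, -1, -1, 1, 1, 1, -1],
   [1, -3, -1, 1, -1, -3, 1, 1, -1, 1, 1, -3, 1, -1, 1, -3, 1, 3, 1, 1, -1, -1, -1, 1],
   [1, -3, -1, 1, -1, 1, 1, 1, -1, -3, 1, 1, 1, -1, 1, 1, 1, -1, -3, -3, -1, 3, -1, 1],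
   [1, -3, -1, 1, 3, 1, 1, 1, 3, 1, -3, 1, 1, -1, 1, 1, 1, -1, 1, 1, -1, -1, 3, 1],
   [1, -3, 3, -3, -1, 1, -3, 1, -1, 1, 1, 1, 1, -1, 1, 1, -3, -1, 1, 1, -1, -1, -1, 1],
   [1, 1, -1, -3, -1, -3, 1, 1, 3, -3, 1, 1, 1, -1, 1, 1, 1, -1, 1, 1, -1, -1, -1, -3],
   [1, 1, -1, -3, -1, 1, 1, 1, -1, 1, 1, 1, 1, -1, 1, -3, 1, -1, 1, 1, 3, 3, 3, 1],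
   [1, 1, -1, -3, 3, 1, 1, 1, -1, 1, 1, -3, -3, -1, 1, 1, 1, -1, 1, -3, -1, -1, -1, 1],
   [1, 1, -1, 1, -1, -3, -3, 1, -1, 1, 1, 1, -3, -1, 1, 1, 1, -1, -3, 1, -1, -1, 3, 1],
   [1, 1, -1, 1, -1, -3, 1, 1, -1, 1, -3, 1, 1, -1, 1, 1, -3, -1, 1, -3, 3, -1, -1, 1],
   [1, 1, -1, 1, -1, 1, -3, 1, -1, 1, -3, -3, 1, -1, 1, 1, 1, -1, 1, 1, -1, 3, -1, -3],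
   [1, 1, -1, 1, -1, 1, 1, -3, -1, 1, 1, 1, 1, 3, 5, 1, 1, -1, 1, 1, -1, -1, -1, 1],
   [1, 1, -1, 1, -1, 1, 1, 1, 3, 1, 1, 1, -3, -1, 1, 1, -3, 3, 1, 1, -1, 3, -1, 1],
   [1, 1, -1, 1, -1, 1, 1, 5, -1, 1, 1, 1, 1, 3, -3, 1, 1, -1, 1, 1, -1, -1, -1, 1],
   [1, 1, -1, 1, 3, 1, -3, 1, -1, -3, 1, 1, 1, -1, 1, 1, 1, 3, 1, 1, 3, -1, -1, 1],
   [1, 1, -1, 1, 3, 1, 1, 1, -1, 1, 1, 1, 1, -1, 1, -3, -3, -1, -3, 1, -1, -1, -1, -3],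
   [1, 1, 3, 1, -1, 1, 1, 1, -1, -3, -3, 1, -3, -1, 1, -3, 1, -1, 1, 1, -1, -1, -1, 1],
   [1, 1, 3, 1, -1, 1, 1, 1, -1, 1, 1, 1, 1, -1, 1, 1, 1, 3, 1, -3, -1, -1, 3, -3],
   [1, 1, 3, 1, -1, 1, 1, 1, 3, 1, 1, -3, 1, -1, 1, 1, 1, -1, -3, 1, 3, -1, -1, 1],
   [3, -1, -3, -1, -3, 3, -1, -1, 1, -1, -1, -1, -1, 1, -1, -1, -1, 1, -1, -1, 1, -3, 1, -1],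
   [3, -1, 1, -1, 1, -1, -1, -1, 1, 3, -1, 3, -1, 1, -1, -1, 3, 1, -1, -1, 1, 1, -3, -1],
   [3, -1, 1, -1, 1, -1, 3, -1, -3, -1, -1, -1, -1, 1, -1, 3, -1, 1, -1, 3, 1, 1, 1, -1],
   [3, -1, 1, 3, 1, -1, -1, -1, 1, -1, 3, -1, -1, 1, -1, -1, -1, -3, 3, -1, 1, 1, 1, -1],
   [3, 3, 1, -1, 1, -1, -1, -1, 1, -1, -1, -1, 3, 1, -1, -1, -1, 1, -1, -1, -3, 1, 1, 3]]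

/-- The cross of a representative of type C6. -/
def crossListC6 : List (List ℤ) :=
  [[-6, 0, 0, -2, 0, 0, 0, 0, 0, 0, 0, -2, 0, 0, -2, -2, 0, 2, 0, 2, 0, 0, 2, 0],
   [-2, 0, 0, -6, 0, 0, 0, 0, 0, 0, 0, 2, 0, 0, 2, 2, 0, -2, 0, -2, 0, 0, -2, 0],
   [-2, 0, 0, 2, 0, 0, 0, 0, 0, 0, 0, -6, 0, 0, 2, 2, 0, -2, 0, -2, 0, 0, -2, 0],
   [-2, 0, 0, 2, 0, 0, 0, 0, 0, 0, 0, 2, 0, 0, -6, 2, 0, -2, 0, -2, 0, 0, -2, 0],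
   [-2, 0, 0, 2, 0, 0, 0, 0, 0, 0, 0, 2, 0, 0, 2, -6, 0, -2, 0, -2, 0, 0, -2, 0],
   [-2, 0, 0, 2, 0, 0, 0, 0, 0, 0, 0, 2, 0, 0, 2, 2, 0, -2, 0, -2, 0, 0, 6, 0],
   [-2, 0, 0, 2, 0, 0, 0, 0, 0, 0, 0, 2, 0, 0, 2, 2, 0, -2, 0, 6, 0, 0, -2, 0],
   [-2, 0, 0, 2, 0, 0, 0, 0, 0, 0, 0, 2, 0, 0, 2, 2, 0, 6, 0, -2, 0, 0, -2, 0],
   [0, -2, -2, 0, -2, -2, -2, -2, 2, -2, 2, 0, -2, 2, 0, 0, 2, 0, -2, 0, -2, -2, 0, -2],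
   [0, -2, -2, 0, -2, -2, 2, 2, -2, 2, -2, 0, -2, -2, 0, 0, -2, 0, 2, 0, -2, -2, 0, -2],
   [0, -2, -2, 0, -2, 2, -2, 2, -2, -2, 2, 0, 2, 2, 0, 0, -2, 0, 2, 0, 2, -2, 0, 2],
   [0, -2, -2, 0, -2, 2, 2, -2, 2, 2, -2, 0, 2, -2, 0, 0, 2, 0, -2, 0, 2, -2, 0, 2],
   [0, -2, -2, 0, 2, -2, -2, 2, 2, -2, -2, 0, 2, -2, 0, 0, 2, 0, 2, 0, 2, 2, 0, -2],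
   [0, -2, -2, 0, 2, -2, 2, -2, -2, 2, 2, 0, 2, 2, 0, 0, -2, 0, -2, 0, 2, 2, 0, -2],
   [0, -2, -2, 0, 2, 2, -2, -2, -2, -2, -2, 0, -2, -2, 0, 0, -2, 0, -2, 0, -2, 2, 0, 2],
   [0, -2, -2, 0, 2, 2, 2, 2, 2, 2, 2, 0, -2, 2, 0, 0, 2, 0, 2, 0, -2, 2, 0, 2],
   [0, -2, 2, 0, -2, -2, -2, 2, 2, 2, 2, 0, -2, -2, 0, 0, -2, 0, -2, 0, 2, 2, 0, 2],
   [0, -2, 2, 0, -2, -2, 2, -2, -2, -2, -2, 0, -2, 2, 0, 0, 2, 0, 2, 0, 2, 2, 0, 2],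
   [0, -2, 2, 0, -2, 2, -2, -2, -2, 2, 2, 0, 2, -2, 0, 0, 2, 0, 2, 0, -2, 2, 0, -2],
   [0, -2, 2, 0, -2, 2, 2, 2, 2, -2, -2, 0, 2, 2, 0, 0, -2, 0, -2, 0, -2, 2, 0, -2],
   [0, -2, 2, 0, 2, -2, -2, -2, 2, 2, -2, 0, 2, 2, 0, 0, -2, 0, 2, 0, -2, -2, 0, 2],
   [0, -2, 2, 0, 2, -2, 2, 2, -2, -2, 2, 0, 2, -2, 0, 0, 2, 0, -2, 0, -2, -2, 0, 2],
   [0, -2, 2, 0, 2, 2, -2, 2, -2, 2, -2, 0, -2, 2, 0, 0, 2, 0, -2, 0, 2, -2, 0, -2],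
   [0, -2, 2, 0, 2, 2, 2, -2, 2, -2, 2, 0, -2, -2, 0, 0, -2, 0, 2, 0, 2, -2, 0, -2],
   [0, 2, -2, 0, -2, -2, -2, 2, -2, 2, -2, 0, 2, 2, 0, 0, 2, 0, -2, 0, -2, 2, 0, 2],
   [0, 2, -2, 0, -2, -2, 2, -2, 2, -2, 2, 0, 2, -2, 0, 0, -2, 0, 2, 0, -2, 2, 0, 2],
   [0, 2, -2, 0, -2, 2, -2, -2, 2, 2, -2, 0, -2, 2, 0, 0, -2, 0, 2, 0, 2, 2, 0, -2],
   [0, 2, -2, 0, -2, 2, 2, 2, -2, -2, 2, 0, -2, -2, 0, 0, 2, 0, -2, 0, 2, 2, 0, -2],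
   [0, 2, -2, 0, 2, -2, -2, -2, -2, 2, 2, 0, -2, -2, 0, 0, 2, 0, 2, 0, 2, -2, 0, 2],
   [0, 2, -2, 0, 2, -2, 2, 2, 2, -2, -2, 0, -2, 2, 0, 0, -2, 0, -2, 0, 2, -2, 0, 2],
   [0, 2, -2, 0, 2, 2, -2, 2, 2, 2, 2, 0, 2, -2, 0, 0, -2, 0, -2, 0, -2, -2, 0, -2],
   [0, 2, -2, 0, 2, 2, 2, -2, -2, -2, -2, 0, 2, 2, 0, 0, 2, 0, 2, 0, -2, -2, 0, -2],
   [0, 2, 2, 0, -2, -2, -2, -2, -2, -2, -2, 0, 2, -2, 0, 0, -2, 0, -2, 0, 2, -2, 0, -2],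
   [0, 2, 2, 0, -2, -2, 2, 2, 2, 2, 2, 0, 2, 2, 0, 0, 2, 0, 2, 0, 2, -2, 0, -2],
   [0, 2, 2, 0, -2, 2, -2, 2, 2, -2, -2, 0, -2, -2, 0, 0, 2, 0, 2, 0, -2, -2, 0, 2],
   [0, 2, 2, 0, -2, 2, 2, -2, -2, 2, 2, 0, -2, 2, 0, 0, -2, 0, -2, 0, -2, -2, 0, 2],
   [0, 2, 2, 0, 2, -2, -2, 2, -2, -2, 2, 0, -2, 2, 0, 0, -2, 0, 2, 0, -2, 2, 0, -2],
   [0, 2, 2, 0, 2, -2, 2, -2, 2, 2, -2, 0, -2, -2, 0, 0, 2, 0, -2, 0, -2, 2, 0, -2],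
   [0, 2, 2, 0, 2, 2, -2, -2, 2, -2, 2, 0, 2, 2, 0, 0, 2, 0, -2, 0, 2, 2, 0, 2],
   [0, 2, 2, 0, 2, 2, 2, 2, -2, 2, -2, 0, 2, -2, 0, 0, -2, 0, 2, 0, 2, 2, 0, 2],
   [2, 0, 0, -2, 0, 0, 0, 0, 0, 0, 0, -2, 0, 0, -2, -2, 0, -6, 0, 2, 0, 0, 2, 0],
   [2, 0, 0, -2, 0, 0, 0, 0, 0, 0, 0, -2, 0, 0, -2, -2, 0, 2, 0, -6, 0, 0, 2, 0],
   [2, 0, 0, -2, 0, 0, 0, 0, 0, 0, 0, -2, 0, 0, -2, -2, 0, 2, 0, 2, 0, 0, -6, 0],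
   [2, 0, 0, -2, 0, 0, 0, 0, 0, 0, 0, -2, 0, 0, -2, 6, 0, 2, 0, 2, 0, 0, 2, 0],
   [2, 0, 0, -2, 0, 0, 0, 0, 0, 0, 0, -2, 0, 0, 6, -2, 0, 2, 0, 2, 0, 0, 2, 0],
   [2, 0, 0, -2, 0, 0, 0, 0, 0, 0, 0, 6, 0, 0, -2, -2, 0, 2, 0, 2, 0, 0, 2, 0],
   [2, 0, 0, 6, 0, 0, 0, 0, 0, 0, 0, -2, 0, 0, -2, -2, 0, 2, 0, 2, 0, 0, 2, 0],
   [6, 0, 0, 2, 0, 0, 0, 0, 0, 0, 0, 2, 0, 0, 2, 2, 0, -2, 0, -2, 0, 0, -2, 0]]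

/-- The cross of a representative of type B. -/
def crossListB : List (List ℤ) :=
  [[4, 4, 4, 4, 0, 0, 0, 0, 0, 0, 0, 0, 0, 0, 0, 0, 0, 0, 0, 0, 0, 0, 0, 0],
   [-4, -4, -4, -4, 0, 0, 0, 0, 0, 0, 0, 0, 0, 0, 0, 0, 0, 0, 0, 0, 0, 0, 0, 0],
   [-4, -4, 4, 4, 0, 0, 0, 0, 0, 0, 0, 0, 0, 0, 0, 0, 0, 0, 0, 0, 0, 0, 0, 0],
   [-4, 4, -4, 4, 0, 0, 0, 0, 0, 0, 0, 0, 0, 0, 0, 0, 0, 0, 0, 0, 0, 0, 0, 0],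
   [-4, 4, 4, -4, 0, 0, 0, 0, 0, 0, 0, 0, 0, 0, 0, 0, 0, 0, 0, 0, 0, 0, 0, 0],
   [0, 0, 0, 0, -4, 0, 0, -4, 0, 0, -4, 0, -4, 0, 0, 0, 0, 0, 0, 0, 0, 0, 0, 0],
   [0, 0, 0, 0, -4, 0, 0, -4, 0, 0, 4, 0, 4, 0, 0, 0, 0, 0, 0, 0, 0, 0, 0, 0],
   [0, 0, 0, 0, -4, 0, 0, 4, 0, 0, -4, 0, 4, 0, 0, 0, 0, 0, 0, 0, 0, 0, 0, 0],
   [0, 0, 0, 0, -4, 0, 0, 4, 0, 0, 4, 0, -4, 0, 0, 0, 0, 0, 0, 0, 0, 0, 0, 0],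
   [0, 0, 0, 0, 0, -4, 0, 0, 0, 0, 0, 0, 0, 0, -4, 0, 0, -4, 0, 0, 0, 0, 0, -4],
   [0, 0, 0, 0, 0, -4, 0, 0, 0, 0, 0, 0, 0, 0, -4, 0, 0, 4, 0, 0, 0, 0, 0, 4],
   [0, 0, 0, 0, 0, -4, 0, 0, 0, 0, 0, 0, 0, 0, 4, 0, 0, -4, 0, 0, 0, 0, 0, 4],
   [0, 0, 0, 0, 0, -4, 0, 0, 0, 0, 0, 0, 0, 0, 4, 0, 0, 4, 0, 0, 0, 0, 0, -4],
   [0, 0, 0, 0, 0, 0, -4, 0, 0, -4, 0, -4, 0, 0, 0, 0, 0, 0, 0, 0, 0, 0, -4, 0],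
   [0, 0, 0, 0, 0, 0, -4, 0, 0, -4, 0, 4, 0, 0, 0, 0, 0, 0, 0, 0, 0, 0, 4, 0],
   [0, 0, 0, 0, 0, 0, -4, 0, 0, 4, 0, -4, 0, 0, 0, 0, 0, 0, 0, 0, 0, 0, 4, 0],
   [0, 0, 0, 0, 0, 0, -4, 0, 0, 4, 0, 4, 0, 0, 0, 0, 0, 0, 0, 0, 0, 0, -4, 0],
   [0, 0, 0, 0, 0, 0, 0, 0, -4, 0, 0, 0, 0, 0, 0, -4, -4, 0, 0, -4, 0, 0, 0, 0],
   [0, 0, 0, 0, 0, 0, 0, 0, -4, 0, 0, 0, 0, 0, 0, -4, 4, 0, 0, 4, 0, 0, 0, 0],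
   [0, 0, 0, 0, 0, 0, 0, 0, -4, 0, 0, 0, 0, 0, 0, 4, -4, 0, 0, 4, 0, 0, 0, 0],
   [0, 0, 0, 0, 0, 0, 0, 0, -4, 0, 0, 0, 0, 0, 0, 4, 4, 0, 0, -4, 0, 0, 0, 0],
   [0, 0, 0, 0, 0, 0, 0, 0, 0, 0, 0, 0, 0, -4, 0, 0, 0, 0, -4, 0, -4, -4, 0, 0],
   [0, 0, 0, 0, 0, 0, 0, 0, 0, 0, 0, 0, 0, -4, 0, 0, 0, 0, -4, 0, 4, 4, 0, 0],
   [0, 0, 0, 0, 0, 0, 0, 0, 0, 0, 0, 0, 0, -4, 0, 0, 0, 0, 4, 0, -4, 4, 0, 0],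
   [0, 0, 0, 0, 0, 0, 0, 0, 0, 0, 0, 0, 0, -4, 0, 0, 0, 0, 4, 0, 4, -4, 0, 0],
   [0, 0, 0, 0, 0, 0, 0, 0, 0, 0, 0, 0, 0, 4, 0, 0, 0, 0, -4, 0, -4, 4, 0, 0],
   [0, 0, 0, 0, 0, 0, 0, 0, 0, 0, 0, 0, 0, 4, 0, 0, 0, 0, -4, 0, 4, -4, 0, 0],
   [0, 0, 0, 0, 0, 0, 0, 0, 0, 0, 0, 0, 0, 4, 0, 0, 0, 0, 4, 0, -4, -4, 0, 0],
   [0, 0, 0, 0, 0, 0, 0, 0, 0, 0, 0, 0, 0, 4, 0, 0, 0, 0, 4, 0, 4, 4, 0, 0],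
   [0, 0, 0, 0, 0, 0, 0, 0, 4, 0, 0, 0, 0, 0, 0, -4, -4, 0, 0, 4, 0, 0, 0, 0],
   [0, 0, 0, 0, 0, 0, 0, 0, 4, 0, 0, 0, 0, 0, 0, -4, 4, 0, 0, -4, 0, 0, 0, 0],
   [0, 0, 0, 0, 0, 0, 0, 0, 4, 0, 0, 0, 0, 0, 0, 4, -4, 0, 0, -4, 0, 0, 0, 0],
   [0, 0, 0, 0, 0, 0, 0, 0, 4, 0, 0, 0, 0, 0, 0, 4, 4, 0, 0, 4, 0, 0, 0, 0],
   [0, 0, 0, 0, 0, 0, 4, 0, 0, -4, 0, -4, 0, 0, 0, 0, 0, 0, 0, 0, 0, 0, 4, 0],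
   [0, 0, 0, 0, 0, 0, 4, 0, 0, -4, 0, 4, 0, 0, 0, 0, 0, 0, 0, 0, 0, 0, -4, 0],
   [0, 0, 0, 0, 0, 0, 4, 0, 0, 4, 0, -4, 0, 0, 0, 0, 0, 0, 0, 0, 0, 0, -4, 0],
   [0, 0, 0, 0, 0, 0, 4, 0, 0, 4, 0, 4, 0, 0, 0, 0, 0, 0, 0, 0, 0, 0, 4, 0],
   [0, 0, 0, 0, 0, 4, 0, 0, 0, 0, 0, 0, 0, 0, -4, 0, 0, -4, 0, 0, 0, 0, 0, 4],
   [0, 0, 0, 0, 0, 4, 0, 0, 0, 0, 0, 0, 0, 0, -4, 0, 0, 4, 0, 0, 0, 0, 0, -4],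
   [0, 0, 0, 0, 0, 4, 0, 0, 0, 0, 0, 0, 0, 0, 4, 0, 0, -4, 0, 0, 0, 0, 0, -4],
   [0, 0, 0, 0, 0, 4, 0, 0, 0, 0, 0, 0, 0, 0, 4, 0, 0, 4, 0, 0, 0, 0, 0, 4],
   [0, 0, 0, 0, 4, 0, 0, -4, 0, 0, -4, 0, 4, 0, 0, 0, 0, 0, 0, 0, 0, 0, 0, 0],
   [0, 0, 0, 0, 4, 0, 0, -4, 0, 0, 4, 0, -4, 0, 0, 0, 0, 0, 0, 0, 0, 0, 0, 0],
   [0, 0, 0, 0, 4, 0, 0, 4, 0, 0, -4, 0, -4, 0, 0, 0, 0, 0, 0, 0, 0, 0, 0, 0],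
   [0, 0, 0, 0, 4, 0, 0, 4, 0, 0, 4, 0, 4, 0, 0, 0, 0, 0, 0, 0, 0, 0, 0, 0],
   [4, -4, -4, 4, 0, 0, 0, 0, 0, 0, 0, 0, 0, 0, 0, 0, 0, 0, 0, 0, 0, 0, 0, 0],
   [4, -4, 4, -4, 0, 0, 0, 0, 0, 0, 0, 0, 0, 0, 0, 0, 0, 0, 0, 0, 0, 0, 0, 0],
   [4, 4, -4, -4, 0, 0, 0, 0, 0, 0, 0, 0, 0, 0, 0, 0, 0, 0, 0, 0, 0, 0, 0, 0]]

end Cfsg.Agent.Leech
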