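import Cfsg.Agent.Lib.Leech.Co0
import Cfsg.Agent.Lib.Leech.CrossData
import Cfsg.Agent.Lib.Golay.OctPair
import Cfsg.Agent.Lib.Golay.SmallSets

/-!
Orbits of the monomial group on crosses; the stabiliser of a cross is maximal.
-/

namespace Cfsg.Agent.Leech

open Cfsg Cfsg.Agent.Golay Finset
open Cfsg.Agent.LatticeMod2 (Rootless Cong)
open scoped Pointwise

set_option maxRecDepth 10000

/-! ### Normalising signs -/

theorem mono_perm_apply (σ : Equiv.Perm GolayPt) (hσ : σ ∈ M24) (x : leechLattice) (i : GolayPt) :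
    ((mono (⟨σ, hσ⟩, 0) • x : leechLattice) : GolayPt → ℤ) i = (x : GolayPt → ℤ) (σ.symm i) := by
  rw [mono_smul]
  simp [monoFun, sgn]

theorem code_word_small {u w : GolayPt → ZMod 2} (hu : u ∈ golayCode) (hw : w ∈ golayCode)
    {S : Finset GolayPt} (huS : support₂ u ⊆ S) (hwS : support₂ w ⊆ S)
    (hS : 2 * S.card < (support₂ w).card + 16) : u = 0 ∨ u = w := by
  by_contra h
  rw [not_or] at h
  have h1 := card_support_ge hu h.1
  have hne : u + w ≠ 0 := fun e => h.2 (by rw [← CharTwo.add_eq_zero]; exact e)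
  have h2 := card_support_ge (golayCode.add_mem hu hw) hne
  have hsub : support₂ (u + w) ⊆ (support₂ u ∪ support₂ w) \ (support₂ u ∩ support₂ w) := fun i hi => by
    revert hi
    simp only [support₂, mem_filter, mem_univ, true_and, mem_sdiff, mem_union, mem_inter, Pi.add_apply]
    generalize u i = a; generalize w i = b; revert a b; decide
  have h3 := card_le_card hsub
  rw [card_sdiff_of_subset (inter_subset_left.trans subset_union_left)] at h3
  have h4 := card_union_add_card_inter (support₂ u) (support₂ w)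
  have h5 := card_le_card (union_subset huS hwS)
  omega

theorem normalise_even {x r : leechLattice} {σ : Equiv.Perm GolayPt} (hσ : σ ∈ M24)
    (habs : ∀ i, (x : GolayPt → ℤ) (σ.symm i) ^ 2 = (r : GolayPt → ℤ) i ^ 2)
    (hr : ∀ i, (2 : ℤ) ∣ (r : GolayPt → ℤ) i)
    (hS : ∀ u ∈ golayCode, (∀ i, (r : GolayPt → ℤ) i = 0 → u i = 0) →
      u = 0 ∨ u = hword 0 (r : GolayPt → ℤ)) :
    ∃ a, mono a • x = r := by
  classical
  let z : GolayPt → ℤ := fun i => (x : GolayPt → ℤ) (σ.symm i)
  let R : GolayPt → ℤ := (r : GolayPt → ℤ)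
  have hz : ∀ i, z i = R i ∨ z i = -R i := fun i => sq_eq_sq_iff_eq_or_eq_neg.1 (habs i)
  obtain ⟨c, hc, hcv⟩ := exists_code_eq_on (univ.filter fun i => R i ≠ 0)
    (fun i => if z i = R i then 0 else 1) fun u hu hout => by
      rcases hS u hu (fun i hi => hout i (by simp [R, hi])) with rfl | rfl
      · simp
      · -- the sums of `z` and of `R` agree modulo 8
        have hLz : (8 : ℤ) ∣ ∑ i, z i := by
          show (8 : ℤ) ∣ ∑ i, (x : GolayPt → ℤ) (σ.symm i)
          rw [Equiv.sum_comp σ.symm (fun i => (x : GolayPt → ℤ) i)]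
          obtain ⟨m, hm, hL⟩ := exists_parity x.2
          rcases hm with rfl | rfl
          · simpa using hL.2.1
          · exfalso
            have h1 := hL.1 (σ.symm none)
            rcases hz none with q | q <;> have := hr none <;> simp only [z, R] at q <;> omega
        have hLr : (8 : ℤ) ∣ ∑ i, R i := by
          obtain ⟨m, hm, hL⟩ := exists_parity r.2
          rcases hm with rfl | rfl
          · simpa using hL.2.1
          · exfalso; have := hL.1 none; have := hr none; omega
        have hev : ∀ i, R i = 2 * (R i / 2) := fun i => by have := hr i; simp only [R]; omega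
        have e : ∑ i, z i = ∑ i, R i - 4 * ∑ i, (if z i = R i then 0 else R i / 2) := by
          rw [mul_sum, ← sum_sub_distrib]
          refine sum_congr rfl fun i _ => ?_
          split_ifs with q
          · rw [q]; ring
          · rw [(hz i).resolve_left q]
            have := hev i
            omega
        have hd : (2 : ℤ) ∣ ∑ i, (if z i = R i then 0 else R i / 2) := by omega
        refine Eq.trans ?_ ((ZMod.intCast_zmod_eq_zero_iff_dvd _ 2).2 hd)
        rw [Int.cast_sum]
        exact sum_congr rfl fun i _ => by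
          simp only [hword, sub_zero]
          split_ifs <;> simp [R]
  refine ⟨(⟨σ, hσ⟩, ⟨c, hc⟩), Subtype.ext (funext fun i => ?_)⟩
  show sgn c i * z i = R i
  rcases eq_or_ne (R i) 0 with q | q
  · rcases hz i with e | e <;> rw [e, q] <;> simp
  · have := hcv i (by simp [q])
    split_ifs at this with e
    · simp [sgn, this, e]
    · simp [sgn, this, (hz i).resolve_left e]

theorem normalise_odd {x r : leechLattice} {σ : Equiv.Perm GolayPt} (hσ : σ ∈ M24)
    (habs : ∀ i, (x : GolayPt → ℤ) (σ.symm i) ^ 2 = (r : GolayPt → ℤ) i ^ 2)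
    (hr : InLeech 1 (r : GolayPt → ℤ)) : ∃ a, mono a • x = r := by
  let z : GolayPt → ℤ := fun i => (x : GolayPt → ℤ) (σ.symm i)
  let R : GolayPt → ℤ := (r : GolayPt → ℤ)
  have hz : ∀ i, z i = R i ∨ z i = -R i := fun i => sq_eq_sq_iff_eq_or_eq_neg.1 (habs i)
  have hzL : InLeech 1 z := by
    obtain ⟨m, hm, hL⟩ := exists_parity x.2
    rcases hm with rfl | rfl
    · exfalso
      have h1 := hL.1 (σ.symm none)
      have h2 := hr.1 none
      rcases hz none with q | q <;> simp only [z, R] at q <;> omega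
    · convert inLeech_monoFun hσ golayCode.zero_mem hL using 1
      funext i; simp [monoFun, sgn, z]
  refine ⟨(⟨σ, hσ⟩, ⟨hword 1 z + hword 1 R, golayCode.add_mem hzL.2.2 hr.2.2⟩),
    Subtype.ext (funext fun i => ?_)⟩
  show sgn (hword 1 z + hword 1 R) i * z i = R i
  obtain ⟨q, hq⟩ := hr.1 i
  have hRq : R i = 2 * q + 1 := by simp only [R]; omega
  rcases hz i with e | e
  · simp [sgn, hword, e]
    simp [CharTwo.add_self_eq_zero]
  · have : hword 1 z i + hword 1 R i = 1 := by
      simp only [hword, e, hRq, show (-(2 * q + 1) - 1) / 2 = -q - 1 by omega,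
        show (2 * q + 1 - 1) / 2 = q by omega]
      push_cast
      generalize (q : ZMod 2) = t
      revert t; decide
    simp [sgn, Pi.add_apply, this, e]

/-! ### Explicit vectors -/

/-- A vector from a list of coordinates. -/
def vecL (l : List ℤ) : GolayPt → ℤ := fun p => l.getD (idx p) 0

/-- Boolean membership test. -/
def inLB (l : List ℤ) : Bool :=
  decide (∀ i, (2 : ℤ) ∣ vecL l i - vecL l none % 2) &&
    decide ((8 : ℤ) ∣ ∑ i, vecL l i - 4 * (vecL l none % 2)) &&
    inCode (toMask (support₂ (hword (vecL l none % 2) (vecL l))))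

theorem inLB_spec {l : List ℤ} (h : inLB l = true) : vecL l ∈ leechLattice := by
  simp only [inLB, Bool.and_eq_true, decide_eq_true_eq] at h
  refine mem_leech.2 ⟨_, h.1.1, h.1.2, ?_⟩
  rw [← ofMask_toMask (hword _ (vecL l))]
  exact ofMask_mem_golayCode h.2

/-- The test for congruent vectors of norm 8. -/
def crossB (l₀ l : List ℤ) : Bool :=
  inLB l && decide (sqNorm (vecL l) = 64) && decide (∀ i, (2 : ℤ) ∣ vecL l₀ i - vecL l i) &&
    inLB ((List.range 24).map fun k => (l₀.getD k 0 - l.getD k 0) / 2)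

/-- A list as a lattice vector, zero if it is not one. -/
def toLeech (l : List ℤ) : leechLattice :=
  if h : inLB l = true then ⟨vecL l, inLB_spec h⟩ else 0

theorem coe_toLeech {l : List ℤ} (h : inLB l = true) : (toLeech l : GolayPt → ℤ) = vecL l := by
  rw [toLeech, dif_pos h]

theorem idx_lt' (p : GolayPt) : idx p < ((List.range 24).map fun k => ((0 : ℤ), k)).length := by
  simp [idx_lt p]

theorem crossB_spec {l₀ l : List ℤ} (h0 : inLB l₀ = true) (hn : sqNorm (vecL l₀) = 64)
    (h : crossB l₀ l = true) : toLeech l ∈ xCross (toLeech l₀) := by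
  simp only [crossB, Bool.and_eq_true, decide_eq_true_eq] at h
  obtain ⟨⟨⟨h1, h2⟩, h3⟩, h4⟩ := h
  refine ⟨(ip_self_iff (n := 8)).2 (by rw [coe_toLeech h1, h2]; norm_num), toLeech ((List.range 24).map fun k => (l₀.getD k 0 - l.getD k 0) / 2),
    Subtype.ext (funext fun i => ?_)⟩
  simp only [AddSubgroup.coe_sub, AddSubgroup.coe_nsmul, coe_toLeech h0, coe_toLeech h1,
    coe_toLeech h4, Pi.sub_apply, Pi.smul_apply, nsmul_eq_mul]
  have e : vecL ((List.range 24).map fun k => (l₀.getD k 0 - l.getD k 0) / 2) i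
      = (vecL l₀ i - vecL l i) / 2 := by
    simp [vecL, List.getD_eq_getElem?_getD, idx_lt i]
  rw [e]
  have := h3 i
  push_cast
  omega

/-- Validity of an explicit cross. -/
def crossListOK (ls : List (List ℤ)) : Bool :=
  match ls with
  | [] => false
  | l₀ :: _ => inLB l₀ && decide (sqNorm (vecL l₀) = 64) && ls.all (crossB l₀) &&
      decide ((ls.map fun l => (List.range 24).map fun k => l.getD k 0).Nodup) &&
      decide (ls.length = 48)

theorem crossList_spec {l₀ : List ℤ} {ls : List (List ℤ)} (h : crossListOK (l₀ :: ls) = true) :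
    ip (toLeech l₀) (toLeech l₀) = 8 ∧
      xCross (toLeech l₀) = {v | v ∈ (l₀ :: ls).map toLeech} ∧
      ((l₀ :: ls).map toLeech).Nodup ∧ ∀ l ∈ l₀ :: ls, inLB l = true := by
  simp only [crossListOK, Bool.and_eq_true, decide_eq_true_eq, List.all_eq_true] at h
  obtain ⟨⟨⟨⟨h0, hn⟩, hall⟩, hnd⟩, hlen⟩ := h
  have hin : ∀ l ∈ l₀ :: ls, inLB l = true := fun l hl => by
    have := hall l hl
    simp only [crossB, Bool.and_eq_true] at this
    exact this.1.1.1
  have h8 : ip (toLeech l₀) (toLeech l₀) = 8 :=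
    (ip_self_iff (n := 8)).2 (by rw [coe_toLeech h0, hn]; norm_num)
  have hnd' : ((l₀ :: ls).map toLeech).Nodup := by
    refine List.Nodup.map_on (fun a ha b hb e => ?_) hnd.of_map
    refine List.inj_on_of_nodup_map hnd ha hb (List.map_congr_left fun k hk => ?_)
    have := congrArg Subtype.val e
    rw [coe_toLeech (hin a ha), coe_toLeech (hin b hb)] at this
    have hk' : k < 24 := List.mem_range.1 hk
    have h2 := congrFun this (pt ⟨k, hk'⟩)
    simpa [vecL, idx_pt] using h2
  refine ⟨h8, ?_, hnd', hin⟩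
  refine (Set.eq_of_subset_of_ncard_le ?_ ?_ (Set.finite_of_ncard_ne_zero (by
    rw [ncard_xCross h8]; norm_num))).symm
  · intro v hv
    obtain ⟨l, hl, rfl⟩ := List.mem_map.1 hv
    exact crossB_spec h0 hn (hall l hl)
  · classical
    rw [ncard_xCross h8, show {v | v ∈ (l₀ :: ls).map toLeech}
      = (((l₀ :: ls).map toLeech).toFinset : Set leechLattice) by ext v; simp, Set.ncard_coe_finset,
      List.toFinset_card_of_nodup hnd', List.length_map, hlen]

/-! ### The five types -/

/-- The types of vectors of norm 8 used as markers of the crosses. -/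
inductive XType
  | B | C6 | C42 | D | G
  deriving DecidableEq

/-- The defining property of a type. -/
def XType.prop : XType → (GolayPt → ℤ) → Prop
  | .B, x => ∀ i, x i = 0 ∨ x i = 4 ∨ x i = -4
  | .C6, x => ∃ i, x i ^ 2 = 36
  | .C42, x => (∀ i, x i ^ 2 = 0 ∨ x i ^ 2 = 4 ∨ x i ^ 2 = 16) ∧ #{i | x i ^ 2 = 4} = 8
  | .D, x => (∀ i, x i ^ 2 = 0 ∨ x i ^ 2 = 4 ∨ x i ^ 2 = 16) ∧ #{i | x i ^ 2 = 4} = 12
  | .G, x => ∃ i, x i ^ 2 = 25

instance (t : XType) (x : GolayPt → ℤ) : Decidable (t.prop x) := by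
  cases t <;> unfold XType.prop <;> infer_instance

theorem prop_perm {t : XType} {x y : GolayPt → ℤ} {σ : Equiv.Perm GolayPt}
    (h : ∀ i, y (σ i) ^ 2 = x i ^ 2) : t.prop y ↔ t.prop x := by
  have hall : ∀ P : ℤ → Prop, (∀ i, P (y i ^ 2)) ↔ ∀ i, P (x i ^ 2) := fun P =>
    ⟨fun q i => h i ▸ q (σ i), fun q i => by
      obtain ⟨j, rfl⟩ := σ.surjective i; rw [h j]; exact q j⟩
  have hex : ∀ a, (∃ i, y i ^ 2 = a) ↔ ∃ i, x i ^ 2 = a := fun a =>
    ⟨fun ⟨i, q⟩ => by obtain ⟨j, rfl⟩ := σ.surjective i; exact ⟨j, h j ▸ q⟩,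
      fun ⟨i, q⟩ => ⟨σ i, (h i).trans q⟩⟩
  have hcard : ∀ a, #{i | y i ^ 2 = a} = #{i | x i ^ 2 = a} := fun a =>
    (card_bij (fun i _ => σ i) (fun i hi => by simpa [h] using hi) (fun i _ j _ e => σ.injective e)
      (fun i hi => ⟨σ.symm i, by
        have := h (σ.symm i); simp only [σ.apply_symm_apply] at this
        simpa [← this] using hi, σ.apply_symm_apply i⟩)).symm
  cases t
  · have e : ∀ z : ℤ, (z = 0 ∨ z = 4 ∨ z = -4) ↔ (z ^ 2 = 0 ∨ z ^ 2 = 16) := fun z => by
      rw [pow_eq_zero_iff two_ne_zero, show (16 : ℤ) = 4 ^ 2 by norm_num, sq_eq_sq_iff_eq_or_eq_neg]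
    simp only [XType.prop, e]
    exact hall fun z => z = 0 ∨ z = 16
  · exact hex 36
  · simp only [XType.prop, hall (fun z => z = 0 ∨ z = 4 ∨ z = 16), hcard]
  · simp only [XType.prop, hall (fun z => z = 0 ∨ z = 4 ∨ z = 16), hcard]
  · exact hex 25

theorem prop_mono (t : XType) (a : M24 × golayCode) (x : leechLattice) :
    t.prop ((mono a • x : leechLattice) : GolayPt → ℤ) ↔ t.prop (x : GolayPt → ℤ) :=
  prop_perm (σ := (a.1 : Equiv.Perm GolayPt)) fun i => by
    rw [mono_smul, monoFun, Equiv.symm_apply_apply, mul_pow, sq (sgn _ _), sgn_mul_self, one_mul]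

/-! ### Shapes -/

/-- A vector of norm 8 is described by the positions of its large coordinates. -/
theorem even_word {x : leechLattice} (hx : ∀ i, (2 : ℤ) ∣ (x : GolayPt → ℤ) i) :
    InLeech 0 (x : GolayPt → ℤ) := by
  obtain ⟨m, hm, hL⟩ := exists_parity x.2
  rcases hm with rfl | rfl
  · exact hL
  · exfalso; have := hL.1 none; have := hx none; omega

theorem odd_word {x : leechLattice} {i : GolayPt} (hx : ¬ (2 : ℤ) ∣ (x : GolayPt → ℤ) i) :
    InLeech 1 (x : GolayPt → ℤ) := by
  obtain ⟨m, hm, hL⟩ := exists_parity x.2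
  rcases hm with rfl | rfl
  · exfalso; have := hL.1 i; omega
  · exact hL

theorem sum64 {x : leechLattice} (h : ip x x = 8) : ∑ i, (x : GolayPt → ℤ) i ^ 2 = 64 :=
  (ip_self_iff (n := 8)).1 h

theorem shapeB {x : leechLattice} (h : ip x x = 8) (hp : XType.B.prop (x : GolayPt → ℤ)) :
    ∃ T : Finset GolayPt, T.card = 4 ∧ ∀ i, (x : GolayPt → ℤ) i ^ 2 = if i ∈ T then 16 else 0 := by
  refine ⟨univ.filter fun i => (x : GolayPt → ℤ) i ≠ 0, ?_, fun i => ?_⟩
  · have e := sum64 h
    rw [sum_congr rfl (fun i _ => show _ = if (x : GolayPt → ℤ) i ≠ 0 then (16 : ℤ) else 0 by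
      rcases hp i with q | q | q <;> simp [q]), sum_ite, sum_const, sum_const_zero, nsmul_eq_mul] at e
    omega
  · rcases hp i with q | q | q <;> simp [q]

/-- The positions congruent to 2 modulo 4 of an even vector. -/
theorem word_support_eq {x : leechLattice} (hL : InLeech 0 (x : GolayPt → ℤ)) :
    support₂ (hword 0 (x : GolayPt → ℤ))
      = univ.filter fun i => ¬ (4 : ℤ) ∣ (x : GolayPt → ℤ) i := by
  ext i
  simp only [support₂, hword, sub_zero, mem_filter, mem_univ, true_and, ne_eq,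
    ZMod.intCast_zmod_eq_zero_iff_dvd]
  have := hL.1 i
  omega

theorem shapeC6 {x : leechLattice} (h : ip x x = 8) (hp : XType.C6.prop (x : GolayPt → ℤ)) :
    ∃ o ∈ octads, ∃ p ∈ o, ∀ i, (x : GolayPt → ℤ) i ^ 2 = if i = p then 36 else if i ∈ o then 4 else 0 := by
  obtain ⟨p, hp⟩ := hp
  have hp6 : (x : GolayPt → ℤ) p = 6 ∨ (x : GolayPt → ℤ) p = -6 :=
    sq_eq_sq_iff_eq_or_eq_neg.1 (hp.trans (by norm_num))
  obtain ⟨m, hm, hL⟩ := exists_parity x.2
  rcases hm with rfl | rfl
  swap
  · exfalso; have := hL.1 p; omega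
  set o := support₂ (hword 0 (x : GolayPt → ℤ)) with ho
  have homem : ∀ i, i ∈ o ↔ ¬ (4 : ℤ) ∣ (x : GolayPt → ℤ) i := fun i => by
    rw [ho, word_support_eq hL]; simp
  have hpo : p ∈ o := (homem p).2 (by rcases hp6 with q | q <;> rw [q] <;> norm_num)
  have h8 : 8 ≤ o.card := card_support_ge hL.2.2 fun e => by
    rw [ho, e] at hpo; simp [support₂] at hpo
  have hterm : ∀ i, (if i = p then (36 : ℤ) else if i ∈ o then 4 else 0) ≤ (x : GolayPt → ℤ) i ^ 2 := by
    intro i
    split_ifs with a b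
    · rw [a, hp]
    · have h1 := (homem i).1 b
      have h2 := hL.1 i
      rcases (show (x : GolayPt → ℤ) i ≤ -2 ∨ 2 ≤ (x : GolayPt → ℤ) i by omega) with q | q <;> nlinarith
    · exact sq_nonneg _
  have hsum : ∑ i, (if i = p then (36 : ℤ) else if i ∈ o then 4 else 0) = 36 + 4 * ((o.card : ℤ) - 1) := by
    rw [← add_sum_erase _ _ (mem_univ p), if_pos rfl,
      sum_congr rfl (fun i hi => if_neg (ne_of_mem_erase hi)), sum_ite_mem, sum_const, nsmul_eq_mul,
      erase_inter, univ_inter, card_erase_of_mem hpo, Nat.cast_sub (by omega)]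
    push_cast; ring
  have hle := sum_le_sum (s := univ) fun i _ => hterm i
  rw [hsum, sum64 h] at hle
  have heq := (sum_eq_sum_iff_of_le (s := univ) fun i _ => hterm i).1 (by rw [hsum, sum64 h]; omega)
  exact ⟨o, ⟨⟨_, hL.2.2, rfl⟩, by omega⟩, p, hpo, fun i => (heq i (mem_univ i)).symm⟩

theorem shape24 {x : leechLattice} (h : ip x x = 8)
    (hv : ∀ i, (x : GolayPt → ℤ) i ^ 2 = 0 ∨ (x : GolayPt → ℤ) i ^ 2 = 4 ∨ (x : GolayPt → ℤ) i ^ 2 = 16)
    {w k : ℕ} (hc : #{i | (x : GolayPt → ℤ) i ^ 2 = 4} = w) (hwk : w * 4 + k * 16 = 64) :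
    ∃ o q : Finset GolayPt, o ∈ wordsOfWeight (golayCode : Set (GolayPt → ZMod 2)) w ∧ q.card = k ∧ Disjoint q o ∧
      ∀ i, (x : GolayPt → ℤ) i ^ 2 = if i ∈ o then 4 else if i ∈ q then 16 else 0 := by
  have h2 : ∀ i, (2 : ℤ) ∣ (x : GolayPt → ℤ) i := fun i => by
    by_contra hd
    have := hv i
    rcases (show (x : GolayPt → ℤ) i % 2 = 1 by omega) with q
    have e : (x : GolayPt → ℤ) i ^ 2 % 2 = 1 := by rw [sq, Int.mul_emod, q]; norm_num
    omega
  have hL := even_word h2
  have ho : support₂ (hword 0 (x : GolayPt → ℤ)) = univ.filter fun i => (x : GolayPt → ℤ) i ^ 2 = 4 := by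
    rw [word_support_eq hL]
    ext i
    simp only [mem_filter, mem_univ, true_and]
    obtain ⟨y, hy⟩ := h2 i
    rcases hv i with q | q | q <;> rw [hy] at q ⊢
    · have : y = 0 := by nlinarith
      subst this; simp
    · have : y = 1 ∨ y = -1 := sq_eq_one_iff.1 (by linarith)
      rcases this with rfl | rfl <;> norm_num
    · have : y = 2 ∨ y = -2 := sq_eq_sq_iff_eq_or_eq_neg.1 (by linarith : y ^ 2 = 2 ^ 2)
      rcases this with rfl | rfl <;> norm_num
  refine ⟨_, univ.filter fun i => (x : GolayPt → ℤ) i ^ 2 = 16, ⟨⟨_, hL.2.2, rfl⟩, by rw [ho, hc]⟩,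
    ?_, ?_, fun i => ?_⟩
  · have e := sum64 h
    rw [sum_congr rfl (fun i _ => show _ = (4 : ℤ) * (if (x : GolayPt → ℤ) i ^ 2 = 4 then 1 else 0)
      + 16 * (if (x : GolayPt → ℤ) i ^ 2 = 16 then 1 else 0) by
        rcases hv i with q | q | q <;> simp [q]), sum_add_distrib, ← mul_sum, ← mul_sum, sum_boole,
      sum_boole, hc] at e
    omega
  · rw [ho, disjoint_filter]; intro i _ a b; omega
  · rw [ho]; rcases hv i with q | q | q <;> simp [q]

theorem shapeG {x : leechLattice} (h : ip x x = 8) (hp : XType.G.prop (x : GolayPt → ℤ)) :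
    InLeech 1 (x : GolayPt → ℤ) ∧ ∃ p a b : GolayPt, p ≠ a ∧ p ≠ b ∧ a ≠ b ∧
      ∀ i, (x : GolayPt → ℤ) i ^ 2 = if i = p then 25 else if i = a ∨ i = b then 9 else 1 := by
  obtain ⟨p, hp⟩ := hp
  have hp5 : (x : GolayPt → ℤ) p = 5 ∨ (x : GolayPt → ℤ) p = -5 :=
    sq_eq_sq_iff_eq_or_eq_neg.1 (hp.trans (by norm_num))
  have hL := odd_word (x := x) (i := p) (by rcases hp5 with q | q <;> rw [q] <;> norm_num)
  refine ⟨hL, ?_⟩
  have h1 : ∀ i, (1 : ℤ) ≤ (x : GolayPt → ℤ) i ^ 2 := fun i => by
    have := hL.1 i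
    rcases (show (x : GolayPt → ℤ) i ≤ -1 ∨ 1 ≤ (x : GolayPt → ℤ) i by omega) with q | q <;> nlinarith
  have e := sum64 h
  rw [← add_sum_erase _ _ (mem_univ p), hp] at e
  have hb : ∀ i ∈ univ.erase p, (x : GolayPt → ℤ) i ^ 2 = 1 ∨ (x : GolayPt → ℤ) i ^ 2 = 9 := by
    intro i hi
    rw [← add_sum_erase _ _ hi] at e
    have := card_nsmul_le_sum ((univ.erase p).erase i) (fun j => (x : GolayPt → ℤ) j ^ 2) 1
      fun j _ => h1 j
    rw [card_erase_of_mem hi, card_erase_of_mem (mem_univ p), show (univ : Finset GolayPt).card = 24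
      from rfl, nsmul_eq_mul] at this
    push_cast at this
    have hlt : (x : GolayPt → ℤ) i ^ 2 < 5 ^ 2 := by linarith
    have hr : -5 < (x : GolayPt → ℤ) i ∧ (x : GolayPt → ℤ) i < 5 := by constructor <;> nlinarith
    have := hL.1 i
    rcases (show (x : GolayPt → ℤ) i = 1 ∨ (x : GolayPt → ℤ) i = -1 ∨ (x : GolayPt → ℤ) i = 3 ∨
      (x : GolayPt → ℤ) i = -3 by omega) with q | q | q | q <;> simp [q]
  rw [sum_congr rfl (fun i hi => show _ = 1 + (8 : ℤ) * (if (x : GolayPt → ℤ) i ^ 2 = 9 then 1 else 0) by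
      rcases hb i hi with q | q <;> rw [q] <;> norm_num), sum_add_distrib, ← mul_sum, sum_boole,
    sum_const, card_erase_of_mem (mem_univ p), show (univ : Finset GolayPt).card = 24 from rfl,
    nsmul_eq_mul] at e
  push_cast at e
  have hc : ((univ.erase p).filter fun i => (x : GolayPt → ℤ) i ^ 2 = 9).card = 2 := by omega
  obtain ⟨a, b, hab, he⟩ := card_eq_two.1 hc
  have hmem : ∀ i, (i ≠ p ∧ (x : GolayPt → ℤ) i ^ 2 = 9) ↔ i = a ∨ i = b := fun i => by
    have := congrArg (i ∈ ·) he
    simpa using this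
  refine ⟨p, a, b, ((hmem a).2 (Or.inl rfl)).1.symm, ((hmem b).2 (Or.inr rfl)).1.symm, hab, fun i => ?_⟩
  split_ifs with q r
  · rw [q, hp]
  · exact ((hmem i).2 r).2
  · exact (hb i (mem_erase.2 ⟨q, mem_univ _⟩)).resolve_right fun e => r ((hmem i).1 ⟨q, e⟩)

theorem smul_mem_iff (σ : Equiv.Perm GolayPt) (s : Finset GolayPt) (i : GolayPt) :
    i ∈ σ • s ↔ σ.symm i ∈ s := by
  rw [← Finset.inv_smul_mem_iff]; rfl

theorem sq_eq_pos {z : ℤ} (h : z ^ 2 = 0) : z = 0 := (pow_eq_zero_iff two_ne_zero).1 h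

/-- The monomial group is transitive on the vectors of each type. -/
theorem transitive_type (t : XType) {x r : leechLattice} (hx : ip x x = 8) (hr : ip r r = 8)
    (hxt : t.prop (x : GolayPt → ℤ)) (hrt : t.prop (r : GolayPt → ℤ)) : ∃ a, mono a • x = r := by
  cases t
  · obtain ⟨T, hT, hxv⟩ := shapeB hx hxt
    obtain ⟨T', hT', hrv⟩ := shapeB hr hrt
    obtain ⟨σ, hσ, hσT⟩ := exists_smul_eq (s := T) (t := T') (by omega) (hT.trans hT'.symm)
    refine normalise_even hσ (fun i => by rw [hxv, hrv, ← hσT]; simp only [smul_mem_iff])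
      (fun i => by rcases hrt i with q | q | q <;> rw [q] <;> norm_num) fun u hu h0 => Or.inl ?_
    by_contra hne
    have h8 := card_support_ge hu hne
    have hsub : support₂ u ⊆ T' := fun i hi => by
      by_contra hiT
      have := hrv i; rw [if_neg hiT] at this
      simp only [support₂, mem_filter, mem_univ, true_and] at hi
      exact hi (h0 i (sq_eq_pos this))
    have := card_le_card hsub
    omega
  · obtain ⟨o, ho, p, hpo, hxv⟩ := shapeC6 hx hxt
    obtain ⟨o', ho', p', hpo', hrv⟩ := shapeC6 hr hrt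
    obtain ⟨g, hg, hgo, hgp⟩ := octad_move ho (k := 1) (by norm_num) (x := ![p]) (y := ![ptA])
      (fun i j _ => Subsingleton.elim i j) (fun i => by fin_cases i; exact hpo)
      (fun i j _ => Subsingleton.elim i j) (fun i => by fin_cases i; exact ptA_mem)
    obtain ⟨g', hg', hgo', hgp'⟩ := octad_move ho' (k := 1) (by norm_num) (x := ![p']) (y := ![ptA])
      (fun i j _ => Subsingleton.elim i j) (fun i => by fin_cases i; exact hpo')
      (fun i j _ => Subsingleton.elim i j) (fun i => by fin_cases i; exact ptA_mem)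
    have hσo : (g'⁻¹ * g) • o = o' := by rw [mul_smul, hgo, ← hgo', inv_smul_smul]
    have hσp : (g'⁻¹ * g) p = p' := by
      have a := hgp 0; have b := hgp' 0
      simp only [Matrix.cons_val_zero] at a b
      rw [Equiv.Perm.mul_apply, a, ← b]; exact g'.symm_apply_apply p'
    have hev : ∀ i, (2 : ℤ) ∣ (r : GolayPt → ℤ) i := fun i => by
      by_contra hd
      have e : (r : GolayPt → ℤ) i ^ 2 % 2 = 1 := by
        rw [sq, Int.mul_emod, show (r : GolayPt → ℤ) i % 2 = 1 by omega]; norm_num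
      have := hrv i; split_ifs at this <;> omega
    refine normalise_even (σ := g'⁻¹ * g) (mul_mem (inv_mem hg') hg) (fun i => ?_) hev
      fun u hu h0 => ?_
    · rw [hxv, hrv, ← hσo, ← hσp]
      simp only [smul_mem_iff, Equiv.symm_apply_eq]
    · refine code_word_small hu (even_word hev).2.2 (S := o') (fun i hi => ?_) (fun i hi => ?_) ?_
      · by_contra hio
        have := hrv i; rw [if_neg (fun e => hio (by rw [e]; exact hpo')), if_neg hio] at this
        simp only [support₂, mem_filter, mem_univ, true_and] at hi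
        exact hi (h0 i (sq_eq_pos this))
      · by_contra hio
        have := hrv i; rw [if_neg (fun e => hio (by rw [e]; exact hpo')), if_neg hio] at this
        rw [word_support_eq (even_word hev), mem_filter, sq_eq_pos this] at hi
        exact hi.2 (dvd_zero _)
      · have h8 := card_octad ho'
        have hsub : o' ⊆ support₂ (hword 0 (r : GolayPt → ℤ)) := fun i hi => by
          rw [word_support_eq (even_word hev), mem_filter]
          refine ⟨mem_univ _, fun ⟨q, hq⟩ => ?_⟩
          have := hrv i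
          rw [hq, mul_pow] at this
          split_ifs at this <;> omega
        have := card_le_card hsub
        omega
  · obtain ⟨o, q, ho, hq, hd, hxv⟩ := shape24 hx hxt.1 (w := 8) (k := 2) hxt.2 (by norm_num)
    obtain ⟨o', q', ho', hq', hd', hrv⟩ := shape24 hr hrt.1 (w := 8) (k := 2) hrt.2 (by norm_num)
    obtain ⟨σ, hσ, hσo, hσq⟩ := octad_pair_move ho hq hq' hd ho' hd'
    exact finish24 hσ hxv hrv hσo hσq hrt.1 (w := 8) ho' hd' hq' (by norm_num)
  · obtain ⟨o, q, ho, hq, hd, hxv⟩ := shape24 hx hxt.1 (w := 12) (k := 1) hxt.2 (by norm_num)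
    obtain ⟨o', q', ho', hq', hd', hrv⟩ := shape24 hr hrt.1 (w := 12) (k := 1) hrt.2 (by norm_num)
    obtain ⟨a, rfl⟩ := card_eq_one.1 hq
    obtain ⟨b, rfl⟩ := card_eq_one.1 hq'
    rw [disjoint_singleton_left] at hd hd'
    obtain ⟨σ, hσ, hσo, hσa⟩ := dodecad_point_move ho ho' hd hd'
    exact finish24 (q := {a}) (q' := {b}) hσ hxv hrv hσo
      (by rw [Finset.smul_finset_singleton, Equiv.Perm.smul_def, hσa]) hrt.1 (w := 12) ho'
      (disjoint_singleton_left.2 hd') (card_singleton _) (by norm_num)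
  · obtain ⟨hL, p, a, b, hpa, hpb, hab, hxv⟩ := shapeG hx hxt
    obtain ⟨hL', p', a', b', hpa', hpb', hab', hrv⟩ := shapeG hr hrt
    obtain ⟨σ, hσ, hσv⟩ := exists_M24_map' (k := 3) (x := ![p, a, b]) (y := ![p', a', b']) (by norm_num)
      (by intro i j e; fin_cases i <;> fin_cases j <;> simp_all)
      (by intro i j e; fin_cases i <;> fin_cases j <;> simp_all)
    have e1 : σ p = p' := hσv 0
    have e2 : σ a = a' := hσv 1
    have e3 : σ b = b' := hσv 2
    refine normalise_odd hσ (fun i => ?_) hL'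
    rw [hxv, hrv, ← e1, ← e2, ← e3]
    simp only [Equiv.symm_apply_eq]
where
  dodecad_point_move {d d' : Finset GolayPt} {a b : GolayPt} (hd : d ∈ dodecads) (hd' : d' ∈ dodecads)
      (ha : a ∉ d) (hb : b ∉ d') : ∃ σ ∈ M24, σ • d = d' ∧ σ a = b := by
    obtain ⟨g, hg, hgd⟩ := exists_M24_dodecad (compl_mem_dodecads hd)
    have hx : g.symm a ∈ Spor.squareDodecad := by
      rw [← smul_mem_iff g Spor.squareDodecad a, hgd]; exact mem_compl.2 ha
    obtain ⟨g', hg', hgd', hp⟩ := exists_M24_dodecad_map (compl_mem_dodecads hd') (k := 1) (by norm_num)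
      (x := ![g.symm a]) (y := ![b]) (fun i j _ => Subsingleton.elim i j)
      (fun i j _ => Subsingleton.elim i j) (fun i => by fin_cases i; exact hx)
      (fun i => by fin_cases i; exact mem_compl.2 hb)
    refine ⟨g' * g⁻¹, mul_mem hg' (inv_mem hg), ?_, ?_⟩
    · have e : (g' * g⁻¹) • dᶜ = d'ᶜ := by rw [mul_smul, ← hgd, inv_smul_smul, hgd']
      ext i
      have := congrArg (i ∈ ·) e
      simp only [smul_mem_iff, mem_compl, eq_iff_iff] at this
      rw [smul_mem_iff]
      exact not_iff_not.1 this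
    · have := hp 0
      simp only [Matrix.cons_val_zero] at this
      rw [Equiv.Perm.mul_apply, ← this]
      rfl
  finish24 {x r : leechLattice} {σ : Equiv.Perm GolayPt} {o q o' q' : Finset GolayPt} {w k : ℕ}
      (hσ : σ ∈ M24)
      (hxv : ∀ i, (x : GolayPt → ℤ) i ^ 2 = if i ∈ o then 4 else if i ∈ q then 16 else 0)
      (hrv : ∀ i, (r : GolayPt → ℤ) i ^ 2 = if i ∈ o' then 4 else if i ∈ q' then 16 else 0)
      (hσo : σ • o = o') (hσq : σ • q = q')
      (hv : ∀ i, (r : GolayPt → ℤ) i ^ 2 = 0 ∨ (r : GolayPt → ℤ) i ^ 2 = 4 ∨ (r : GolayPt → ℤ) i ^ 2 = 16)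
      (ho' : o' ∈ wordsOfWeight (golayCode : Set (GolayPt → ZMod 2)) w) (hd' : Disjoint q' o') (hq' : q'.card = k) (hwk : w + 2 * k < 16) :
      ∃ a, mono a • x = r := by
    have hev : ∀ i, (2 : ℤ) ∣ (r : GolayPt → ℤ) i := fun i => by
      by_contra hd
      have e : (r : GolayPt → ℤ) i ^ 2 % 2 = 1 := by
        rw [sq, Int.mul_emod, show (r : GolayPt → ℤ) i % 2 = 1 by omega]; norm_num
      have := hv i; omega
    refine normalise_even hσ (fun i => ?_) hev fun u hu h0 => ?_
    · rw [hxv, hrv, ← hσo, ← hσq]; simp only [smul_mem_iff]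
    · have hout : ∀ i, i ∉ o' ∪ q' → (r : GolayPt → ℤ) i = 0 := fun i hi => by
        rw [mem_union, not_or] at hi
        have := hrv i; rw [if_neg hi.1, if_neg hi.2] at this
        exact sq_eq_pos this
      refine code_word_small hu (even_word hev).2.2 (S := o' ∪ q') (fun i hi => ?_) (fun i hi => ?_) ?_
      · by_contra hio
        simp only [support₂, mem_filter, mem_univ, true_and] at hi
        exact hi (h0 i (hout i hio))
      · by_contra hio
        rw [word_support_eq (even_word hev), mem_filter, hout i hio] at hi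
        exact hi.2 (dvd_zero _)
      · have h1 : (o' ∪ q').card = w + k := by
          rw [card_union_of_disjoint hd'.symm, show o'.card = w from ho'.2, hq']
        have hsub : o' ⊆ support₂ (hword 0 (r : GolayPt → ℤ)) := fun i hi => by
          rw [word_support_eq (even_word hev), mem_filter]
          refine ⟨mem_univ _, fun ⟨z, hz⟩ => ?_⟩
          have := hrv i
          rw [hz, mul_pow, if_pos hi] at this
          omega
        have := card_le_card hsub
        rw [show o'.card = w from ho'.2] at this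
        omega

end Cfsg.Agent.Leech
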