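import Cfsg.Agent.Lib.Leech.MatCert

/-!
An element of order five without fixed vectors, a base for its centraliser and the coordinates of the icosian lattice.
-/

set_option autoImplicit false

namespace Cfsg.Agent.Leech.Five

/-- Eight times the matrix of the element of order five. -/
def aMat : List (List ℤ) :=
  [[-2, 4, 0, 0, 2, 2, -2, 2, 0, 0, 2, 0, 0, 0, -2, -2, 2, 0, 0, -2, 0, 2, 0, 2],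
  [0, -2, -2, 2, 0, 0, 0, 0, 2, 2, 0, -2, 2, 2, -4, 0, 0, 2, -2, 0, -2, 0, 2, 0],
  [-2, 0, -4, 0, -2, -2, -2, 2, 0, 0, -2, 0, 0, 0, 2, 2, -2, 0, 0, -2, 0, 2, 0, 2],
  [0, 2, -2, -2, 0, 0, 0, 0, 2, 2, 0, 2, 2, -2, 0, 0, 0, 2, 2, 0, -2, 0, -2, -4],
  [0, 2, 2, 2, -4, 0, 0, 0, 2, 2, 0, -2, -2, -2, 0, 0, 0, -2, 2, 0, -2, 0, 2, 0],
  [2, 0, 0, -4, -2, -2, 2, 2, 0, 0, 2, 0, 0, 0, -2, -2, -2, 0, 0, -2, 0, -2, 0, 2],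
  [2, 0, 0, 0, -2, -2, -2, -2, -4, 0, 2, 0, 0, 0, -2, 2, 2, 0, 0, -2, 0, 2, 0, -2],
  [0, 2, -2, -2, 0, 0, 0, -4, 2, -2, 0, -2, -2, 2, 0, 0, 0, -2, -2, 0, -2, 0, -2, 0],
  [-2, 0, 0, 0, -2, 2, 2, -2, 0, 0, -2, 0, 0, 0, -2, -2, -2, 0, 0, -2, 4, 2, 0, -2],
  [0, -2, 2, -2, 0, 0, 0, 0, 2, -2, 0, 2, 2, -2, 0, 0, 0, -2, -2, 0, -2, 4, 2, 0],
  [-2, 0, 0, 0, -2, -2, -2, -2, 0, 0, -2, 4, 0, 0, -2, -2, 2, 0, 0, 2, 0, -2, 0, 2],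
  [2, 0, 0, 0, 2, 2, -2, -2, 0, 0, -2, 0, 0, -4, -2, 2, -2, 0, 0, -2, 0, -2, 0, 2],
  [-2, 0, 0, 0, -2, 2, -2, 2, 0, -4, 2, 0, 0, 0, -2, 2, -2, 0, 0, 2, 0, -2, 0, -2],
  [0, -2, -2, 2, 0, 0, 0, 0, 2, 2, 4, 2, -2, -2, 0, 0, 0, -2, -2, 0, 2, 0, -2, 0],
  [4, 2, -2, 2, 0, 0, 0, 0, 2, -2, 0, 2, 2, 2, 0, 0, 0, -2, 2, 0, 2, 0, 2, 0],
  [2, 0, 0, 0, -2, 2, -2, 2, 0, 0, -2, 0, 0, 0, 2, -2, 2, 0, -4, -2, 0, -2, 0, -2],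
  [0, 2, 2, 2, 0, 0, 0, 0, -2, 2, 0, 2, 2, 2, 0, 0, -4, -2, -2, 0, -2, 0, -2, 0],
  [-2, 0, 0, 0, 2, -2, 2, 2, 0, 0, -2, 0, 0, 0, -2, 2, 2, -4, 0, -2, 0, -2, 0, -2],
  [2, 0, 0, 0, -2, 2, 2, 2, 0, 0, -2, 0, 0, 0, -2, 2, 2, 0, 0, 2, 0, 2, -4, 2],
  [0, -2, 2, 2, 0, 0, 0, 0, 2, -2, 0, 2, -2, 2, 0, 0, 0, 2, 2, -4, -2, 0, -2, 0],
  [0, 2, -2, 2, 0, 0, 4, 0, -2, -2, 0, 2, -2, -2, 0, 0, 0, 2, -2, 0, -2, 0, 2, 0],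
  [-2, 0, 0, 0, -2, 2, 2, -2, 0, 0, 2, 0, 4, 0, 2, 2, 2, 0, 0, -2, 0, -2, 0, 2],
  [0, -2, -2, 2, 0, 0, 0, 0, -2, -2, 0, -2, 2, -2, 0, -4, 0, -2, 2, 0, -2, 0, -2, 0],
  [0, 2, 2, 2, 0, -4, 0, 0, 2, -2, 0, -2, 2, -2, 0, 0, 0, 2, -2, 0, 2, 0, -2, 0]]

/-- The orbits of the base vectors under the first four powers. -/
def fixedV : List (List ℤ) :=
  [[4, 0, 0, 0, 0, 0, 0, 0, 0, 0, 0, 0, 0, 0, 0, 0, 0, 0, 0, 0, 0, 0, 0, 4],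
  [0, 0, 0, -2, 0, 2, 0, 0, -2, 0, 0, 2, -2, 0, 2, 0, 0, -2, 2, 0, 0, 0, 0, 0],
  [0, -4, 0, 0, 0, 0, 0, 0, 0, 0, 0, 0, 0, 0, 0, 0, 0, 0, 0, 0, 0, 0, 0, -4],
  [-3, 1, -1, 1, -1, -1, 1, -1, 1, 1, -1, -1, 1, 1, -1, 1, -1, 1, -1, 1, -1, -1, 1, -1],
  [4, 0, 4, 0, 0, 0, 0, 0, 0, 0, 0, 0, 0, 0, 0, 0, 0, 0, 0, 0, 0, 0, 0, 0],
  [-1, -1, -3, -1, 1, 1, 1, -1, -1, 1, -1, 1, -1, -1, 1, 1, 1, -1, 1, 1, -1, -1, -1, 1],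
  [-1, -1, 1, 1, -1, -1, -1, 1, -1, -1, 1, 1, -1, 1, -1, -1, -1, 1, 1, -1, 1, 1, 1, -3],
  [0, 0, 0, 0, 0, 0, 2, -2, 2, 0, 0, -2, 2, 0, 0, 0, 0, 0, -2, 2, 0, -2, 0, 0],
  [0, -4, 0, 0, 0, 0, 0, 0, 0, 0, 0, 0, 0, 0, 0, 0, 0, 0, 0, 0, 0, 0, 0, 4],
  [-1, 1, 1, -3, -1, 1, -1, -1, -1, 1, 1, 1, -1, 1, -1, -1, -1, -1, 1, 1, -1, 1, 1, -1],
  [1, -1, -1, 1, 1, 1, 1, 1, 1, 1, 1, -1, 1, -1, -1, -1, 1, -1, -1, -1, -1, -1, -1, -3],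
  [0, 2, -2, 2, 0, 0, 0, 0, 0, 0, -2, 0, 0, 2, 0, 2, 0, 2, 0, 0, 0, 0, 2, 0],
  [2, -2, 2, -2, 0, -2, 0, 0, 0, 0, 0, 0, 0, 0, -2, 0, 0, 2, 0, 0, 0, 0, 0, 2],
  [-1, 1, -1, -1, -1, 3, 1, -1, -1, 1, 1, 1, -1, -1, -1, -1, -1, -1, 1, 1, -1, -1, -1, 1],
  [1, -1, -1, 1, 1, 1, -1, 1, 1, -1, 1, 1, 1, 1, -1, -1, 1, -1, 1, -1, 1, 1, 1, -3],
  [1, 1, -1, 1, -1, -1, 1, -1, 1, 1, -1, -1, 1, 1, 3, 1, -1, 1, -1, 1, -1, -1, 1, -1],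
  [4, 0, 0, 0, -4, 0, 0, 0, 0, 0, 0, 0, 0, 0, 0, 0, 0, 0, 0, 0, 0, 0, 0, 0],
  [-2, 0, 0, 0, 2, 2, 2, 0, 0, 0, 0, 0, 0, 0, 2, 2, 0, -2, 2, 0, 0, 0, 0, 0],
  [0, -2, 0, 0, 0, -2, -2, 0, 0, 0, -2, 0, 0, 0, 0, -2, 0, 2, 0, 0, 0, 2, 0, -2],
  [-1, 1, 1, 1, -1, -1, 1, -1, 1, 1, 1, -1, -1, -1, -1, 1, -1, -1, -1, 1, -1, -3, 1, 1],
  [3, -1, -1, 1, -1, 1, -1, -1, -1, 1, 1, 1, -1, 1, 1, -1, 1, -1, -1, -1, 1, 1, 1, 1],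
  [0, 0, 0, -2, 0, 0, 2, 0, 0, 0, 0, 0, -2, 2, 2, 2, 0, -2, 0, 0, 0, 0, 0, -2],
  [-2, -2, 0, 0, 0, 0, 0, 2, 0, 0, -2, -2, 0, 0, 0, 0, 0, 2, 0, 0, 0, 0, -2, -2],
  [-1, 1, 1, 1, -1, -1, -1, -1, 1, -1, -1, -1, 1, -1, -3, 1, -1, 1, 1, 1, -1, -1, 1, 1]]

/-- The positions of the base vectors after the first one among the 891 vectors. -/
def basePos : List ℕ := [21, 890, 746, 18, 495]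

/-- The inner products distinguishing the base vectors. -/
def baseKeys : List (List ℤ) :=
  [[-2, 2, 0, 0, -2],
  [-1, 2, 0, 0, -1, 0, 1, -1, 0],
  [-1, 2, -1, 0, -1, 2, -1, 0, 0, 2, 0, -1, -1],
  [-2, 2, 0, 0, -1, 2, -1, 0, 0, 0, 0, 0, 0, 1, 0, 0, 1],
  [0, 2, 1, 0, -2, 1, 0, 0, -1, 1, 0, 0, 0, 0, 0, 1, 0, 2, -1, 0, -1]]

/-- The numbers of candidates. -/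
def baseCount : List ℕ := [5, 16, 1, 2, 1]

/-- The common denominator of the inverse of the base. -/
def baseDen : ℤ := 8

/-- The inverse of the base, times the denominator. -/
def baseInv : List (List ℤ) :=
  [[2, 0, -2, 0, 2, -2, 0, 2, -4, 2, -2, -2, 2, 0, -2, 0, -6, -4, 0, 2, 4, 0, 0, 0],
  [0, 0, 0, -2, 0, 0, 0, 0, -2, 0, -4, 0, 2, 0, 0, -2, -2, -2, 0, -4, 2, -4, 2, 0],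
  [1, -1, -1, -1, 1, 1, -1, 1, -1, 1, -1, 1, 1, -3, -1, 3, -5, -1, -3, 1, 3, 1, 1, -1],
  [0, 0, 0, 0, 0, -2, 0, 0, -2, 4, -4, 2, 4, 2, -2, 0, -4, -4, 0, -2, 4, -2, -2, 0],
  [0, 0, 2, 2, 0, 0, 0, 0, 0, 0, 0, 2, 0, 2, 0, 0, 2, 0, 0, 2, -2, 0, -2, 0],
  [0, 0, 0, 2, 0, -2, 0, 0, -2, 0, 2, 0, 0, 2, 0, 0, 4, 0, 2, 4, -2, 0, -2, 0],
  [0, 0, 0, 2, 0, -2, 2, 0, -4, -2, 2, -2, 0, 2, 0, -2, 2, 0, 2, 2, -2, 0, 0, 0],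
  [0, 0, 0, 0, 0, 0, 2, 0, -2, -2, 0, -2, 0, 0, 0, -2, 2, 0, 0, 2, 0, 0, 2, 0],
  [-1, -1, 1, 1, -1, 1, 1, 1, 1, -3, 1, 1, -1, 1, 1, -1, 3, 1, -1, 1, -5, 1, 1, 1],
  [0, 0, 0, 0, 0, 0, 0, 2, -2, 0, 2, -2, 0, 0, 0, 0, 2, 0, 0, 4, -2, 2, 2, 0],
  [0, 0, 0, 0, 0, 0, 2, 0, -2, -2, 0, -2, 0, 0, 0, -2, 2, 0, 0, -2, -4, 0, 2, 0],
  [0, 0, 0, 0, 0, 2, 2, 2, 0, -2, 0, 0, -2, -2, 0, 0, 2, 2, -2, 2, -2, 2, 4, 0],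
  [0, 0, 0, -2, 0, 0, 0, -2, 2, 2, 0, 0, 0, 0, 0, 0, 0, 2, 2, -4, 2, -2, 0, 0],
  [0, 0, 0, 0, 0, 2, 0, -2, 4, 0, 0, 2, -2, 0, 0, 0, -2, 2, 0, -2, 0, 0, -2, 0],
  [0, 0, 0, 0, 0, 0, -2, 0, 4, 2, 0, 2, 0, 2, 0, 0, 0, 0, 2, 0, 2, -2, -2, 0],
  [0, 0, 0, 0, 0, 0, -2, -2, 2, 0, 2, 0, 0, 2, 2, 0, 0, 2, 2, -2, -2, -2, -2, 0],
  [0, 0, 0, 0, -2, 0, 2, 2, 0, 0, 0, 0, 0, -2, 0, 0, 2, 0, 0, 2, 0, 2, 2, 0],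
  [0, 0, 0, 0, 0, 0, 2, 0, 0, 2, 0, -2, 0, -2, 0, 0, 0, 0, 2, 0, 2, 2, 2, 0],
  [0, 0, 0, 0, 0, 0, 2, 0, 2, 0, -2, 0, -2, -2, 0, -2, 0, 0, 0, 0, 0, 2, 2, 0],
  [0, 0, 0, 0, 0, 0, 0, 2, 2, 2, 0, 0, -2, -2, 0, 0, 0, 0, 0, 2, 2, 0, 2, 0],
  [0, 0, 0, 0, 0, 0, -2, -4, 0, 2, 0, -2, 0, 2, 0, 0, 0, 0, 2, -4, 2, -2, -2, 0],
  [0, 0, 0, 0, 0, 0, 0, -2, 2, -2, 0, 0, -2, 2, 0, 0, 0, 0, 0, -2, -2, 0, -2, 0],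
  [0, 0, 0, 0, 0, 0, -2, 0, 0, 2, 0, -2, 0, 2, 0, 0, 0, 0, 2, 0, 2, -2, -2, 0],
  [0, 0, 0, 0, 0, 0, -2, -4, 0, -2, 0, -2, 0, 2, 0, 0, 0, 0, 2, -4, -2, -2, -2, 0]]

/-- The frame giving the coordinates of the icosian lattice. -/
def phiMat : List (List ℤ) :=
  [[2, 1, 0, 1, 0, 1, 0, 1, 0, 0, 0, 0, 0, 0, 0, 0, -4, 1, 0, 1, 2, -1, 0, -1],
  [2, 1, 0, 1, 0, 1, 0, 1, 0, 0, 0, 0, 0, 0, 0, 0, 0, -3, 0, -3, -2, -1, 0, -1],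
  [-2, -1, 0, -1, 0, -1, 0, -1, 0, 0, 0, 0, 0, 0, 0, 0, 0, -1, 0, -1, 2, -3, 0, -3],
  [2, 1, 0, 1, 0, -3, 0, -3, 0, 0, 0, 0, 0, 0, 0, 0, 0, 1, 0, 1, -2, -1, 0, -1],
  [0, 1, 2, -1, 0, -1, 0, 1, 0, 2, 0, 0, -2, 0, 2, -2, 0, -1, 0, 1, 0, -1, -2, 1],
  [2, -1, 0, -1, 4, -1, 0, -1, 0, 0, 0, 0, 0, 0, 0, 0, 0, -1, 0, -1, 2, 1, 0, 1],
  [0, 1, 0, -1, 0, 1, 2, -1, 0, 0, 2, 2, 2, 0, 0, -2, 0, 1, 2, -1, 0, -1, 0, 1],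
  [0, 1, 0, -1, 0, 1, 2, -1, 0, 2, -2, 0, 2, -2, 0, 0, 0, -1, -2, 1, 0, 1, 0, -1],
  [0, 1, 0, -1, 0, 1, -2, -1, 2, 0, 0, 2, 0, 0, 2, 2, 0, 1, -2, -1, 0, -1, 0, 1],
  [0, -1, 2, 1, 0, 1, 0, -1, -2, 2, 2, 0, 0, 0, 0, 2, 0, 1, 0, -1, 0, 1, -2, -1],
  [0, -1, 2, 1, 0, 1, 0, -1, -2, 0, -2, 2, 0, 2, 0, 0, 0, -1, 0, 1, 0, -1, 2, 1],
  [0, 1, 0, -1, 0, 1, -2, -1, -2, -2, 0, 0, 0, -2, 2, 0, 0, -1, 2, 1, 0, 1, 0, -1],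
  [0, 1, 0, -1, 0, 1, -2, -1, -2, 0, 0, -2, 0, 0, -2, -2, 0, 1, -2, -1, 0, -1, 0, 1],
  [0, 1, 2, -1, 0, -1, 0, 1, 0, 0, 0, -2, 2, 2, 2, 0, 0, 1, 0, -1, 0, 1, 2, -1],
  [2, -1, 0, -1, -4, -1, 0, -1, 0, 0, 0, 0, 0, 0, 0, 0, 0, -1, 0, -1, 2, 1, 0, 1],
  [0, 1, -2, -1, 0, -1, 0, 1, -2, 0, -2, 2, 0, 2, 0, 0, 0, 1, 0, -1, 0, 1, -2, -1],
  [0, 1, 2, -1, 0, -1, 0, 1, 0, -2, 0, 0, 2, 0, -2, 2, 0, -1, 0, 1, 0, -1, -2, 1],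
  [2, -3, 0, -3, 0, 1, 0, 1, 0, 0, 0, 0, 0, 0, 0, 0, 0, 1, 0, 1, -2, -1, 0, -1],
  [0, 1, 0, -1, 0, 1, -2, -1, 2, 2, 0, 0, 0, 2, -2, 0, 0, -1, 2, 1, 0, 1, 0, -1],
  [0, -1, 0, 1, 0, -1, -2, 1, 0, 2, -2, 0, 2, -2, 0, 0, 0, 1, 2, -1, 0, -1, 0, 1],
  [0, 1, -2, -1, 0, -1, 0, 1, -2, 2, 2, 0, 0, 0, 0, 2, 0, -1, 0, 1, 0, -1, 2, 1],
  [0, -1, 0, 1, 0, -1, -2, 1, 0, 0, 2, 2, 2, 0, 0, -2, 0, -1, -2, 1, 0, 1, 0, -1],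
  [0, 1, 2, -1, 0, -1, 0, 1, 0, 0, 0, 2, -2, -2, -2, 0, 0, 1, 0, -1, 0, 1, 2, -1],
  [-2, -1, 0, -1, 0, -1, 0, -1, 0, 0, 0, 0, 0, 0, 0, 0, -4, -1, 0, -1, -2, 1, 0, 1]]

/-- The unit of order five as a quaternion. -/
def zetaData : List ℤ := [-1, 1, -1, 0, 0, -1, 0, 0]

end Cfsg.Agent.Leech.Five
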