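import Cfsg.Agent.Lib.Leech.FiveData
import Cfsg.Agent.Lib.Leech.QuadMoments

/-!
An element of order five of the automorphism group of the Leech lattice without fixed vectors, and the values of the
inner product of a minimal vector with its image.
-/

set_option autoImplicit false
set_option maxRecDepth 10000

namespace Cfsg.Agent.Leech.Five

open Cfsg Cfsg.Agent.Golay Finset MatCert
open Cfsg.Agent.PermCert (allBelow allBelow_spec)

theorem aMat_ok : certOK aMat = true := by decide +kernel

/-- The element of order five. -/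
noncomputable def aG : Co0 := (exists_co0_mat aMat_ok).choose

theorem aG_spec (v : leechLattice) :
    mulV aMat (v : GolayPt → ℤ) = 8 • ((aG • v : leechLattice) : GolayPt → ℤ) :=
  (exists_co0_mat aMat_ok).choose_spec v

/-- The images of a list under the powers of the matrix. -/
def iterL (k : ℕ) (l : List ℤ) : List ℤ :=
  match k with
  | 0 => l
  | k + 1 => imgL aMat (iterL k l)

/-- The orbit sum of a list vanishes and the fifth image is the list. -/
def chainOK (l : List ℤ) : Bool :=
  allBelow (fun k => divL aMat (iterL k l) && latB (iterL k l)) 6 && eqL (iterL 5 l) l &&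
    allBelow (fun i => decide (((List.range 5).map fun k => (iterL k l).getD i 0).sum = 0)) 24

theorem chain_all : genL.all chainOK = true := by decide +kernel

/-- The sum of an orbit under the element. -/
noncomputable def orbSum (v : leechLattice) : leechLattice :=
  v + aG • v + aG ^ 2 • v + aG ^ 3 • v + aG ^ 4 • v

theorem pow_succ_smul (k : ℕ) (v : leechLattice) : aG ^ (k + 1) • v = aG • aG ^ k • v := by
  rw [pow_succ', mul_smul]

theorem chain_gen {l : List ℤ} (hl : l ∈ genL) (h0 : latB l = true) :
    aG ^ 5 • latV l h0 = latV l h0 ∧ orbSum (latV l h0) = 0 := by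
  have h := List.all_eq_true.1 chain_all l hl
  simp only [chainOK, Bool.and_eq_true] at h
  obtain ⟨⟨hk, h5⟩, hs⟩ := h
  have hk' := fun k (hk' : k < 6) => Bool.and_eq_true _ _ ▸ allBelow_spec _ _ hk k hk'
  have e : ∀ k (hk6 : k < 6), aG ^ k • latV l h0 = latV (iterL k l) (hk' k hk6).2 := by
    intro k
    induction k with
    | zero => intro _; rw [pow_zero, one_smul]; rfl
    | succ k ih =>
      intro hk6
      rw [pow_succ_smul, ih (by omega)]
      exact smul_latV aMat_ok aG_spec _ _ (hk' k (by omega)).1 rfl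
  refine ⟨(e 5 (by norm_num)).trans (Subtype.ext ?_), Subtype.ext (funext fun p => ?_)⟩
  · show toVec (iterL 5 l) = toVec l
    rw [of_decide_eq_true h5]
  · have := allBelow_spec _ _ hs (idx p) (idx_lt p)
    rw [decide_eq_true_eq] at this
    have e1 : aG • latV l h0 = latV (iterL 1 l) (hk' 1 (by norm_num)).2 := by
      rw [← e 1 (by norm_num), pow_one]
    rw [orbSum, e1, e 2 (by norm_num), e 3 (by norm_num), e 4 (by norm_num)]
    simp only [List.range_succ, List.range_zero, List.nil_append, List.map_cons, List.map_nil, List.cons_append,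
      List.sum_cons, List.sum_nil] at this
    show toVec (iterL 0 l) p + toVec (iterL 1 l) p + toVec (iterL 2 l) p + toVec (iterL 3 l) p +
      toVec (iterL 4 l) p = 0
    simp only [toVec]
    linarith

theorem orbit_facts (v : leechLattice) : aG ^ 5 • v = v ∧ orbSum v = 0 := by
  let T : AddSubgroup (GolayPt → ℤ) :=
    { carrier := {x | ∃ h : x ∈ leechLattice, aG ^ 5 • (⟨x, h⟩ : leechLattice) = ⟨x, h⟩ ∧ orbSum ⟨x, h⟩ = 0}
      zero_mem' := by
        have h0 : ∀ g : Co0, g • (0 : leechLattice) = 0 := fun g => by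
          have := co0_add g 0 0
          rwa [add_zero, left_eq_add] at this
        refine ⟨zero_mem _, h0 _, ?_⟩
        show orbSum 0 = 0
        simp [orbSum, h0]
      add_mem' := by
        rintro x y ⟨hx, e1, e2⟩ ⟨hy, f1, f2⟩
        refine ⟨add_mem hx hy, ?_, ?_⟩
        · show aG ^ 5 • ((⟨x, hx⟩ : leechLattice) + ⟨y, hy⟩) = _
          rw [co0_add, e1, f1]; rfl
        · show orbSum ((⟨x, hx⟩ : leechLattice) + ⟨y, hy⟩) = 0
          have e : orbSum ((⟨x, hx⟩ : leechLattice) + ⟨y, hy⟩) = orbSum ⟨x, hx⟩ + orbSum ⟨y, hy⟩ := by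
            simp only [orbSum, co0_add]; abel
          rw [e, e2, f2, add_zero]
      neg_mem' := by
        rintro x ⟨hx, e1, e2⟩
        refine ⟨neg_mem hx, ?_, ?_⟩
        · show aG ^ 5 • (-(⟨x, hx⟩ : leechLattice)) = -(⟨x, hx⟩ : leechLattice)
          rw [co0_neg, e1]
        · show orbSum (-(⟨x, hx⟩ : leechLattice)) = 0
          have e : orbSum (-(⟨x, hx⟩ : leechLattice)) = -orbSum ⟨x, hx⟩ := by
            simp only [orbSum, co0_neg]; abel
          rw [e, e2, neg_zero] }
  have hle : span ≤ T := by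
    refine (AddSubgroup.closure_le _).2 ?_
    rintro _ ⟨l, hl, rfl⟩
    have h0 := List.all_eq_true.1 genL_ok l hl
    exact ⟨latB_spec h0, chain_gen hl h0⟩
  obtain ⟨_, h⟩ := hle (leech_le v.2)
  exact h

theorem aG_pow_five : aG ^ 5 = 1 :=
  Subtype.ext (Equiv.ext fun v => (orbit_facts v).1)

/-- The inner product of a vector with its image. -/
noncomputable def qv (v : leechLattice) : ℤ := ip v (aG • v)

theorem qv_two (v : leechLattice) : ip v (aG ^ 2 • v) + qv v + 2 = 0 ∨ ip v v ≠ 4 := by
  by_cases h4 : ip v v = 4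
  swap
  · exact Or.inr h4
  refine Or.inl ?_
  have e : ∀ x, ip (orbSum v) x = 0 := fun x => by rw [(orbit_facts v).2]; exact LatticeMod2.map_zero_left rootless_ip x
  have h := e v
  simp only [orbSum, rootless_ip.add] at h
  have e4 : ip (aG ^ 4 • v) v = ip (aG • v) v := by
    conv_lhs => rw [← co0_ip aG, ← mul_smul, ← pow_succ', (orbit_facts v).1]
    rw [ip_comm]
  have e3 : ip (aG ^ 3 • v) v = ip (aG ^ 2 • v) v := by
    conv_lhs => rw [← co0_ip (aG ^ 2), ← mul_smul, ← pow_add, (orbit_facts v).1]
    rw [ip_comm]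
  rw [e3, e4, h4, ip_comm (aG • v) v, ip_comm (aG ^ 2 • v) v] at h
  unfold qv
  omega

theorem not_negated {g : Co0} (hg : g ^ 5 = 1) {v : leechLattice} (hv : ip v v = 4) : ip v (g • v) ≠ -4 := by
  intro e4
  have hn := LatticeMod2.norm_add rootless_ip v (g • v)
  rw [hv, (co0_ip g v v).trans hv, e4] at hn
  have hz : g • v = -v := by
    by_contra hne
    have := rootless_ip.pos (v + g • v) (fun q => hne (eq_neg_of_add_eq_zero_right q))
    omega
  have h : g • g • g • g • g • v = -v := by
    simp only [hz, co0_neg, neg_neg]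
  rw [← mul_smul, ← mul_smul, ← mul_smul, ← mul_smul, show g * g * g * g * g = g ^ 5 by simp [pow_succ], hg,
    one_smul] at h
  have := congrArg (fun x => ip x v) h
  simp only [LatticeMod2.neg_left rootless_ip, hv] at this
  omega

theorem qv_values {v : leechLattice} (hv : ip v v = 4) :
    ip v (aG ^ 2 • v) = -2 - qv v ∧ (qv v = 0 ∨ qv v = -1 ∨ qv v = -2) := by
  have h2 := (qv_two v).resolve_right (not_not.2 hv)
  have h1 := ip_values hv ((co0_ip aG v v).trans hv)
  have h1' := ip_values hv ((co0_ip (aG ^ 2) v v).trans hv)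
  simp only [mem_insert, mem_singleton] at h1 h1'
  change qv v = -4 ∨ qv v = -2 ∨ qv v = -1 ∨ qv v = 0 ∨ qv v = 1 ∨ qv v = 2 ∨ qv v = 4 at h1
  have n1 : qv v ≠ -4 := not_negated aG_pow_five hv
  have n2 := not_negated (g := aG ^ 2) (by rw [← pow_mul, show 2 * 5 = 5 * 2 from rfl, pow_mul, aG_pow_five, one_pow]) hv
  refine ⟨by omega, ?_⟩
  rcases h1 with h | h | h | h | h | h | h
  · exact absurd h n1
  · exact Or.inr (Or.inr h)
  · exact Or.inr (Or.inl h)
  · exact Or.inl h
  all_goals omega

/-- The matrix as a function of two points. -/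
def aFun (p r : GolayPt) : ℤ := toVec (aMat.getD (idx p) []) r

theorem quad_aFun (v : leechLattice) : quad aFun (v : GolayPt → ℤ) = 64 * qv v := by
  have e : quad aFun (v : GolayPt → ℤ) = ∑ p, (v : GolayPt → ℤ) p * mulV aMat (v : GolayPt → ℤ) p := by
    simp only [quad, mulV, dotInt, mul_sum, aFun]
    exact sum_congr rfl fun p _ => sum_congr rfl fun r _ => by ring
  rw [e, aG_spec]
  have h := eight_ip v (aG • v)
  simp only [dotInt] at h
  simp only [Pi.smul_apply, nsmul_eq_mul, mul_left_comm ((v : GolayPt → ℤ) _), ← mul_sum]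
  rw [← h, qv]
  push_cast
  ring

theorem aFun_sums : ∑ p, aFun p p = -48 ∧ ∑ p, ∑ r, aFun p r ^ 2 = 1536 ∧
    ∑ p, ∑ r, aFun p r * aFun r p = -384 := by
  refine ⟨?_, ?_, ?_⟩ <;> decide +kernel

/-- The minimal vectors orthogonal to their image. -/
noncomputable def zeroQ : Finset leechLattice := min4.filter fun v => qv v = 0

theorem card_zeroQ : zeroQ.card = 37800 := by
  have h1 := quad_moment_one aFun
  have h2 := quad_moment_two aFun
  simp only [quad_aFun, mul_pow, ← mul_sum, aFun_sums.1, aFun_sums.2.1, aFun_sums.2.2] at h1 h2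
  have hm : ∀ v ∈ min4, qv v ∈ ({0, -1, -2} : Finset ℤ) := fun v hv => by
    simp only [mem_insert, mem_singleton]
    exact (qv_values (mem_min4.1 hv)).2
  rw [← sum_fiberwise_of_maps_to hm] at h1 h2
  have e : ∀ (n : ℤ) (f : ℤ → ℤ), ∑ v ∈ min4.filter (fun v => qv v = n), f (qv v) =
      ((min4.filter fun v => qv v = n).card : ℤ) * f n := fun n f => by
    rw [sum_congr rfl (fun v hv => show f (qv v) = f n by rw [(mem_filter.1 hv).2]), sum_const, nsmul_eq_mul]
  have hc := card_eq_sum_card_fiberwise hm
  rw [card_min4] at hc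
  simp only [e _ (fun x => x), e _ (fun x => x ^ 2)] at h1 h2
  rw [sum_insert (by simp), sum_insert (by simp), sum_singleton] at h1 h2 hc
  show (min4.filter fun v => qv v = 0).card = 37800
  norm_num at h1 h2
  omega

end Cfsg.Agent.Leech.Five
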