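import Cfsg.Agent.Lib.Leech.FiveElt
import Cfsg.Agent.Lib.J2.Centre

/-!
An isometry from the icosian Leech lattice to the Leech lattice carrying a unit of order five to the element of order
five without fixed vectors.
-/

set_option autoImplicit false
set_option maxRecDepth 10000

noncomputable section

namespace Cfsg.Agent.Leech.Five

open Cfsg Cfsg.Spor Cfsg.Agent.Golay Finset MatCert Quaternion
open Cfsg.Agent.J2 (Q V toH toV sval)

/-- The orthogonal coordinates of a coded vector. -/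
def coordF (v : V) : Fin 24 → ℤ :=
  ![v.x.a.1 + v.x.a.2, v.x.a.2, v.x.b.1 + v.x.b.2, v.x.b.2, v.x.c.1 + v.x.c.2, v.x.c.2, v.x.d.1 + v.x.d.2, v.x.d.2,
    v.y.a.1 + v.y.a.2, v.y.a.2, v.y.b.1 + v.y.b.2, v.y.b.2, v.y.c.1 + v.y.c.2, v.y.c.2, v.y.d.1 + v.y.d.2, v.y.d.2,
    v.z.a.1 + v.z.a.2, v.z.a.2, v.z.b.1 + v.z.b.2, v.z.b.2, v.z.c.1 + v.z.c.2, v.z.c.2, v.z.d.1 + v.z.d.2, v.z.d.2]

/-- The frame coordinates. -/
def phiFun (i : Fin 24) (j : Fin 24) : ℤ := (phiMat.getD i []).getD j 0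

/-- Four times the image of a coded vector. -/
def num (v : V) : GolayPt → ℤ := fun p => ∑ j, phiFun (ptEquiv p) j * coordF v j

/-- The image of a coded vector, on lists. -/
def phiL (v : V) : List ℤ := (List.range 24).map fun i => dotL (phiMat.getD i []) (List.ofFn (coordF v)) / 4

/-- Sum of coded vectors. -/
def vadd (v w : V) : V := ⟨v.x.add w.x, v.y.add w.y, v.z.add w.z⟩

/-- Negation of a coded vector. -/
def vneg (v : V) : V := ⟨v.x.neg, v.y.neg, v.z.neg⟩

theorem toV_vadd (v w : V) : toV (vadd v w) = toV v + toV w := by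
  funext t; fin_cases t <;> simp [vadd, toV, J2.toH_add]

theorem toV_vneg (v : V) : toV (vneg v) = -toV v := by
  funext t; fin_cases t <;> simp [vneg, toV, J2.toH_neg]

theorem coordF_vadd (v w : V) : coordF (vadd v w) = coordF v + coordF w := by
  funext j; fin_cases j <;> simp [coordF, vadd, J2.Q.add, J2.sadd] <;> ring

theorem coordF_vneg (v : V) : coordF (vneg v) = -coordF v := by
  funext j; fin_cases j <;> simp [coordF, vneg, J2.Q.neg, J2.Q.mapZ] <;> ring

theorem num_vadd (v w : V) : num (vadd v w) = num v + num w := by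
  funext p; simp only [num, coordF_vadd, Pi.add_apply, mul_add, sum_add_distrib]

theorem num_vneg (v : V) : num (vneg v) = -num v := by
  funext p; simp only [num, coordF_vneg, Pi.neg_apply, mul_neg, sum_neg_distrib]

/-- The unit of order five. -/
def zetaQ : Q :=
  ⟨(zetaData.getD 0 0, zetaData.getD 1 0), (zetaData.getD 2 0, zetaData.getD 3 0),
    (zetaData.getD 4 0, zetaData.getD 5 0), (zetaData.getD 6 0, zetaData.getD 7 0)⟩

theorem zetaQ_inI : zetaQ.inI = true := by decide +kernel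

theorem zeta_mem : toH zetaQ ∈ icosians := J2.toH_mem_of_inI _ zetaQ_inI

/-- Left multiplication by the unit. -/
def zact (x : Fin 3 → ℍ[ℝ]) : Fin 3 → ℍ[ℝ] := fun t => toH zetaQ * x t

theorem zact_add (x y : Fin 3 → ℍ[ℝ]) : zact (x + y) = zact x + zact y := by
  funext t; exact mul_add _ _ _

/-- The vectors whose images exist and commute with the multiplication. -/
def imgGroup : AddSubgroup (Fin 3 → ℍ[ℝ]) where
  carrier := {x | ∃ v v' : V, toV v = x ∧ toV v' = zact x ∧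
    ∃ y ∈ leechLattice, ∃ y' ∈ leechLattice, num v = 4 • y ∧ num v' = 4 • y' ∧ mulV aMat y = 8 • y'}
  zero_mem' := by
    refine ⟨⟨Q.zero, Q.zero, Q.zero⟩, ⟨Q.zero, Q.zero, Q.zero⟩, ?_, ?_, 0, zero_mem _, 0, zero_mem _, ?_, ?_, ?_⟩
    · funext t; fin_cases t <;> simp [toV, J2.toH_zero]
    · funext t; fin_cases t <;> simp [toV, J2.toH_zero, zact]
    · funext p; rw [smul_zero]; exact sum_eq_zero fun j _ => by fin_cases j <;> simp [coordF, J2.Q.zero]
    · funext p; rw [smul_zero]; exact sum_eq_zero fun j _ => by fin_cases j <;> simp [coordF, J2.Q.zero]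
    · funext p; simp [mulV, dotInt]
  add_mem' := by
    rintro x y ⟨v, v', hv, hv', a, ha, a', ha', e1, e2, e3⟩ ⟨w, w', hw, hw', b, hb, b', hb', f1, f2, f3⟩
    refine ⟨vadd v w, vadd v' w', by rw [toV_vadd, hv, hw], by rw [toV_vadd, hv', hw', zact_add],
      a + b, add_mem ha hb, a' + b', add_mem ha' hb', ?_, ?_, ?_⟩
    · rw [num_vadd, e1, f1, nsmul_add]
    · rw [num_vadd, e2, f2, nsmul_add]
    · rw [mulV_add, e3, f3, nsmul_add]
  neg_mem' := by
    rintro x ⟨v, v', hv, hv', a, ha, a', ha', e1, e2, e3⟩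
    refine ⟨vneg v, vneg v', by rw [toV_vneg, hv], ?_, -a, neg_mem ha, -a', neg_mem ha', ?_, ?_, ?_⟩
    · rw [toV_vneg, hv']; funext t; simp [zact]
    · rw [num_vneg, e1, smul_neg]
    · rw [num_vneg, e2, smul_neg]
    · rw [smul_neg, ← e3]; funext p; simp [mulV, dotInt]

/-- The check on one vector. -/
def imgOK (v : V) : Bool :=
  v.inI && latB (phiL v) && latB (phiL (V.lmul zetaQ v)) && divL aMat (phiL v) &&
    eqL (imgL aMat (phiL v)) (phiL (V.lmul zetaQ v)) &&
    (List.range 24).all (fun i => decide (dotL (phiMat.getD i []) (List.ofFn (coordF v)) % 4 = 0) &&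
      decide (dotL (phiMat.getD i []) (List.ofFn (coordF (V.lmul zetaQ v))) % 4 = 0))

/-- The products of a basis of the icosians with the three generators. -/
def latBasis : List V := J2.Q.basisVec.flatMap fun b => J2.latGen.map fun g => V.lmul b g

theorem basis_checks : (latBasis.all imgOK && J2.latGen.all V.inI && J2.Q.basisVec.all Q.inI) = true ∧
    (phiMat.all fun r => Nat.beq r.length 24) = true ∧ phiMat.length = 24 := by
  refine ⟨?_, ?_, rfl⟩ <;> decide +kernel

theorem num_phiL {v : V} (h : ∀ i < 24, dotL (phiMat.getD i []) (List.ofFn (coordF v)) % 4 = 0) :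
    num v = 4 • toVec (phiL v) := by
  funext p
  have hr : (phiMat.getD (idx p) []).length = 24 := by
    have := List.all_eq_true.1 basis_checks.2.1 (phiMat.getD (idx p) [])
      (by rw [List.getD_eq_getElem _ _ (basis_checks.2.2 ▸ idx_lt p)]; exact List.getElem_mem _)
    simpa using this
  have e : num v p = dotL (phiMat.getD (idx p) []) (List.ofFn (coordF v)) := by
    rw [dotL_eq 24 _ _ hr (by simp), num]
    refine sum_congr rfl fun j _ => ?_
    rw [List.getD_eq_getElem (List.ofFn (coordF v)) 0 (n := (j : ℕ)) (by simp), List.getElem_ofFn]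
    rfl
  rw [e, Pi.smul_apply, toVec, phiL,
    List.getD_eq_getElem ((List.range 24).map _) 0 (n := idx p) (by simp [idx_lt]), List.getElem_map,
    List.getElem_range, nsmul_eq_mul]
  have := h (idx p) (idx_lt p)
  push_cast
  omega

theorem toV_lmul {s : Q} {v : V} (hs : s.inI = true) (hv : v.inI = true) :
    toV (V.lmul s v) = fun t => toH s * toV v t := by
  rw [J2.V.inI_iff] at hv
  funext t
  fin_cases t <;> simp [V.lmul, toV, J2.toH_mul hs hv.1, J2.toH_mul hs hv.2.1, J2.toH_mul hs hv.2.2]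

theorem basis_mem {v : V} (hv : v ∈ latBasis) : toV v ∈ imgGroup := by
  have h0 := basis_checks.1
  simp only [Bool.and_eq_true] at h0
  have h := List.all_eq_true.1 h0.1.1 v hv
  simp only [imgOK, Bool.and_eq_true, List.all_eq_true, List.mem_range, decide_eq_true_eq, eqL] at h
  obtain ⟨⟨⟨⟨⟨hI, hl⟩, hl'⟩, hd⟩, he⟩, hdiv⟩ := h
  refine ⟨v, V.lmul zetaQ v, rfl, toV_lmul zetaQ_inI hI, _, latB_spec hl, _, latB_spec hl',
    num_phiL fun i hi => (hdiv i hi).1, num_phiL fun i hi => (hdiv i hi).2, ?_⟩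
  obtain ⟨h1, h2⟩ := lengths (M := aMat) (by
    have := aMat_ok
    simp only [certOK, Bool.and_eq_true] at this
    exact this.1.1.1)
  rw [img_spec h1 h2 (latB_length hl) hd, he]

theorem smul_gen_mem {a : ℍ[ℝ]} (ha : a ∈ icosians) {g : V} (hg : g ∈ J2.latGen) :
    (fun t => a * toV g t) ∈ imgGroup := by
  obtain ⟨q, hq, rfl⟩ := (J2.mem_icosians_iff a).1 ha
  have h0 := basis_checks.1
  simp only [Bool.and_eq_true, List.all_eq_true] at h0
  have hone : ∀ b ∈ J2.Q.basisVec, (fun t => toH b * toV g t) ∈ imgGroup := fun b hb => by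
    rw [← toV_lmul (h0.2 b hb) (h0.1.2 g hg)]
    exact basis_mem (List.mem_flatMap.2 ⟨b, hb, List.mem_map.2 ⟨g, hg, rfl⟩⟩)
  let T : AddSubgroup ℍ[ℝ] :=
    imgGroup.comap (AddMonoidHom.mk' (fun a : ℍ[ℝ] => fun t => a * toV g t) fun x y => by funext t; exact add_mul _ _ _)
  have hT : ∀ (ks : List ℤ) (vs : List Q), (∀ v ∈ vs, toH v ∈ T) → J2.comb ks vs ∈ T := by
    intro ks
    induction ks with
    | nil => intro vs _; exact zero_mem _
    | cons k ks ih =>
      intro vs h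
      cases vs with
      | nil => exact zero_mem _
      | cons v vs => exact add_mem (zsmul_mem (h v (by simp)) k) (ih vs fun w hw => h w (by simp [hw]))
  rw [← J2.comb_coef q hq]
  exact hT _ _ hone

theorem mem_imgGroup (x : icoLeech) : (x : Fin 3 → ℍ[ℝ]) ∈ imgGroup := by
  obtain ⟨a, ha, b, hb, c, hc, h0, h1, h2⟩ := J2.leech_decomp x.2
  have hx : (x : Fin 3 → ℍ[ℝ]) = (fun t => a * toV J2.latGen[0] t) + (fun t => b * toV J2.latGen[1] t) +
      (fun t => c * toV J2.latGen[2] t) := by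
    funext t
    fin_cases t <;> simp [h0, h1, h2, J2.latGen, J2.toH_neg, J2.toH_star, J2.toH_h, J2.toH_zero]
  rw [hx]
  exact add_mem (add_mem (smul_gen_mem ha (List.getElem_mem _)) (smul_gen_mem hb (List.getElem_mem _)))
    (smul_gen_mem hc (List.getElem_mem _))

theorem exists_image (x : icoLeech) : ∃ y : leechLattice, ∀ v : V, toV v = (x : Fin 3 → ℍ[ℝ]) →
    num v = 4 • (y : GolayPt → ℤ) := by
  obtain ⟨v, v', hv, -, y, hy, _, _, e, -, -⟩ := mem_imgGroup x
  exact ⟨⟨y, hy⟩, fun w hw => by rw [J2.toV_injective (hw.trans hv.symm)]; exact e⟩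

/-- The map of lattices. -/
def psi (x : icoLeech) : leechLattice := (exists_image x).choose

theorem psi_spec {x : icoLeech} {v : V} (h : toV v = (x : Fin 3 → ℍ[ℝ])) :
    num v = 4 • ((psi x : leechLattice) : GolayPt → ℤ) := (exists_image x).choose_spec v h

theorem four_cancel {a b : GolayPt → ℤ} (h : 4 • a = 4 • b) : a = b := funext fun p => by
  have := congrFun h p
  simp only [Pi.smul_apply, nsmul_eq_mul] at this
  push_cast at this
  omega

theorem psi_add {x y z : icoLeech} (h : (z : Fin 3 → ℍ[ℝ]) = x + y) : psi z = psi x + psi y := by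
  obtain ⟨v, -, hv, -⟩ := mem_imgGroup x
  obtain ⟨w, -, hw, -⟩ := mem_imgGroup y
  refine Subtype.ext (four_cancel ?_)
  rw [AddSubgroup.coe_add, nsmul_add, ← psi_spec hv, ← psi_spec hw, ← num_vadd,
    ← psi_spec (x := z) (v := vadd v w) (by rw [toV_vadd, hv, hw, h])]

/-- The multiplication on the lattice. -/
def zmul (x : icoLeech) : icoLeech := ⟨zact x, J2.leech_smul zeta_mem x.2⟩

theorem aG_psi (x : icoLeech) : aG • psi x = psi (zmul x) := by
  obtain ⟨v, v', hv, hv', y, hy, y', hy', e1, e2, e3⟩ := mem_imgGroup x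
  have hy1 : y = ((psi x : leechLattice) : GolayPt → ℤ) := four_cancel (e1.symm.trans (psi_spec hv))
  have hy2 : y' = ((psi (zmul x) : leechLattice) : GolayPt → ℤ) :=
    four_cancel (e2.symm.trans (psi_spec (x := zmul x) hv'))
  refine Subtype.ext (funext fun p => ?_)
  have h := congrFun ((aG_spec (psi x)).symm.trans (hy1 ▸ e3)) p
  rw [← hy2]
  simp only [Pi.smul_apply, nsmul_eq_mul] at h
  push_cast at h
  omega

theorem gram : ∀ j k : Fin 24, (∑ i, phiFun i j * phiFun i k) = if j = k then 32 else 0 := by decide +kernel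

theorem sqNorm_num (v : V) : sqNorm (num v) = 32 * ∑ j, coordF v j ^ 2 := by
  unfold sqNorm
  rw [← Equiv.sum_comp ptEquiv.symm]
  simp only [num, Equiv.apply_symm_apply, sq, sum_mul, mul_sum]
  rw [sum_comm]
  refine sum_congr rfl fun j _ => ?_
  rw [sum_comm]
  have : ∀ k, ∑ i, phiFun i k * coordF v k * (phiFun i j * coordF v j) =
      (if k = j then 32 else 0) * (coordF v k * coordF v j) := fun k => by
    rw [← gram k j, sum_mul]
    exact sum_congr rfl fun i _ => by ring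
  rw [sum_congr rfl fun k _ => this k]
  simp only [ite_mul, zero_mul, sum_ite_eq', mem_univ, if_true]

/-- The rational trace of the norm. -/
def traceN (q : Q) : ℤ := q.a.1 + q.a.2

/-- The squares of the coordinates of one entry. -/
def sqQ (q : Q) : ℤ := (q.a.1 + q.a.2) ^ 2 + q.a.2 ^ 2 + (q.b.1 + q.b.2) ^ 2 + q.b.2 ^ 2 +
  (q.c.1 + q.c.2) ^ 2 + q.c.2 ^ 2 + (q.d.1 + q.d.2) ^ 2 + q.d.2 ^ 2

theorem trace_mul_star {q : Q} (hq : q.inI = true) : 2 * traceN (q.mul q.star) = sqQ q := by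
  have h := J2.raw_even hq (J2.inI_star hq)
  rw [J2.Q.evenB_iff] at h
  simp only [traceN, sqQ, J2.Q.mul, J2.Q.half, J2.Q.mapZ, J2.Q.raw, J2.Q.star, J2.sadd, J2.sneg, J2.smul'] at h ⊢
  obtain ⟨⟨m, hm⟩, ⟨n, hn⟩, -⟩ := h
  rw [hm, hn, Int.mul_ediv_cancel_left _ two_ne_zero, Int.mul_ediv_cancel_left _ two_ne_zero, mul_add, ← hm, ← hn]
  ring

theorem traceN_add (p q : Q) : traceN (p.add q) = traceN p + traceN q := by
  simp [traceN, J2.Q.add, J2.sadd]; ring

theorem coord_trace {v : V} (hv : v.inI = true) : ∑ j, coordF v j ^ 2 = 2 * traceN (v.ip v) := by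
  rw [J2.V.inI_iff] at hv
  simp only [V.ip, traceN_add, mul_add, trace_mul_star hv.1, trace_mul_star hv.2.1, trace_mul_star hv.2.2]
  simp only [Fin.sum_univ_succ, coordF, sqQ]
  simp
  ring

theorem inI_of_toV {v : V} {x : icoLeech} (h : toV v = (x : Fin 3 → ℍ[ℝ])) : v.inI = true := by
  have hL := (J2.inL_iff v).2 (h ▸ x.2)
  simp only [V.inL, Bool.and_eq_true] at hL
  exact hL.1.1.1

theorem psi_norm {x y : icoLeech} (h : qip (x : Fin 3 → ℍ[ℝ]) x = qip (y : Fin 3 → ℍ[ℝ]) y) :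
    sqNorm ((psi x : leechLattice) : GolayPt → ℤ) = sqNorm ((psi y : leechLattice) : GolayPt → ℤ) := by
  obtain ⟨v, -, hv, -⟩ := mem_imgGroup x
  obtain ⟨w, -, hw, -⟩ := mem_imgGroup y
  have e : v.ip v = w.ip w := J2.toH_injective (by
    rw [J2.toH_ip (inI_of_toV hv) (inI_of_toV hv), J2.toH_ip (inI_of_toV hw) (inI_of_toV hw), hv, hw, h])
  have h1 := sqNorm_num v
  have h2 := sqNorm_num w
  rw [psi_spec hv, coord_trace (inI_of_toV hv), e, ← coord_trace (inI_of_toV hw), ← h2, psi_spec hw] at h1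
  simp only [sqNorm, Pi.smul_apply, nsmul_eq_mul, mul_pow, ← mul_sum] at h1
  exact mul_left_cancel₀ (by norm_num) h1

theorem psi_injective : Function.Injective psi := by
  intro x y h
  obtain ⟨v, -, hv, -⟩ := mem_imgGroup x
  obtain ⟨w, -, hw, -⟩ := mem_imgGroup y
  have hd : num (vadd v (vneg w)) = 0 := by
    rw [num_vadd, num_vneg, psi_spec hv, psi_spec hw, h, add_neg_cancel]
  have hs := sqNorm_num (vadd v (vneg w))
  rw [hd] at hs
  have hz : ∑ j, coordF (vadd v (vneg w)) j ^ 2 = 0 := by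
    simp [sqNorm] at hs
    linarith
  have hc := (sum_eq_zero_iff_of_nonneg fun j _ => sq_nonneg _).1 hz
  simp only [mem_univ, forall_const, sq_eq_zero_iff, coordF_vadd, coordF_vneg, Pi.add_apply, Pi.neg_apply,
    add_neg_eq_zero] at hc
  refine Subtype.ext ?_
  rw [← hv, ← hw]
  have q : v = w := by
    obtain ⟨⟨⟨a1, a2⟩, ⟨b1, b2⟩, ⟨c1, c2⟩, ⟨d1, d2⟩⟩, ⟨⟨e1, e2⟩, ⟨f1, f2⟩, ⟨g1, g2⟩, ⟨h1, h2⟩⟩,
      ⟨⟨i1, i2⟩, ⟨j1, j2⟩, ⟨k1, k2⟩, ⟨l1, l2⟩⟩⟩ := v
    obtain ⟨⟨⟨a1', a2'⟩, ⟨b1', b2'⟩, ⟨c1', c2'⟩, ⟨d1', d2'⟩⟩, ⟨⟨e1', e2'⟩, ⟨f1', f2'⟩, ⟨g1', g2'⟩, ⟨h1', h2'⟩⟩,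
      ⟨⟨i1', i2'⟩, ⟨j1', j2'⟩, ⟨k1', k2'⟩, ⟨l1', l2'⟩⟩⟩ := w
    have t : ∀ j : Fin 24, _ := hc
    simp only [coordF] at t
    simp only [Fin.forall_fin_succ, Matrix.cons_val_zero, Matrix.cons_val_succ, IsEmpty.forall_iff, and_true] at t
    obtain ⟨t0, t1, t2, t3, t4, t5, t6, t7, t8, t9, t10, t11, t12, t13, t14, t15, t16, t17, t18, t19, t20, t21, t22,
      t23⟩ := t
    simp only [J2.V.mk.injEq, J2.Q.mk.injEq, Prod.mk.injEq]
    omega
  rw [q]

/-- The coded preimage of a lattice list. -/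
def preV (l : List ℤ) : V :=
  let w : ℕ → ℤ := fun j => ((List.range 24).map fun i => (phiMat.getD i []).getD j 0 * l.getD i 0).sum / 8
  let q : ℕ → Q := fun k => ⟨(w (8 * k) - w (8 * k + 1), w (8 * k + 1)), (w (8 * k + 2) - w (8 * k + 3), w (8 * k + 3)),
    (w (8 * k + 4) - w (8 * k + 5), w (8 * k + 5)), (w (8 * k + 6) - w (8 * k + 7), w (8 * k + 7))⟩
  ⟨q 0, q 1, q 2⟩

/-- The check that the preimage works. -/
def preOK (l : List ℤ) : Bool :=
  (preV l).inL &&
    (List.range 24).all (fun i => decide (dotL (phiMat.getD i []) (List.ofFn (coordF (preV l))) % 4 = 0)) &&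
    eqL (phiL (preV l)) l

theorem pre_all : genL.all preOK = true := by decide +kernel

theorem psi_surjective : Function.Surjective psi := by
  let T : AddSubgroup (GolayPt → ℤ) :=
    { carrier := {z | ∃ x : icoLeech, ((psi x : leechLattice) : GolayPt → ℤ) = z}
      zero_mem' := by
        have h0 : (0 : Fin 3 → ℍ[ℝ]) ∈ icoLeech := by
          have := J2.leech_sub (J2.twoE_mem 0) (J2.twoE_mem 0)
          rwa [sub_self] at this
        refine ⟨⟨0, h0⟩, ?_⟩
        have := psi_add (x := ⟨0, h0⟩) (y := ⟨0, h0⟩) (z := ⟨0, h0⟩) (by simp)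
        rw [left_eq_add] at this
        rw [this]; rfl
      add_mem' := by
        rintro _ _ ⟨x, rfl⟩ ⟨y, rfl⟩
        exact ⟨⟨(x : Fin 3 → ℍ[ℝ]) + y, J2.leech_add x.2 y.2⟩, by rw [psi_add (x := x) (y := y) rfl]; rfl⟩
      neg_mem' := by
        rintro _ ⟨x, rfl⟩
        have h0 : (0 : Fin 3 → ℍ[ℝ]) ∈ icoLeech := by
          have := J2.leech_sub x.2 x.2
          rwa [sub_self] at this
        have hn : -(x : Fin 3 → ℍ[ℝ]) ∈ icoLeech := by
          have := J2.leech_sub h0 x.2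
          rwa [zero_sub] at this
        refine ⟨⟨_, hn⟩, ?_⟩
        have e0 := psi_add (x := ⟨0, h0⟩) (y := ⟨0, h0⟩) (z := ⟨0, h0⟩) (by simp)
        rw [left_eq_add] at e0
        have := psi_add (x := x) (y := ⟨_, hn⟩) (z := ⟨0, h0⟩) (by simp)
        rw [e0] at this
        rw [eq_neg_of_add_eq_zero_right this.symm]; rfl }
  have hle : MatCert.span ≤ T := by
    refine (AddSubgroup.closure_le _).2 ?_
    rintro _ ⟨l, hl, rfl⟩
    have h := List.all_eq_true.1 pre_all l hl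
    simp only [preOK, Bool.and_eq_true, List.all_eq_true, List.mem_range, decide_eq_true_eq, eqL] at h
    refine ⟨⟨_, (J2.inL_iff _).1 h.1.1⟩, four_cancel ?_⟩
    rw [← psi_spec (v := preV l) rfl, num_phiL fun i hi => h.1.2 i hi, h.2]
  intro y
  obtain ⟨x, hx⟩ := hle (leech_le y.2)
  exact ⟨x, Subtype.ext hx⟩

end Cfsg.Agent.Leech.Five
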