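import Cfsg.Agent.Lib.Leech.FiveBound
import Cfsg.Agent.Lib.Leech.IcoMap
import Cfsg.Agent.Lib.J2.TypeFacts
import Cfsg.Agent.Lib.J2.Orders
import Cfsg.Agent.Lib.Qd.Basic

/-!
The centraliser of the element of order five, modulo that element and the centre, is the Hall–Janko group.
-/

set_option autoImplicit false
set_option maxRecDepth 10000

noncomputable section

namespace Cfsg.Agent.Leech.Five

open Cfsg Cfsg.Spor Cfsg.Agent.Golay MatCert Quaternion
open scoped Pointwise

/-- The bijection of lattices. -/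
def psiE : icoLeech ≃ leechLattice := Equiv.ofBijective psi ⟨psi_injective, psi_surjective⟩

theorem transport_mem {g : Equiv.Perm icoLeech} (hg : g ∈ twoJ2) : psiE.permCongr g ∈ Co0 := by
  have hA := J2.isAut_of_mem hg
  have key : ∀ x, psiE.permCongr g (psi x) = psi (g x) := fun x => by
    rw [Equiv.permCongr_apply, show psiE.symm (psi x) = x from psiE.symm_apply_apply x]; rfl
  refine ⟨fun a b => ?_, fun a => ?_⟩
  · obtain ⟨x, rfl⟩ := psi_surjective a
    obtain ⟨y, rfl⟩ := psi_surjective b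
    set z : icoLeech := ⟨(x : Fin 3 → ℍ[ℝ]) + y, J2.leech_add x.2 y.2⟩
    rw [← psi_add (x := x) (y := y) (z := z) rfl, key, key, key, psi_add (hA.map_add x y z rfl)]
  · obtain ⟨x, rfl⟩ := psi_surjective a
    rw [key]
    exact psi_norm (hA.map_qip x x)

/-- The embedding of the reflection group. -/
def theta0 : twoJ2 →* Co0 where
  toFun g := ⟨psiE.permCongr g, transport_mem g.2⟩
  map_one' := Subtype.ext (Equiv.ext fun a => by simp [Equiv.permCongr_apply])
  map_mul' g h := Subtype.ext (Equiv.ext fun a => by simp [Equiv.permCongr_apply, Equiv.Perm.mul_apply])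

theorem theta0_smul (g : twoJ2) (x : icoLeech) : theta0 g • psi x = psi ((g : Equiv.Perm icoLeech) x) := by
  show psiE.permCongr (g : Equiv.Perm icoLeech) (psi x) = _
  rw [Equiv.permCongr_apply, show psiE.symm (psi x) = x from psiE.symm_apply_apply x]; rfl

theorem theta0_injective : Function.Injective theta0 := fun g h e => Subtype.ext (Equiv.ext fun x =>
  psi_injective (by rw [← theta0_smul, ← theta0_smul, e]))

theorem theta0_comm (g : twoJ2) : theta0 g * aG = aG * theta0 g := by
  refine Subtype.ext (Equiv.ext fun a => ?_)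
  obtain ⟨x, rfl⟩ := psi_surjective a
  show theta0 g • aG • psi x = aG • theta0 g • psi x
  rw [aG_psi, theta0_smul, theta0_smul, aG_psi]
  congr 1
  exact Subtype.ext ((J2.isAut_of_mem g.2).map_smul _ zeta_mem x (zmul x) rfl)

theorem aG_ne_one : aG ≠ 1 := by
  intro h
  have e := fv_step (i := 0) (j := 1) rfl (by decide)
  rw [h, one_smul] at e
  have h2 : qv (fv 0) = 0 := by
    rw [qv, fv_step (i := 0) (j := 1) rfl (by decide), fv, fv, ip_latV]
    decide +kernel
  rw [qv, h, one_smul, fv_zero.1, ip_stdA] at h2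
  norm_num at h2

theorem orderOf_aG : orderOf aG = 5 := by
  haveI : Fact (Nat.Prime 5) := ⟨Nat.prime_five⟩
  exact orderOf_eq_prime aG_pow_five aG_ne_one

/-- The subgroup of order five. -/
abbrev AG : Subgroup Co0 := Subgroup.zpowers aG

/-- The centraliser. -/
abbrev CG : Subgroup Co0 := Subgroup.centralizer (AG : Set Co0)

theorem CG_eq : CG = Subgroup.centralizer ({aG} : Set Co0) := by
  show Subgroup.centralizer ((Subgroup.zpowers aG : Subgroup Co0) : Set Co0) = _
  rw [Subgroup.zpowers_eq_closure, Subgroup.centralizer_closure]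

theorem theta0_mem (g : twoJ2) : theta0 g ∈ CG := by
  rw [CG_eq, Subgroup.mem_centralizer_singleton_iff]
  exact theta0_comm g

theorem pow_of_range {g : twoJ2} (h : theta0 g ∈ AG) : g = 1 := by
  have hc : g ∈ Subgroup.center twoJ2 := Subgroup.mem_center_iff.2 fun k => theta0_injective (by
    rw [map_mul, map_mul]
    exact (Subgroup.mem_centralizer_iff.1 (theta0_mem k) _ h).symm)
  have h2 : g ^ 2 = 1 := by
    have h2' : Nat.card (Subgroup.center twoJ2) = 2 := J2.card_center
    exact congrArg Subtype.val (h2' ▸ pow_card_eq_one' (x := (⟨g, hc⟩ : Subgroup.center twoJ2)))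
  obtain ⟨k, hk⟩ := Subgroup.mem_zpowers_iff.1 h
  have h5 : g ^ 5 = 1 := theta0_injective (by
    rw [map_pow, ← hk, map_one, ← zpow_natCast, ← zpow_mul, mul_comm, zpow_mul, zpow_natCast, aG_pow_five,
      one_zpow])
  calc g = g ^ 5 * ((g ^ 2) ^ 2)⁻¹ := by group
    _ = 1 := by rw [h5, h2]; simp

theorem centralizer_decomp {c : Co0} (hc : c ∈ CG) : ∃ (k : ℤ) (g : twoJ2), c = aG ^ k * theta0 g := by
  haveI : Finite Co0 := Nat.finite_of_card_ne_zero (by rw [card_Co0]; norm_num)
  haveI : Finite twoJ2 := Finite.of_injective theta0 theta0_injective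
  let f : AG × twoJ2 → CG := fun x => ⟨(x.1 : Co0) * theta0 x.2, mul_mem
    (by rw [CG_eq, Subgroup.mem_centralizer_singleton_iff]
        obtain ⟨k, hk⟩ := Subgroup.mem_zpowers_iff.1 x.1.2
        rw [← hk]; exact ((Commute.refl aG).zpow_left k).eq) (theta0_mem _)⟩
  have hf : Function.Injective f := by
    rintro ⟨⟨a, ha⟩, g⟩ ⟨⟨b, hb⟩, h⟩ e
    have e' : a * theta0 g = b * theta0 h := congrArg Subtype.val e
    have : theta0 (g * h⁻¹) = a⁻¹ * b := by
      rw [map_mul, map_inv, mul_inv_eq_iff_eq_mul, mul_assoc, ← e', inv_mul_cancel_left]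
    obtain rfl : g = h := mul_inv_eq_one.1 (pow_of_range (this ▸ mul_mem (inv_mem ha) hb))
    obtain rfl : a = b := mul_right_cancel e'
    rfl
  have hcard : Nat.card CG ≤ Nat.card (AG × twoJ2) := by
    rw [Nat.card_prod, Nat.card_zpowers, orderOf_aG, J2.card_twoJ2, CG_eq]
    exact card_centralizer_le
  obtain ⟨⟨⟨a, ha⟩, g⟩, e⟩ := (hf.bijective_of_nat_card_le hcard).2 ⟨c, hc⟩
  obtain ⟨k, rfl⟩ := Subgroup.mem_zpowers_iff.1 ha
  exact ⟨k, g, (congrArg Subtype.val e).symm⟩

theorem negP_image : theta0 ⟨J2.negP, J2.negP_mem⟩ = negCo0 := by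
  refine Subtype.ext (Equiv.ext fun a => ?_)
  obtain ⟨x, rfl⟩ := psi_surjective a
  show theta0 _ • psi x = negCo0 • psi x
  rw [theta0_smul, negCo0_smul]
  have h0 : (0 : Fin 3 → ℍ[ℝ]) ∈ icoLeech := by
    have := J2.leech_sub x.2 x.2
    rwa [sub_self] at this
  have e0 := psi_add (x := ⟨0, h0⟩) (y := ⟨0, h0⟩) (z := ⟨0, h0⟩) (by simp)
  rw [left_eq_add] at e0
  have := psi_add (x := x) (y := J2.negP x) (z := ⟨0, h0⟩) (by rw [J2.negP_apply]; simp)
  rw [e0] at this
  exact eq_neg_of_add_eq_zero_right this.symm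

theorem normal_sup : ((AG ⊔ Subgroup.center Co0).subgroupOf CG).Normal := by
  have hle : AG ⊔ Subgroup.center Co0 ≤ Subgroup.centralizer (CG : Set Co0) := by
    refine sup_le (fun a ha => Subgroup.mem_centralizer_iff.2 fun c hc => ?_) fun z hz =>
      Subgroup.mem_centralizer_iff.2 fun c _ => Subgroup.mem_center_iff.1 hz c
    exact (Subgroup.mem_centralizer_iff.1 hc a ha).symm
  refine ⟨fun n hn c => ?_⟩
  have e : (c : Co0) * (n : Co0) * (c : Co0)⁻¹ = n := by
    have h : (c : Co0) * (n : Co0) = n * c := Subgroup.mem_centralizer_iff.1 (hle hn) c c.2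
    rw [h, mul_inv_cancel_right]
  show ((c * n * c⁻¹ : CG) : Co0) ∈ AG ⊔ Subgroup.center Co0
  simp only [Subgroup.coe_mul, InvMemClass.coe_inv, e]
  exact hn

instance normal_sup_inst : ((AG ⊔ Subgroup.center Co0).subgroupOf CG).Normal := normal_sup

theorem quotient_equiv : Nonempty (J2 ≃* CG ⧸ (AG ⊔ Subgroup.center Co0).subgroupOf CG) := by
  haveI := normal_sup
  let f : twoJ2 →* CG ⧸ (AG ⊔ Subgroup.center Co0).subgroupOf CG :=
    (QuotientGroup.mk' _).comp (theta0.codRestrict CG theta0_mem)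
  have hker : f.ker = Subgroup.center twoJ2 := by
    ext g
    rw [MonoidHom.mem_ker]
    show ((⟨theta0 g, theta0_mem g⟩ : CG) : CG ⧸ (AG ⊔ Subgroup.center Co0).subgroupOf CG) = 1 ↔ _
    rw [QuotientGroup.eq_one_iff, Subgroup.mem_subgroupOf]
    constructor
    · intro h
      refine Subgroup.mem_center_iff.2 fun k => theta0_injective ?_
      rw [map_mul, map_mul]
      have hle : AG ⊔ Subgroup.center Co0 ≤ Subgroup.centralizer ({theta0 k} : Set Co0) := by
        refine sup_le ?_ fun z hz => Subgroup.mem_centralizer_singleton_iff.2 (Subgroup.mem_center_iff.1 hz _).symm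
        rw [Subgroup.zpowers_le, Subgroup.mem_centralizer_singleton_iff]
        exact (theta0_comm k).symm
      exact (Subgroup.mem_centralizer_singleton_iff.1 (hle h)).symm
    · intro h
      refine Subgroup.mem_sup_right ?_
      haveI : Finite Co0 := Nat.finite_of_card_ne_zero (by rw [card_Co0]; norm_num)
      haveI : Finite twoJ2 := Finite.of_injective theta0 theta0_injective
      have h2 : ({1, ⟨J2.negP, J2.negP_mem⟩} : Set twoJ2) = (Subgroup.center twoJ2 : Set twoJ2) := by
        have hne : (1 : twoJ2) ≠ ⟨J2.negP, J2.negP_mem⟩ := fun q => by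
          have := congrArg theta0 q
          rw [map_one, negP_image] at this
          exact negCo0_ne_one this.symm
        refine Set.eq_of_subset_of_ncard_le ?_ ?_ (Set.toFinite _)
        · rintro z (rfl | rfl)
          exacts [one_mem _, J2.negP_central]
        · rw [Set.ncard_pair hne, ← Nat.card_coe_set_eq]
          exact J2.card_center.le
      rcases (h2 ▸ h : g ∈ ({1, ⟨J2.negP, J2.negP_mem⟩} : Set twoJ2)) with rfl | rfl
      · show theta0 1 ∈ Subgroup.center Co0
        rw [map_one]; exact one_mem _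
      · show theta0 ⟨J2.negP, J2.negP_mem⟩ ∈ Subgroup.center Co0
        rw [negP_image]
        exact (mem_center_iff.2 (Or.inr rfl))
  have hsurj : Function.Surjective f := by
    intro q
    obtain ⟨c, rfl⟩ := QuotientGroup.mk'_surjective _ q
    obtain ⟨k, g, hc⟩ := centralizer_decomp c.2
    refine ⟨g, ?_⟩
    show ((⟨theta0 g, theta0_mem g⟩ : CG) : CG ⧸ (AG ⊔ Subgroup.center Co0).subgroupOf CG) = (c : CG)
    rw [QuotientGroup.eq, Subgroup.mem_subgroupOf]
    refine Subgroup.mem_sup_left ?_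
    show (theta0 g)⁻¹ * (c : Co0) ∈ AG
    have hk : theta0 g * aG ^ k = aG ^ k * theta0 g := ((show Commute (theta0 g) aG from theta0_comm g).zpow_right k).eq
    rw [hc, ← hk, inv_mul_cancel_left]
    exact zpow_mem (Subgroup.mem_zpowers aG) k
  exact ⟨(QuotientGroup.quotientMulEquivOfEq hker.symm).trans (QuotientGroup.quotientKerEquivOfSurjective f hsurj)⟩

open Cfsg.Agent.J2 (tauP C100 Q100 G100) in
/-- The Hall–Janko group is of its type. -/
theorem j2_type : ∃ z : J2, orderOf z = 2 ∧ ∃ (Q : Subgroup (Subgroup.centralizer ({z} : Set J2))) (_ : Q.Normal),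
    Cfsg.generalizedFittingSubgroup (Subgroup.centralizer ({z} : Set J2)) = Q ∧ Cfsg.IsExtraspecial 2 Q ∧
    Nat.card Q = 2 ^ 5 ∧ Nonempty ((Subgroup.centralizer ({z} : Set J2)) ⧸ Q ≃*
      Cfsg.Omega (ZMod 2) (Cfsg.quadFormMinus 1 (ZMod 2) 1 1)) ∧
    ∃ g : J2, (∃ hq : g * z * g⁻¹ ∈ Subgroup.centralizer ({z} : Set J2),
      (⟨g * z * g⁻¹, hq⟩ : Subgroup.centralizer ({z} : Set J2)) ∈ Q) ∧ g * z * g⁻¹ ≠ z := by
  have htau : tauP ∈ G100 := J2.C100_le_P100 (J2.Q100_le_C100 J2.tau_valid.2.1)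
  let z : J2 := J2.j2Equiv.symm ⟨tauP, htau⟩
  let Φ : J2 →* Equiv.Perm (Fin 100) := G100.subtype.comp J2.j2Equiv.toMonoidHom
  have hΦ : Function.Injective Φ := fun a b h => J2.j2Equiv.injective (Subtype.ext h)
  have hΦz : Φ z = tauP := congrArg Subtype.val (J2.j2Equiv.apply_symm_apply ⟨tauP, htau⟩)
  have hmap : (Subgroup.centralizer ({z} : Set J2)).map Φ = C100 := by
    apply le_antisymm
    · rintro _ ⟨y, hy, rfl⟩
      refine J2.centralizer_eq _ (J2.j2Equiv y).2 ?_
      show Φ y * tauP = tauP * Φ y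
      rw [← hΦz, ← map_mul, Subgroup.mem_centralizer_singleton_iff.1 hy, map_mul]
    · intro w hw
      refine ⟨J2.j2Equiv.symm ⟨w, J2.C100_le_P100 hw⟩, ?_, congrArg Subtype.val (J2.j2Equiv.apply_symm_apply _)⟩
      refine Subgroup.mem_centralizer_singleton_iff.2 (hΦ ?_)
      rw [map_mul, map_mul, hΦz, show Φ (J2.j2Equiv.symm ⟨w, J2.C100_le_P100 hw⟩) = w from
        congrArg Subtype.val (J2.j2Equiv.apply_symm_apply _)]
      exact J2.C100_comm hw
  let e : ↥(Subgroup.centralizer ({z} : Set J2)) ≃* C100 :=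
    ((Subgroup.centralizer ({z} : Set J2)).equivMapOfInjective Φ hΦ).trans (MulEquiv.subgroupCongr hmap)
  have he : ∀ y, ((e y : C100) : Equiv.Perm (Fin 100)) = Φ y := fun _ => rfl
  have hn : (Q100.subgroupOf C100).Normal := ⟨fun a ha g => J2.Q100_conj g.2 ha⟩
  let eQ : ↥((Q100.subgroupOf C100).comap e.toMonoidHom) ≃* Q100 :=
    (e.subgroupMap _).trans ((MulEquiv.subgroupCongr
      (show ((Q100.subgroupOf C100).comap e.toMonoidHom).map
          (e : ↥(Subgroup.centralizer ({z} : Set J2)) →* C100) = Q100.subgroupOf C100 from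
        Subgroup.map_comap_eq_self_of_surjective e.surjective _)).trans
      (Subgroup.subgroupOfEquivOfLe J2.Q100_le_C100))
  refine ⟨z, ?_, (Q100.subgroupOf C100).comap e.toMonoidHom, hn.comap _, ?_, Qd.isExtraspecial_congr eQ J2.isExtraspecial_Q100,
    (Nat.card_congr eQ.toEquiv).trans J2.card_Q100, ?_, ?_⟩
  · haveI : Fact (Nat.Prime 2) := ⟨Nat.prime_two⟩
    rw [← orderOf_injective Φ hΦ, hΦz]
    refine orderOf_eq_prime ?_ fun h => J2.tau_moves ?_
    · obtain ⟨-, hq, -⟩ := J2.tau_valid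
      rcases (J2.Q_elem hq).1 with h | h
      · rw [sq]; exact h
      · have : tauP = 1 := mul_left_cancel (a := tauP) (by rw [mul_one]; exact h)
        rw [this, one_pow]
    · constructor
      · rw [show (0 : ℕ) = ((0 : Fin 100) : ℕ) from rfl, (J2.tau_rep 0).1, h]; rfl
      · rw [show (5 : ℕ) = ((5 : Fin 100) : ℕ) from rfl, (J2.tau_rep 5).1, h]; rfl
  · have h := Components.generalizedFitting_map_equiv e
    rw [J2.fstar_C100] at h
    rw [← h, Subgroup.comap_map_eq_self_of_injective (f := e.toMonoidHom) e.injective]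
  · haveI := hn.comap e.toMonoidHom
    have hker : (J2.fiveHom.comp e.toMonoidHom).ker = (Q100.subgroupOf C100).comap e.toMonoidHom := by
      rw [← MonoidHom.comap_ker, J2.fiveHom_ker]
    have hran : (J2.fiveHom.comp e.toMonoidHom).range = alternatingGroup (Fin 5) := by
      rw [MonoidHom.range_comp, MonoidHom.range_eq_top.2 e.surjective, ← MonoidHom.range_eq_map, J2.fiveHom_range]
    obtain ⟨eA⟩ := HJ.omega_alt
    exact ⟨(((QuotientGroup.quotientMulEquivOfEq hker.symm).trans
      (QuotientGroup.quotientKerEquivRange _)).trans (MulEquiv.subgroupCongr hran)).trans eA.symm⟩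
  · obtain ⟨g, hg, hgQ, hgne⟩ := J2.exists_second
    let y : J2 := J2.j2Equiv.symm ⟨g, hg⟩
    have hy : Φ y = g := congrArg Subtype.val (J2.j2Equiv.apply_symm_apply _)
    have hc : y * z * y⁻¹ ∈ Subgroup.centralizer ({z} : Set J2) := by
      refine Subgroup.mem_centralizer_singleton_iff.2 (hΦ ?_)
      simp only [map_mul, map_inv, hy, hΦz]
      exact J2.C100_comm (J2.Q100_le_C100 hgQ)
    refine ⟨y, ⟨hc, ?_⟩, fun h => hgne ?_⟩
    · show ((e ⟨_, hc⟩ : C100) : Equiv.Perm (Fin 100)) ∈ Q100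
      rw [he, show Φ (y * z * y⁻¹) = g * tauP * g⁻¹ by simp only [map_mul, map_inv, hy, hΦz]]
      exact hgQ
    · have := congrArg Φ h
      rwa [map_mul, map_mul, map_inv, hy, hΦz] at this

end Cfsg.Agent.Leech.Five
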