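import Cfsg.Agent.Lib.Leech.Classes
import Cfsg.Agent.Lib.Golay.Dual
import Cfsg.Agent.S0375

/-!
A lattice with the parameters of the Leech lattice and a frame of 24 mutually orthogonal congruent
vectors of norm 8 is carried onto the Leech lattice with the frame going to signed coordinate
vectors.
-/

namespace Cfsg.Agent.Leech

set_option maxRecDepth 10000

open Cfsg Cfsg.Agent.Golay Finset
open Cfsg.Agent.LatticeMod2 (Rootless Cong)

variable {L : Type*} [AddCommGroup L]

/-- Coordinates with respect to a frame. -/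
structure IsFrame (B : L → L → ℤ) (f : Fin 24 → L) : Prop where
  inner : ∀ i j, B (f i) (f j) = if i = j then 8 else 0
  cong : ∀ i j, Cong (f i) (f j)

section

variable {B : L → L → ℤ} (h : Rootless B) {f : Fin 24 → L} (hf : IsFrame B f)

/-- The coordinate map. -/
def coord (f : Fin 24 → L) (x : L) : Fin 24 → ℤ := fun i => B x (f i)

include h

theorem coord_add (x y : L) : coord (B := B) f (x + y) = coord (B := B) f x + coord (B := B) f y :=
  funext fun _ => h.add x y _

/-- The coordinate map as a homomorphism. -/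
def coordHom (f : Fin 24 → L) : L →+ (Fin 24 → ℤ) :=
  AddMonoidHom.mk' (coord (B := B) f) (coord_add h)

omit h in
theorem coordHom_apply {h : Rootless B} (x : L) (i : Fin 24) : coordHom h f x i = B x (f i) := rfl

theorem sum_left {ι : Type*} (s : Finset ι) (g : ι → L) (y : L) :
    B (∑ i ∈ s, g i) y = ∑ i ∈ s, B (g i) y :=
  map_sum (AddMonoidHom.mk' (fun x => B x y) fun a b => h.add a b y) g s

theorem zsmul_left (n : ℤ) (x y : L) : B (n • x) y = n * B x y := by
  have := map_zsmul (AddMonoidHom.mk' (fun x => B x y) fun a b => h.add a b y) n x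
  simpa using this

include hf

theorem frame_injective : Function.Injective f := fun i j e => by
  by_contra hne
  have := hf.inner i j
  rw [if_neg hne, ← e, hf.inner, if_pos rfl] at this
  norm_num at this

theorem coord_eq_zero {x : L} (hx : ∀ i, B x (f i) = 0) : x = 0 := by
  classical
  by_contra h0
  have hnot : x ∉ univ.image f := by
    simp only [mem_image, mem_univ, true_and, not_exists]
    intro i e
    have := hx i
    rw [← e, hf.inner, if_pos rfl] at this
    norm_num at this
  have := h.orth (insert x (univ.image f)) (by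
      intro y hy
      rcases mem_insert.1 hy with rfl | hy
      · exact h0
      · obtain ⟨i, -, rfl⟩ := mem_image.1 hy
        intro e
        have := hf.inner i i
        rw [e, LatticeMod2.map_zero_left h, if_pos rfl] at this
        norm_num at this)
    (by
      intro y hy z hz hyz
      rcases mem_insert.1 hy with e | hy <;> rcases mem_insert.1 hz with e' | hz
      · exact absurd (e.trans e'.symm) hyz
      · obtain ⟨i, -, rfl⟩ := mem_image.1 hz; rw [e]; exact hx i
      · obtain ⟨i, -, rfl⟩ := mem_image.1 hy; rw [h.symm, e']; exact hx i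
      · obtain ⟨i, -, rfl⟩ := mem_image.1 hy
        obtain ⟨j, -, rfl⟩ := mem_image.1 hz
        rw [hf.inner, if_neg fun e => hyz (congrArg f e)])
  rw [card_insert_of_notMem hnot, card_image_of_injective _ (frame_injective h hf)] at this
  simp at this

theorem coordHom_injective : Function.Injective (coordHom h f) := by
  rw [injective_iff_map_eq_zero]
  exact fun x hx => coord_eq_zero h hf fun i => congrFun hx i

theorem eight_smul (x : L) : (8 : ℤ) • x = ∑ i, B x (f i) • f i := by
  rw [← sub_eq_zero]
  refine coord_eq_zero h hf fun j => ?_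
  rw [LatticeMod2.sub_left h, zsmul_left h, sum_left h, sum_eq_single j]
  · rw [zsmul_left h, hf.inner, if_pos rfl]; ring
  · intro i _ hij; rw [zsmul_left h, hf.inner, if_neg hij, mul_zero]
  · simp

theorem eight_inner (x y : L) : 8 * B x y = ∑ i, B x (f i) * B y (f i) := by
  rw [← zsmul_left h, eight_smul h hf x, sum_left h]
  exact sum_congr rfl fun i _ => by rw [zsmul_left h, h.symm (f i) y]

theorem exists_diff (i j : Fin 24) :
    ∃ z : L, ∀ k, B z (f k) = (if k = i then 4 else 0) - if k = j then 4 else 0 := by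
  obtain ⟨z, hz⟩ := hf.cong i j
  refine ⟨z, fun k => ?_⟩
  have e : B (f i - f j) (f k) = 2 * B z (f k) := by
    rw [hz, two_nsmul, h.add]; ring
  rw [LatticeMod2.sub_left h, hf.inner, hf.inner] at e
  simp only [eq_comm (a := i), eq_comm (a := j)] at e
  split_ifs at e ⊢ <;> omega

/-- Moving all of a multiple of four onto one coordinate. -/
theorem exists_gather (i₀ : Fin 24) (a : Fin 24 → ℤ) :
    ∃ w : L, ∀ k, B w (f k) = 4 * a k - if k = i₀ then 4 * ∑ i, a i else 0 := by
  choose z hz using fun i => exists_diff h hf i i₀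
  refine ⟨∑ i, a i • z i, fun k => ?_⟩
  rw [sum_left h]
  simp only [zsmul_left h, hz, mul_sub, mul_ite, mul_zero, sum_sub_distrib]
  rw [sum_ite_eq univ k (fun i => a i * 4), if_pos (mem_univ k)]
  split_ifs with e
  · rw [← sum_mul]; ring
  · simp only [sum_const_zero]; ring

theorem eight_dvd_sum₂ {x : L} (hx : ∀ i, (4 : ℤ) ∣ B x (f i)) : (8 : ℤ) ∣ ∑ i, B x (f i) := by
  choose a ha using hx
  have hsum : ∑ i, B x (f i) = 4 * ∑ i, a i := by
    rw [mul_sum]; exact sum_congr rfl fun i _ => ha i
  rw [hsum]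
  by_contra hodd
  obtain ⟨k, hk⟩ : ∃ k, ∑ i, a i = 2 * k + 1 := ⟨(∑ i, a i) / 2, by omega⟩
  obtain ⟨w, hw⟩ := exists_gather h hf 0 a
  set u : L := x - w - k • f 0 with hu
  have hco : ∀ i, B u (f i) = if i = 0 then 4 else 0 := by
    intro i
    rw [hu, LatticeMod2.sub_left h, LatticeMod2.sub_left h, zsmul_left h, hw, ha, hf.inner]
    simp only [eq_comm (a := (0 : Fin 24))]
    split_ifs <;> (try simp only [hk]) <;> ring
  have hn := eight_inner h hf u u
  simp only [hco, ite_mul, zero_mul, sum_ite_eq', mem_univ, if_true] at hn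
  rcases eq_or_ne u 0 with e | e
  · rw [e, LatticeMod2.map_zero_left h] at hn; norm_num at hn
  · have := h.pos u e; omega

/-! ### The binary code of a frame -/

omit hf in
/-- The vectors with even coordinates. -/
def evenPart₂ (f : Fin 24 → L) : AddSubgroup L where
  carrier := {x | ∀ i, (2 : ℤ) ∣ B x (f i)}
  add_mem' := fun {x y} hx hy i => by rw [h.add]; exact dvd_add (hx i) (hy i)
  zero_mem' := fun i => by rw [LatticeMod2.map_zero_left h]; exact dvd_zero _
  neg_mem' := fun {x} hx i => by rw [LatticeMod2.neg_left h]; exact (dvd_neg).2 (hx i)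

omit hf in
/-- The residue word of a vector with even coordinates. -/
def res (f : Fin 24 → L) : evenPart₂ h f →+ (Fin 24 → ZMod 2) :=
  AddMonoidHom.mk' (fun x i => ((B (x : L) (f i) / 2 : ℤ) : ZMod 2)) fun x y => by
    funext i
    simp only [AddSubgroup.coe_add, h.add, Pi.add_apply]
    rw [Int.add_ediv_of_dvd_left (x.2 i), Int.cast_add]

omit hf in
theorem res_spec (x : evenPart₂ h f) (i : Fin 24) :
    ∃ y : ℤ, B (x : L) (f i) = 2 * y ∧ res h f x i = (y : ZMod 2) := by
  obtain ⟨y, hy⟩ := x.2 i
  refine ⟨y, hy, ?_⟩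
  show ((B (x : L) (f i) / 2 : ℤ) : ZMod 2) = _
  rw [hy, Int.mul_ediv_cancel_left _ (by norm_num)]

omit hf in
/-- The binary code of a frame. -/
def frameCode (f : Fin 24 → L) : Submodule (ZMod 2) (Fin 24 → ZMod 2) :=
  AddSubgroup.toZModSubmodule 2 (res h f).range

omit hf in
theorem mem_frameCode {w : Fin 24 → ZMod 2} :
    w ∈ frameCode h f ↔ ∃ x : evenPart₂ h f, res h f x = w := Iff.rfl

theorem frameCode_orth : ∀ v ∈ frameCode h f, ∀ w ∈ frameCode h f, ∑ i, v i * w i = 0 := by
  rintro v hv w hw
  obtain ⟨x, rfl⟩ := (mem_frameCode h).1 hv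
  obtain ⟨y, rfl⟩ := (mem_frameCode h).1 hw
  choose a ha ha' using res_spec h x
  choose b hb hb' using res_spec h y
  have := eight_inner h hf (x : L) y
  simp only [ha, hb] at this
  have e : ∑ i, a i * b i = 2 * B (x : L) y := by
    have : 4 * ∑ i, a i * b i = 8 * B (x : L) y := by
      rw [this, mul_sum]; exact sum_congr rfl fun i _ => by ring
    omega
  simp only [ha', hb', ← Int.cast_mul, ← Int.cast_sum, e]
  rw [Int.cast_mul]
  exact mul_eq_zero_of_left (by decide) _

omit h hf in
theorem sq_emod_four (y : ℤ) :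
    (4 : ℤ) ∣ y ^ 2 - if (y : ZMod 2) = 0 then 0 else 1 := by
  rcases Int.even_or_odd y with ⟨k, rfl⟩ | ⟨k, rfl⟩
  · rw [if_pos ((ZMod.intCast_zmod_eq_zero_iff_dvd _ 2).2 ⟨k, by ring⟩)]
    exact ⟨k ^ 2, by ring⟩
  · rw [if_neg (fun e => by
      have := (ZMod.intCast_zmod_eq_zero_iff_dvd _ 2).1 e; omega)]
    exact ⟨k ^ 2 + k, by ring⟩

omit hf in
theorem cast_norm (x : evenPart₂ h f) :
    ((hammingNorm (res h f x) : ℕ) : ℤ) = ∑ i, if res h f x i = 0 then (0 : ℤ) else 1 := by
  rw [hammingNorm, card_filter, Nat.cast_sum]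
  exact sum_congr rfl fun i _ => by split_ifs <;> simp_all

theorem frameCode_doubly_even : ∀ w ∈ frameCode h f, 4 ∣ hammingNorm w := by
  rintro w hw
  obtain ⟨x, rfl⟩ := (mem_frameCode h).1 hw
  choose a ha ha' using res_spec h x
  have hn := eight_inner h hf (x : L) x
  simp only [ha] at hn
  obtain ⟨k, hk⟩ := h.even (x : L)
  have e : ∑ i, a i ^ 2 = 4 * k := by
    have : 4 * ∑ i, a i ^ 2 = 8 * B (x : L) x := by
      rw [hn, mul_sum]; exact sum_congr rfl fun i _ => by ring
    omega
  have hd : (4 : ℤ) ∣ ∑ i, (a i ^ 2 - if (a i : ZMod 2) = 0 then 0 else 1) :=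
    dvd_sum fun i _ => sq_emod_four (a i)
  rw [sum_sub_distrib, e] at hd
  have hc := cast_norm h x
  simp only [ha'] at hc
  rw [← hc] at hd
  have : ((4 : ℕ) : ℤ) ∣ ((hammingNorm (res h f x) : ℕ) : ℤ) := by omega
  exact_mod_cast this

theorem frameCode_min : ∀ w ∈ frameCode h f, hammingNorm w ≠ 4 := by
  rintro w hw h4
  obtain ⟨x, rfl⟩ := (mem_frameCode h).1 hw
  choose y hy hy' using res_spec h x
  obtain ⟨i₀, hi₀⟩ : ∃ i, res h f x i ≠ 0 := by
    by_contra hall
    push Not at hall
    rw [hammingNorm_eq_zero.2 (funext hall)] at h4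
    norm_num at h4
  let bit : Fin 24 → ℤ := fun i => if res h f x i = 0 then 0 else 1
  have hbit : ∀ i, (2 : ℤ) ∣ y i - bit i := by
    intro i
    simp only [bit, hy' i]
    split_ifs with e
    · simpa using (ZMod.intCast_zmod_eq_zero_iff_dvd _ 2).1 e
    · by_contra hd
      exact e ((ZMod.intCast_zmod_eq_zero_iff_dvd _ 2).2 (by push_cast; omega))
  choose a ha using hbit
  obtain ⟨v, hv⟩ := exists_gather h hf i₀ a
  -- now all coordinates are twice the bit, except the one at `i₀`
  set T := ∑ i, a i
  obtain ⟨k, hk⟩ : ∃ k, T = 2 * k ∨ T = 2 * k - 1 := ⟨(T + 1) / 2, by omega⟩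
  set u : L := (x : L) - v - k • f i₀ with hu
  have hco : ∀ i, B u (f i) ^ 2 = 4 * bit i := by
    intro i
    rw [hu, LatticeMod2.sub_left h, LatticeMod2.sub_left h, zsmul_left h, hv, hy, hf.inner,
      show y i = bit i + 2 * a i by have := ha i; omega]
    rcases eq_or_ne i i₀ with rfl | e
    · simp only [if_pos, bit, if_neg hi₀]
      rcases hk with hk | hk <;> rw [hk] <;> ring
    · rw [if_neg e, if_neg (Ne.symm e)]
      simp only [bit]
      split_ifs <;> ring
  have hn := eight_inner h hf u u
  have hc := cast_norm h x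
  rw [h4] at hc
  simp only [← sq, hco, ← mul_sum, bit, ← hc] at hn
  rcases eq_or_ne u 0 with e | e
  · rw [e, LatticeMod2.map_zero_left h] at hn; norm_num at hn
  · have := h.pos u e; omega

end

/-! ### Counting the vectors of norm 4 -/

theorem card_weight_eight_le {C : Submodule (ZMod 2) (Fin 24 → ZMod 2)}
    (h : ∀ w ∈ C, w ≠ 0 → 8 ≤ hammingNorm w) (W : Finset (Fin 24 → ZMod 2))
    (hW : ∀ w ∈ W, w ∈ C ∧ hammingNorm w = 8) : W.card ≤ 759 := by
  classical
  let sp : (Fin 24 → ZMod 2) → Finset (Fin 24) := fun w => univ.filter fun i => w i ≠ 0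
  have hdisj : ∀ v ∈ W, ∀ w ∈ W, v ≠ w →
      Disjoint ((sp v).powersetCard 5) ((sp w).powersetCard 5) := by
    intro v hv w hw hvw
    rw [disjoint_left]
    intro s hs hs'
    rw [mem_powersetCard] at hs hs'
    have hne : v + w ≠ 0 := fun e => hvw (funext fun i => by
      have := congrFun e i
      simp only [Pi.add_apply, Pi.zero_apply] at this
      revert this; generalize v i = a; generalize w i = b; revert a b; decide)
    have h8 := h _ (C.add_mem (hW v hv).1 (hW w hw).1) hne
    have hsub : (univ.filter fun i => (v + w) i ≠ 0) ⊆ (sp v \ s) ∪ (sp w \ s) := by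
      intro i hi
      simp only [mem_filter, mem_univ, true_and, Pi.add_apply] at hi
      simp only [mem_union, mem_sdiff]
      by_cases hs0 : i ∈ s
      · exfalso
        have a1 := (mem_filter.1 (hs.1 hs0)).2
        have a2 := (mem_filter.1 (hs'.1 hs0)).2
        revert a1 a2 hi; generalize v i = a; generalize w i = b; revert a b; decide
      · simp only [hs0, not_false_iff, and_true, sp, mem_filter, mem_univ, true_and]
        revert hi; generalize v i = a; generalize w i = b; revert a b; decide
    have hle := (card_le_card hsub).trans (card_union_le _ _)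
    rw [card_sdiff_of_subset hs.1, card_sdiff_of_subset hs'.1, hs.2,
      show (sp v).card = 8 from (hW v hv).2, show (sp w).card = 8 from (hW w hw).2] at hle
    change hammingNorm (v + w) ≤ _ at hle
    omega
  have hc : (W.biUnion fun w => (sp w).powersetCard 5).card ≤ ((univ : Finset (Fin 24)).powersetCard 5).card :=
    card_le_card (biUnion_subset.2 fun w _ => powersetCard_mono (subset_univ _))
  rw [card_biUnion hdisj, sum_congr rfl (fun w hw => show ((sp w).powersetCard 5).card = 56 by
    rw [card_powersetCard, show (sp w).card = 8 from (hW w hw).2]; decide),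
    sum_const, smul_eq_mul, card_powersetCard, card_univ, Fintype.card_fin,
    show Nat.choose 24 5 = 42504 by decide] at hc
  omega

theorem pair_of_sum_sq {a : Fin 24 → ℤ} (h : ∑ i, a i ^ 2 = 2) :
    ∃ i j, i < j ∧ (a i = 1 ∨ a i = -1) ∧ (a j = 1 ∨ a j = -1) ∧ ∀ k, k ≠ i → k ≠ j → a k = 0 := by
  classical
  have hb : ∀ i, a i = 0 ∨ a i = 1 ∨ a i = -1 := fun i => by
    have hle : a i ^ 2 ≤ 2 := h ▸ single_le_sum (f := fun i => a i ^ 2) (fun j _ => sq_nonneg _) (mem_univ i)
    have : -1 ≤ a i ∧ a i ≤ 1 := by constructor <;> nlinarith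
    omega
  set S := univ.filter fun i => a i ≠ 0 with hS
  have hcard : S.card = 2 := by
    have : ((S.card : ℕ) : ℤ) = 2 := by
      rw [← h, hS, card_filter, Nat.cast_sum]
      exact sum_congr rfl fun i _ => by rcases hb i with e | e | e <;> simp [e]
    exact_mod_cast this
  obtain ⟨i, j, hij, e⟩ := card_eq_two.1 hcard
  have hm : ∀ k, a k ≠ 0 ↔ k = i ∨ k = j := fun k => by
    have := congrArg (k ∈ ·) e
    simpa [hS] using this
  rcases lt_or_gt_of_ne hij with hlt | hlt
  · exact ⟨i, j, hlt, (hb i).resolve_left ((hm i).2 (Or.inl rfl)),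
      (hb j).resolve_left ((hm j).2 (Or.inr rfl)), fun k h1 h2 => by_contra fun h3 => by
        rcases (hm k).1 h3 with e | e <;> contradiction⟩
  · exact ⟨j, i, hlt, (hb j).resolve_left ((hm j).2 (Or.inr rfl)),
      (hb i).resolve_left ((hm i).2 (Or.inl rfl)), fun k h1 h2 => by_contra fun h3 => by
        rcases (hm k).1 h3 with e | e <;> contradiction⟩

/-- `± 4 e_i ± 4 e_j`. -/
def pairVec (q : (Fin 24 × Fin 24) × (ℤ × ℤ)) : Fin 24 → ℤ := fun k =>
  if k = q.1.1 then 4 * q.2.1 else if k = q.1.2 then 4 * q.2.2 else 0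

/-- The indices for `pairVec`. -/
def pairIdx : Finset ((Fin 24 × Fin 24) × (ℤ × ℤ)) :=
  (univ.filter fun p : Fin 24 × Fin 24 => p.1 < p.2) ×ˢ
    (({1, -1} : Finset ℤ) ×ˢ ({1, -1} : Finset ℤ))

theorem card_pairIdx : pairIdx.card = 1104 := by
  rw [pairIdx, card_product, card_product, card_pair (by norm_num : (1 : ℤ) ≠ -1),
    show (univ.filter fun p : Fin 24 × Fin 24 => p.1 < p.2).card = 276 by decide +kernel]

theorem mem_pairVec {a : Fin 24 → ℤ} (h : ∑ i, a i ^ 2 = 2) :
    (fun k => 4 * a k) ∈ pairIdx.image pairVec := by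
  obtain ⟨i, j, hij, hi, hj, hz⟩ := pair_of_sum_sq h
  refine mem_image.2 ⟨((i, j), a i, a j), ?_, funext fun k => ?_⟩
  · simp [pairIdx, hij, hi, hj]
  · simp only [pairVec]
    split_ifs with e1 e2
    · rw [e1]
    · rw [e2]
    · rw [hz k e1 e2, mul_zero]

variable {B : L → L → ℤ} (h : Rootless B) {f : Fin 24 → L} (hf : IsFrame B f)
include h hf

theorem coord_ext {x y : L} (e : ∀ i, B x (f i) = B y (f i)) : x = y :=
  coordHom_injective h hf (funext e)

theorem parity_eq (x : L) (i j : Fin 24) : (2 : ℤ) ∣ B x (f i) - B x (f j) := by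
  obtain ⟨z, hz⟩ := exists_diff h hf i j
  have := eight_inner h hf x z
  simp only [hz, mul_sub, sum_sub_distrib, mul_ite, mul_zero, sum_ite_eq', mem_univ, if_true] at this
  omega

open Classical in
theorem four_count_le (S : Finset L) (hS : ∀ x ∈ S, B x x = 4) (k : ℕ)
    (hk : Nat.card (frameCode h f) ≤ k) :
    S.card ≤ 1104 + 128 * 759 + (if ∃ x : L, ∃ i, ¬ (2 : ℤ) ∣ B x (f i) then 24 * k else 0) := by
  classical
  let Se := S.filter fun x => x ∈ evenPart₂ h f
  let So := S.filter fun x => x ∉ evenPart₂ h f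
  let r : L → Fin 24 → ZMod 2 := fun x i => ((B x (f i) / 2 : ℤ) : ZMod 2)
  let S0 := Se.filter fun x => r x = 0
  let S8 := Se.filter fun x => r x ≠ 0
  have hsplit : S.card = S0.card + S8.card + So.card := by
    rw [card_filter_add_card_filter_not, card_filter_add_card_filter_not]
  have hsq : ∀ x ∈ S, ∑ i, B x (f i) ^ 2 = 32 := fun x hx => by
    have := eight_inner h hf x x
    rw [hS x hx] at this
    simpa [sq] using this.symm
  -- zero residue
  have h0 : S0.card ≤ 1104 := by
    refine le_trans (card_le_card_of_injOn (t := pairIdx.image pairVec) (coord (B := B) f) ?_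
      (fun x _ y _ e => coord_ext h hf (congrFun e))) (card_image_le.trans card_pairIdx.le)
    intro x hx
    simp only [S0, Se, mem_coe, mem_filter] at hx
    have hxS := hx.1.1
    have hev := hx.1.2
    have hr := hx.2
    have h4 : ∀ i, (4 : ℤ) ∣ B x (f i) := fun i => by
      have h2 := (ZMod.intCast_zmod_eq_zero_iff_dvd _ 2).1 (congrFun hr i)
      have := hev i
      omega
    choose a ha using h4
    have hs := hsq x hxS
    simp only [ha, mul_pow, ← mul_sum] at hs
    have h5 : ∑ i, a i ^ 2 = 2 := by linarith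
    rw [mem_coe, show coord f x = fun k => 4 * a k from funext ha]
    exact mem_pairVec h5
  -- residue of weight eight
  have h8 : S8.card ≤ 128 * 759 := by
    have hW : ∀ x ∈ S8, r x ∈ frameCode h f ∧ hammingNorm (r x) = 8 ∧
        ∀ i, (r x i ≠ 0 → B x (f i) = 2 ∨ B x (f i) = -2) ∧ (r x i = 0 → B x (f i) = 0) := by
      intro x hx
      simp only [S8, Se, mem_filter] at hx
      obtain ⟨⟨hxS, hev⟩, hr⟩ := hx
      have hm : r x ∈ frameCode h f := (mem_frameCode h).2 ⟨⟨x, hev⟩, rfl⟩
      have hw : 8 ≤ hammingNorm (r x) := by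
        obtain ⟨q, hq⟩ := frameCode_doubly_even h hf _ hm
        have := frameCode_min h hf _ hm
        have : 0 < hammingNorm (r x) := hammingNorm_pos_iff.2 hr
        omega
      have hterm : ∀ i, (if r x i = 0 then (0 : ℤ) else 4) ≤ B x (f i) ^ 2 := fun i => by
        split_ifs with e
        · exact sq_nonneg _
        · obtain ⟨y, hy⟩ := hev i
          have : y ≠ 0 := fun e0 => e (by simp [r, hy, e0])
          have : 1 ≤ y ^ 2 := by rcases lt_or_gt_of_ne this with q | q <;> nlinarith
          rw [hy]; nlinarith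
      have hsum : ∑ i, (if r x i = 0 then (0 : ℤ) else 4) = 4 * (hammingNorm (r x) : ℤ) := by
        rw [hammingNorm, card_filter, Nat.cast_sum, mul_sum]
        exact sum_congr rfl fun i _ => by split_ifs <;> simp_all
      have hle := sum_le_sum (s := univ) fun i _ => hterm i
      rw [hsum, hsq x hxS] at hle
      have heq := (sum_eq_sum_iff_of_le (s := univ) fun i _ => hterm i).1
        (by rw [hsum, hsq x hxS]; omega)
      refine ⟨hm, by omega, fun i => ⟨fun e => ?_, fun e => ?_⟩⟩
      · have := heq i (mem_univ i)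
        rw [if_neg e] at this
        have : (B x (f i) - 2) * (B x (f i) + 2) = 0 := by linarith
        rcases mul_eq_zero.1 this with q | q <;> omega
      · have := heq i (mem_univ i)
        rw [if_pos e] at this
        exact pow_eq_zero_iff two_ne_zero |>.1 this.symm
    refine (card_le_mul_card_image (f := r) S8 128 ?_).trans ?_
    · intro w hw
      obtain ⟨x0, hx0, rfl⟩ := mem_image.1 hw
      obtain ⟨b, hb⟩ : ∃ b, r x0 b ≠ 0 := Function.ne_iff.1 (mem_filter.1 hx0).2
      let T := (univ.filter fun i => r x0 i ≠ 0).erase b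
      have hT : T.powerset.card = 128 := by
        rw [card_powerset, card_erase_of_mem (by simp [hb]),
          show (univ.filter fun i => r x0 i ≠ 0).card = 8 from (hW x0 hx0).2.1]
        norm_num
      rw [← hT]
      refine card_le_card_of_injOn (fun x => T.filter fun i => B x (f i) = -2)
        (fun x _ => mem_powerset.2 (filter_subset _ _)) ?_
      intro x hx y hy e
      obtain ⟨hx, hxr⟩ := mem_filter.1 hx
      obtain ⟨hy, hyr⟩ := mem_filter.1 hy
      have hne : ∀ i, i ≠ b → B x (f i) = B y (f i) := by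
        intro i hi
        by_cases hr0 : r x0 i = 0
        · rw [((hW x hx).2.2 i).2 (by rw [hxr]; exact hr0), ((hW y hy).2.2 i).2 (by rw [hyr]; exact hr0)]
        · have hiT : i ∈ T := by simp [T, hi, hr0]
          have a1 := ((hW x hx).2.2 i).1 (by rw [hxr]; exact hr0)
          have a2 := ((hW y hy).2.2 i).1 (by rw [hyr]; exact hr0)
          have := congrArg (i ∈ ·) e
          simp only [mem_filter, hiT, true_and, eq_iff_iff] at this
          omega
      refine coord_ext h hf fun i => ?_
      by_cases hi : i = b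
      · subst hi
        have a1 := ((hW x hx).2.2 i).1 (by rw [hxr]; exact hb)
        have a2 := ((hW y hy).2.2 i).1 (by rw [hyr]; exact hb)
        by_contra hd
        have hdv : ∀ j, (4 : ℤ) ∣ B (x - y) (f j) := fun j => by
          rw [LatticeMod2.sub_left h]
          by_cases hj : j = i
          · subst hj; omega
          · rw [hne j hj]; simp
        have := eight_dvd_sum₂ h hf hdv
        rw [sum_eq_single i (fun j _ hj => by rw [LatticeMod2.sub_left h, hne j hj, sub_self]) (by simp),
          LatticeMod2.sub_left h] at this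
        omega
      · exact hne i hi
    · refine Nat.mul_le_mul_left 128 (card_weight_eight_le (C := frameCode h f) (fun w hw h0 => ?_) _ ?_)
      · obtain ⟨q, hq⟩ := frameCode_doubly_even h hf _ hw
        have := frameCode_min h hf _ hw
        have : 0 < hammingNorm w := hammingNorm_pos_iff.2 h0
        omega
      · intro w hw
        obtain ⟨x, hx, rfl⟩ := mem_image.1 hw
        exact ⟨(hW x hx).1, (hW x hx).2.1⟩
  -- odd vectors
  have hodd : So.card ≤ if ∃ x : L, ∃ i, ¬ (2 : ℤ) ∣ B x (f i) then 24 * k else 0 := by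
    split_ifs with hex
    · rcases So.eq_empty_or_nonempty with e | ⟨x0, hx0⟩
      · simp [e]
      have hall : ∀ x ∈ So, ∀ i, ¬ (2 : ℤ) ∣ B x (f i) := by
        intro x hx i hd
        simp only [So, mem_filter] at hx
        exact hx.2 fun j => by have := parity_eq h hf x i j; omega
      have hpos : ∀ x ∈ So, ∃ p, ∀ i, B x (f i) ^ 2 = if i = p then 9 else 1 := by
        intro x hx
        have hb : ∀ i, B x (f i) ^ 2 = 1 ∨ 9 ≤ B x (f i) ^ 2 := fun i => by
          have := hall x hx i
          rcases (show B x (f i) = 1 ∨ B x (f i) = -1 ∨ B x (f i) ≤ -3 ∨ 3 ≤ B x (f i) by omega) with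
            q | q | q | q
          · left; rw [q]; norm_num
          · left; rw [q]; norm_num
          · right; nlinarith
          · right; nlinarith
        have hs := hsq x (mem_filter.1 hx).1
        by_cases hp : ∃ p, B x (f p) ^ 2 ≠ 1
        · obtain ⟨p, hp⟩ := hp
          refine ⟨p, fun i => ?_⟩
          have hterm : ∀ i, (if i = p then (9 : ℤ) else 1) ≤ B x (f i) ^ 2 := fun i => by
            split_ifs with e
            · subst e; exact (hb i).resolve_left hp
            · rcases hb i with q | q <;> omega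
          refine ((sum_eq_sum_iff_of_le (s := univ) fun i _ => hterm i).1 ?_ i (mem_univ i)).symm
          rw [hs, sum_ite]
          simp [filter_eq', filter_ne']
        · push Not at hp
          simp [hp] at hs
      choose! p hp using hpos
      calc So.card ≤ ((frameCode h f : Set (Fin 24 → ZMod 2)).toFinite.toFinset ×ˢ
            (univ : Finset (Fin 24))).card := by
            refine card_le_card_of_injOn (fun x => (r (x - x0), p x)) ?_ ?_
            · intro x hx
              rw [mem_coe, mem_product, Set.Finite.mem_toFinset]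
              refine ⟨(mem_frameCode h).2 ⟨⟨x - x0, fun i => ?_⟩, rfl⟩, mem_univ _⟩
              have := hall x hx i; have := hall x0 hx0 i
              rw [LatticeMod2.sub_left h]; omega
            · intro x hx y hy e
              obtain ⟨e1, e2⟩ := Prod.mk.injEq _ _ _ _ ▸ e
              refine coord_ext h hf fun i => ?_
              have m := congrFun e1 i
              simp only [r, LatticeMod2.sub_left h] at m
              have m' := (ZMod.intCast_eq_intCast_iff_dvd_sub _ _ 2).1 m
              have a1 := hp x hx i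
              have a2 := hp y hy i
              rw [e2] at a1
              have := hall x hx i; have := hall y hy i; have := hall x0 hx0 i
              have : (B x (f i) - B y (f i)) * (B x (f i) + B y (f i)) = 0 := by linarith
              rcases mul_eq_zero.1 this with q | q <;> omega
        _ = Nat.card (frameCode h f) * 24 := by
            rw [card_product, card_univ, Fintype.card_fin,
              ← Set.ncard_eq_toFinset_card _ _]
            rfl
        _ ≤ 24 * k := by rw [mul_comm]; exact Nat.mul_le_mul_left 24 hk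
    · push Not at hex
      simp only [So, Nat.le_zero, card_eq_zero, filter_eq_empty_iff, not_not]
      exact fun x _ i => hex x i
  omega

theorem even_sum (x : evenPart₂ h f) : (4 : ℤ) ∣ ∑ i, B (x : L) (f i) := by
  choose y hy _hy' using res_spec h x
  have hn := eight_inner h hf (x : L) x
  simp only [hy] at hn ⊢
  obtain ⟨k, hk⟩ := h.even (x : L)
  have e : ∑ i, y i ^ 2 = 4 * k := by
    have : 4 * ∑ i, y i ^ 2 = 8 * B (x : L) x := by
      rw [hn, mul_sum]; exact sum_congr rfl fun i _ => by ring
    omega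
  have hd : (2 : ℤ) ∣ ∑ i, (y i ^ 2 - y i) := dvd_sum fun i _ => by
    rw [show y i ^ 2 - y i = (y i - 1) * ((y i - 1) + 1) by ring]
    exact (Int.even_mul_succ_self _).two_dvd
  rw [sum_sub_distrib, e] at hd
  rw [← mul_sum]
  omega

theorem exists_signs : ∃ s : Fin 24 → ZMod 2, ∀ x : evenPart₂ h f,
    (((∑ i, B (x : L) (f i)) / 4 : ℤ) : ZMod 2) = ∑ i, s i * res h f x i := by
  classical
  let g : evenPart₂ h f →+ ZMod 2 := AddMonoidHom.mk'
    (fun x => (((∑ i, B (x : L) (f i)) / 4 : ℤ) : ZMod 2)) fun x y => by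
      simp only [AddSubgroup.coe_add, h.add, sum_add_distrib]
      rw [Int.add_ediv_of_dvd_left (even_sum h hf x), Int.cast_add]
  have hker : (res h f).rangeRestrict.ker ≤ g.ker := by
    intro x hx
    rw [AddMonoidHom.mem_ker] at hx ⊢
    have hx' : res h f x = 0 := congrArg Subtype.val hx
    have h8 := eight_dvd_sum₂ h hf (x := (x : L)) fun i => by
      obtain ⟨y, hy, hy'⟩ := res_spec h x i
      rw [hx'] at hy'
      have := (ZMod.intCast_zmod_eq_zero_iff_dvd _ 2).1 hy'.symm
      omega
    show (((∑ i, B (x : L) (f i)) / 4 : ℤ) : ZMod 2) = 0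
    exact (ZMod.intCast_zmod_eq_zero_iff_dvd _ 2).2 (by omega)
  let τ : frameCode h f →+ ZMod 2 :=
    (res h f).rangeRestrict.liftOfSurjective (res h f).rangeRestrict_surjective ⟨g, hker⟩
  obtain ⟨τ', hτ'⟩ := LinearMap.exists_extend (τ.toZModLinearMap 2)
  refine ⟨fun i => τ' fun j => if i = j then 1 else 0, fun x => ?_⟩
  have e1 : τ' (res h f x) = g x := by
    have := LinearMap.congr_fun hτ' ⟨res h f x, (mem_frameCode h).2 ⟨x, rfl⟩⟩
    refine this.trans ?_
    exact AddMonoidHom.liftOfRightInverse_comp_apply (res h f).rangeRestrict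
      (Function.surjInv (res h f).rangeRestrict_surjective) (Function.rightInverse_surjInv _) ⟨g, hker⟩ x
  show g x = _
  rw [← e1, LinearMap.pi_apply_eq_sum_univ τ' (res h f x)]
  exact sum_congr rfl fun i _ => by rw [smul_eq_mul, mul_comm]

variable (hfin : {x : L | B x x = 4}.ncard = 196560)
include hfin

theorem frameCode_card : Module.finrank (ZMod 2) (frameCode h f) = 12 ∧
    ∃ x : L, ∀ i, ¬ (2 : ℤ) ∣ B x (f i) := by
  classical
  have f4 : {x : L | B x x = 4}.Finite := Set.finite_of_ncard_ne_zero (by rw [hfin]; norm_num)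
  have hb := four_count_le h hf f4.toFinset (fun x hx => f4.mem_toFinset.1 hx)
    (Nat.card (frameCode h f)) le_rfl
  rw [← Set.ncard_eq_toFinset_card _ f4, hfin] at hb
  have hle := two_mul_finrank_le (frameCode_orth h hf)
  rw [Fintype.card_fin] at hle
  have hc : Nat.card (frameCode h f) = 2 ^ Module.finrank (ZMod 2) (frameCode h f) := by
    rw [Module.natCard_eq_pow_finrank (K := ZMod 2), Nat.card_zmod]
  split_ifs at hb with hex
  · refine ⟨?_, ?_⟩
    · rw [hc] at hb
      by_contra hne
      have := Nat.pow_le_pow_right (show 0 < 2 by norm_num)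
        (show Module.finrank (ZMod 2) (frameCode h f) ≤ 11 by omega)
      omega
    · obtain ⟨x, i, hi⟩ := hex
      exact ⟨x, fun j hj => hi (by have := parity_eq h hf x i j; omega)⟩
  · omega

/-- **The frame theorem.** -/
theorem exists_leech_iso : ∃ ψ : L ≃+ leechLattice,
    (∀ x, sqNorm (ψ x : GolayPt → ℤ) = 8 * B x x) ∧
    ∃ (e : Fin 24 ≃ GolayPt) (sg : GolayPt → ℤ), (∀ p, sg p = 1 ∨ sg p = -1) ∧
      ∀ x p, (ψ x : GolayPt → ℤ) p = sg p * B x (f (e.symm p)) := by
  classical
  obtain ⟨hdim, x₀, hx₀⟩ := frameCode_card h hf hfin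
  obtain ⟨e, he⟩ := Cfsg.Agent.S0375.result (frameCode h f) hdim (frameCode_orth h hf)
    (frameCode_doubly_even h hf) (frameCode_min h hf)
  obtain ⟨s, hs⟩ := exists_signs h hf
  let sg : GolayPt → ℤ := fun p => if s (e.symm p) = 0 then 1 else -1
  have hsg : ∀ p, sg p = 1 ∨ sg p = -1 := fun p => by simp only [sg]; split_ifs <;> simp
  let φ : L →+ (GolayPt → ℤ) := AddMonoidHom.mk' (fun x p => sg p * B x (f (e.symm p)))
    fun x y => funext fun p => by simp only [h.add, mul_add, Pi.add_apply]
  have hφ : ∀ x p, φ x p = sg p * B x (f (e.symm p)) := fun _ _ => rfl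
  have hsum : ∀ F : Fin 24 → ℤ, ∑ p, F (e.symm p) = ∑ i, F i := fun F => Equiv.sum_comp e.symm F
  have hdot : ∀ x y, dotInt (φ x) (φ y) = 8 * B x y := fun x y => by
    rw [eight_inner h hf, ← hsum, dotInt]
    refine sum_congr rfl fun p _ => ?_
    rcases hsg p with q | q <;> rw [hφ, hφ, q] <;> ring
  have hnorm : ∀ x, sqNorm (φ x) = 8 * B x x := fun x => by rw [← dotInt_self, hdot]
  -- vectors with even coordinates
  have heven : ∀ x : evenPart₂ h f, InLeech 0 (φ x) ∧
      hword 0 (φ x) = fun p => res h f x (e.symm p) := by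
    intro x
    choose y hy hy' using res_spec h x
    have hval : ∀ p, φ x p = 2 * (sg p * y (e.symm p)) := fun p => by rw [hφ, hy]; ring
    have hw : hword 0 (φ x) = fun p => res h f x (e.symm p) := funext fun p => by
      simp only [hword, sub_zero, hval, Int.mul_ediv_cancel_left _ (two_ne_zero : (2 : ℤ) ≠ 0)]
      rw [hy']
      rcases hsg p with q | q <;> simp [q, ZMod.neg_eq_self_mod_two]
    refine ⟨⟨fun p => ⟨sg p * y (e.symm p), by rw [hval]; ring⟩, ?_, ?_⟩, hw⟩
    · have h4 := even_sum h hf x
      have hs' := hs x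
      simp only [hy, hy'] at hs' h4
      rw [← mul_sum] at hs' h4
      obtain ⟨t, ht⟩ : (2 : ℤ) ∣ ∑ i, y i := by omega
      rw [ht, show 2 * (2 * t) / 4 = t by omega] at hs'
      have hsgn : ∀ i, sg (e i) * y i = y i - 2 * (if s i = 0 then 0 else y i) := fun i => by
        simp only [sg, e.symm_apply_apply]; split_ifs <;> ring
      have hmod : (((∑ i, if s i = 0 then 0 else y i) : ℤ) : ZMod 2) = (t : ZMod 2) := by
        rw [hs', Int.cast_sum]
        exact sum_congr rfl fun i _ => by rcases zmod2_cases (s i) with q | q <;> simp [q]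
      have hd := (ZMod.intCast_eq_intCast_iff_dvd_sub _ _ 2).1 hmod
      have htot : ∑ p, φ x p = 2 * (∑ i, y i - 2 * ∑ i, if s i = 0 then 0 else y i) := by
        rw [mul_sum, ← sum_sub_distrib, mul_sum, ← Equiv.sum_comp e]
        exact sum_congr rfl fun i _ => by rw [hval, e.symm_apply_apply, hsgn]
      rw [mul_zero, sub_zero, htot, ht]
      omega
    · rw [hw, he]
      convert (mem_frameCode h).2 ⟨x, rfl⟩ using 1
      simp only [e.symm_apply_apply]
  -- vectors with odd coordinates
  have hodd : ∀ x : L, (∀ i, ¬ (2 : ℤ) ∣ B x (f i)) → InLeech 1 (φ x) := by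
    intro x hx
    have hpar : ∀ p, (2 : ℤ) ∣ φ x p - 1 := fun p => by
      have := hx (e.symm p); rcases hsg p with q | q <;> rw [hφ, q] <;> omega
    choose a ha using hpar
    have ha' : ∀ p, φ x p = 1 + 2 * a p := fun p => by have := ha p; omega
    have hw1 : ∀ p, hword 1 (φ x) p = (a p : ZMod 2) := fun p => by
      simp only [hword, ha', show (1 + 2 * a p - 1) / 2 = a p by omega]
    have hcode : hword 1 (φ x) ∈ golayCode := by
      refine mem_code_of_orth fun v hv => ?_
      obtain ⟨x', hx'⟩ := (mem_frameCode h).1 ((he v).1 hv)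
      obtain ⟨hL, hw'⟩ := heven x'
      choose b hb using hL.1
      have hb' : ∀ p, φ x' p = 2 * b p := fun p => by have := hb p; omega
      have hvb : ∀ p, v p = (b p : ZMod 2) := fun p => by
        have e1 := congrFun hw' p
        simp only [hword, sub_zero, hb', Int.mul_ediv_cancel_left _ (two_ne_zero : (2 : ℤ) ≠ 0)] at e1
        rw [e1, hx']
        simp only [e.apply_symm_apply]
      have h8 := hdot x x'
      have hs8 := hL.2.1
      simp only [dotInt, ha', hb'] at h8 hs8
      have e2 : ∑ p, (1 + 2 * a p) * (2 * b p) = ∑ p, 2 * b p + 4 * ∑ p, a p * b p := by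
        rw [mul_sum, ← sum_add_distrib]; exact sum_congr rfl fun p _ => by ring
      rw [e2] at h8
      simp only [hw1, hvb, ← Int.cast_mul, ← Int.cast_sum]
      exact (ZMod.intCast_zmod_eq_zero_iff_dvd _ 2).2 (by omega)
    refine ⟨fun p => ⟨a p, ha p⟩, ?_, hcode⟩
    have hdec : ∀ p, ∃ y, a p = bit 1 (φ x) p + 2 * y := fun p => by
      simp only [bit, hw1]
      split_ifs with q
      · obtain ⟨y, hy⟩ := (ZMod.intCast_zmod_eq_zero_iff_dvd _ 2).1 q; exact ⟨y, by omega⟩
      · exact ⟨(a p - 1) / 2, by
          have : ¬ (2 : ℤ) ∣ a p := fun d => q ((ZMod.intCast_zmod_eq_zero_iff_dvd _ 2).2 d)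
          omega⟩
    choose y hy using hdec
    have hbit : ∀ p, bit 1 (φ x) p = 0 ∨ bit 1 (φ x) p = 1 := fun p => by
      simp only [bit]; split_ifs <;> simp
    have hsb : (4 : ℤ) ∣ ∑ p, bit 1 (φ x) p := by
      rw [sum_bit]; exact_mod_cast card_support_mod4 hcode
    have h16 := hnorm x
    obtain ⟨m, hm⟩ := h.even x
    have hc24 : (Finset.univ : Finset GolayPt).card = 24 := rfl
    have e1 : sqNorm (φ x) = 24 + 8 * ∑ p, bit 1 (φ x) p + 8 * ∑ p, y p
        + 16 * ∑ p, (bit 1 (φ x) p * y p + y p ^ 2) := by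
      rw [sqNorm, show (24 : ℤ) = ∑ _p : GolayPt, 1 by simp [hc24], mul_sum, mul_sum, mul_sum,
        ← sum_add_distrib, ← sum_add_distrib, ← sum_add_distrib]
      refine sum_congr rfl fun p _ => ?_
      rw [ha', hy]
      rcases hbit p with q | q <;> rw [q] <;> ring
    have e2 : ∑ p, φ x p = 24 + 2 * ∑ p, bit 1 (φ x) p + 4 * ∑ p, y p := by
      rw [show (24 : ℤ) = ∑ _p : GolayPt, 1 by simp [hc24], mul_sum, mul_sum, ← sum_add_distrib,
        ← sum_add_distrib]
      exact sum_congr rfl fun p _ => by rw [ha', hy]; ring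
    rw [e1, hm] at h16
    rw [e2]
    omega
  have hmem : ∀ x, φ x ∈ leechLattice := by
    intro x
    by_cases hx : x ∈ evenPart₂ h f
    · exact mem_leech.2 ⟨0, (heven ⟨x, hx⟩).1⟩
    · refine mem_leech.2 ⟨1, hodd x fun i hi => hx fun j => ?_⟩
      have := parity_eq h hf x i j; omega
  have hinj : Function.Injective φ := fun x y q => coord_ext h hf fun i => by
    have := congrFun q (e i)
    rw [hφ, hφ, e.symm_apply_apply] at this
    rcases hsg (e i) with r | r <;> rw [r] at this <;> omega
  have hsurjEven : ∀ z, InLeech 0 z → ∃ x, φ x = z := by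
    intro z hz
    obtain ⟨x, hx⟩ := (mem_frameCode h).1 ((he _).1 hz.2.2)
    obtain ⟨hL, hw'⟩ := heven x
    have h4 : ∀ p, (4 : ℤ) ∣ z p - φ x p := fun p => by
      have e1 := congrFun hw' p
      rw [hx] at e1
      simp only [e.apply_symm_apply, hword] at e1
      have := (ZMod.intCast_eq_intCast_iff_dvd_sub _ _ 2).1 e1
      have := hz.1 p; have := hL.1 p
      omega
    choose a ha using h4
    have hs8 : (8 : ℤ) ∣ ∑ p, (z p - φ x p) := by
      rw [sum_sub_distrib]; have := hz.2.1; have := hL.2.1; omega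
    simp only [ha] at hs8
    rw [← mul_sum] at hs8
    have hev : (2 : ℤ) ∣ ∑ i, sg (e i) * a (e i) := by
      have hd : (2 : ℤ) ∣ ∑ p, (sg p * a p - a p) := dvd_sum fun p _ => by
        rcases hsg p with q | q <;> rw [q] <;> omega
      rw [sum_sub_distrib] at hd
      rw [Equiv.sum_comp e (fun p => sg p * a p)]
      omega
    obtain ⟨n, hn⟩ := hev
    obtain ⟨w, hw⟩ := exists_gather h hf 0 (fun i => sg (e i) * a (e i))
    refine ⟨(x : L) + (w + n • f 0), funext fun p => ?_⟩
    rw [hφ, h.add, h.add, zsmul_left h, hw, hf.inner, hn, mul_add, ← hφ (x : L) p, e.apply_symm_apply]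
    have := ha p
    have hsq : sg p * sg p = 1 := by rcases hsg p with q | q <;> rw [q] <;> norm_num
    rcases eq_or_ne (e.symm p) 0 with q | q
    · rw [if_pos q, if_pos q.symm, show sg p * (4 * (sg p * a p) - 4 * (2 * n) + n * 8)
        = 4 * (sg p * sg p) * a p by ring, hsq]
      omega
    · rw [if_neg q, if_neg (Ne.symm q), show sg p * (4 * (sg p * a p) - 0 + n * 0)
        = 4 * (sg p * sg p) * a p by ring, hsq]
      omega
  have hsurj : ∀ z ∈ leechLattice, ∃ x, φ x = z := by
    intro z hz
    obtain ⟨m, hm, hL⟩ := exists_parity hz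
    rcases hm with rfl | rfl
    · exact hsurjEven z hL
    · obtain ⟨x, hx⟩ := hsurjEven (z - φ x₀) (by
        have := hL.add (hodd x₀ hx₀).neg
        rwa [add_neg_cancel, ← sub_eq_add_neg] at this)
      exact ⟨x + x₀, by rw [map_add, hx, sub_add_cancel]⟩
  refine ⟨AddEquiv.ofBijective (φ.codRestrict leechLattice hmem)
    ⟨fun x y q => hinj (congrArg Subtype.val q), fun z => ?_⟩, fun x => hnorm x,
    e, sg, hsg, fun x p => rfl⟩
  obtain ⟨x, hx⟩ := hsurj z z.2
  exact ⟨x, Subtype.ext hx⟩

end Cfsg.Agent.Leech
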