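import Cfsg.Agent.Lib.Leech.Conway

/-!
Pairs of norm 6 vectors with inner product -4.
-/

namespace Cfsg.Agent.Leech

open Cfsg Cfsg.Agent.Golay Finset
open Cfsg.Agent.LatticeMod2 (Rootless Cong)
open scoped Pointwise

set_option maxRecDepth 10000

/-- The vector `(4, -4, 0²²)`. -/
def dVec : leechLattice := vec6 + vec6'

theorem dVec_apply (i : GolayPt) : (dVec : GolayPt → ℤ) i
    = (if i = none then 4 else 0) + if i = some 0 then -4 else 0 := by
  show (vec6 : GolayPt → ℤ) i + (vec6' : GolayPt → ℤ) i = _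
  rw [vec6_apply, vec6'_apply]
  rcases i with _ | j
  · simp
  · rcases eq_or_ne j 0 with rfl | h
    · simp
    · simp [h]

theorem norm_dVec : ip dVec dVec = 4 :=
  (ip_self_iff (n := 4)).2 (by simp only [sqNorm, dVec_apply]; decide)

theorem ip_vec6_dVec : ip vec6 dVec = 2 :=
  ip_eq_of_dot (by simp only [dotInt, vec6_apply, dVec_apply]; decide)

theorem ip_stdA_vec6 : ip vec6 stdA = 3 :=
  ip_eq_of_dot (by simp only [dotInt, vec6_apply, stdA_apply]; decide)

theorem ip_stdA_vec6' : ip vec6' stdA = -3 :=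
  ip_eq_of_dot (by simp only [dotInt, vec6'_apply, stdA_apply]; decide)

theorem exists_hs_witness {d : leechLattice} (hd : ip d d = 4) (h : ip vec6 d = 2) :
    ∃ w, ip w w = 4 ∧ ip vec6 w = 3 ∧ ip d w = 0 := by
  obtain ⟨j, hj⟩ : ∃ j : ZMod 23, (d : GolayPt → ℤ) (some j) = -(d : GolayPt → ℤ) none ∨
      (d : GolayPt → ℤ) (some j) = 4 - (d : GolayPt → ℤ) none := by
    by_contra hall
    push Not at hall
    have h32 : ∑ i, (d : GolayPt → ℤ) i ^ 2 = 32 := (ip_self_iff (n := 4)).1 hd
    have h16 := eight_ip vec6 d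
    rw [h] at h16
    simp only [dotInt, vec6_apply] at h16
    rw [Fintype.sum_option] at h32 h16
    simp at h16
    obtain ⟨m, hm, hL⟩ := exists_parity d.2
    have hb : ∀ i, -5 ≤ (d : GolayPt → ℤ) i ∧ (d : GolayPt → ℤ) i ≤ 5 := fun i => by
      have := coord_bound hd (N := 6) (by norm_num) (by norm_num) i
      omega
    have hn := hb none
    have hpn := hL.1 none
    set D := (d : GolayPt → ℤ) none with hD
    have hr : ∀ i : ZMod 23, -5 ≤ (d : GolayPt → ℤ) (some i) ∧ (d : GolayPt → ℤ) (some i) ≤ 5 ∧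
        2 ∣ (d : GolayPt → ℤ) (some i) - D ∧ (d : GolayPt → ℤ) (some i) ≠ -D ∧
        (d : GolayPt → ℤ) (some i) ≠ 4 - D := fun i => by
      have := hb (some i); have := hL.1 (some i)
      exact ⟨by omega, by omega, by omega, (hall i).1, (hall i).2⟩
    have hsum : ∀ a b c : ℤ, (∀ r : ℤ, -5 ≤ r → r ≤ 5 → 2 ∣ r - D → r ≠ -D → r ≠ 4 - D →
        0 ≤ a * r ^ 2 + b * r + c) → 0 ≤ a * (32 - D ^ 2) + b * (16 - 5 * D) + 23 * c := fun a b c hp => by
      have := sum_nonneg (s := (univ : Finset (ZMod 23)))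
        (f := fun i => a * (d : GolayPt → ℤ) (some i) ^ 2 + b * (d : GolayPt → ℤ) (some i) + c)
        (fun i _ => hp _ (hr i).1 (hr i).2.1 (hr i).2.2.1 (hr i).2.2.2.1 (hr i).2.2.2.2)
      rw [sum_add_distrib, sum_add_distrib, ← mul_sum, ← mul_sum, sum_const, card_univ, ZMod.card,
        nsmul_eq_mul] at this
      rw [show ∑ i, (d : GolayPt → ℤ) (some i) ^ 2 = 32 - D ^ 2 by linarith,
        show ∑ i, (d : GolayPt → ℤ) (some i) = 16 - 5 * D by linarith] at this
      push_cast at this
      exact this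
    rcases (show D = -5 ∨ D = -4 ∨ D = -3 ∨ D = -2 ∨ D = -1 ∨ D = 0 ∨ D = 1 ∨ D = 2 ∨ D = 3 ∨ D = 4 ∨ D = 5 by
      omega) with r | r | r | r | r | r | r | r | r | r | r
    · have := hsum 1 0 (-1) (fun x h1 h2 h3 _ _ => by
        rw [r] at h3; interval_cases x <;> first | (norm_num; done) | (exfalso; omega))
      rw [r] at this; norm_num at this
    · have := hsum 1 (-2) 0 (fun x h1 h2 h3 _ _ => by
        rw [r] at h3; interval_cases x <;> first | (norm_num; done) | (exfalso; omega))
      rw [r] at this; norm_num at this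
    · have := hsum 1 (-2) 1 (fun x h1 h2 h3 _ _ => by
        rw [r] at h3; interval_cases x <;> first | (norm_num; done) | (exfalso; omega))
      rw [r] at this; norm_num at this
    · have := hsum 1 (-2) 0 (fun x h1 h2 h3 _ _ => by
        rw [r] at h3; interval_cases x <;> first | (norm_num; done) | (exfalso; omega))
      rw [r] at this; norm_num at this
    · have := hsum 1 (-2) (-3) (fun x h1 h2 h3 h4 h5 => by
        rw [r] at h3 h4 h5; interval_cases x <;> first | (norm_num; done) | (exfalso; omega))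
      rw [r] at this; norm_num at this
    · have := hsum 1 0 (-4) (fun x h1 h2 h3 h4 _ => by
        rw [r] at h3 h4; interval_cases x <;> first | (norm_num; done) | (exfalso; omega))
      rw [r] at this; norm_num at this
    · have := hsum 1 2 (-3) (fun x h1 h2 h3 h4 h5 => by
        rw [r] at h3 h4 h5; interval_cases x <;> first | (norm_num; done) | (exfalso; omega))
      rw [r] at this; norm_num at this
    · obtain ⟨z, hz⟩ : (4 : ℤ) ∣ ∑ i, (d : GolayPt → ℤ) (some i) := dvd_sum fun i _ => by
        have := hr i; omega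
      rw [r] at h16; omega
    · have := hsum 1 0 (-1) (fun x h1 h2 h3 _ _ => by
        rw [r] at h3; interval_cases x <;> first | (norm_num; done) | (exfalso; omega))
      rw [r] at this; norm_num at this
      -- all entries are `-1`
      have hall1 : ∀ i, (d : GolayPt → ℤ) (some i) = -1 := by
        have h9 : ∀ i ∈ (univ : Finset (ZMod 23)), (1 : ℤ) ≤ (d : GolayPt → ℤ) (some i) ^ 2 := fun i _ => by
          have := hr i
          rcases (show (d : GolayPt → ℤ) (some i) ≤ -1 ∨ 1 ≤ (d : GolayPt → ℤ) (some i) by omega) with q | q <;>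
            nlinarith
        have heq := (sum_eq_sum_iff_of_le h9).1 (by
          rw [sum_const, card_univ, ZMod.card, nsmul_eq_mul]; rw [r] at h32; norm_num; linarith)
        intro i
        have := hr i
        rcases sq_eq_one_iff.1 (heq i (mem_univ i)).symm with q | q <;> omega
      rw [sum_congr rfl (fun i _ => hall1 i), r] at h16
      norm_num at h16
    · have := hsum 1 0 (-4) (fun x h1 h2 h3 h4 h5 => by
        rw [r] at h3 h4 h5; interval_cases x <;> first | (norm_num; done) | (exfalso; omega))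
      rw [r] at this; norm_num at this
    · have := hsum 1 0 (-1) (fun x h1 h2 h3 _ _ => by
        rw [r] at h3; interval_cases x <;> first | (norm_num; done) | (exfalso; omega))
      rw [r] at this; norm_num at this
  set a := pairV none (some j) (Option.some_ne_none j).symm 1 1 (Or.inl rfl) (Or.inl rfl) with ha
  have ha4 : ip a a = 4 := ip_pairV_self
  have hva : ip vec6 a = 3 := by
    refine ip_eq_of_dot ?_
    simp only [dotInt, vec6_apply, ha, pairV_apply]
    exact (show ∀ k : ZMod 23, ∑ i : GolayPt, (if i = none then (5 : ℤ) else 1) *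
      ((if i = none then 4 * 1 else 0) + if i = some k then 4 * 1 else 0) = 8 * 3 by decide +kernel) j
  have hda : dotInt (d : GolayPt → ℤ) a = 4 * ((d : GolayPt → ℤ) none + (d : GolayPt → ℤ) (some j)) := by
    simp only [dotInt, ha, pairV_apply]
    simp [mul_add, sum_add_distrib]
    ring
  rcases hj with q | q
  · exact ⟨a, ha4, hva, ip_eq_of_dot (by rw [hda, q]; ring)⟩
  · refine ⟨vec6 - a, ?_, ?_, ?_⟩
    · rw [LatticeMod2.norm_sub rootless_ip, norm_vec6, hva, ha4]; norm_num
    · rw [ip_comm, LatticeMod2.sub_left rootless_ip, norm_vec6, ip_comm a, hva]; norm_num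
    · rw [ip_comm, LatticeMod2.sub_left rootless_ip, h, ip_comm a,
        ip_eq_of_dot (n := 2) (by rw [hda, q]; ring)]
      norm_num

theorem exists_triple {u d w : leechLattice} (hu : ip u u = 6) (hd : ip d d = 4) (hud : ip u d = 2)
    (hw : ip w w = 4) (huw : ip u w = 3) (hdw : ip d w = 0) :
    ∃ g : Co0, g • u = vec6 ∧ g • d = dVec ∧ g • w = stdA := by
  have hab : (none : GolayPt) ≠ some 0 := by simp
  obtain ⟨g, h1, h2⟩ := exists_pair_frame' hw hd (by rw [ip_comm]; exact hdw) hab
  set y : GolayPt → ℤ := ((g • u : leechLattice) : GolayPt → ℤ) with hy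
  have hn : y none = 5 := by
    rw [hy, apply_of_axis h1, ip_comm, rootless_ip.add, ip_comm w, ip_comm d, huw, hud]; norm_num
  have h0 : y (some 0) = 1 := by
    rw [hy, apply_of_axis h2, ip_comm, LatticeMod2.sub_left rootless_ip, ip_comm w, ip_comm d, huw, hud]
    norm_num
  have e : g • (w + d) + g • (w - d) = g • w + g • w := by rw [co0_add, co0_sub]; abel
  have e' : g • (w + d) - g • (w - d) = g • d + g • d := by rw [co0_add, co0_sub]; abel
  rw [h1, h2] at e e'
  have hgw : g • w = stdA := by
    refine Subtype.ext (funext fun i => ?_)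
    have := congrFun (congrArg Subtype.val e) i
    simp only [AddSubgroup.coe_add, Pi.add_apply, coe_axis, Pi.single_apply] at this
    rw [stdA_apply]
    split_ifs at this ⊢ <;> omega
  have hgd : g • d = dVec := by
    refine Subtype.ext (funext fun i => ?_)
    have := congrFun (congrArg Subtype.val e') i
    simp only [AddSubgroup.coe_add, AddSubgroup.coe_sub, Pi.add_apply, Pi.sub_apply, coe_axis,
      Pi.single_apply] at this
    rw [dVec_apply]
    split_ifs at this ⊢ <;> omega
  obtain ⟨m, hm, hL⟩ := exists_parity (g • u).2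
  rw [← hy] at hL
  rcases hm with rfl | rfl
  · exfalso; have := hL.1 none; omega
  have h48 : ∑ i, y i ^ 2 = 48 := by
    have := co0_norm g u; rw [(ip_self_iff (n := 6)).1 hu] at this; exact this
  rw [← add_sum_erase _ _ (mem_univ none), hn] at h48
  have h1' : ∀ i ∈ (univ : Finset GolayPt).erase none, (1 : ℤ) ≤ y i ^ 2 := fun i _ => by
    have := hL.1 i
    rcases (show y i ≤ -1 ∨ 1 ≤ y i by omega) with r | r <;> nlinarith
  have heq := (sum_eq_sum_iff_of_le h1').1 (by
    rw [sum_const, card_erase_of_mem (mem_univ _), show (univ : Finset GolayPt).card = 24 from rfl,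
      nsmul_eq_mul]
    push_cast
    linarith)
  refine ⟨mono (1, ⟨hword 1 y, hL.2.2⟩) * g, ?_, ?_, ?_⟩
  all_goals
    rw [mul_smul]
    refine Subtype.ext (funext fun i => ?_)
    rw [mono_smul]
    simp only [monoFun, OneMemClass.coe_one, Equiv.Perm.one_def, Equiv.refl_symm, Equiv.refl_apply, hgw, hgd]
    show sgn (hword 1 y) i * _ = _
  · rw [← hy, vec6_apply]
    rcases eq_or_ne i none with rfl | hi
    · simp [sgn, hword, hn]; decide
    · rcases sq_eq_one_iff.1 (heq i (mem_erase.2 ⟨hi, mem_univ i⟩)).symm with r | r <;>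
        simp [sgn, hword, r, hi]
  all_goals
    rcases eq_or_ne i none with rfl | hi
    · simp [sgn, hword, hn, stdA_apply, dVec_apply]; decide
    rcases eq_or_ne i (some 0) with rfl | hi'
    · simp [sgn, hword, h0, stdA_apply, dVec_apply]
    simp [stdA_apply, dVec_apply, hi, hi']

/-- The minimal vectors of the configuration of Higman and Sims. -/
def hsSet (u u' : leechLattice) : Set leechLattice := {x | ip x x = 4 ∧ ip u x = 3 ∧ ip u' x = -3}

theorem exists_hs_std {u u' : leechLattice} (hu : ip u u = 6) (hu' : ip u' u' = 6) (h : ip u u' = -4) :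
    (∃ g : Co0, g • u = vec6 ∧ g • u' = vec6') ∧
      ∀ x ∈ hsSet u u', ∃ g : Co0, g • u = vec6 ∧ g • u' = vec6' ∧ g • x = stdA := by
  have hd : ip (u + u') (u + u') = 4 := by rw [LatticeMod2.norm_add rootless_ip, hu, hu', h]; norm_num
  have hud : ip u (u + u') = 2 := by rw [ip_comm, rootless_ip.add, hu, ip_comm u', h]; norm_num
  have key : ∀ w, ip w w = 4 → ip u w = 3 → ip (u + u') w = 0 →
      ∃ g : Co0, g • u = vec6 ∧ g • u' = vec6' ∧ g • w = stdA := fun w h1 h2 h3 => by
    obtain ⟨g, g1, g2, g3⟩ := exists_triple hu hd hud h1 h2 h3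
    refine ⟨g, g1, ?_, g3⟩
    rw [co0_add, g1, dVec] at g2
    exact add_left_cancel g2
  refine ⟨?_, fun x hx => key x hx.1 hx.2.1 (by rw [rootless_ip.add, hx.2.1, hx.2.2]; norm_num)⟩
  obtain ⟨k, hk⟩ := transitive6 hu norm_vec6
  obtain ⟨w, w1, w2, w3⟩ := exists_hs_witness (d := k • (u + u')) ((co0_ip _ _ _).trans hd)
    (by rw [← hk, co0_ip, hud])
  obtain ⟨w, rfl⟩ : ∃ w', k • w' = w := ⟨k⁻¹ • w, smul_inv_smul _ _⟩
  rw [co0_ip] at w1 w3
  rw [← hk, co0_ip] at w2
  obtain ⟨g, g1, g2, -⟩ := key w w1 w2 w3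
  exact ⟨g, g1, g2⟩

theorem hs_stab_stdA : hsSub ⊓ MulAction.stabilizer Co0 stdA = permSub [{(none : GolayPt)}, {some 0}] := by
  refine le_antisymm ?_ (le_inf permSub22_le_hs (permSub22_le_mcl.trans inf_le_left))
  rintro g ⟨⟨h1, h2⟩, h3⟩
  have h1' : g • vec6 = vec6 := h1
  have h2' : g • vec6' = vec6' := h2
  have h3' : g • stdA = stdA := h3
  have hd : g • dVec = dVec := by rw [dVec, co0_add, h1', h2']
  have hplus : stdA + dVec = axis none := Subtype.ext (funext fun i => by
    simp only [AddSubgroup.coe_add, Pi.add_apply, stdA_apply, dVec_apply, coe_axis, Pi.single_apply]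
    split_ifs <;> simp_all)
  have hminus : stdA - dVec = axis (some 0) := Subtype.ext (funext fun i => by
    simp only [AddSubgroup.coe_sub, Pi.sub_apply, stdA_apply, dVec_apply, coe_axis, Pi.single_apply]
    split_ifs <;> simp_all)
  have hax : g • axis none = axis none := by rw [← hplus, co0_add, h3', hd]
  have hax0 : g • axis (some 0) = axis (some 0) := by rw [← hminus, co0_sub, h3', hd]
  obtain ⟨a, rfl⟩ := mono_of_axis hax
  rw [mono_axis] at hax hax0
  obtain ⟨hn, hs⟩ := sgn_axis_inj (sgn_cases _ _) (hax.trans (one_smul ℤ _).symm)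
  obtain ⟨hn0, hs0⟩ := sgn_axis_inj (sgn_cases _ _) (hax0.trans (one_smul ℤ _).symm)
  rw [hn] at hs
  rw [hn0] at hs0
  refine mem_permSub22.2 ⟨a.1, ⟨hn, hn0⟩, ?_⟩
  show mono (a.1, 0) = mono a
  congr 1
  refine Prod.ext rfl (Subtype.ext (funext fun i => ?_))
  have := congrArg (fun w : leechLattice => (w : GolayPt → ℤ) i) h1'
  simp only [mono_smul, monoFun, vec6_apply] at this
  show 0 = _
  rcases eq_or_ne i none with rfl | hi
  · unfold sgn at hs; by_contra r; rw [if_neg (Ne.symm r)] at hs; norm_num at hs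
  · rw [if_neg hi, if_neg (fun e => hi (by rw [← Equiv.apply_symm_apply (a.1 : Equiv.Perm GolayPt) i, e, hn]))] at this
    unfold sgn at this
    by_contra r
    rw [if_neg (Ne.symm r)] at this
    norm_num at this

theorem octads_through_pair :
    {o : Finset GolayPt | o ∈ octads ∧ none ∈ o ∧ some 0 ∈ o}.ncard = 77 := by
  have : {o : Finset GolayPt | o ∈ octads ∧ none ∈ o ∧ some 0 ∈ o}
      = {s | ∃ m ∈ octadList.filter (fun m => m.testBit 23 && m.testBit 0), maskSet m = s} := by
    ext s
    simp only [Set.mem_setOf_eq, List.mem_filter, Bool.and_eq_true]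
    constructor
    · rintro ⟨hs, h1, h2⟩
      obtain ⟨m, hm, rfl⟩ := mem_octads.1 hs
      exact ⟨m, ⟨hm, by simpa [mem_maskSet, idx] using h1, by simpa [mem_maskSet, idx] using h2⟩, rfl⟩
    · rintro ⟨m, ⟨hm, h1, h2⟩, rfl⟩
      exact ⟨mem_octads.2 ⟨m, hm, rfl⟩, by simpa [mem_maskSet, idx] using h1,
        by simpa [mem_maskSet, idx] using h2⟩
  rw [this, ncard_image_maskSet (octadList_nodup.filter _) fun m hm => lt_of_mem_octadList (List.mem_filter.1 hm).1]
  decide +kernel

/-- The three kinds of points of the configuration. -/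
theorem hsSet_std : hsSet vec6 vec6' = {x : leechLattice | x = stdA ∨
      (∃ j : ZMod 23, j ≠ 0 ∧ ∀ i, (x : GolayPt → ℤ) i = if i = some j then -3 else 1) ∨
      ∃ o ∈ octads, none ∈ o ∧ some 0 ∈ o ∧ ∀ i, (x : GolayPt → ℤ) i = if i ∈ o then 2 else 0} := by
  ext x
  set R := ((univ : Finset GolayPt).erase none).erase (some 0) with hR
  have hRc : R.card = 22 := by rw [hR]; decide
  have hRm : ∀ i, i ∈ R ↔ i ≠ none ∧ i ≠ some 0 := fun i => by simp [hR, and_comm]
  have hsplit : ∀ f : GolayPt → ℤ, ∑ i, f i = f none + f (some 0) + ∑ i ∈ R, f i := fun f => by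
    rw [hR, ← add_sum_erase _ _ (mem_univ none),
      ← add_sum_erase _ _ (show (some 0 : GolayPt) ∈ univ.erase none by simp)]
    ring
  constructor
  · rintro ⟨h4, h3, h3'⟩
    have e1 := eight_ip vec6 x
    have e2 := eight_ip vec6' x
    rw [h3, dotInt, hsplit, sum_congr rfl (fun i hi => show _ = (x : GolayPt → ℤ) i by
      rw [vec6_apply, if_neg ((hRm i).1 hi).1, one_mul])] at e1
    rw [h3', dotInt, hsplit, sum_congr rfl (fun i hi => show _ = -(x : GolayPt → ℤ) i by
      rw [vec6'_apply, if_neg ((hRm i).1 hi).2, neg_one_mul]), sum_neg_distrib] at e2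
    have e3 : ∑ i, (x : GolayPt → ℤ) i ^ 2 = 32 := (ip_self_iff (n := 4)).1 h4
    rw [hsplit] at e3
    simp [vec6_apply, vec6'_apply] at e1 e2
    have ht0 : (x : GolayPt → ℤ) (some 0) = (x : GolayPt → ℤ) none := by linarith
    rw [ht0] at e1 e3
    set t := (x : GolayPt → ℤ) none with ht
    have hb : ∀ i, -5 ≤ (x : GolayPt → ℤ) i ∧ (x : GolayPt → ℤ) i ≤ 5 := fun i => by
      have := coord_bound h4 (N := 6) (by norm_num) (by norm_num) i; omega
    obtain ⟨m, hm, hL⟩ := exists_parity x.2
    have hsum : ∀ a b c : ℤ, (∀ r : ℤ, -5 ≤ r → r ≤ 5 → 2 ∣ r - t → 0 ≤ a * r ^ 2 + b * r + c) →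
        0 ≤ a * (32 - 2 * t ^ 2) + b * (24 - 6 * t) + 22 * c := fun a b c hp => by
      have := sum_nonneg (s := R)
        (f := fun i => a * (x : GolayPt → ℤ) i ^ 2 + b * (x : GolayPt → ℤ) i + c)
        (fun i _ => hp _ (hb i).1 (hb i).2 (by have := hL.1 i; have := hL.1 none; omega))
      rw [sum_add_distrib, sum_add_distrib, ← mul_sum, ← mul_sum, sum_const, hRc, nsmul_eq_mul] at this
      rw [show ∑ i ∈ R, (x : GolayPt → ℤ) i ^ 2 = 32 - 2 * t ^ 2 by linarith,
        show ∑ i ∈ R, (x : GolayPt → ℤ) i = 24 - 6 * t by linarith] at this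
      push_cast at this
      exact this
    have htb := hb none
    rw [← ht] at htb
    rcases (show t = -5 ∨ t = -4 ∨ t = -3 ∨ t = -2 ∨ t = -1 ∨ t = 0 ∨ t = 1 ∨ t = 2 ∨ t = 3 ∨ t = 4 ∨ t = 5 by
      omega) with r | r | r | r | r | r | r | r | r | r | r
    · have := hsum 1 0 0 (fun y _ _ _ => by nlinarith)
      rw [r] at this; norm_num at this
    · have := hsum 1 (-2) 0 (fun y h1 h2 h3 => by
        rw [r] at h3; interval_cases y <;> first | (norm_num; done) | (exfalso; omega))
      rw [r] at this; norm_num at this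
    · have := hsum 1 0 (-1) (fun y h1 h2 h3 => by
        rw [r] at h3; interval_cases y <;> first | (norm_num; done) | (exfalso; omega))
      rw [r] at this; norm_num at this
    · have := hsum 1 (-2) 0 (fun y h1 h2 h3 => by
        rw [r] at h3; interval_cases y <;> first | (norm_num; done) | (exfalso; omega))
      rw [r] at this; norm_num at this
    · have := hsum 1 (-2) 1 (fun y _ _ _ => by nlinarith [sq_nonneg (y - 1)])
      rw [r] at this; norm_num at this
    · have := hsum 1 (-2) 0 (fun y h1 h2 h3 => by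
        rw [r] at h3; interval_cases y <;> first | (norm_num; done) | (exfalso; omega))
      rw [r] at this; norm_num at this
    · -- one entry `-3`
      right; left
      rw [r] at e1 e3
      have hodd : ∀ i, (x : GolayPt → ℤ) i % 2 = 1 := fun i => by
        have := hL.1 i; have := hL.1 none; omega
      obtain ⟨j, hj, hjne⟩ : ∃ j ∈ R, (x : GolayPt → ℤ) j ^ 2 ≠ 1 := by
        by_contra hall
        push Not at hall
        rw [sum_congr rfl hall, sum_const, hRc] at e3
        norm_num at e3
      rw [← add_sum_erase _ _ hj] at e1 e3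
      have h1' : ∀ i ∈ R.erase j, (1 : ℤ) ≤ (x : GolayPt → ℤ) i ^ 2 := fun i _ => by
        have := hodd i
        rcases (show (x : GolayPt → ℤ) i ≤ -1 ∨ 1 ≤ (x : GolayPt → ℤ) i by omega) with q | q <;> nlinarith
      have hle := sum_le_sum h1'
      rw [sum_const, card_erase_of_mem hj, hRc] at hle
      norm_num at hle
      have h9 : (x : GolayPt → ℤ) j ^ 2 = 9 := by
        obtain ⟨zl, zu⟩ := hb j
        have := hodd j
        have : (x : GolayPt → ℤ) j ^ 2 ≤ 9 := by linarith
        generalize (x : GolayPt → ℤ) j = z at *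
        interval_cases z <;> first | (norm_num at *; done) | norm_num
      have heq := (sum_eq_sum_iff_of_le h1').1 (by
        rw [sum_const, card_erase_of_mem hj, hRc]; norm_num; linarith)
      have hall : ∀ i, i ≠ j → (x : GolayPt → ℤ) i ^ 2 = 1 := fun i hi => by
        rcases eq_or_ne i none with rfl | a
        · rw [← ht, r]; norm_num
        rcases eq_or_ne i (some 0) with rfl | b
        · rw [ht0, r]; norm_num
        exact (heq i (mem_erase.2 ⟨hi, (hRm i).2 ⟨a, b⟩⟩)).symm
      rcases sq_eq_sq_iff_eq_or_eq_neg.1 (h9.trans (by norm_num : (9 : ℤ) = 3 ^ 2)) with q | q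
      · exfalso
        -- a word of weight four
        obtain ⟨hn', -⟩ := (hRm j).1 hj
        have hm1 : m = 1 := by
          rcases hm with rfl | rfl
          · exfalso; have := hL.1 none; have := hodd none; omega
          · rfl
        subst hm1
        set N := (R.erase j).filter fun i => (x : GolayPt → ℤ) i = -1
        have hNs : ∑ i ∈ R.erase j, (x : GolayPt → ℤ) i = ((R.erase j).card : ℤ) - 2 * (N.card : ℤ) := by
          rw [sum_congr rfl (g := fun i => (1 : ℤ) - 2 * if (x : GolayPt → ℤ) i = -1 then 1 else 0) (fun i hi => by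
            rcases sq_eq_one_iff.1 (heq i hi).symm with w | w <;> simp [w]), sum_sub_distrib, ← mul_sum,
            sum_boole, sum_const, nsmul_eq_mul, mul_one]
        rw [card_erase_of_mem hj, hRc] at hNs
        rw [hNs, q] at e1
        have hne : hword 1 (x : GolayPt → ℤ) ≠ 0 := fun e => by
          have := congrFun e j
          simp [hword, q] at this
        have h8 := card_support_ge hL.2.2 hne
        have hsub : support₂ (hword 1 (x : GolayPt → ℤ)) ⊆ insert j N := by
          intro i hi
          by_contra hni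
          simp only [mem_insert, N, mem_filter, mem_erase, not_or, not_and] at hni
          rcases sq_eq_one_iff.1 (hall i hni.1) with w | w
          · have := (mem_filter.1 hi).2; simp [hword, w] at this
          · rcases eq_or_ne i none with rfl | a
            · rw [← ht, r] at w; norm_num at w
            rcases eq_or_ne i (some 0) with rfl | b
            · rw [ht0, r] at w; norm_num at w
            exact hni.2 ⟨hni.1, (hRm i).2 ⟨a, b⟩⟩ w
        have := (card_le_card hsub).trans (card_insert_le _ _)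
        push_cast at e1
        omega
      · -- the good case
        obtain ⟨hn', h0'⟩ := (hRm j).1 hj
        rcases j with _ | k
        · exact absurd rfl hn'
        refine ⟨k, fun e => h0' (by rw [e]), fun i => ?_⟩
        split_ifs with hi
        · rw [hi]; exact q
        · rcases sq_eq_one_iff.1 (hall i hi) with w | w
          · exact w
          · exfalso
            rcases eq_or_ne i none with rfl | a
            · rw [← ht, r] at w; norm_num at w
            rcases eq_or_ne i (some 0) with rfl | b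
            · rw [ht0, r] at w; norm_num at w
            have hiR : i ∈ R.erase (some k) := mem_erase.2 ⟨hi, (hRm i).2 ⟨a, b⟩⟩
            have hle1 : ∀ l ∈ (R.erase (some k)).erase i, (x : GolayPt → ℤ) l ≤ 1 := fun l hl => by
              rcases sq_eq_one_iff.1 (heq l (mem_of_mem_erase hl)).symm with v | v <;> omega
            have hs := sum_le_card_nsmul _ _ 1 hle1
            rw [← add_sum_erase _ _ hiR, w, q] at e1
            rw [card_erase_of_mem hiR, card_erase_of_mem hj, hRc] at hs
            norm_num at hs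
            linarith
    · -- an octad
      right; right
      rw [r] at e1 e3
      have hev : ∀ i, (2 : ℤ) ∣ (x : GolayPt → ℤ) i := fun i => by
        have := hL.1 i; have := hL.1 none; omega
      have hm0 : m = 0 := by
        rcases hm with rfl | rfl
        · rfl
        · exfalso; have := hL.1 none; have := hev none; omega
      subst hm0
      have hge : ∀ i ∈ R, 0 ≤ (x : GolayPt → ℤ) i ^ 2 - 2 * (x : GolayPt → ℤ) i := fun i _ => by
        have := hev i
        rcases (show (x : GolayPt → ℤ) i ≤ 0 ∨ 2 ≤ (x : GolayPt → ℤ) i by omega) with q | q <;> nlinarith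
      have h02 := (sum_eq_zero_iff_of_nonneg hge).1 (by rw [sum_sub_distrib, ← mul_sum]; linarith)
      have hval : ∀ i, (x : GolayPt → ℤ) i = 0 ∨ (x : GolayPt → ℤ) i = 2 := fun i => by
        rcases eq_or_ne i none with rfl | a
        · exact Or.inr r
        rcases eq_or_ne i (some 0) with rfl | b
        · exact Or.inr (ht0.trans r)
        have := h02 i ((hRm i).2 ⟨a, b⟩)
        rw [show (x : GolayPt → ℤ) i ^ 2 - 2 * (x : GolayPt → ℤ) i
          = (x : GolayPt → ℤ) i * ((x : GolayPt → ℤ) i - 2) by ring, mul_eq_zero, sub_eq_zero] at this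
        exact this
      let o := support₂ (hword 0 (x : GolayPt → ℤ))
      have ho : ∀ i, i ∈ o ↔ (x : GolayPt → ℤ) i = 2 := fun i => by
        rcases hval i with q | q <;> simp [o, support₂, hword, q]
      refine ⟨o, ⟨mem_code_iff_support.1 hL.2.2, ?_⟩, (ho none).2 r, (ho _).2 (ht0.trans r), fun i => ?_⟩
      · have hn32 : ∑ i, (x : GolayPt → ℤ) i ^ 2 = 32 := (ip_self_iff (n := 4)).1 h4
        have : ∀ i, (x : GolayPt → ℤ) i ^ 2 = if i ∈ o then 4 else 0 := fun i => by
          rcases hval i with q | q <;> simp [ho, q]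
        rw [sum_congr rfl (fun i _ => this i), sum_ite_mem, univ_inter, sum_const, nsmul_eq_mul] at hn32
        omega
      · rcases hval i with q | q <;> simp [ho, q]
    · have := hsum 1 0 (-1) (fun y h1 h2 h3 => by
        rw [r] at h3; interval_cases y <;> first | (norm_num; done) | (exfalso; omega))
      rw [r] at this; norm_num at this
    · -- the vector `stdA`
      left
      rw [r] at e3
      norm_num at e3
      have h00 := (sum_eq_zero_iff_of_nonneg (s := R) fun i _ => sq_nonneg ((x : GolayPt → ℤ) i)).1 e3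
      refine Subtype.ext (funext fun i => ?_)
      rw [stdA_apply]
      rcases eq_or_ne i none with rfl | a
      · simpa using r
      rcases eq_or_ne i (some 0) with rfl | b
      · simpa using ht0.trans r
      simp [a, b, (pow_eq_zero_iff two_ne_zero).1 (h00 i ((hRm i).2 ⟨a, b⟩))]
    · have := hsum 1 0 0 (fun y _ _ _ => by nlinarith)
      rw [r] at this; norm_num at this
  · rintro (rfl | ⟨j, hj, hx⟩ | ⟨o, ho, h1, h2, hx⟩)
    · exact ⟨ip_stdA, ip_stdA_vec6, ip_stdA_vec6'⟩
    · refine ⟨(ip_self_iff (n := 4)).2 ?_, ip_eq_of_dot ?_, ip_eq_of_dot ?_⟩ <;>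
        simp only [sqNorm, dotInt, vec6_apply, vec6'_apply, hx] <;> clear hx <;> revert hj j <;> decide
    · refine ⟨(ip_self_iff (n := 4)).2 ?_, ip_eq_of_dot ?_, ip_eq_of_dot ?_⟩
      · show ∑ i, (x : GolayPt → ℤ) i ^ 2 = 32
        rw [sum_congr rfl (fun i _ => show (x : GolayPt → ℤ) i ^ 2 = if i ∈ o then 4 else 0 by
          rw [hx]; split_ifs <;> norm_num), sum_ite_mem, univ_inter, sum_const, card_octad ho]
        norm_num
      · rw [dotInt, sum_congr rfl (fun i _ => show (vec6 : GolayPt → ℤ) i * (x : GolayPt → ℤ) i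
            = if i ∈ o then (2 + if i = none then 8 else 0) else 0 by
          rw [hx, vec6_apply]; split_ifs <;> norm_num), sum_ite_mem, univ_inter, sum_add_distrib, sum_const,
          sum_ite_eq', if_pos h1, card_octad ho]
        norm_num
      · rw [dotInt, sum_congr rfl (fun i _ => show (vec6' : GolayPt → ℤ) i * (x : GolayPt → ℤ) i
            = if i ∈ o then (-2 + if i = some 0 then -8 else 0) else 0 by
          rw [hx, vec6'_apply]; split_ifs <;> norm_num), sum_ite_mem, univ_inter, sum_add_distrib, sum_const,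
          sum_ite_eq', if_pos h2, card_octad ho]
        norm_num

theorem ncard_hsSet_std : (hsSet vec6 vec6').ncard = 100 := by
  classical
  set A : Set leechLattice := {x | ∃ j : ZMod 23, j ≠ 0 ∧ ∀ i, (x : GolayPt → ℤ) i = if i = some j then -3 else 1}
  set B : Set leechLattice :=
    {x | ∃ o ∈ octads, none ∈ o ∧ some 0 ∈ o ∧ ∀ i, (x : GolayPt → ℤ) i = if i ∈ o then 2 else 0}
  have hfin : (hsSet vec6 vec6').Finite := shell4_finite.subset fun x hx => hx.1
  have hU : hsSet vec6 vec6' = insert stdA (A ∪ B) := by rw [hsSet_std]; rfl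
  rw [hU] at hfin ⊢
  have hA : A.ncard = 22 := by
    have hmem : ∀ j : ZMod 23, (vec6 - pairV none (some j) (Option.some_ne_none j).symm 1 1 (Or.inl rfl) (Or.inl rfl)
        : leechLattice) = vec6 - pairV none (some j) (Option.some_ne_none j).symm 1 1 (Or.inl rfl) (Or.inl rfl) :=
      fun _ => rfl
    have heA : A = (fun j : ZMod 23 =>
        vec6 - pairV none (some j) (Option.some_ne_none j).symm 1 1 (Or.inl rfl) (Or.inl rfl)) '' {j | j ≠ 0} := by
      have hv : ∀ (j : ZMod 23) i, ((vec6 - pairV none (some j) (Option.some_ne_none j).symm 1 1 (Or.inl rfl)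
          (Or.inl rfl) : leechLattice) : GolayPt → ℤ) i = if i = some j then -3 else 1 := fun j i => by
        simp only [AddSubgroup.coe_sub, Pi.sub_apply, vec6_apply, pairV_apply]
        rcases i with _ | k <;> simp
        split_ifs <;> rfl
      ext x
      constructor
      · rintro ⟨j, hj, hx⟩
        exact ⟨j, hj, Subtype.ext (funext fun i => by rw [hv, hx])⟩
      · rintro ⟨j, hj, rfl⟩
        exact ⟨j, hj, hv j⟩
    rw [heA, Set.ncard_image_of_injective]
    · rw [show {j : ZMod 23 | j ≠ 0} = ↑(univ.erase (0 : ZMod 23)) by ext; simp, Set.ncard_coe_finset]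
      rfl
    · intro j k e
      have := congrFun (congrArg Subtype.val (sub_right_injective e)) (some j)
      simp only [pairV_apply] at this
      simpa using this
  have hB : B.ncard = 77 := by
    rw [← octads_through_pair]
    refine Set.ncard_congr (fun x _ => univ.filter fun i => (x : GolayPt → ℤ) i = 2) ?_ ?_ ?_
    · rintro x ⟨o, ho, h1, h2, hx⟩
      have : univ.filter (fun i => (x : GolayPt → ℤ) i = 2) = o := by
        ext i; simp only [mem_filter, mem_univ, true_and, hx]; split_ifs with q <;> simp [q]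
      rw [this]
      exact ⟨ho, h1, h2⟩
    · rintro x y ⟨o, -, -, -, hx⟩ ⟨o', -, -, -, hy⟩ e
      refine Subtype.ext (funext fun i => ?_)
      have := congrArg (fun s : Finset GolayPt => decide (i ∈ s)) e
      simp [hx, hy] at this
      rw [hx, hy]
      split_ifs at this ⊢ <;> simp_all
    · rintro o ⟨ho, h1, h2⟩
      obtain ⟨w, hw, hwo⟩ := ho.1
      refine ⟨⟨_, wordVec_mem hw⟩, ⟨o, ho, h1, h2, fun i => ?_⟩, ?_⟩
      · show (if w i = 0 then (0 : ℤ) else 2) = _
        simp [← hwo, support₂]
      · ext i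
        simp [← hwo, support₂]
  have hd : Disjoint A B := Set.disjoint_left.2 fun x ⟨j, _, hx⟩ ⟨o, _, _, _, hx'⟩ => by
    have := (hx none).symm.trans (hx' none)
    simp at this
    split_ifs at this <;> omega
  have hn : stdA ∉ A ∪ B := by
    rintro (⟨j, -, hx⟩ | ⟨o, -, h1, -, hx⟩)
    · have := hx none; simp [stdA_apply] at this
    · have := hx none; simp [stdA_apply, h1] at this
  rw [Set.ncard_insert_of_notMem hn (hfin.subset (Set.subset_insert _ _)),
    Set.ncard_union_eq hd (hfin.subset (Set.subset_union_left.trans (Set.subset_insert _ _)))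
      (hfin.subset (Set.subset_union_right.trans (Set.subset_insert _ _))), hA, hB]

theorem hs_transitive {u u' x x' : leechLattice} (hu : ip u u = 6) (hu' : ip u' u' = 6) (h : ip u u' = -4)
    (hx : x ∈ hsSet u u') (hx' : x' ∈ hsSet u u') :
    ∃ g : Co0, g • u = u ∧ g • u' = u' ∧ g • x = x' := by
  obtain ⟨g, g1, g2, g3⟩ := (exists_hs_std hu hu' h).2 x hx
  obtain ⟨k, k1, k2, k3⟩ := (exists_hs_std hu hu' h).2 x' hx'
  exact ⟨k⁻¹ * g, by rw [mul_smul, g1, ← k1, inv_smul_smul], by rw [mul_smul, g2, ← k2, inv_smul_smul],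
    by rw [mul_smul, g3, ← k3, inv_smul_smul]⟩

theorem smul_hsSet (g : Co0) (u u' : leechLattice) : hsSet (g • u) (g • u') = (fun x => g • x) '' hsSet u u' := by
  ext x
  constructor
  · rintro ⟨h1, h2, h3⟩
    exact ⟨g⁻¹ • x, ⟨(co0_ip _ _ _).trans h1, by rw [← co0_ip g, smul_inv_smul]; exact h2,
      by rw [← co0_ip g, smul_inv_smul]; exact h3⟩, smul_inv_smul g x⟩
  · rintro ⟨x, ⟨h1, h2, h3⟩, rfl⟩
    exact ⟨(co0_ip _ _ _).trans h1, (co0_ip _ _ _).trans h2, (co0_ip _ _ _).trans h3⟩

theorem ncard_hsSet {u u' : leechLattice} (hu : ip u u = 6) (hu' : ip u' u' = 6) (h : ip u u' = -4) :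
    (hsSet u u').ncard = 100 := by
  obtain ⟨g, rfl, rfl⟩ : ∃ g : Co0, g • vec6 = u ∧ g • vec6' = u' := by
    obtain ⟨k, k1, k2⟩ := (exists_hs_std hu hu' h).1
    exact ⟨k⁻¹, by rw [← k1, inv_smul_smul], by rw [← k2, inv_smul_smul]⟩
  rw [smul_hsSet, Set.ncard_image_of_injective _ (MulAction.injective g), ncard_hsSet_std]

theorem card_hsSub : Nat.card hsSub = 44352000 := by
  have := card_stab_mul hsSub stdA (hsSet vec6 vec6') ⟨ip_stdA, ip_stdA_vec6, ip_stdA_vec6'⟩
    (fun g hg x hx => ⟨(co0_ip g x x).trans hx.1,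
      by rw [← show g • vec6 = vec6 from hg.1, co0_ip]; exact hx.2.1,
      by rw [← show g • vec6' = vec6' from hg.2, co0_ip]; exact hx.2.2⟩)
    (fun x hx => by
      obtain ⟨g, g1, g2, g3⟩ := hs_transitive norm_vec6 norm_vec6' ip_vec6_vec6'
        ⟨ip_stdA, ip_stdA_vec6, ip_stdA_vec6'⟩ hx
      exact ⟨g, ⟨g1, g2⟩, g3⟩)
  rw [hs_stab_stdA, card_permSub22, ncard_hsSet_std] at this
  omega

theorem isHS_stab {u u' : leechLattice} (hu : ip u u = 6) (hu' : ip u' u' = 6) (h : ip u u' = -4) :
    IsHS ↥(MulAction.stabilizer Co0 u ⊓ MulAction.stabilizer Co0 u') := by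
  obtain ⟨g, g1, g2⟩ := (exists_hs_std hu hu' h).1
  have e := stabPairEquiv (g := g) g1 g2
  have := isSimpleGroup_hsSub card_hsSub
  exact ⟨SimpleCriteria.isSimpleGroup_congr e.symm, by rw [Nat.card_congr e.toEquiv]; exact card_hsSub⟩

theorem exists_swap {u u' : leechLattice} (hu : ip u u = 6) (hu' : ip u' u' = 6) (h : ip u u' = -4) :
    ∃ g : Co0, g • u = u' ∧ g • u' = u := by
  obtain ⟨g, g1, g2⟩ := (exists_hs_std hu hu' h).1
  obtain ⟨k, k1, k2⟩ := (exists_hs_std hu' hu ((ip_comm u' u).trans h)).1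
  exact ⟨k⁻¹ * g, by rw [mul_smul, g1, ← k1, inv_smul_smul], by rw [mul_smul, g2, ← k2, inv_smul_smul]⟩

/-- Minimal vectors of inner product `-2` with a vector of norm 6. -/
theorem neg2_count {u : leechLattice} (hu : ip u u = 6) :
    {x | ip x x = 4 ∧ ip u x = -2}.ncard = 11178 ∧
      ∀ x ∈ {x | ip x x = 4 ∧ ip u x = -2}, ∀ x' ∈ {x | ip x x = 4 ∧ ip u x = -2},
        ∃ g : Co0, g • u = u ∧ g • x = x' := by
  have pair : ∀ x, ip x x = 4 ∧ ip u x = -2 → ip (-(u + x)) (-(u + x)) = 6 ∧ ip u (-(u + x)) = -4 :=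
    fun x ⟨h1, h2⟩ => by
      refine ⟨?_, ?_⟩
      · rw [LatticeMod2.neg_left rootless_ip, ip_comm, LatticeMod2.neg_left rootless_ip, neg_neg,
          LatticeMod2.norm_add rootless_ip, hu, h1, h2]
        norm_num
      · rw [ip_comm, LatticeMod2.neg_left rootless_ip, rootless_ip.add, hu, ip_comm x, h2]; norm_num
  have htr : ∀ x ∈ {x | ip x x = 4 ∧ ip u x = -2}, ∀ x' ∈ {x | ip x x = 4 ∧ ip u x = -2},
      ∃ g : Co0, g • u = u ∧ g • x = x' := by
    intro x hx x' hx'
    obtain ⟨g, g1, g2⟩ := (exists_hs_std hu (pair x hx).1 (pair x hx).2).1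
    obtain ⟨k, k1, k2⟩ := (exists_hs_std hu (pair x' hx').1 (pair x' hx').2).1
    have e1 : (k⁻¹ * g) • u = u := by rw [mul_smul, g1, ← k1, inv_smul_smul]
    have e2 : (k⁻¹ * g) • -(u + x) = -(u + x') := by rw [mul_smul, g2, ← k2, inv_smul_smul]
    refine ⟨k⁻¹ * g, e1, ?_⟩
    rw [co0_neg, co0_add, e1] at e2
    exact add_left_cancel (neg_injective e2)
  refine ⟨?_, htr⟩
  obtain ⟨k, hk⟩ := transitive6 norm_vec6 hu
  set x₀ := k • -dVec with hx₀
  have hm : x₀ ∈ {x | ip x x = 4 ∧ ip u x = -2} := by
    refine ⟨?_, ?_⟩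
    · rw [hx₀, co0_ip, LatticeMod2.neg_left rootless_ip, ip_comm, LatticeMod2.neg_left rootless_ip, neg_neg,
        norm_dVec]
    · rw [hx₀, ← hk, co0_ip, ip_comm, LatticeMod2.neg_left rootless_ip, ip_comm, ip_vec6_dVec]
  have h1 := card_stab_mul (MulAction.stabilizer Co0 u) x₀ _ hm
    (fun g hg x hx => ⟨(co0_ip g x x).trans hx.1, by
      rw [← MulAction.mem_stabilizer_iff.1 hg, co0_ip]; exact hx.2⟩)
    (fun x hx => htr _ hm x hx)
  have e : MulAction.stabilizer Co0 u ⊓ MulAction.stabilizer Co0 x₀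
      = MulAction.stabilizer Co0 u ⊓ MulAction.stabilizer Co0 (-(u + x₀)) := by
    ext g
    simp only [Subgroup.mem_inf, MulAction.mem_stabilizer_iff]
    refine and_congr_right fun a => ⟨fun b => ?_, fun b => ?_⟩
    · rw [co0_neg, co0_add, a, b]
    · rw [co0_neg, co0_add, a] at b
      exact add_left_cancel (neg_injective b)
  rw [e, (isHS_stab hu (pair _ hm).1 (pair _ hm).2).2, card_stab6 hu] at h1
  omega

/-- An involution fixing no point of the configuration. -/
theorem exists_free_involution {u u' : leechLattice} (hu : ip u u = 6) (hu' : ip u' u' = 6)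
    (h : ip u u' = -4) :
    ∃ g : Co0, g • u = u ∧ g • u' = u' ∧ orderOf g = 2 ∧ ∀ x ∈ hsSet u u', g • x ≠ x := by
  classical
  obtain ⟨m, hm⟩ := List.exists_mem_of_ne_nil dodecadList
    (fun e => by have := dodecadList_length; rw [e] at this; simp at this)
  set E := maskSet m with hE
  have hEd : E ∈ dodecads := mem_dodecads.2 ⟨m, hm, rfl⟩
  have hEc : E.card = 12 := card_dodecad hEd
  obtain ⟨w, hw, hwE⟩ := hEd.1
  obtain ⟨p, q, hpq, hsub⟩ : ∃ p q : GolayPt, p ≠ q ∧ ({p, q} : Finset GolayPt) ⊆ E := by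
    obtain ⟨s, hs, hs2⟩ := exists_subset_card_eq (s := E) (n := 2) (by omega)
    obtain ⟨p, q, hpq, rfl⟩ := card_eq_two.1 hs2
    exact ⟨p, q, hpq, hs⟩
  have hp : p ∈ E := hsub (by simp)
  have hq : q ∈ E := hsub (by simp)
  have hEw : ∀ i, i ∈ E ↔ w i ≠ 0 := fun i => by rw [← hwE]; simp [support₂]
  set U : leechLattice := ⟨_, wordVec_mem hw⟩ with hU
  set U' : leechLattice := -U + pairV p q hpq 1 1 (Or.inl rfl) (Or.inl rfl) with hU'
  have hUv : ∀ i, (U : GolayPt → ℤ) i = if i ∈ E then 2 else 0 := fun i => by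
    show (if w i = 0 then (0 : ℤ) else 2) = _
    by_cases hi : w i = 0 <;> simp [hEw, hi]
  have hUn : ip U U = 6 := (ip_self_iff (n := 6)).2 (by
    show ∑ i, (U : GolayPt → ℤ) i ^ 2 = _
    rw [sum_congr rfl (fun i _ => show (U : GolayPt → ℤ) i ^ 2 = if i ∈ E then 4 else 0 by
      rw [hUv]; split_ifs <;> norm_num), sum_ite_mem, univ_inter, sum_const, hEc]
    norm_num)
  have hUp : ip U (pairV p q hpq 1 1 (Or.inl rfl) (Or.inl rfl)) = 2 := by
    refine ip_pairV _ ?_
    rw [hUv, hUv, if_pos hp, if_pos hq]; norm_num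
  have hUU' : ip U U' = -4 := by
    rw [hU', ip_comm, rootless_ip.add, LatticeMod2.neg_left rootless_ip, hUn, ip_comm _ U, hUp]; norm_num
  have hU'n : ip U' U' = 6 := by
    rw [hU', LatticeMod2.norm_add rootless_ip, LatticeMod2.neg_left rootless_ip, ip_comm,
      LatticeMod2.neg_left rootless_ip, neg_neg, hUn, LatticeMod2.neg_left rootless_ip, hUp, ip_pairV_self]
    norm_num
  have hcw : (1 + w : GolayPt → ZMod 2) ∈ golayCode := golayCode.add_mem one_mem_code hw
  set t : Co0 := mono (1, ⟨1 + w, hcw⟩) with ht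
  have hsg : ∀ i, sgn (1 + w) i = if i ∈ E then 1 else -1 := fun i => by
    unfold sgn
    rcases zmod2_cases (w i) with a | a <;> simp [hEw, a, CharTwo.add_self_eq_zero]
  have hts : ∀ (v : leechLattice) i, ((t • v : leechLattice) : GolayPt → ℤ) i
      = (if i ∈ E then 1 else -1) * (v : GolayPt → ℤ) i := fun v i => by
    rw [ht, mono_smul]
    simp only [monoFun, OneMemClass.coe_one, Equiv.Perm.one_def, Equiv.refl_symm, Equiv.refl_apply, hsg]
  have htU : t • U = U := Subtype.ext (funext fun i => by rw [hts, hUv]; split_ifs <;> norm_num)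
  have htP : t • pairV p q hpq 1 1 (Or.inl rfl) (Or.inl rfl) = pairV p q hpq 1 1 (Or.inl rfl) (Or.inl rfl) :=
    Subtype.ext (funext fun i => by
      rw [hts, pairV_apply]
      rcases eq_or_ne i p with rfl | a
      · simp [hp]
      rcases eq_or_ne i q with rfl | b
      · simp [hq]
      simp [a, b])
  have htU' : t • U' = U' := by rw [hU', co0_add, co0_neg, htU, htP]
  have ht2 : t ^ 2 = 1 := co0_ext fun i => Subtype.ext (funext fun j => by
    rw [pow_two, mul_smul, hts, hts, one_smul, ← mul_assoc]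
    split_ifs <;> norm_num)
  have ht1 : t ≠ 1 := fun e => by
    obtain ⟨i, -, hi⟩ := exists_mem_notMem_of_card_lt_card (s := E) (t := univ) (by rw [hEc]; decide)
    have := hts (axis i) i
    rw [e, one_smul, if_neg hi, coe_axis] at this
    simp at this
  have hfree : ∀ x ∈ hsSet U U', t • x ≠ x := by
    intro x hx e
    have hout : ∀ i, i ∉ E → (x : GolayPt → ℤ) i = 0 := fun i hi => by
      have := hts x i
      rw [e, if_neg hi] at this
      omega
    obtain ⟨n, hn, hL⟩ := exists_parity x.2
    obtain ⟨i₀, -, hi₀⟩ := exists_mem_notMem_of_card_lt_card (s := E) (t := univ) (by rw [hEc]; decide)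
    rcases hn with rfl | rfl
    swap
    · have := hL.1 i₀; rw [hout _ hi₀] at this; omega
    have h24 := eight_ip U x
    rw [hx.2.1, dotInt, sum_congr rfl (fun i _ => show (U : GolayPt → ℤ) i * (x : GolayPt → ℤ) i
      = 2 * (x : GolayPt → ℤ) i by
        rw [hUv]; split_ifs with hi
        · rfl
        · rw [hout i hi]; ring), ← mul_sum] at h24
    have h32 : ∑ i, (x : GolayPt → ℤ) i ^ 2 = 32 := (ip_self_iff (n := 4)).1 hx.1
    by_cases hz : hword 0 (x : GolayPt → ℤ) = 0
    · have h4 : ∀ i, (4 : ℤ) ∣ (x : GolayPt → ℤ) i := fun i => by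
        have h := congrFun hz i
        simp only [hword, sub_zero, Pi.zero_apply, ZMod.intCast_zmod_eq_zero_iff_dvd] at h
        have := hL.1 i
        omega
      have hle : ∀ i ∈ (univ : Finset GolayPt), 4 * (x : GolayPt → ℤ) i ≤ (x : GolayPt → ℤ) i ^ 2 := fun i _ => by
        obtain ⟨z, hz⟩ := h4 i
        rw [hz]
        rcases (show z ≤ 0 ∨ 1 ≤ z by omega) with a | a <;> nlinarith
      have := sum_le_sum hle
      rw [← mul_sum] at this
      linarith
    · have hsupp : support₂ (hword 0 (x : GolayPt → ℤ)) ⊆ E := fun i hi => by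
        by_contra hiE
        simp [support₂, hword, hout i hiE] at hi
      have h8 := card_support_ge hL.2.2 hz
      have hcase : (support₂ (hword 0 (x : GolayPt → ℤ))).card = 12 := by
        have hle := card_le_card hsupp
        obtain ⟨k, hk⟩ := card_support_mod4 hL.2.2
        by_contra hne
        have h8' : (support₂ (hword 0 (x : GolayPt → ℤ))).card = 8 := by omega
        -- an octad inside a dodecad
        have hsum := golayCode.add_mem hw hL.2.2
        have hsupp2 : support₂ (w + hword 0 (x : GolayPt → ℤ)) = E \ support₂ (hword 0 (x : GolayPt → ℤ)) := by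
          ext i
          have := hEw i
          rcases zmod2_cases (w i) with a | a <;>
            rcases zmod2_cases (hword 0 (x : GolayPt → ℤ) i) with b | b <;>
            simp [support₂, a, b, this, CharTwo.add_self_eq_zero]
          exact absurd (hsupp (show i ∈ support₂ (hword 0 (x : GolayPt → ℤ)) by simp [support₂, b])) (by simp [this, a])
        have h8'' := card_support_ge hsum (fun e => by
          have := congrArg support₂ e
          rw [hsupp2] at this
          have := congrArg Finset.card this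
          rw [card_sdiff_of_subset hsupp, hEc, h8'] at this
          simp [support₂] at this)
        rw [hsupp2, card_sdiff_of_subset hsupp, hEc, h8'] at h8''
        omega
      have hsq : ∀ i ∈ support₂ (hword 0 (x : GolayPt → ℤ)), (4 : ℤ) ≤ (x : GolayPt → ℤ) i ^ 2 := fun i hi => by
        simp only [support₂, hword, sub_zero, mem_filter, mem_univ, true_and, ne_eq,
          ZMod.intCast_zmod_eq_zero_iff_dvd] at hi
        have := hL.1 i
        rcases (show (x : GolayPt → ℤ) i ≤ -2 ∨ 2 ≤ (x : GolayPt → ℤ) i by omega) with a | a <;> nlinarith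
      have h1 := card_nsmul_le_sum _ _ 4 hsq
      have h2 := sum_le_sum_of_subset_of_nonneg (f := fun i => (x : GolayPt → ℤ) i ^ 2)
        (subset_univ (support₂ (hword 0 (x : GolayPt → ℤ)))) fun i _ _ => sq_nonneg _
      rw [hcase] at h1
      norm_num at h1
      linarith
  obtain ⟨a, a1, a2⟩ := (exists_hs_std hu hu' h).1
  obtain ⟨b, b1, b2⟩ := (exists_hs_std hUn hU'n hUU').1
  set k := b⁻¹ * a with hk
  have k1 : k • u = U := by rw [mul_smul, a1, ← b1, inv_smul_smul]
  have k2 : k • u' = U' := by rw [mul_smul, a2, ← b2, inv_smul_smul]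
  refine ⟨k⁻¹ * t * k, ?_, ?_, ?_, ?_⟩
  · rw [mul_smul, mul_smul, k1, htU, ← k1, inv_smul_smul]
  · rw [mul_smul, mul_smul, k2, htU', ← k2, inv_smul_smul]
  · rw [show k⁻¹ * t * k = MulAut.conj k⁻¹ t by simp, MulEquiv.orderOf_eq]
    exact orderOf_eq_prime ht2 ht1
  · intro x hx e
    refine hfree (k • x) ?_ ?_
    · rw [← k1, ← k2, smul_hsSet]; exact ⟨x, hx, rfl⟩
    · rw [mul_smul, mul_smul, inv_smul_eq_iff] at e; exact e

end Cfsg.Agent.Leech
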