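import Cfsg.Agent.Lib.Leech.McLConfig
import Cfsg.Agent.Lib.Steiner.Std22
import Cfsg.Agent.Lib.Steiner.Triangles
import Cfsg.Agent.Lib.Steiner.PointBlock

/-!
The configuration of Higman and Sims as the point-block graph of S(3,6,22).
-/

namespace Cfsg.Agent.HSGraph

open Cfsg Cfsg.Agent.Golay Cfsg.Agent.Leech Cfsg.Agent.Steiner Finset
open scoped Pointwise

set_option maxRecDepth 10000

/-- The vertices. -/
abbrev Vert : Type := Option (Pt22 ⊕ std22)

/-- The octad of a block. -/
def octOf (b : Finset Pt22) : Finset GolayPt := (hat (hat b)).image ext22Equiv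

theorem none_mem_octOf (b : Finset Pt22) : (none : GolayPt) ∈ octOf b :=
  mem_image.2 ⟨none, none_mem_hat _, rfl⟩

theorem zero_mem_octOf (b : Finset Pt22) : (some 0 : GolayPt) ∈ octOf b :=
  mem_image.2 ⟨some none, some_mem_hat.2 (none_mem_hat _), rfl⟩

theorem pt_mem_octOf {b : Finset Pt22} {p : Pt22} :
    (some (p : ZMod 23) : GolayPt) ∈ octOf b ↔ p ∈ b := by
  rw [octOf, ← ext22Equiv_vals.2.2 p, ext22Equiv.injective.mem_finset_image, some_mem_hat, some_mem_hat]

theorem card_octOf_inter (b c : Finset Pt22) : (octOf b ∩ octOf c).card = (b ∩ c).card + 2 := by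
  rw [octOf, octOf, ← image_inter _ _ ext22Equiv.injective, card_image_of_injective _ ext22Equiv.injective,
    hat_inter, hat_inter, card_hat, card_hat]

/-- The vector of a block. -/
noncomputable def blockVec (b : std22) : leechLattice :=
  Classical.choose (exists_octad_two (show octOf b.1 ∈ octads from b.2))

theorem blockVec_apply (b : std22) (i : GolayPt) :
    (blockVec b : GolayPt → ℤ) i = if i ∈ octOf b.1 then 2 else 0 :=
  (Classical.choose_spec (exists_octad_two (show octOf b.1 ∈ octads from b.2))).2 i

/-- The vector of a point. -/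
def ptVec (p : Pt22) : leechLattice :=
  vec6 - pairV none (some (p : ZMod 23)) (Option.some_ne_none _).symm 1 1 (Or.inl rfl) (Or.inl rfl)

theorem ptVec_apply (p : Pt22) (i : GolayPt) :
    (ptVec p : GolayPt → ℤ) i = if i = some (p : ZMod 23) then -3 else 1 := by
  simp only [ptVec, AddSubgroup.coe_sub, Pi.sub_apply, vec6_apply, pairV_apply]
  rcases i with _ | k <;> simp
  split_ifs <;> rfl

/-- The vector of a vertex. -/
noncomputable def vec : Vert → leechLattice
  | none => stdA
  | some (Sum.inl p) => ptVec p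
  | some (Sum.inr b) => blockVec b

theorem vec_mem (v : Vert) : vec v ∈ hsSet vec6 vec6' := by
  rw [hsSet_std]
  rcases v with _ | p | b
  · exact Or.inl rfl
  · exact Or.inr (Or.inl ⟨p, p.2, ptVec_apply p⟩)
  · exact Or.inr (Or.inr ⟨octOf b.1, b.2, none_mem_octOf _, zero_mem_octOf _, blockVec_apply b⟩)

theorem vec_norm (v : Vert) : ip (vec v) (vec v) = 4 := (vec_mem v).1

theorem ip_A_pt (p : Pt22) : ip stdA (ptVec p) = 1 :=
  ip_eq_of_dot (by
    rw [dotInt, sum_congr rfl (fun i _ => show (stdA : GolayPt → ℤ) i * (ptVec p : GolayPt → ℤ) i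
        = (if i = none then 4 else 0) + if i = some 0 then 4 else 0 by
      rw [ptVec_apply, stdA_apply]
      have := p.2
      split_ifs <;> simp_all), sum_add_distrib, sum_ite_eq', sum_ite_eq']
    simp)

theorem ip_A_block (b : std22) : ip stdA (blockVec b) = 2 :=
  ip_eq_of_dot (by
    have h1 := none_mem_octOf b.1
    have h2 := zero_mem_octOf b.1
    rw [dotInt, sum_congr rfl (fun i _ => show (stdA : GolayPt → ℤ) i * (blockVec b : GolayPt → ℤ) i
        = (if i = none then 8 else 0) + if i = some 0 then 8 else 0 by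
      rw [blockVec_apply, stdA_apply]; split_ifs <;> simp_all), sum_add_distrib, sum_ite_eq', sum_ite_eq']
    simp)

theorem ip_pt_pt {p q : Pt22} (h : p ≠ q) : ip (ptVec p) (ptVec q) = 2 :=
  ip_eq_of_dot (by
    have h' : (some (p : ZMod 23) : GolayPt) ≠ some (q : ZMod 23) := by simpa [Subtype.coe_inj] using h
    rw [dotInt, sum_congr rfl (fun i _ => show (ptVec p : GolayPt → ℤ) i * (ptVec q : GolayPt → ℤ) i
        = (1 + if i = some (p : ZMod 23) then -4 else 0) + if i = some (q : ZMod 23) then -4 else 0 by
      rw [ptVec_apply, ptVec_apply]; split_ifs <;> simp_all), sum_add_distrib, sum_add_distrib, sum_const,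
      sum_ite_eq', sum_ite_eq', show (univ : Finset GolayPt).card = 24 from rfl]
    simp)

theorem ip_pt_block (p : Pt22) (b : std22) :
    ip (ptVec p) (blockVec b) = if p ∈ b.1 then 1 else 2 :=
  ip_eq_of_dot (by
    rw [dotInt, sum_congr rfl (fun i _ => show (ptVec p : GolayPt → ℤ) i * (blockVec b : GolayPt → ℤ) i
        = if i ∈ octOf b.1 then (2 + if i = some (p : ZMod 23) then -8 else 0) else 0 by
      rw [blockVec_apply, ptVec_apply]; split_ifs <;> simp_all), sum_ite_mem, univ_inter, sum_add_distrib,
      sum_const, sum_ite_eq', card_octad (show octOf b.1 ∈ octads from b.2)]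
    by_cases hp : p ∈ b.1
    · rw [if_pos (pt_mem_octOf.2 hp), if_pos hp]; norm_num
    · rw [if_neg (fun h => hp (pt_mem_octOf.1 h)), if_neg hp]; norm_num)

theorem ip_block_block {b c : std22} (h : b ≠ c) :
    ip (blockVec b) (blockVec c) = if Disjoint b.1 c.1 then 1 else 2 :=
  ip_eq_of_dot (by
    rw [dotInt, sum_congr rfl (fun i _ => show (blockVec b : GolayPt → ℤ) i * (blockVec c : GolayPt → ℤ) i
        = if i ∈ octOf b.1 ∩ octOf c.1 then 4 else 0 by
      rw [blockVec_apply, blockVec_apply]; split_ifs <;> simp_all), sum_ite_mem, univ_inter, sum_const,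
      card_octOf_inter, nsmul_eq_mul]
    rcases inter22 (α := Pt22) (by decide) isSteiner_std22 b.2 c.2 (fun e => h (Subtype.ext e)) with e | e
    · rw [if_pos (disjoint_iff_inter_eq_empty.2 (card_eq_zero.1 e)), e]; norm_num
    · rw [if_neg (fun hd => by rw [disjoint_iff_inter_eq_empty.1 hd] at e; simp at e), e]; norm_num)

theorem adj_iff (v w : Vert) : (pointBlockGraph std22).Adj v w ↔ ip (vec v) (vec w) = 1 := by
  rcases v with _ | p | b <;> rcases w with _ | q | c
  · simp [pointBlockGraph, vec, ip_stdA]
  · simp [pointBlockGraph, pointBlockRel, vec, ip_A_pt]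
  · simp [pointBlockGraph, pointBlockRel, vec, ip_A_block]
  · simp [pointBlockGraph, pointBlockRel, vec, Leech.ip_comm _ stdA, ip_A_pt]
  · refine iff_of_false PointBlock.adj_point_point ?_
    rcases eq_or_ne p q with rfl | h
    · simp only [vec]; rw [show ip (ptVec p) (ptVec p) = 4 from vec_norm (some (Sum.inl p))]; norm_num
    · simp [vec, ip_pt_pt h]
  · rw [PointBlock.adj_point_block]; simp only [vec, ip_pt_block]; split_ifs with h <;> simp [h]
  · simp [pointBlockGraph, pointBlockRel, vec, Leech.ip_comm _ stdA, ip_A_block]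
  · rw [SimpleGraph.adj_comm, PointBlock.adj_point_block, Leech.ip_comm]
    simp only [vec, ip_pt_block]; split_ifs with h <;> simp [h]
  · rw [PointBlock.adj_block_block]
    rcases eq_or_ne b c with rfl | h
    · simp only [vec]; rw [show ip (blockVec b) (blockVec b) = 4 from vec_norm (some (Sum.inr b))]; simp
    · simp only [vec, ip_block_block h]; split_ifs with hd <;> simp [h, hd]

theorem vec_injective : Function.Injective vec := by
  intro v w e
  have hi : ∀ i, (vec v : GolayPt → ℤ) i = (vec w : GolayPt → ℤ) i := fun i => by rw [e]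
  rcases v with _ | p | b <;> rcases w with _ | q | c <;> simp only [vec] at hi
  · rfl
  · have := hi none; simp [stdA_apply, ptVec_apply] at this
  · have := hi none; simp [stdA_apply, blockVec_apply, none_mem_octOf] at this
  · have := hi none; simp [stdA_apply, ptVec_apply] at this
  · have := hi (some (p : ZMod 23))
    rw [ptVec_apply, ptVec_apply, if_pos rfl] at this
    by_cases h : (some (p : ZMod 23) : GolayPt) = some (q : ZMod 23)
    · rw [Subtype.ext (Option.some_inj.1 h)]
    · rw [if_neg h] at this; simp at this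
  · have := hi none; simp [ptVec_apply, blockVec_apply, none_mem_octOf] at this
  · have := hi none; simp [stdA_apply, blockVec_apply, none_mem_octOf] at this
  · have := hi none; simp [ptVec_apply, blockVec_apply, none_mem_octOf] at this
  · have : b.1 = c.1 := Finset.ext fun r => by
      have := hi (some (r : ZMod 23))
      rw [blockVec_apply, blockVec_apply] at this
      rw [← pt_mem_octOf, ← pt_mem_octOf (b := c.1)]
      split_ifs at this with h1 h2 h2 <;> simp_all
    rw [Subtype.ext this]

theorem vec_surj {x : leechLattice} (hx : x ∈ hsSet vec6 vec6') : ∃ v, vec v = x := by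
  rw [hsSet_std] at hx
  rcases hx with rfl | ⟨j, hj, h⟩ | ⟨o, ho, hn, h0, h⟩
  · exact ⟨none, rfl⟩
  · exact ⟨some (Sum.inl ⟨j, hj⟩), Subtype.ext (funext fun i => by rw [vec, ptVec_apply, h])⟩
  · set b : Finset Pt22 := univ.filter fun p => (some (p : ZMod 23) : GolayPt) ∈ o
    have e : octOf b = o := by
      ext q
      rcases q with _ | z
      · exact iff_of_true (none_mem_octOf b) hn
      · rcases eq_or_ne z 0 with rfl | hz
        · exact iff_of_true (zero_mem_octOf b) h0
        · exact (pt_mem_octOf (p := ⟨z, hz⟩)).trans (by simp [b])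
    have hb : b ∈ std22 := show octOf b ∈ octads from e.symm ▸ ho
    refine ⟨some (Sum.inr ⟨b, hb⟩), Subtype.ext (funext fun i => ?_)⟩
    rw [vec, blockVec_apply, h, e]

/-- Vertices as the points of the configuration. -/
noncomputable def vertEquiv : Vert ≃ hsSet vec6 vec6' :=
  Equiv.ofBijective (fun v => ⟨vec v, vec_mem v⟩)
    ⟨fun _ _ e => vec_injective (congrArg Subtype.val e), fun x => (vec_surj x.2).imp fun _ h => Subtype.ext h⟩

theorem smul_mem_hsSet {g : Co0} (hg : g ∈ hsSub) {x : leechLattice} (hx : x ∈ hsSet vec6 vec6') :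
    g • x ∈ hsSet vec6 vec6' :=
  ⟨(co0_ip g x x).trans hx.1, by rw [← show g • vec6 = vec6 from hg.1, co0_ip]; exact hx.2.1,
    by rw [← show g • vec6' = vec6' from hg.2, co0_ip]; exact hx.2.2⟩

/-- The moved vertex. -/
noncomputable def moveVert (g : hsSub) (v : Vert) : Vert :=
  vertEquiv.symm ⟨(g : Co0) • vec v, smul_mem_hsSet g.2 (vec_mem v)⟩

theorem vec_moveVert (g : hsSub) (v : Vert) : vec (moveVert g v) = (g : Co0) • vec v :=
  congrArg Subtype.val (vertEquiv.apply_symm_apply ⟨(g : Co0) • vec v, smul_mem_hsSet g.2 (vec_mem v)⟩)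

/-- The action on the graph. -/
noncomputable def actIso (g : hsSub) : pointBlockGraph std22 ≃g pointBlockGraph std22 where
  toFun := moveVert g
  invFun := moveVert g⁻¹
  left_inv v := vec_injective (by rw [vec_moveVert, vec_moveVert, Subgroup.coe_inv, inv_smul_smul])
  right_inv v := vec_injective (by rw [vec_moveVert, vec_moveVert, Subgroup.coe_inv, smul_inv_smul])
  map_rel_iff' := by
    intro v w
    show (pointBlockGraph std22).Adj (moveVert g v) (moveVert g w) ↔ _
    rw [adj_iff, adj_iff, vec_moveVert, vec_moveVert, co0_ip]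

/-- The action as a homomorphism. -/
noncomputable def actHom : hsSub →* (pointBlockGraph std22 ≃g pointBlockGraph std22) :=
  MonoidHom.mk' actIso fun g h => RelIso.ext fun v => vec_injective (by
    show vec (moveVert (g * h) v) = vec (moveVert g (moveVert h v))
    rw [vec_moveVert, vec_moveVert, vec_moveVert, Subgroup.coe_mul, mul_smul])

theorem vertex_transitive (v : Vert) : ∃ g : hsSub, actHom g none = v := by
  obtain ⟨g, g1, g2, g3⟩ := hs_transitive norm_vec6 norm_vec6' ip_vec6_vec6' (vec_mem none) (vec_mem v)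
  exact ⟨⟨g, g1, g2⟩, vec_injective ((vec_moveVert _ _).trans g3)⟩

theorem actHom_injective : Function.Injective actHom := by
  have := isSimpleGroup_hsSub card_hsSub
  rw [← MonoidHom.ker_eq_bot_iff]
  refine (MonoidHom.normal_ker actHom).eq_bot_or_eq_top.resolve_right fun h => ?_
  obtain ⟨g, hg⟩ := vertex_transitive (some (Sum.inl ⟨1, by decide⟩))
  rw [show actHom g = 1 from MonoidHom.mem_ker.1 (h ▸ Subgroup.mem_top g)] at hg
  simp at hg

theorem nonempty_of_mem {α : Type*} [Fintype α] [DecidableEq α] {B : Set (Finset α)}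
    (hB : IsSteinerSystem 3 6 B) : ∀ b ∈ B, b.Nonempty :=
  fun b hb => card_pos.1 (by rw [card_of_mem hB hb]; norm_num)

theorem card_aut_std : Nat.card (pointBlockGraph std22 ≃g pointBlockGraph std22) = 88704000 := by
  rw [PointBlock.card_aut (nonempty_of_mem isSteiner_std22) fun v => by
      obtain ⟨g, hg⟩ := vertex_transitive v; exact ⟨actHom g, hg⟩,
    Nat.card_congr vertEquiv, Nat.card_coe_set_eq, ncard_hsSet_std,
    ← Nat.card_congr autStd22Equiv.toEquiv, card_pairStab]

theorem card_aut {α : Type*} [Fintype α] [DecidableEq α] {B : Set (Finset α)}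
    (hα : Fintype.card α = 22) (hB : IsSteinerSystem 3 6 B) :
    Nat.card (pointBlockGraph B ≃g pointBlockGraph B) = 88704000 := by
  obtain ⟨e, he⟩ := exists_iso22 hα hB
  rw [← card_aut_std]
  exact (Nat.card_congr (PointBlock.autCongr (PointBlock.graphCongr e he)).toEquiv).symm

theorem exists_hs {α : Type*} [Fintype α] [DecidableEq α] {B : Set (Finset α)}
    (hα : Fintype.card α = 22) (hB : IsSteinerSystem 3 6 B) :
    ∃ H : Subgroup (pointBlockGraph B ≃g pointBlockGraph B), IsHS H := by
  obtain ⟨e, he⟩ := exists_iso22 hα hB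
  let φ := PointBlock.autCongr (PointBlock.graphCongr e he)
  let f := φ.toMonoidHom.comp actHom
  have hf : Function.Injective f := φ.injective.comp actHom_injective
  have := isSimpleGroup_hsSub card_hsSub
  exact ⟨f.range, SimpleCriteria.isSimpleGroup_congr (MonoidHom.ofInjective hf),
    (Nat.card_congr (MonoidHom.ofInjective hf).toEquiv).symm.trans card_hsSub⟩

end Cfsg.Agent.HSGraph
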