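import Cfsg.Agent.Lib.Leech.HSGraph
import Cfsg.Agent.Lib.Golay.SetStab

/-!
The orbits of a point stabiliser in the configuration of Higman and Sims.
-/

namespace Cfsg.Agent.Leech

open Cfsg Cfsg.Agent.Golay Cfsg.Agent.HSGraph Finset
open scoped Pointwise

set_option maxRecDepth 10000

theorem hs_std_fix {σ : M24} (h : (σ : Equiv.Perm GolayPt) none = none)
    (h0 : (σ : Equiv.Perm GolayPt) (some 0) = some 0) :
    permHom σ • vec6 = vec6 ∧ permHom σ • vec6' = vec6' ∧ permHom σ • stdA = stdA := by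
  have hn : ∀ i, ((σ : Equiv.Perm GolayPt) i = none ↔ i = none) ∧
      ((σ : Equiv.Perm GolayPt) i = some 0 ↔ i = some 0) := fun i =>
    ⟨⟨fun e => (σ : Equiv.Perm GolayPt).injective (e.trans h.symm), fun e => e ▸ h⟩,
      ⟨fun e => (σ : Equiv.Perm GolayPt).injective (e.trans h0.symm), fun e => e ▸ h0⟩⟩
  refine ⟨permHom_fix fun i => ?_, permHom_fix fun i => ?_, permHom_fix fun i => ?_⟩
  · simp only [vec6_apply, (hn i).1]
  · simp only [vec6'_apply, (hn i).2]
  · simp only [stdA_apply, (hn i).1, (hn i).2]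

theorem hs_pt_orbit (p q : Steiner.Pt22) :
    ∃ g : Co0, g • vec6 = vec6 ∧ g • vec6' = vec6' ∧ g • stdA = stdA ∧ g • ptVec p = ptVec q := by
  have d0 : ∀ r : Steiner.Pt22, (some (r : ZMod 23) : GolayPt) ≠ some 0 := fun r => by simpa using r.2
  obtain ⟨σ, a, b, c⟩ := SetStab.exists_map_sets (A := {(none : GolayPt)}) (B := {some (0 : ZMod 23)})
    (C := {some (p : ZMod 23)}) (A' := {(none : GolayPt)}) (B' := {some (0 : ZMod 23)}) (C' := {some (q : ZMod 23)})
    (by simp) (by simp) (disjoint_singleton.2 (d0 p).symm) (by simp) (by simp) (disjoint_singleton.2 (d0 q).symm) rfl rfl rfl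
    (by simp)
  simp only [smul_finset_singleton, singleton_inj] at a b c
  obtain ⟨h1, h2, h3⟩ := hs_std_fix (σ := σ) a b
  refine ⟨permHom σ, h1, h2, h3, Subtype.ext (funext fun i => ?_)⟩
  rw [permHom_apply, ptVec_apply, ptVec_apply]
  refine if_congr ?_ rfl rfl
  rw [Equiv.symm_apply_eq, show (σ : Equiv.Perm GolayPt) (some (p : ZMod 23)) = some (q : ZMod 23) from c]

theorem exists_octad_pair_map {o o' : Finset GolayPt} (ho : o ∈ octads) (ho' : o' ∈ octads)
    (hn : none ∈ o) (h0 : some 0 ∈ o) (hn' : none ∈ o') (h0' : some 0 ∈ o') :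
    ∃ σ : M24, (σ : Equiv.Perm GolayPt) none = none ∧ (σ : Equiv.Perm GolayPt) (some 0) = some 0 ∧ σ • o = o' := by
  obtain ⟨s, hs, hs3⟩ := exists_subset_card_eq (s := o \ {none, some 0}) (n := 3) (by
    have := le_card_sdiff ({none, some 0} : Finset GolayPt) o
    rw [card_octad ho, card_pair (by simp)] at this; omega)
  obtain ⟨t, ht, ht3⟩ := exists_subset_card_eq (s := o' \ {none, some 0}) (n := 3) (by
    have := le_card_sdiff ({none, some 0} : Finset GolayPt) o'
    rw [card_octad ho', card_pair (by simp)] at this; omega)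
  have hd : ∀ {u v : Finset GolayPt}, u ⊆ v \ {none, some 0} → Disjoint ({none} : Finset GolayPt) u ∧ Disjoint ({some 0} : Finset GolayPt) u :=
    fun {u v} h => ⟨disjoint_singleton_left.2 fun m => by simpa using (mem_sdiff.1 (h m)).2,
      disjoint_singleton_left.2 fun m => by simpa using (mem_sdiff.1 (h m)).2⟩
  obtain ⟨σ, a, b, c⟩ := SetStab.exists_map_sets (A := {(none : GolayPt)}) (B := {some (0 : ZMod 23)}) (C := s)
    (A' := {(none : GolayPt)}) (B' := {some (0 : ZMod 23)}) (C' := t)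
    (by simp) (hd hs).1 (hd hs).2 (by simp) (hd ht).1 (hd ht).2 rfl rfl (hs3.trans ht3.symm) (by simp [hs3])
  simp only [smul_finset_singleton, singleton_inj] at a b
  refine ⟨σ, a, b, octad_unique (smul_mem_octads σ.2 ho) ho' ?_⟩
  calc 5 = (insert none (insert (some 0) t)).card := by
        rw [card_insert_of_notMem, card_insert_of_notMem, ht3]
        · exact disjoint_singleton_left.1 (hd ht).2
        · rw [mem_insert, not_or]; exact ⟨by simp, disjoint_singleton_left.1 (hd ht).1⟩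
    _ ≤ _ := card_le_card (by
      intro i hi
      simp only [mem_insert] at hi
      rcases hi with rfl | rfl | hi
      · exact mem_inter.2 ⟨mem_smul_finset.2 ⟨none, hn, a⟩, hn'⟩
      · exact mem_inter.2 ⟨mem_smul_finset.2 ⟨some 0, h0, b⟩, h0'⟩
      · refine mem_inter.2 ⟨?_, (mem_sdiff.1 (ht hi)).1⟩
        rw [← c] at hi
        exact smul_finset_subset_smul_finset (hs.trans sdiff_subset) hi)

theorem hs_block_orbit (b c : Steiner.std22) :
    ∃ g : Co0, g • vec6 = vec6 ∧ g • vec6' = vec6' ∧ g • stdA = stdA ∧ g • blockVec b = blockVec c := by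
  obtain ⟨σ, a1, a2, a3⟩ := exists_octad_pair_map (show octOf b.1 ∈ octads from b.2) (show octOf c.1 ∈ octads from c.2)
    (none_mem_octOf _) (zero_mem_octOf _) (none_mem_octOf _) (zero_mem_octOf _)
  obtain ⟨h1, h2, h3⟩ := hs_std_fix a1 a2
  refine ⟨permHom σ, h1, h2, h3, Subtype.ext (funext fun i => ?_)⟩
  rw [permHom_apply, blockVec_apply, blockVec_apply]
  refine if_congr ?_ rfl rfl
  rw [← a3]
  constructor
  · exact fun h => mem_smul_finset.2 ⟨_, h, Equiv.apply_symm_apply (σ : Equiv.Perm GolayPt) i⟩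
  · rintro h
    obtain ⟨j, hj, rfl⟩ := mem_smul_finset.1 h
    rwa [show σ • j = (σ : Equiv.Perm GolayPt) j from rfl, Equiv.symm_apply_apply]

theorem hs_rank3_std :
    {y | y ∈ hsSet vec6 vec6' ∧ ip stdA y = 1}.ncard = 22 ∧
    {y | y ∈ hsSet vec6 vec6' ∧ y ≠ stdA ∧ ip stdA y ≠ 1}.ncard = 77 ∧
    ∀ y ∈ hsSet vec6 vec6', ∀ y' ∈ hsSet vec6 vec6', y ≠ stdA → y' ≠ stdA →
      (ip stdA y = 1 ↔ ip stdA y' = 1) →
      ∃ g : Co0, g • vec6 = vec6 ∧ g • vec6' = vec6' ∧ g • stdA = stdA ∧ g • y = y' := by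
  have hA : ip stdA stdA = 4 := vec_norm none
  have h22 : {y | y ∈ hsSet vec6 vec6' ∧ ip stdA y = 1} = Set.range ptVec := by
    ext y
    constructor
    · rintro ⟨hy, h⟩
      obtain ⟨_ | p | b, rfl⟩ := vec_surj hy
      · simp only [vec, hA] at h; norm_num at h
      · exact ⟨p, rfl⟩
      · simp only [vec, ip_A_block] at h; norm_num at h
    · rintro ⟨p, rfl⟩; exact ⟨vec_mem (some (Sum.inl p)), ip_A_pt p⟩
  have hpinj : Function.Injective ptVec := fun p q e => by
    simpa using vec_injective (a₁ := some (Sum.inl p)) (a₂ := some (Sum.inl q)) e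
  have h22' : {y | y ∈ hsSet vec6 vec6' ∧ ip stdA y = 1}.ncard = 22 := by
    rw [h22, ← Nat.card_coe_set_eq, Nat.card_range_of_injective hpinj, Nat.card_eq_fintype_card,
      show Fintype.card Steiner.Pt22 = 22 from rfl]
  refine ⟨h22', ?_, ?_⟩
  · have hsub : insert stdA {y | y ∈ hsSet vec6 vec6' ∧ ip stdA y = 1} ⊆ hsSet vec6 vec6' := by
      rintro y (rfl | ⟨hy, -⟩)
      exacts [vec_mem none, hy]
    have hfin : (hsSet vec6 vec6').Finite := Set.finite_of_ncard_ne_zero (by rw [ncard_hsSet_std]; norm_num)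
    rw [show {y | y ∈ hsSet vec6 vec6' ∧ y ≠ stdA ∧ ip stdA y ≠ 1}
        = hsSet vec6 vec6' \ insert stdA {y | y ∈ hsSet vec6 vec6' ∧ ip stdA y = 1} by
      ext y; simp [and_assoc]; tauto, Set.ncard_sdiff hsub (hfin.subset hsub), ncard_hsSet_std,
      Set.ncard_insert_of_notMem (fun h => by have := h.2; rw [hA] at this; norm_num at this)
        (hfin.subset fun y h => h.1), h22']
  · intro y hy y' hy' hne hne' hiff
    obtain ⟨_ | p | b, rfl⟩ := vec_surj hy
    · exact absurd rfl hne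
    all_goals obtain ⟨_ | q | c, rfl⟩ := vec_surj hy'
    all_goals first | exact absurd rfl hne' | skip
    · exact hs_pt_orbit p q
    · simp [vec, ip_A_pt, ip_A_block] at hiff
    · simp [vec, ip_A_pt, ip_A_block] at hiff
    · exact hs_block_orbit b c

/-- The rank three action. -/
theorem hs_rank3 {v w x : leechLattice} (hv : ip v v = 6) (hw : ip w w = 6) (hvw : ip v w = -4)
    (hx : x ∈ hsSet v w) :
    {y | y ∈ hsSet v w ∧ ip x y = 1}.ncard = 22 ∧
    {y | y ∈ hsSet v w ∧ y ≠ x ∧ ip x y ≠ 1}.ncard = 77 ∧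
    ∀ y ∈ hsSet v w, ∀ y' ∈ hsSet v w, y ≠ x → y' ≠ x → (ip x y = 1 ↔ ip x y' = 1) →
      ∃ g : Co0, g • v = v ∧ g • w = w ∧ g • x = x ∧ g • y = y' := by
  obtain ⟨g, g1, g2, g3⟩ := (exists_hs_std hv hw hvw).2 x hx
  obtain ⟨s1, s2, s3⟩ := hs_rank3_std
  have hmem : ∀ y, g • y ∈ hsSet vec6 vec6' ↔ y ∈ hsSet v w := fun y => by
    rw [← g1, ← g2]; simp only [hsSet, Set.mem_setOf_eq, co0_ip]
  have hip : ∀ y, ip stdA (g • y) = ip x y := fun y => by rw [← g3, co0_ip]
  have hne : ∀ y, (g • y ≠ stdA) ↔ y ≠ x := fun y => by rw [← g3]; simp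
  have hpre : ∀ P : leechLattice → Prop, {y | P (g • y)}.ncard = {y | P y}.ncard := fun P => by
    rw [← Set.ncard_image_of_injective {y | P (g • y)} (MulAction.injective g)]
    congr 1
    ext y
    exact ⟨fun ⟨z, hz, e⟩ => e ▸ hz, fun h => ⟨g⁻¹ • y, by simpa using h, smul_inv_smul _ _⟩⟩
  refine ⟨?_, ?_, fun y hy y' hy' hyx hyx' hiff => ?_⟩
  · rw [← s1, ← hpre (fun y => y ∈ hsSet vec6 vec6' ∧ ip stdA y = 1)]
    simp only [hmem, hip]
  · rw [← s2, ← hpre (fun y => y ∈ hsSet vec6 vec6' ∧ y ≠ stdA ∧ ip stdA y ≠ 1)]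
    simp only [hmem, hip, hne]
  · obtain ⟨k, k1, k2, k3, k4⟩ := s3 _ ((hmem y).2 hy) _ ((hmem y').2 hy') ((hne y).2 hyx) ((hne y').2 hyx')
      (by rw [hip, hip]; exact hiff)
    refine ⟨g⁻¹ * k * g, ?_, ?_, ?_, ?_⟩ <;> rw [mul_smul, mul_smul, inv_smul_eq_iff]
    · rw [g1, k1]
    · rw [g2, k2]
    · rw [g3, k3]
    · exact k4

end Cfsg.Agent.Leech
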