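import Cfsg.Agent.Lib.Leech.HS

/-!
The configuration of McLaughlin: 275 summands of a norm 6 vector.
-/

namespace Cfsg.Agent.Leech

open Cfsg Cfsg.Agent.Golay Finset
open Cfsg.Agent.LatticeMod2 (Rootless Cong)
open scoped Pointwise

set_option maxRecDepth 10000

/-- The minimal vectors of the configuration of McLaughlin. -/
def mclSet (u v : leechLattice) : Set leechLattice := {x | ip x x = 4 ∧ ip u x = 3 ∧ ip v x = 2}

/-- Two entries `4`. -/
def IsTypeA (x : leechLattice) : Prop :=
  ∃ j : ZMod 23, j ≠ 0 ∧ ∀ i, (x : GolayPt → ℤ) i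
    = (if i = none then 4 else 0) + if i = some j then 4 else 0

/-- An octad through the two points. -/
def IsTypeB (x : leechLattice) : Prop :=
  ∃ o ∈ octads, none ∈ o ∧ some 0 ∈ o ∧ ∀ i, (x : GolayPt → ℤ) i = if i ∈ o then 2 else 0

/-- An octad through the extra point only. -/
def IsTypeC (x : leechLattice) : Prop :=
  ∃ o ∈ octads, none ∈ o ∧ some 0 ∉ o ∧
    ∀ i, (x : GolayPt → ℤ) i = if i = none then 3 else if i ∈ o then -1 else 1

theorem mem_erase_pair (i : GolayPt) :
    i ∈ ((univ : Finset GolayPt).erase none).erase (some 0) ↔ i ≠ none ∧ i ≠ some 0 := by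
  simp [and_comm]

theorem sum_split_pair (f : GolayPt → ℤ) :
    ∑ i, f i = f none + f (some 0) + ∑ i ∈ ((univ : Finset GolayPt).erase none).erase (some 0), f i := by
  rw [← add_sum_erase _ _ (mem_univ (none : GolayPt)),
    ← add_sum_erase _ _ (show (some 0 : GolayPt) ∈ univ.erase none by simp)]
  ring

theorem card_erase_pair : (((univ : Finset GolayPt).erase none).erase (some 0)).card = 22 := by decide

theorem ip_vec6_sum (x : leechLattice) :
    8 * ip vec6 x = 4 * (x : GolayPt → ℤ) none + ∑ i, (x : GolayPt → ℤ) i := by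
  rw [eight_ip, dotInt, sum_congr rfl (fun i _ => show (vec6 : GolayPt → ℤ) i * (x : GolayPt → ℤ) i
    = (x : GolayPt → ℤ) i + if i = none then 4 * (x : GolayPt → ℤ) i else 0 by
      rw [vec6_apply]; split_ifs <;> ring), sum_add_distrib, sum_ite_eq', if_pos (mem_univ _)]
  ring

/-- The three kinds of points. -/
theorem mclSet_std {x : leechLattice} (hx : x ∈ mclSet vec6 stdA) :
    IsTypeA x ∨ IsTypeB x ∨ IsTypeC x := by
  obtain ⟨h4, h3, h2⟩ := hx
  set R := ((univ : Finset GolayPt).erase none).erase (some 0) with hR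
  have e1 := ip_vec6_sum x
  rw [h3, sum_split_pair, ← hR] at e1
  have hab := ip_stdA_eq (v := x) (n := 2) (by rw [ip_comm]; exact h2)
  have e3 : ∑ i, (x : GolayPt → ℤ) i ^ 2 = 32 := (ip_self_iff (n := 4)).1 h4
  rw [sum_split_pair, ← hR] at e3
  have hb : ∀ i, -5 ≤ (x : GolayPt → ℤ) i ∧ (x : GolayPt → ℤ) i ≤ 5 := fun i => by
    have := coord_bound h4 (N := 6) (by norm_num) (by norm_num) i; omega
  obtain ⟨m, hm, hL⟩ := exists_parity x.2
  set t := (x : GolayPt → ℤ) none with ht
  have h0 : (x : GolayPt → ℤ) (some 0) = 4 - t := by omega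
  rw [h0] at e1 e3
  have hRc : R.card = 22 := card_erase_pair
  have hmem : ∀ i, i ∈ R ↔ i ≠ none ∧ i ≠ some 0 := mem_erase_pair
  have hpar : ∀ i, (2 : ℤ) ∣ (x : GolayPt → ℤ) i - t := fun i => by
    have := hL.1 i; have := hL.1 none; omega
  have hsum : ∀ a b c : ℤ, (∀ r : ℤ, -5 ≤ r → r ≤ 5 → 2 ∣ r - t → 0 ≤ a * r ^ 2 + b * r + c) →
      0 ≤ a * (32 - t ^ 2 - (4 - t) ^ 2) + b * (20 - 4 * t) + 22 * c := fun a b c hp => by
    have := sum_nonneg (s := R)
      (f := fun i => a * (x : GolayPt → ℤ) i ^ 2 + b * (x : GolayPt → ℤ) i + c)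
      (fun i _ => hp _ (hb i).1 (hb i).2 (hpar i))
    rw [sum_add_distrib, sum_add_distrib, ← mul_sum, ← mul_sum, sum_const, hRc, nsmul_eq_mul] at this
    rw [show ∑ i ∈ R, (x : GolayPt → ℤ) i ^ 2 = 32 - t ^ 2 - (4 - t) ^ 2 by linarith,
      show ∑ i ∈ R, (x : GolayPt → ℤ) i = 20 - 4 * t by linarith] at this
    push_cast at this
    exact this
  have htb := hb none
  have htb' := hb (some 0)
  rcases (show t = -1 ∨ t = 0 ∨ t = 1 ∨ t = 2 ∨ t = 3 ∨ t = 4 ∨ t = 5 by omega) with
    r | r | r | r | r | r | r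
  · have := hsum 1 0 0 (fun y _ _ _ => by nlinarith)
    have h' := hsum 1 0 (-1) (fun y h1 h2 h3 => by
      rw [r] at h3; interval_cases y <;> first | (norm_num; done) | (exfalso; omega))
    rw [r] at h'; norm_num at h'
  · have := hsum 1 (-2) 0 (fun y h1 h2 h3 => by
      rw [r] at h3; interval_cases y <;> first | (norm_num; done) | (exfalso; omega))
    rw [r] at this; norm_num at this
  · -- a word of weight at most four
    exfalso
    rw [r] at e1 e3
    norm_num at e1 e3
    have hodd : ∀ i ∈ R, (1 : ℤ) ≤ (x : GolayPt → ℤ) i ^ 2 := fun i _ => by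
      have := hpar i
      rcases (show (x : GolayPt → ℤ) i ≤ -1 ∨ 1 ≤ (x : GolayPt → ℤ) i by omega) with q | q <;> nlinarith
    have heq := (sum_eq_sum_iff_of_le hodd).1 (by rw [sum_const, hRc]; norm_num; linarith)
    have hm1 : m = 1 := by
      rcases hm with rfl | rfl
      · exfalso; have := hL.1 none; omega
      · rfl
    subst hm1
    set N := R.filter fun i => (x : GolayPt → ℤ) i = -1 with hN
    have hNs : ∑ i ∈ R, (x : GolayPt → ℤ) i = (R.card : ℤ) - 2 * (N.card : ℤ) := by
      rw [sum_congr rfl (g := fun i => (1 : ℤ) - 2 * if (x : GolayPt → ℤ) i = -1 then 1 else 0) (fun i hi => by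
        rcases sq_eq_one_iff.1 (heq i hi).symm with w | w <;> simp [w]), sum_sub_distrib, ← mul_sum,
        sum_boole, sum_const, nsmul_eq_mul, mul_one]
    have hsub : support₂ (hword 1 (x : GolayPt → ℤ)) ⊆ insert (some 0) N := by
      intro i hi
      have hi' := (mem_filter.1 hi).2
      by_contra hni
      simp only [mem_insert, hN, mem_filter, not_or, not_and] at hni
      rcases eq_or_ne i none with rfl | a
      · simp [hword, ← ht, r] at hi'
      have hiR := (hmem i).2 ⟨a, hni.1⟩
      rcases sq_eq_one_iff.1 (heq i hiR).symm with w | w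
      · simp [hword, w] at hi'
      · exact hni.2 hiR w
    have hne : hword 1 (x : GolayPt → ℤ) ≠ 0 := fun e => by
      have := congrFun e (some 0)
      simp [hword, h0, r] at this
    have h8 := (card_support_ge hL.2.2 hne).trans ((card_le_card hsub).trans (card_insert_le _ _))
    rw [hNs, hRc] at e1
    push_cast at e1
    omega
  · -- an octad
    right; left
    rw [r] at e1 e3
    norm_num at e1 e3
    have hm0 : m = 0 := by
      rcases hm with rfl | rfl
      · rfl
      · exfalso; have := hL.1 none; omega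
    subst hm0
    have hge : ∀ i ∈ R, 0 ≤ (x : GolayPt → ℤ) i ^ 2 - 2 * (x : GolayPt → ℤ) i := fun i _ => by
      have := hL.1 i
      rcases (show (x : GolayPt → ℤ) i ≤ 0 ∨ 2 ≤ (x : GolayPt → ℤ) i by omega) with q | q <;> nlinarith
    have h02 := (sum_eq_zero_iff_of_nonneg hge).1 (by rw [sum_sub_distrib, ← mul_sum]; linarith)
    have hval : ∀ i, (x : GolayPt → ℤ) i = 0 ∨ (x : GolayPt → ℤ) i = 2 := fun i => by
      rcases eq_or_ne i none with rfl | a
      · exact Or.inr r
      rcases eq_or_ne i (some 0) with rfl | b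
      · exact Or.inr (by rw [h0, r]; norm_num)
      have := h02 i ((hmem i).2 ⟨a, b⟩)
      rw [show (x : GolayPt → ℤ) i ^ 2 - 2 * (x : GolayPt → ℤ) i
        = (x : GolayPt → ℤ) i * ((x : GolayPt → ℤ) i - 2) by ring, mul_eq_zero, sub_eq_zero] at this
      exact this
    let o := support₂ (hword 0 (x : GolayPt → ℤ))
    have ho : ∀ i, i ∈ o ↔ (x : GolayPt → ℤ) i = 2 := fun i => by
      rcases hval i with q | q <;> simp [o, support₂, hword, q]
    refine ⟨o, ⟨mem_code_iff_support.1 hL.2.2, ?_⟩, (ho none).2 r, (ho _).2 (by rw [h0, r]; norm_num),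
      fun i => ?_⟩
    · have hn32 : ∑ i, (x : GolayPt → ℤ) i ^ 2 = 32 := (ip_self_iff (n := 4)).1 h4
      have : ∀ i, (x : GolayPt → ℤ) i ^ 2 = if i ∈ o then 4 else 0 := fun i => by
        rcases hval i with q | q <;> simp [ho, q]
      rw [sum_congr rfl (fun i _ => this i), sum_ite_mem, univ_inter, sum_const, nsmul_eq_mul] at hn32
      omega
    · rcases hval i with q | q <;> simp [ho, q]
  · -- an octad through the extra point
    right; right
    rw [r] at e1 e3
    norm_num at e1 e3
    have hm1 : m = 1 := by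
      rcases hm with rfl | rfl
      · exfalso; have := hL.1 none; omega
      · rfl
    subst hm1
    have hodd : ∀ i ∈ R, (1 : ℤ) ≤ (x : GolayPt → ℤ) i ^ 2 := fun i _ => by
      have := hpar i
      rcases (show (x : GolayPt → ℤ) i ≤ -1 ∨ 1 ≤ (x : GolayPt → ℤ) i by omega) with q | q <;> nlinarith
    have heq := (sum_eq_sum_iff_of_le hodd).1 (by rw [sum_const, hRc]; norm_num; linarith)
    have hval : ∀ i ∈ R, (x : GolayPt → ℤ) i = 1 ∨ (x : GolayPt → ℤ) i = -1 := fun i hi =>
      sq_eq_one_iff.1 (heq i hi).symm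
    set o := support₂ (hword 1 (x : GolayPt → ℤ))
    have ho0 : ∀ i, i ∈ o ↔ hword 1 (x : GolayPt → ℤ) i ≠ 0 := fun i =>
      mem_filter.trans (and_iff_right (mem_univ i))
    have ho : ∀ i, i ∈ o ↔ i = none ∨ (x : GolayPt → ℤ) i = -1 := fun i => by
      rw [ho0]
      rcases eq_or_ne i none with rfl | a
      · simp [hword, ← ht, r]
      rcases eq_or_ne i (some 0) with rfl | b
      · simp [hword, h0, r]
      rcases hval i ((hmem i).2 ⟨a, b⟩) with q | q <;> simp [hword, q, a]
    have hoc : o.card = 8 := by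
      have hNs : ∑ i ∈ R, (x : GolayPt → ℤ) i = (R.card : ℤ) - 2 * ((o.erase none).card : ℤ) := by
        have : o.erase none = R.filter fun i => (x : GolayPt → ℤ) i = -1 := by
          ext i
          simp only [mem_erase, ho, mem_filter, hmem]
          constructor
          · rintro ⟨a, b | b⟩
            · exact absurd b a
            · refine ⟨⟨a, fun e => ?_⟩, b⟩
              rw [e, h0, r] at b; norm_num at b
          · rintro ⟨⟨a, -⟩, b⟩; exact ⟨a, Or.inr b⟩
        rw [this, sum_congr rfl (g := fun i => (1 : ℤ) - 2 * if (x : GolayPt → ℤ) i = -1 then 1 else 0)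
          (fun i hi => by rcases hval i hi with w | w <;> simp [w]), sum_sub_distrib, ← mul_sum, sum_boole,
          sum_const, nsmul_eq_mul, mul_one]
      rw [card_erase_of_mem ((ho none).2 (Or.inl rfl))] at hNs
      have : 1 ≤ o.card := card_pos.2 ⟨none, (ho none).2 (Or.inl rfl)⟩
      rw [hNs, hRc] at e1
      push_cast [Nat.cast_sub this] at e1
      omega
    refine ⟨o, ⟨mem_code_iff_support.1 hL.2.2, hoc⟩, (ho none).2 (Or.inl rfl), fun e => ?_, fun i => ?_⟩
    · rcases (ho _).1 e with q | q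
      · simp at q
      · rw [h0, r] at q; norm_num at q
    · rcases eq_or_ne i none with rfl | a
      · simpa using r
      rw [if_neg a]
      rcases eq_or_ne i (some 0) with rfl | b
      · rw [h0, r, if_neg (by rw [ho, h0, r]; simp)]; norm_num
      rcases hval i ((hmem i).2 ⟨a, b⟩) with q | q <;> simp [ho, q, a]
  · -- two entries four
    left
    rw [r] at e1 e3
    norm_num at e1 e3
    have hm0 : m = 0 := by
      rcases hm with rfl | rfl
      · rfl
      · exfalso; have := hL.1 none; omega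
    subst hm0
    have hz : hword 0 (x : GolayPt → ℤ) = 0 := by
      by_contra hne
      have hsub : support₂ (hword 0 (x : GolayPt → ℤ)) ⊆ R := fun i hi => by
        have hi' := (mem_filter.1 hi).2
        refine (hmem i).2 ⟨fun e => ?_, fun e => ?_⟩
        · subst e; simp [hword, ← ht, r] at hi'; revert hi'; decide
        · subst e; simp [hword, h0, r] at hi'
      have h1 := card_nsmul_le_sum _ (fun i => (x : GolayPt → ℤ) i ^ 2) 4
        (fun i (hi : i ∈ support₂ (hword 0 (x : GolayPt → ℤ))) => by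
          have hi' := (mem_filter.1 hi).2
          simp only [hword, sub_zero, ne_eq, ZMod.intCast_zmod_eq_zero_iff_dvd] at hi'
          have := hL.1 i
          rcases (show (x : GolayPt → ℤ) i ≤ -2 ∨ 2 ≤ (x : GolayPt → ℤ) i by omega) with q | q <;> nlinarith)
      have h2 := sum_le_sum_of_subset_of_nonneg (f := fun i => (x : GolayPt → ℤ) i ^ 2) hsub
        fun i _ _ => sq_nonneg _
      have h8 := card_support_ge hL.2.2 hne
      rw [nsmul_eq_mul] at h1
      have : ((support₂ (hword 0 (x : GolayPt → ℤ))).card : ℤ) < 8 := by linarith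
      omega
    have hge : ∀ i ∈ R, 0 ≤ (x : GolayPt → ℤ) i ^ 2 - 4 * (x : GolayPt → ℤ) i := fun i _ => by
      have h := congrFun hz i
      simp only [hword, sub_zero, Pi.zero_apply, ZMod.intCast_zmod_eq_zero_iff_dvd] at h
      have := hL.1 i
      obtain ⟨z, hz'⟩ : (4 : ℤ) ∣ (x : GolayPt → ℤ) i := by omega
      rw [hz']
      rcases (show z ≤ 0 ∨ 1 ≤ z by omega) with q | q <;> nlinarith
    have h04 := (sum_eq_zero_iff_of_nonneg hge).1 (by rw [sum_sub_distrib, ← mul_sum]; linarith)
    have hv : ∀ i ∈ R, (x : GolayPt → ℤ) i = 0 ∨ (x : GolayPt → ℤ) i = 4 := fun i hi => by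
      have := h04 i hi
      rw [show (x : GolayPt → ℤ) i ^ 2 - 4 * (x : GolayPt → ℤ) i
        = (x : GolayPt → ℤ) i * ((x : GolayPt → ℤ) i - 4) by ring, mul_eq_zero, sub_eq_zero] at this
      exact this
    obtain ⟨j, hj, hj4⟩ : ∃ j ∈ R, (x : GolayPt → ℤ) j = 4 := by
      by_contra hall
      push Not at hall
      rw [sum_eq_zero (fun i hi => (hv i hi).resolve_right (hall i hi))] at e1
      norm_num at e1
    have hrest : ∑ i ∈ R.erase j, (x : GolayPt → ℤ) i = 0 := by
      rw [← add_sum_erase _ _ hj, hj4] at e1; linarith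
    have hr0 := (sum_eq_zero_iff_of_nonneg (fun i hi => by
      rcases hv i (mem_of_mem_erase hi) with q | q <;> rw [q] <;> norm_num)).1 hrest
    obtain ⟨hjn, hj0⟩ := (hmem j).1 hj
    rcases j with _ | k
    · exact absurd rfl hjn
    refine ⟨k, fun e => hj0 (by rw [e]), fun i => ?_⟩
    rcases eq_or_ne i none with rfl | a
    · simpa using r
    rcases eq_or_ne i (some 0) with rfl | b
    · rw [h0, r, if_neg (by simp), if_neg (Ne.symm hj0)]; norm_num
    rcases eq_or_ne i (some k) with rfl | c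
    · simp [hj4]
    simp [a, c, hr0 i (mem_erase.2 ⟨c, (hmem i).2 ⟨a, b⟩⟩)]
  · have := hsum 1 0 (-1) (fun y h1 h2 h3 => by
      rw [r] at h3; interval_cases y <;> first | (norm_num; done) | (exfalso; omega))
    rw [r] at this; norm_num at this

theorem octad_four_check : (octadList.filter fun o => o.testBit 23 && o.testBit 0).all (fun o =>
    octadList.any fun p => !p.testBit 23 && !p.testBit 0 && Nat.beq (popCount (o &&& p) 24) 4) = true := by
  decide +kernel

theorem octad_zero_check : (octadList.filter fun o => o.testBit 23 && !o.testBit 0).all (fun o =>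
    octadList.any fun p => !p.testBit 23 && !p.testBit 0 && Nat.beq (popCount (o &&& p) 24) 0) = true := by
  decide +kernel

theorem exists_partner {o : Finset GolayPt} (ho : o ∈ octads) (hn : none ∈ o) :
    ∃ p ∈ octads, none ∉ p ∧ some 0 ∉ p ∧ (o ∩ p).card = if some 0 ∈ o then 4 else 0 := by
  obtain ⟨m, hm, rfl⟩ := mem_octads.1 ho
  have h23 : m.testBit 23 = true := by simpa [mem_maskSet, idx] using hn
  cases h0 : m.testBit 0
  · have := List.all_eq_true.1 octad_zero_check m (List.mem_filter.2 ⟨hm, by simp [h23, h0]⟩)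
    obtain ⟨p, hp, hpb⟩ := List.any_eq_true.1 this
    simp only [Bool.and_eq_true, Bool.not_eq_true'] at hpb
    refine ⟨maskSet p, mem_octads.2 ⟨p, hp, rfl⟩, by simp [mem_maskSet, idx, hpb.1.1],
      by simp [mem_maskSet, idx, hpb.1.2], ?_⟩
    rw [if_neg (by simp [mem_maskSet, idx, h0]), ← maskSet_and, card_maskSet]
    exact Nat.eq_of_beq_eq_true hpb.2
  · have := List.all_eq_true.1 octad_four_check m (List.mem_filter.2 ⟨hm, by simp [h23, h0]⟩)
    obtain ⟨p, hp, hpb⟩ := List.any_eq_true.1 this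
    simp only [Bool.and_eq_true, Bool.not_eq_true'] at hpb
    refine ⟨maskSet p, mem_octads.2 ⟨p, hp, rfl⟩, by simp [mem_maskSet, idx, hpb.1.1],
      by simp [mem_maskSet, idx, hpb.1.2], ?_⟩
    rw [if_pos (by simp [mem_maskSet, idx, h0]), ← maskSet_and, card_maskSet]
    exact Nat.eq_of_beq_eq_true hpb.2

theorem exists_octad_two {p : Finset GolayPt} (hp : p ∈ octads) :
    ∃ w : leechLattice, ip w w = 4 ∧ ∀ i, (w : GolayPt → ℤ) i = if i ∈ p then 2 else 0 := by
  obtain ⟨c, hc, hcp⟩ := hp.1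
  have hv : ∀ i, (if c i = 0 then (0 : ℤ) else 2) = if i ∈ p then 2 else 0 := fun i => by
    simp [← hcp, support₂]
  refine ⟨⟨_, wordVec_mem hc⟩, (ip_self_iff (n := 4)).2 ?_, hv⟩
  show ∑ i, (if c i = 0 then (0 : ℤ) else 2) ^ 2 = 32
  rw [sum_congr rfl (fun i _ => show (if c i = 0 then (0 : ℤ) else 2) ^ 2 = if i ∈ p then 4 else 0 by
    rw [hv]; split_ifs <;> norm_num), sum_ite_mem, univ_inter, sum_const, card_octad hp]
  norm_num

theorem exists_mcl_witness {x : leechLattice} (hx : x ∈ mclSet vec6 stdA) :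
    ∃ w, ip w w = 4 ∧ ip stdA w = 0 ∧ ip vec6 w = 2 ∧ ip x w = 2 := by
  have key : ∀ o ∈ octads, none ∈ o → ∀ a b : ℤ,
      (∀ i, i ≠ none → i ≠ some 0 → (x : GolayPt → ℤ) i = if i ∈ o then a else b) →
      (if some 0 ∈ o then 4 * a + 4 * b else 8 * b) = 8 →
      ∃ w, ip w w = 4 ∧ ip stdA w = 0 ∧ ip vec6 w = 2 ∧ ip x w = 2 := by
    intro o ho hn a b hv hval
    obtain ⟨p, hp, hpn, hp0, hc⟩ := exists_partner ho hn
    obtain ⟨w, hw, hwv⟩ := exists_octad_two hp
    refine ⟨w, hw, ?_, ?_, ?_⟩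
    · refine ip_eq_of_dot ?_
      show ∑ i, (stdA : GolayPt → ℤ) i * (w : GolayPt → ℤ) i = 8 * 0
      refine (sum_eq_zero fun i _ => ?_).trans (mul_zero _).symm
      rw [hwv, stdA_apply]
      split_ifs with h1 h2 h3 <;> simp_all
    · refine ip_eq_of_dot ?_
      show ∑ i, (vec6 : GolayPt → ℤ) i * (w : GolayPt → ℤ) i = _
      rw [sum_congr rfl (fun i _ => show (vec6 : GolayPt → ℤ) i * (w : GolayPt → ℤ) i
          = if i ∈ p then 2 else 0 by
        rw [hwv, vec6_apply]; split_ifs <;> simp_all), sum_ite_mem, univ_inter, sum_const, card_octad hp]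
      norm_num
    · refine ip_eq_of_dot ?_
      show ∑ i, (x : GolayPt → ℤ) i * (w : GolayPt → ℤ) i = _
      have hterm : ∀ i, (x : GolayPt → ℤ) i * (w : GolayPt → ℤ) i
          = (if i ∈ o ∩ p then 2 * a - 2 * b else 0) + if i ∈ p then 2 * b else 0 := fun i => by
        rw [hwv]
        by_cases hip : i ∈ p
        · have h1 : i ≠ none := fun e => hpn (e ▸ hip)
          have h2 : i ≠ some 0 := fun e => hp0 (e ▸ hip)
          rw [hv i h1 h2]
          by_cases hio : i ∈ o <;> simp [hio, hip] <;> ring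
        · simp [hip]
      rw [sum_congr rfl (fun i _ => hterm i), sum_add_distrib, sum_ite_mem, sum_ite_mem, univ_inter,
        univ_inter, sum_const, sum_const, hc, card_octad hp]
      split_ifs at hval ⊢ <;> simp <;> linarith
  rcases mclSet_std hx with ⟨j, hj, hv⟩ | ⟨o, ho, hn, h0, hv⟩ | ⟨o, ho, hn, h0, hv⟩
  · refine ⟨pairV none (some 0) (by simp) 1 (-1) (Or.inl rfl) (Or.inr rfl), ip_pairV_self,
      ip_pairV _ (by simp [stdA_apply]), ip_pairV _ (by simp [vec6_apply]), ip_pairV _ ?_⟩
    rw [hv, hv]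
    simp [Ne.symm hj]
  · exact key o ho hn 2 0 (fun i _ _ => hv i) (by rw [if_pos h0]; norm_num)
  · exact key o ho hn (-1) 1 (fun i a _ => by rw [hv, if_neg a]) (by rw [if_neg h0]; norm_num)

theorem exists_mcl_std {u v : leechLattice} (hu : ip u u = 6) (hv : ip v v = 4) (huv : ip u v = 3)
    {x : leechLattice} (hx : x ∈ mclSet u v) : ∃ g : Co0, g • u = vec6 ∧ g • v = stdA ∧ g • x = stdB := by
  obtain ⟨k, k1, k2⟩ : ∃ k : Co0, k • u = vec6 ∧ k • v = stdA := by
    obtain ⟨g, g1, g2⟩ := exists_norm6_pair hu hv huv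
    exact ⟨g, g1, g2⟩
  obtain ⟨hx4, hx3, hx2⟩ := hx
  obtain ⟨w, w1, w2, w3, w4⟩ := exists_mcl_witness (x := k • x)
    ⟨(co0_ip _ _ _).trans hx4, by rw [← k1, co0_ip]; exact hx3, by rw [← k2, co0_ip]; exact hx2⟩
  have hab : (none : GolayPt) ≠ some 0 := by simp
  obtain ⟨g, h1, h2⟩ := exists_pair_frame' ip_stdA w1 w2 hab
  have hgA : g • stdA = stdA := by
    refine Subtype.ext (funext fun i => ?_)
    have e : g • (stdA + w) + g • (stdA - w) = g • stdA + g • stdA := by rw [co0_add, co0_sub]; abel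
    rw [h1, h2] at e
    have := congrFun (congrArg Subtype.val e) i
    simp only [AddSubgroup.coe_add, Pi.add_apply, coe_axis, Pi.single_apply] at this
    rw [stdA_apply]
    split_ifs at this ⊢ <;> omega
  set y : GolayPt → ℤ := ((g • vec6 : leechLattice) : GolayPt → ℤ) with hy
  have hn : y none = 5 := by
    rw [hy, apply_of_axis h1, ip_comm, rootless_ip.add, ip_comm stdA, ip_comm w, ip_stdA_vec6, w3]; norm_num
  have h0 : y (some 0) = 1 := by
    rw [hy, apply_of_axis h2, ip_comm, LatticeMod2.sub_left rootless_ip, ip_comm stdA, ip_comm w,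
      ip_stdA_vec6, w3]
    norm_num
  obtain ⟨m, hm, hL⟩ := exists_parity (g • vec6).2
  rw [← hy] at hL
  rcases hm with rfl | rfl
  · exfalso; have := hL.1 none; omega
  have h48 : ∑ i, y i ^ 2 = 48 := by
    have := co0_norm g vec6; rw [(ip_self_iff (n := 6)).1 norm_vec6] at this; exact this
  rw [← add_sum_erase _ _ (mem_univ none), hn] at h48
  have h1' : ∀ i ∈ (univ : Finset GolayPt).erase none, (1 : ℤ) ≤ y i ^ 2 := fun i _ => by
    have := hL.1 i
    rcases (show y i ≤ -1 ∨ 1 ≤ y i by omega) with r | r <;> nlinarith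
  have heq := (sum_eq_sum_iff_of_le h1').1 (by
    rw [sum_const, card_erase_of_mem (mem_univ _), show (univ : Finset GolayPt).card = 24 from rfl,
      nsmul_eq_mul]
    push_cast
    linarith)
  set f : Co0 := mono (1, ⟨hword 1 y, hL.2.2⟩) * g with hf
  have f1 : f • vec6 = vec6 := by
    rw [hf, mul_smul]
    refine Subtype.ext (funext fun i => ?_)
    rw [mono_smul]
    simp only [monoFun, OneMemClass.coe_one, Equiv.Perm.one_def, Equiv.refl_symm, Equiv.refl_apply]
    show sgn (hword 1 y) i * y i = _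
    rw [vec6_apply]
    rcases eq_or_ne i none with rfl | hi
    · simp [sgn, hword, hn]; decide
    · rcases sq_eq_one_iff.1 (heq i (mem_erase.2 ⟨hi, mem_univ i⟩)).symm with r | r <;>
        simp [sgn, hword, r, hi]
  have f2 : f • stdA = stdA := by
    rw [hf, mul_smul, hgA]
    refine Subtype.ext (funext fun i => ?_)
    rw [mono_smul]
    simp only [monoFun, OneMemClass.coe_one, Equiv.Perm.one_def, Equiv.refl_symm, Equiv.refl_apply]
    show sgn (hword 1 y) i * _ = _
    rcases eq_or_ne i none with rfl | hi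
    · simp [sgn, hword, hn, stdA_apply]; decide
    rcases eq_or_ne i (some 0) with rfl | hi'
    · simp [sgn, hword, h0, stdA_apply]
    simp [stdA_apply, hi, hi']
  set z := f • k • x with hz
  have hz1 : z ∈ mclSet vec6 stdA :=
    ⟨(co0_ip _ _ _).trans ((co0_ip _ _ _).trans hx4), by rw [← f1, hz, co0_ip, ← k1, co0_ip]; exact hx3,
      by rw [← f2, hz, co0_ip, ← k2, co0_ip]; exact hx2⟩
  have hzn : (z : GolayPt → ℤ) none = 4 := by
    have e1 : ((g • k • x : leechLattice) : GolayPt → ℤ) none = 4 := by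
      rw [apply_of_axis h1, ip_comm, rootless_ip.add, ← k2, co0_ip, hx2, ip_comm w, w4]; norm_num
    rw [hz, hf, mul_smul, mono_smul]
    simp only [monoFun, OneMemClass.coe_one, Equiv.Perm.one_def, Equiv.refl_symm, Equiv.refl_apply]
    show sgn (hword 1 y) none * _ = _
    rw [e1]
    simp [sgn, hword, hn]; decide
  rcases mclSet_std hz1 with ⟨j, hj, hv'⟩ | ⟨o, -, h, -, hv'⟩ | ⟨o, -, -, -, hv'⟩
  swap
  · rw [hv', if_pos h] at hzn; norm_num at hzn
  swap
  · rw [hv', if_pos rfl] at hzn; norm_num at hzn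
  obtain ⟨σ, hσ, hσv⟩ := exists_M24_map' (k := 3) (by norm_num) (x := ![none, some 0, some j])
    (y := ![none, some 0, some 1])
    (by intro a b; fin_cases a <;> fin_cases b <;> simp [hj, Ne.symm hj])
    (by intro a b; fin_cases a <;> fin_cases b <;> simp <;> decide)
  have e1 : σ none = none := hσv 0
  have e2 : σ (some 0) = some 0 := hσv 1
  have e3 : σ (some j) = some 1 := hσv 2
  refine ⟨permHom ⟨σ, hσ⟩ * f * k, ?_, ?_, ?_⟩
  · rw [mul_smul, mul_smul, k1, f1]
    exact permHom_fix fun i => by simp only [vec6_apply, ← σ.injective.eq_iff (a := i), e1]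
  · rw [mul_smul, mul_smul, k2, f2]
    exact permHom_fix fun i => by simp only [stdA_apply, ← σ.injective.eq_iff (a := i), e1, e2]
  · rw [mul_smul, mul_smul, ← hz]
    refine Subtype.ext (funext fun i => ?_)
    obtain ⟨l, rfl⟩ := σ.surjective i
    rw [permHom_apply, stdB, pairV_apply]
    show (z : GolayPt → ℤ) (σ.symm (σ l)) = _
    rw [Equiv.symm_apply_apply, hv', mul_one]
    have q1 : σ l = none ↔ l = none := ⟨fun e => σ.injective (e.trans e1.symm), fun e => e ▸ e1⟩
    have q2 : σ l = some 1 ↔ l = some j := by rw [← e3, σ.injective.eq_iff]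
    simp only [q2]
    by_cases hl : l = none <;> simp [hl, e1, q1]

theorem mcl_transitive {u v x x' : leechLattice} (hu : ip u u = 6) (hv : ip v v = 4) (huv : ip u v = 3)
    (hx : x ∈ mclSet u v) (hx' : x' ∈ mclSet u v) :
    ∃ g : Co0, g • u = u ∧ g • v = v ∧ g • x = x' := by
  obtain ⟨g, g1, g2, g3⟩ := exists_mcl_std hu hv huv hx
  obtain ⟨k, k1, k2, k3⟩ := exists_mcl_std hu hv huv hx'
  exact ⟨k⁻¹ * g, by rw [mul_smul, g1, ← k1, inv_smul_smul], by rw [mul_smul, g2, ← k2, inv_smul_smul],
    by rw [mul_smul, g3, ← k3, inv_smul_smul]⟩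

theorem typeA_mem {x : leechLattice} (h : IsTypeA x) : x ∈ mclSet vec6 stdA := by
  obtain ⟨j, hj, hv⟩ := h
  refine ⟨(ip_self_iff (n := 4)).2 ?_, ip_eq_of_dot ?_, ip_eq_of_dot ?_⟩ <;>
    simp only [sqNorm, dotInt, vec6_apply, stdA_apply, hv] <;> clear hv <;> revert hj j <;> decide +kernel

theorem typeB_mem {x : leechLattice} (h : IsTypeB x) : x ∈ mclSet vec6 stdA := by
  obtain ⟨o, ho, hn, h0, hv⟩ := h
  refine ⟨(ip_self_iff (n := 4)).2 ?_, ip_eq_of_dot ?_, ip_eq_of_dot ?_⟩
  · show ∑ i, (x : GolayPt → ℤ) i ^ 2 = 32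
    rw [sum_congr rfl (fun i _ => show (x : GolayPt → ℤ) i ^ 2 = if i ∈ o then 4 else 0 by
      rw [hv]; split_ifs <;> norm_num), sum_ite_mem, univ_inter, sum_const, card_octad ho]
    norm_num
  · rw [dotInt, sum_congr rfl (fun i _ => show (vec6 : GolayPt → ℤ) i * (x : GolayPt → ℤ) i
        = if i ∈ o then (2 + if i = none then 8 else 0) else 0 by
      rw [hv, vec6_apply]; split_ifs <;> norm_num), sum_ite_mem, univ_inter, sum_add_distrib, sum_const,
      sum_ite_eq', if_pos hn, card_octad ho]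
    norm_num
  · rw [dotInt, sum_congr rfl (fun i _ => show (stdA : GolayPt → ℤ) i * (x : GolayPt → ℤ) i
        = (if i = none then 8 else 0) + if i = some 0 then 8 else 0 by
      rw [hv, stdA_apply]; split_ifs <;> simp_all), sum_add_distrib, sum_ite_eq', sum_ite_eq']
    simp

theorem typeC_mem {x : leechLattice} (h : IsTypeC x) : x ∈ mclSet vec6 stdA := by
  obtain ⟨o, ho, hn, h0, hv⟩ := h
  have hcard : (o.erase none).card = 7 := by rw [card_erase_of_mem hn, card_octad ho]
  have hx : ∀ i, (x : GolayPt → ℤ) i = (1 + if i = none then 2 else 0) + if i ∈ o.erase none then -2 else 0 := fun i => by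
    rw [hv]
    rcases eq_or_ne i none with rfl | a
    · simp
    · by_cases q : i ∈ o <;> simp [q, a]
  refine ⟨(ip_self_iff (n := 4)).2 ?_, ip_eq_of_dot ?_, ip_eq_of_dot ?_⟩
  · show ∑ i, (x : GolayPt → ℤ) i ^ 2 = 32
    rw [sum_congr rfl (fun i _ => show (x : GolayPt → ℤ) i ^ 2 = 1 + if i = none then 8 else 0 by
      rw [hv]; split_ifs <;> norm_num), sum_add_distrib, sum_const, sum_ite_eq',
      show (univ : Finset GolayPt).card = 24 from rfl]
    simp
  · rw [dotInt, sum_congr rfl (fun i _ => show (vec6 : GolayPt → ℤ) i * (x : GolayPt → ℤ) i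
        = (1 + if i = none then 14 else 0) + if i ∈ o.erase none then -2 else 0 by
      rw [hx, vec6_apply]
      rcases eq_or_ne i none with rfl | a
      · simp
      · by_cases q : i ∈ o <;> simp [q, a]), sum_add_distrib, sum_add_distrib, sum_const, sum_ite_eq', sum_ite_mem,
      univ_inter, sum_const, hcard, show (univ : Finset GolayPt).card = 24 from rfl]
    simp
  · rw [dotInt, sum_congr rfl (fun i _ => show (stdA : GolayPt → ℤ) i * (x : GolayPt → ℤ) i
        = (if i = none then 12 else 0) + if i = some 0 then 4 else 0 by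
      rw [hv, stdA_apply]; split_ifs <;> simp_all), sum_add_distrib, sum_ite_eq', sum_ite_eq']
    simp

theorem octads_through_none :
    {o : Finset GolayPt | o ∈ octads ∧ none ∈ o ∧ some 0 ∉ o}.ncard = 176 := by
  have : {o : Finset GolayPt | o ∈ octads ∧ none ∈ o ∧ some 0 ∉ o}
      = {s | ∃ m ∈ octadList.filter (fun m => m.testBit 23 && !m.testBit 0), maskSet m = s} := by
    ext s
    simp only [Set.mem_setOf_eq, List.mem_filter, Bool.and_eq_true, Bool.not_eq_true']
    constructor
    · rintro ⟨hs, h1, h2⟩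
      obtain ⟨m, hm, rfl⟩ := mem_octads.1 hs
      exact ⟨m, ⟨hm, by simpa [mem_maskSet, idx] using h1, by simpa [mem_maskSet, idx] using h2⟩, rfl⟩
    · rintro ⟨m, ⟨hm, h1, h2⟩, rfl⟩
      exact ⟨mem_octads.2 ⟨m, hm, rfl⟩, by simpa [mem_maskSet, idx] using h1,
        by simpa [mem_maskSet, idx] using h2⟩
  rw [this, ncard_image_maskSet (octadList_nodup.filter _) fun m hm => lt_of_mem_octadList (List.mem_filter.1 hm).1]
  decide +kernel

theorem ncard_mclA : {x | IsTypeA x}.ncard = 22 := by
  have e : {x | IsTypeA x} = (fun j : ZMod 23 =>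
      pairV none (some j) (Option.some_ne_none j).symm 1 1 (Or.inl rfl) (Or.inl rfl)) '' {j | j ≠ 0} := by
    ext x
    constructor
    · rintro ⟨j, hj, hx⟩
      exact ⟨j, hj, Subtype.ext (funext fun i => by rw [pairV_apply, hx]; simp)⟩
    · rintro ⟨j, hj, rfl⟩
      exact ⟨j, hj, fun i => by rw [pairV_apply]; simp⟩
  rw [e, Set.ncard_image_of_injective]
  · rw [show {j : ZMod 23 | j ≠ 0} = ↑(univ.erase (0 : ZMod 23)) by ext; simp, Set.ncard_coe_finset]
    rfl
  · intro j k e
    have := congrFun (congrArg Subtype.val e) (some j)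
    simp [pairV_apply] at this
    exact this

theorem ncard_mclB : {x | IsTypeB x}.ncard = 77 := by
  rw [← octads_through_pair]
  refine Set.ncard_congr (fun x _ => univ.filter fun i => (x : GolayPt → ℤ) i = 2) ?_ ?_ ?_
  · rintro x ⟨o, ho, h1, h2, hx⟩
    have : univ.filter (fun i => (x : GolayPt → ℤ) i = 2) = o := by
      ext i; simp only [mem_filter, mem_univ, true_and, hx]; split_ifs with q <;> simp [q]
    rw [this]
    exact ⟨ho, h1, h2⟩
  · rintro x y ⟨o, -, -, -, hx⟩ ⟨o', -, -, -, hy⟩ e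
    refine Subtype.ext (funext fun i => ?_)
    have := congrArg (fun s : Finset GolayPt => decide (i ∈ s)) e
    simp [hx, hy] at this
    rw [hx, hy]
    split_ifs at this ⊢ <;> simp_all
  · rintro o ⟨ho, h1, h2⟩
    obtain ⟨w, -, hwv⟩ := exists_octad_two ho
    refine ⟨w, ⟨o, ho, h1, h2, hwv⟩, ?_⟩
    ext i; simp only [mem_filter, mem_univ, true_and, hwv]; split_ifs with q <;> simp [q]

theorem ncard_mclC : {x | IsTypeC x}.ncard = 176 := by
  rw [← octads_through_none]
  refine Set.ncard_congr (fun x _ => univ.filter fun i => i = none ∨ (x : GolayPt → ℤ) i = -1) ?_ ?_ ?_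
  · rintro x ⟨o, ho, h1, h2, hx⟩
    have : univ.filter (fun i => i = none ∨ (x : GolayPt → ℤ) i = -1) = o := by
      ext i
      rcases eq_or_ne i none with rfl | a
      · simp [h1]
      · simp [hx, a]
    rw [this]
    exact ⟨ho, h1, h2⟩
  · rintro x y ⟨o, -, -, -, hx⟩ ⟨o', -, -, -, hy⟩ e
    refine Subtype.ext (funext fun i => ?_)
    rcases eq_or_ne i none with rfl | a
    · simp [hx, hy]
    have := congrArg (fun s : Finset GolayPt => decide (i ∈ s)) e
    simp [hx, hy, a] at this
    simp [hx, hy, a, this]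
  · rintro o ⟨ho, h1, h2⟩
    obtain ⟨w, hw, hwv⟩ := exists_octad_two ho
    refine ⟨vec6 - w, ⟨o, ho, h1, h2, fun i => ?_⟩, ?_⟩
    · simp only [AddSubgroup.coe_sub, Pi.sub_apply, vec6_apply, hwv]
      rcases eq_or_ne i none with rfl | a
      · simp [h1]
      · simp only [if_neg a]; split_ifs <;> norm_num
    · ext i
      rcases eq_or_ne i none with rfl | a
      · simp [h1]
      · by_cases q : i ∈ o <;> simp [q, vec6_apply, hwv, a]

theorem ncard_mclSet {u v : leechLattice} (hu : ip u u = 6) (hv : ip v v = 4) (huv : ip u v = 3) :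
    (mclSet u v).ncard = 275 := by
  obtain ⟨k, k1, k2⟩ := exists_norm6_pair hu hv huv
  have himg : mclSet vec6 stdA = (fun x => k • x) '' mclSet u v := by
    ext x
    constructor
    · rintro ⟨a, b, c⟩
      refine ⟨k⁻¹ • x, ⟨(co0_ip _ _ _).trans a, ?_, ?_⟩, smul_inv_smul k x⟩
      · rw [← co0_ip k, smul_inv_smul, show k • u = vec6 from k1]; exact b
      · rw [← co0_ip k, smul_inv_smul, k2]; exact c
    · rintro ⟨x, ⟨a, b, c⟩, rfl⟩
      exact ⟨(co0_ip _ _ _).trans a, by rw [← show k • u = vec6 from k1, co0_ip]; exact b,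
        by rw [← k2, co0_ip]; exact c⟩
  rw [← Set.ncard_image_of_injective _ (MulAction.injective k), ← himg]
  have hfin : (mclSet vec6 stdA).Finite := shell4_finite.subset fun x hx => hx.1
  have hU : mclSet vec6 stdA = {x | IsTypeA x} ∪ ({x | IsTypeB x} ∪ {x | IsTypeC x}) := by
    ext x
    exact ⟨mclSet_std, fun h => h.elim typeA_mem (fun h => h.elim typeB_mem typeC_mem)⟩
  rw [hU] at hfin ⊢
  have val : ∀ x : leechLattice, (IsTypeA x → (x : GolayPt → ℤ) none = 4) ∧
      (IsTypeB x → (x : GolayPt → ℤ) none = 2) ∧ (IsTypeC x → (x : GolayPt → ℤ) none = 3) := fun x =>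
    ⟨fun ⟨j, _, h⟩ => by simp [h], fun ⟨o, _, h1, _, h⟩ => by simp [h, h1],
      fun ⟨o, _, _, _, h⟩ => by simp [h]⟩
  have f2 := hfin.subset Set.subset_union_right
  have d1 : Disjoint {x | IsTypeA x} ({x | IsTypeB x} ∪ {x | IsTypeC x}) :=
    Set.disjoint_left.2 fun x a b => by
      have ea := (val x).1 a
      rcases b with b | b
      · rw [(val x).2.1 b] at ea; norm_num at ea
      · rw [(val x).2.2 b] at ea; norm_num at ea
  have d2 : Disjoint {x | IsTypeB x} {x | IsTypeC x} := Set.disjoint_left.2 fun x a b => by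
    have ea := (val x).2.1 a
    rw [(val x).2.2 b] at ea; norm_num at ea
  rw [Set.ncard_union_eq d1 (hfin.subset Set.subset_union_left) f2,
    Set.ncard_union_eq d2 (f2.subset Set.subset_union_left) (f2.subset Set.subset_union_right),
    ncard_mclA, ncard_mclB, ncard_mclC]

end Cfsg.Agent.Leech
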