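import Cfsg.Agent.Lib.Leech.McLConfig
import Cfsg.Agent.Lib.Golay.SetOrbitChecks

/-!
The orbits of a point stabiliser in the configuration of McLaughlin.
-/

namespace Cfsg.Agent.Leech

open Cfsg Cfsg.Agent.Golay Cfsg.Agent.Golay.Cert Finset
open scoped Pointwise

set_option maxRecDepth 10000

/-- An orbit tree of the stabiliser of three points on octads through two of them. -/
def bTree : List (ℕ × ℕ × ℕ) :=
  [(0, 0, 10666625), (0, 0, 9969957), (0, 0, 8619033), (0, 0, 9193633), (0, 0, 10630149), (0, 0, 14254209), (0, 1, 11535529), (0, 0, 9830549), (0, 0, 8966165), (0, 0, 12641313), (0, 0, 8593633), (0, 0, 9112069), (0, 0, 11046145), (0, 1, 8412681), (0, 0, 14950785), (0, 0, 9506893), (0, 0, 12880401), (0, 0, 10506593), (0, 0, 13771273), (0, 0, 9240913), (0, 1, 10486557), (0, 0, 9748745), (0, 0, 8663097), (0, 0, 13062145), (0, 0, 13121601), (0, 0, 14747201), (0, 0, 9440193), (0, 1, 9519665), (0, 0, 8546577), (0, 0, 11100169), (0, 0, 9776129), (0, 0, 10557585), (0,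 0, 15747077), (0, 0, 11575377), (4, 1, 10881097), (0, 0, 12325377), (0, 0, 13636881), (0, 0, 12599513), (0, 0, 8675909), (0, 0, 8499969), (0, 0, 12650793), (4, 1, 12587685), (0, 0, 12747077), (0, 0, 8946281), (0, 0, 8783649), (0, 0, 9048457), (0, 0, 13370381), (0, 0, 8688833), (5, 1, 8922769), (0, 0, 8471941), (0, 0, 8431757), (0, 0, 10846245), (0, 0, 9607201), (0, 0, 15335473), (0, 0, 10110017)]

/-- Its root. -/
def bRoot : ℕ := 8391797

theorem b_orbit : classOK m21Inv m21Gens bRoot bTree octadList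
    (fun m => m.testBit 23 && m.testBit 0 && !m.testBit 1) = true := by decide +kernel

theorem partner2_check : (octadList.filter fun o => o.testBit 23 && !o.testBit 0 && !o.testBit 1).all
    (fun o => octadList.any fun p => p.testBit 23 && p.testBit 0 && p.testBit 1 &&
      Nat.beq (popCount (o &&& p) 24) 2) = true := by decide +kernel

theorem partner4_check : (octadList.filter fun o => o.testBit 23 && !o.testBit 0 && o.testBit 1).all
    (fun o => octadList.any fun p => p.testBit 23 && p.testBit 0 && p.testBit 1 &&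
      Nat.beq (popCount (o &&& p) 24) 4) = true := by decide +kernel

theorem exists_partner' {o : Finset GolayPt} (ho : o ∈ octads) (hn : none ∈ o) (h0 : some 0 ∉ o) :
    ∃ p ∈ octads, none ∈ p ∧ some 0 ∈ p ∧ some 1 ∈ p ∧ (o ∩ p).card = if some 1 ∈ o then 4 else 2 := by
  obtain ⟨m, hm, rfl⟩ := mem_octads.1 ho
  have h23 : m.testBit 23 = true := by simpa [mem_maskSet, idx] using hn
  have h00 : m.testBit 0 = false := by simpa [mem_maskSet, idx] using h0
  have e1 : ∀ n : ℕ, (some 1 : GolayPt) ∈ maskSet n ↔ n.testBit 1 = true := fun n => by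
    rw [mem_maskSet, show idx (some (1 : ZMod 23)) = 1 from rfl]
  cases h1 : m.testBit 1
  · obtain ⟨p, hp, hpb⟩ := List.any_eq_true.1
      (List.all_eq_true.1 partner2_check m (List.mem_filter.2 ⟨hm, by simp [h23, h00, h1]⟩))
    simp only [Bool.and_eq_true] at hpb
    refine ⟨maskSet p, mem_octads.2 ⟨p, hp, rfl⟩, by simp [mem_maskSet, idx, hpb.1.1.1],
      by simp [mem_maskSet, idx, hpb.1.1.2], (e1 p).2 hpb.1.2, ?_⟩
    rw [if_neg (by simp [e1, h1]), ← maskSet_and, card_maskSet]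
    exact Nat.eq_of_beq_eq_true hpb.2
  · obtain ⟨p, hp, hpb⟩ := List.any_eq_true.1
      (List.all_eq_true.1 partner4_check m (List.mem_filter.2 ⟨hm, by simp [h23, h00, h1]⟩))
    simp only [Bool.and_eq_true] at hpb
    refine ⟨maskSet p, mem_octads.2 ⟨p, hp, rfl⟩, by simp [mem_maskSet, idx, hpb.1.1.1],
      by simp [mem_maskSet, idx, hpb.1.1.2], (e1 p).2 hpb.1.2, ?_⟩
    rw [if_pos ((e1 m).2 h1), ← maskSet_and, card_maskSet]
    exact Nat.eq_of_beq_eq_true hpb.2

theorem stdB_mem : stdB ∈ mclSet vec6 stdA :=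
  typeA_mem ⟨1, by decide, fun i => by rw [stdB, pairV_apply]; simp⟩

theorem ip_stdB {y : leechLattice} {n : ℤ}
    (h : (y : GolayPt → ℤ) none + (y : GolayPt → ℤ) (some 1) = 2 * n) : ip stdB y = n := by
  rw [ip_comm]; exact ip_pairV _ (by rw [one_mul, one_mul]; exact h)

/-- A vector frame for the three standard vectors. -/
theorem frame_fix {w : leechLattice} (w1 : ip w w = 4) (w2 : ip stdA w = 0) (w3 : ip vec6 w = 2) :
    ∃ f : Co0, f • vec6 = vec6 ∧ f • stdA = stdA ∧
      ∀ z : leechLattice, ((f • z : leechLattice) : GolayPt → ℤ) none = ip z (stdA + w) := by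
  have hab : (none : GolayPt) ≠ some 0 := by simp
  obtain ⟨g, h1, h2⟩ := exists_pair_frame' ip_stdA w1 w2 hab
  have hgA : g • stdA = stdA := by
    refine Subtype.ext (funext fun i => ?_)
    have e : g • (stdA + w) + g • (stdA - w) = g • stdA + g • stdA := by rw [co0_add, co0_sub]; abel
    rw [h1, h2] at e
    have := congrFun (congrArg Subtype.val e) i
    simp only [AddSubgroup.coe_add, Pi.add_apply, coe_axis, Pi.single_apply] at this
    rw [stdA_apply]
    split_ifs at this ⊢ <;> omega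
  set y : GolayPt → ℤ := ((g • vec6 : leechLattice) : GolayPt → ℤ) with hy
  have hn : y none = 5 := by
    rw [hy, apply_of_axis h1, ip_comm, rootless_ip.add, ip_comm stdA, ip_comm w, ip_stdA_vec6, w3]; norm_num
  have h0 : y (some 0) = 1 := by
    rw [hy, apply_of_axis h2, ip_comm, LatticeMod2.sub_left rootless_ip, ip_comm stdA, ip_comm w,
      ip_stdA_vec6, w3]
    norm_num
  obtain ⟨m, hm, hL⟩ := exists_parity (g • vec6).2
  rw [← hy] at hL
  rcases hm with rfl | rfl
  · exfalso; have := hL.1 none; omega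
  have h48 : ∑ i, y i ^ 2 = 48 := by
    have := co0_norm g vec6; rw [(ip_self_iff (n := 6)).1 norm_vec6] at this; exact this
  rw [← add_sum_erase _ _ (mem_univ none), hn] at h48
  have h1' : ∀ i ∈ (univ : Finset GolayPt).erase none, (1 : ℤ) ≤ y i ^ 2 := fun i _ => by
    have := hL.1 i
    rcases (show y i ≤ -1 ∨ 1 ≤ y i by omega) with r | r <;> nlinarith
  have heq := (sum_eq_sum_iff_of_le h1').1 (by
    rw [sum_const, card_erase_of_mem (mem_univ _), show (univ : Finset GolayPt).card = 24 from rfl,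
      nsmul_eq_mul]
    push_cast
    linarith)
  set f : Co0 := mono (1, ⟨hword 1 y, hL.2.2⟩) * g with hf
  refine ⟨f, ?_, ?_, fun z => ?_⟩
  · rw [hf, mul_smul]
    refine Subtype.ext (funext fun i => ?_)
    rw [mono_smul]
    simp only [monoFun, OneMemClass.coe_one, Equiv.Perm.one_def, Equiv.refl_symm, Equiv.refl_apply]
    show sgn (hword 1 y) i * y i = _
    rw [vec6_apply]
    rcases eq_or_ne i none with rfl | hi
    · simp [sgn, hword, hn]; decide
    · rcases sq_eq_one_iff.1 (heq i (mem_erase.2 ⟨hi, mem_univ i⟩)).symm with r | r <;>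
        simp [sgn, hword, r, hi]
  · rw [hf, mul_smul, hgA]
    refine Subtype.ext (funext fun i => ?_)
    rw [mono_smul]
    simp only [monoFun, OneMemClass.coe_one, Equiv.Perm.one_def, Equiv.refl_symm, Equiv.refl_apply]
    show sgn (hword 1 y) i * _ = _
    rcases eq_or_ne i none with rfl | hi
    · simp [sgn, hword, hn, stdA_apply]; decide
    rcases eq_or_ne i (some 0) with rfl | hi'
    · simp [sgn, hword, h0, stdA_apply]
    simp [stdA_apply, hi, hi']
  · rw [hf, mul_smul, mono_smul]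
    simp only [monoFun, OneMemClass.coe_one, Equiv.Perm.one_def, Equiv.refl_symm, Equiv.refl_apply]
    show sgn (hword 1 y) none * _ = _
    rw [apply_of_axis h1, show sgn (hword 1 y) none = 1 by simp [sgn, hword, hn]; decide, one_mul]

theorem exists_rank3_witness {y : leechLattice} (hy : y ∈ mclSet vec6 stdA) (hne : y ≠ stdB) :
    ∃ w, ip w w = 4 ∧ ip stdA w = 0 ∧ ip vec6 w = 2 ∧ ip stdB w = 2 ∧
      ((ip stdB y = 2 ∧ ip y w = 2) ∨ (ip stdB y = 1 ∧ ip y w = 0)) := by
  set w₀ := pairV none (some 0) (by simp) 1 (-1) (Or.inl rfl) (Or.inr rfl) with hw₀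
  have key₀ : ip w₀ w₀ = 4 ∧ ip stdA w₀ = 0 ∧ ip vec6 w₀ = 2 ∧ ip stdB w₀ = 2 :=
    ⟨ip_pairV_self, ip_pairV _ (by simp [stdA_apply]), ip_pairV _ (by simp [vec6_apply]),
      ip_pairV _ (by simp [stdB, pairV_apply, show (0 : ZMod 23) ≠ 1 by decide])⟩
  have key : ∀ p ∈ octads, none ∈ p → some 0 ∈ p → some 1 ∈ p → ∀ l ∈ p, l ≠ none → l ≠ some 0 → l ≠ some 1 →
      ∃ w, ip w w = 4 ∧ ip stdA w = 0 ∧ ip vec6 w = 2 ∧ ip stdB w = 2 ∧
        ∀ n : ℤ, 2 * ∑ i ∈ p, (y : GolayPt → ℤ) i - 4 * ((y : GolayPt → ℤ) (some 0) + (y : GolayPt → ℤ) l) = 8 * n →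
          ip y w = n := by
    intro p hp pn p0 p1 l hl ln l0 l1
    obtain ⟨P, hP, hPv⟩ := exists_octad_two hp
    set w := P - pairV (some 0) l (Ne.symm l0) 1 1 (Or.inl rfl) (Or.inl rfl) with hw
    have hwv : ∀ i, (w : GolayPt → ℤ) i = (if i ∈ p then 2 else 0)
        - ((if i = some 0 then 4 else 0) + if i = l then 4 else 0) := fun i => by
      simp only [hw, AddSubgroup.coe_sub, Pi.sub_apply, hPv, pairV_apply, mul_one]
    have hdot : ∀ v : GolayPt → ℤ, ∑ i, v i * (w : GolayPt → ℤ) i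
        = 2 * ∑ i ∈ p, v i - 4 * (v (some 0) + v l) := fun v => by
      rw [sum_congr rfl (fun i _ => show v i * (w : GolayPt → ℤ) i = (if i ∈ p then 2 * v i else 0)
          - ((if i = some 0 then 4 * v i else 0) + if i = l then 4 * v i else 0) by
        rw [hwv]; split_ifs <;> ring), sum_sub_distrib, sum_ite_mem, univ_inter, ← mul_sum, sum_add_distrib,
        sum_ite_eq', sum_ite_eq', if_pos (mem_univ _), if_pos (mem_univ _)]
      ring
    have hpair : ∀ (v : GolayPt → ℤ) q, q ∈ p → (∀ i, i ≠ none → i ≠ q → v i = 0) → q ≠ none →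
        ∑ i ∈ p, v i = v none + v q := fun v q hq h hqn => by
      rw [← add_sum_erase _ _ pn, ← add_sum_erase _ _ (mem_erase.2 ⟨hqn, hq⟩),
        sum_eq_zero (fun i hi => h i (mem_erase.1 (mem_erase.1 hi).2).1 (mem_erase.1 hi).1), add_zero]
    refine ⟨w, (ip_self_iff (n := 4)).2 ?_, ip_eq_of_dot ?_, ip_eq_of_dot ?_, ip_eq_of_dot ?_,
      fun n hn => ip_eq_of_dot ((hdot _).trans hn)⟩
    · show ∑ i, (w : GolayPt → ℤ) i ^ 2 = 32
      rw [sum_congr rfl (fun i _ => show (w : GolayPt → ℤ) i ^ 2 = if i ∈ p then 4 else 0 by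
        rw [hwv]; split_ifs with a b c d <;> simp_all), sum_ite_mem, univ_inter, sum_const, card_octad hp]
      norm_num
    · show ∑ i, _ = _
      rw [hdot, hpair _ (some 0) p0 (fun i a b => by simp [stdA_apply, a, b]) (by simp)]
      simp [stdA_apply, ln, l0]
    · show ∑ i, _ = _
      rw [hdot, sum_congr rfl (fun i _ => vec6_apply i), sum_congr rfl (fun i _ => show
        (if i = none then (5 : ℤ) else 1) = 1 + if i = none then 4 else 0 by split_ifs <;> rfl),
        sum_add_distrib, sum_const, sum_ite_eq', if_pos pn, card_octad hp, vec6_apply, vec6_apply]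
      simp [ln]
    · show ∑ i, _ = _
      rw [hdot, hpair _ (some 1) p1 (fun i a b => by simp [stdB, pairV_apply, a, b]) (by simp)]
      simp [stdB, pairV_apply, ln, l1, show (0 : ZMod 23) ≠ 1 by decide]
  have pick : ∀ s : Finset GolayPt, 4 ≤ s.card → ∃ l ∈ s, l ≠ none ∧ l ≠ some 0 ∧ l ≠ some 1 := fun s hs => by
    obtain ⟨l, h1, h2⟩ := exists_mem_notMem_of_card_lt_card (s := ({none, some 0, some 1} : Finset GolayPt))
      (t := s) (lt_of_le_of_lt (card_le_three) (by omega))
    simp only [mem_insert, mem_singleton, not_or] at h2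
    exact ⟨l, h1, h2⟩
  rcases mclSet_std hy with ⟨j, hj, hv⟩ | ⟨o, ho, hn, h0, hv⟩ | ⟨o, ho, hn, h0, hv⟩
  · have hj1 : j ≠ 1 := fun e => hne (Subtype.ext (funext fun i => by
      rw [stdB, pairV_apply, hv, e]; simp))
    refine ⟨w₀, key₀.1, key₀.2.1, key₀.2.2.1, key₀.2.2.2, Or.inl ⟨ip_stdB ?_, ip_pairV _ ?_⟩⟩ <;>
      simp [hv, Ne.symm hj, Ne.symm hj1]
  · by_cases h1 : some 1 ∈ o
    · obtain ⟨l, hl, ln, l0, l1⟩ := pick o (by rw [card_octad ho]; norm_num)
      obtain ⟨w, a, b, c, d, e⟩ := key o ho hn h0 h1 l hl ln l0 l1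
      refine ⟨w, a, b, c, d, Or.inl ⟨ip_stdB (by simp [hv, hn, h1]), e 2 ?_⟩⟩
      rw [sum_congr rfl (fun i hi => show (y : GolayPt → ℤ) i = 2 by rw [hv, if_pos hi]), sum_const,
        card_octad ho, hv, hv, if_pos h0, if_pos hl]
      norm_num
    · exact ⟨w₀, key₀.1, key₀.2.1, key₀.2.2.1, key₀.2.2.2,
        Or.inr ⟨ip_stdB (by simp [hv, hn, h1]), ip_pairV _ (by simp [hv, hn, h0])⟩⟩
  · obtain ⟨p, hp, pn, p0, p1, hc⟩ := exists_partner' ho hn h0
    have hsum : ∑ i ∈ p, (y : GolayPt → ℤ) i = 12 - 2 * ((o ∩ p).card : ℤ) := by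
      rw [sum_congr rfl (fun i _ => show (y : GolayPt → ℤ) i
          = ((1 : ℤ) - if i ∈ o then 2 else 0) + if i = none then 4 else 0 by
        rw [hv]; split_ifs <;> simp_all), sum_add_distrib, sum_sub_distrib, sum_ite_mem, sum_ite_eq',
        if_pos pn, sum_const, sum_const, card_octad hp, inter_comm]
      simp
      ring
    by_cases h1 : some 1 ∈ o
    · rw [if_pos h1] at hc
      obtain ⟨l, hl, ln, l0, l1⟩ := pick (p \ o) (by
        have := card_sdiff_add_card_inter p o
        rw [card_octad hp, inter_comm, hc] at this; omega)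
      obtain ⟨w, a, b, c, d, e⟩ := key p hp pn p0 p1 l (mem_sdiff.1 hl).1 ln l0 l1
      refine ⟨w, a, b, c, d, Or.inr ⟨ip_stdB (by simp [hv, h1]), e 0 ?_⟩⟩
      rw [hsum, hc, hv, hv, if_neg (by simp), if_neg h0, if_neg ln, if_neg (mem_sdiff.1 hl).2]
      norm_num
    · rw [if_neg h1] at hc
      obtain ⟨l, hl, ln⟩ := exists_mem_ne (show 1 < (o ∩ p).card by omega) none
      obtain ⟨lo, lp⟩ := mem_inter.1 hl
      obtain ⟨w, a, b, c, d, e⟩ := key p hp pn p0 p1 l lp ln (fun r => h0 (r ▸ lo)) (fun r => h1 (r ▸ lo))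
      refine ⟨w, a, b, c, d, Or.inl ⟨ip_stdB (by simp [hv, h1]), e 2 ?_⟩⟩
      rw [hsum, hc, hv, hv, if_neg (by simp), if_neg h0, if_neg ln, if_pos lo]
      norm_num

theorem mcl_fix3 {σ : M24} (hn : (σ : Equiv.Perm GolayPt) none = none)
    (h0 : (σ : Equiv.Perm GolayPt) (some 0) = some 0) (h1 : (σ : Equiv.Perm GolayPt) (some 1) = some 1) :
    permHom σ • vec6 = vec6 ∧ permHom σ • stdA = stdA ∧ permHom σ • stdB = stdB := by
  have hh : ∀ {a : GolayPt}, (σ : Equiv.Perm GolayPt) a = a →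
      ∀ i, ((σ : Equiv.Perm GolayPt) i = a ↔ i = a) := fun {a} h i =>
    ⟨fun e => (σ : Equiv.Perm GolayPt).injective (e.trans h.symm), fun e => e ▸ h⟩
  refine ⟨permHom_fix fun i => ?_, permHom_fix fun i => ?_, permHom_fix fun i => ?_⟩
  · simp only [vec6_apply, hh hn]
  · simp only [stdA_apply, hh hn, hh h0]
  · simp only [stdB, pairV_apply, hh hn, hh h1]

/-- A normal form for the second point. -/
theorem exists_rank3_normal {y : leechLattice} (hy : y ∈ mclSet vec6 stdA) (hne : y ≠ stdB) :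
    ∃ g : Co0, g • vec6 = vec6 ∧ g • stdA = stdA ∧ g • stdB = stdB ∧
      ((ip stdB y = 2 ∧ ∀ i, ((g • y : leechLattice) : GolayPt → ℤ) i
        = (if i = none then 4 else 0) + if i = some 2 then 4 else 0) ∨
      (ip stdB y = 1 ∧ ∀ i, ((g • y : leechLattice) : GolayPt → ℤ) i
        = if i ∈ maskSet bRoot then 2 else 0)) := by
  obtain ⟨w, w1, w2, w3, w4, hcase⟩ := exists_rank3_witness hy hne
  obtain ⟨f, f1, f2, f3⟩ := frame_fix w1 w2 w3
  have hmem : ∀ {z}, z ∈ mclSet vec6 stdA → f • z ∈ mclSet vec6 stdA := fun {z} hz =>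
    ⟨(co0_ip _ _ _).trans hz.1, by rw [← f1, co0_ip]; exact hz.2.1, by rw [← f2, co0_ip]; exact hz.2.2⟩
  have hval : ∀ {z}, z ∈ mclSet vec6 stdA →
      ((f • z : leechLattice) : GolayPt → ℤ) none = 2 + ip z w := fun {z} hz => by
    rw [f3, ip_comm, rootless_ip.add, hz.2.2, ip_comm w]
  have hA : ∀ {z}, z ∈ mclSet vec6 stdA → ip z w = 2 → IsTypeA (f • z) := fun {z} hz h => by
    have e := hval hz
    rw [h] at e
    rcases mclSet_std (hmem hz) with t | ⟨o, -, hn, -, hv⟩ | ⟨o, -, -, -, hv⟩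
    · exact t
    · rw [hv, if_pos hn] at e; norm_num at e
    · rw [hv, if_pos rfl] at e; norm_num at e
  obtain ⟨j, hj, hjv⟩ := hA stdB_mem w4
  rcases hcase with ⟨hxy, hyw⟩ | ⟨hxy, hyw⟩
  · obtain ⟨k, hk, hkv⟩ := hA hy hyw
    have hkj : k ≠ j := fun e => hne ((MulAction.injective f) (Subtype.ext (funext fun i => by
      rw [hjv, hkv, e])))
    obtain ⟨σ, hσ, hσv⟩ := exists_M24_map' (k := 4) (by norm_num) (x := ![none, some 0, some j, some k])
      (y := ![none, some 0, some 1, some 2])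
      (by intro a b; fin_cases a <;> fin_cases b <;> simp [hj, hk, hkj, Ne.symm hj, Ne.symm hk, Ne.symm hkj])
      (by decide)
    have e0 : σ none = none := hσv 0
    have e1 : σ (some 0) = some 0 := hσv 1
    have e2 : σ (some j) = some 1 := hσv 2
    have e3 : σ (some k) = some 2 := hσv 3
    have hs : ∀ {a b : GolayPt}, σ a = b → ∀ i, (σ.symm i = a ↔ i = b) := fun {a b} h i => by
      rw [Equiv.symm_apply_eq, h]
    refine ⟨permHom ⟨σ, hσ⟩ * f, ?_, ?_, ?_, Or.inl ⟨hxy, fun i => ?_⟩⟩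
    · rw [mul_smul, f1]
      exact permHom_fix fun i => by simp only [vec6_apply, ← σ.injective.eq_iff (a := i), e0]
    · rw [mul_smul, f2]
      exact permHom_fix fun i => by simp only [stdA_apply, ← σ.injective.eq_iff (a := i), e0, e1]
    · rw [mul_smul]
      refine Subtype.ext (funext fun i => ?_)
      rw [permHom_apply, hjv, stdB, pairV_apply]
      simp only [hs e0, hs e2, mul_one]
    · rw [mul_smul, permHom_apply, hkv]
      simp only [hs e0, hs e3]
  · obtain ⟨o, ho, hn, h0, hov⟩ : IsTypeB (f • y) := by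
      have e := hval hy
      rw [hyw] at e
      rcases mclSet_std (hmem hy) with ⟨l, _, hv⟩ | t | ⟨o, -, -, -, hv⟩
      · rw [hv] at e; simp at e
      · exact t
      · rw [hv, if_pos rfl] at e; norm_num at e
    have hjo : some j ∉ o := fun hjo => by
      have e : ip (f • y) (f • stdB) = 1 := by rw [co0_ip, ip_comm, hxy]
      rw [show f • stdB = pairV none (some j) (Option.some_ne_none j).symm 1 1 (Or.inl rfl) (Or.inl rfl) from
        Subtype.ext (funext fun i => by rw [pairV_apply, hjv]; simp),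
        ip_pairV (n := 2) _ (by simp [hov, hn, hjo])] at e
      norm_num at e
    obtain ⟨σ, hσ, hσv⟩ := exists_M24_map' (k := 3) (by norm_num) (x := ![none, some 0, some j])
      (y := ![none, some 0, some 1])
      (by intro a b; fin_cases a <;> fin_cases b <;> simp [hj, Ne.symm hj])
      (by decide)
    have e0 : σ none = none := hσv 0
    have e1 : σ (some 0) = some 0 := hσv 1
    have e2 : σ (some j) = some 1 := hσv 2
    obtain ⟨m, hm, hmo⟩ := mem_octads.1 (smul_mem_octads hσ ho)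
    have hbit : ∀ (a : GolayPt) (n : ℕ), a ∈ maskSet n ↔ n.testBit (idx a) = true := fun a n => mem_maskSet
    have hq : (m.testBit 23 && m.testBit 0 && !m.testBit 1) = true := by
      have q0 : (none : GolayPt) ∈ maskSet m := by rw [hmo]; exact mem_smul_finset.2 ⟨none, hn, e0⟩
      have q1 : (some 0 : GolayPt) ∈ maskSet m := by rw [hmo]; exact mem_smul_finset.2 ⟨_, h0, e1⟩
      have q2 : (some 1 : GolayPt) ∉ maskSet m := by
        rw [hmo, ← e2]; exact fun q => hjo ((smul_mem_smul_finset_iff σ).1 q)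
      rw [hbit] at q0 q1 q2
      rw [show m.testBit 23 = true from q0, show m.testBit 0 = true from q1,
        show m.testBit 1 = false from Bool.eq_false_iff.2 q2]
      rfl
    obtain ⟨τ, hτ, hτm⟩ := class_transitive b_orbit hm hq (m' := bRoot) (by decide +kernel) (by decide +kernel)
    rw [stabIn_m21, mem_stabSets] at hτ
    obtain ⟨hτM, hτL⟩ := hτ
    have t0 : τ none = none := (smul_singleton_eq_iff τ _).1 (hτL _ (by simp))
    have t1 : τ (some 0) = some 0 := (smul_singleton_eq_iff τ _).1 (hτL _ (by simp))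
    have t2 : τ (some 1) = some 1 := (smul_singleton_eq_iff τ _).1 (hτL _ (by simp))
    obtain ⟨s1, s2, s3⟩ := mcl_fix3 (σ := ⟨τ, hτM⟩) t0 t1 t2
    have hp2 : permHom ⟨σ, hσ⟩ • f • stdB = stdB := Subtype.ext (funext fun i => by
      rw [permHom_apply, hjv, stdB, pairV_apply]
      simp only [Equiv.symm_apply_eq, e0, e2, mul_one])
    refine ⟨permHom ⟨τ, hτM⟩ * (permHom ⟨σ, hσ⟩ * f), ?_, ?_, ?_, Or.inr ⟨hxy, fun i => ?_⟩⟩
    · rw [mul_smul, mul_smul, f1, show permHom ⟨σ, hσ⟩ • vec6 = vec6 from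
        permHom_fix fun i => by simp only [vec6_apply, ← σ.injective.eq_iff (a := i), e0], s1]
    · rw [mul_smul, mul_smul, f2, show permHom ⟨σ, hσ⟩ • stdA = stdA from
        permHom_fix fun i => by simp only [stdA_apply, ← σ.injective.eq_iff (a := i), e0, e1], s2]
    · rw [mul_smul, mul_smul, hp2, s3]
    · rw [mul_smul, mul_smul, permHom_apply, permHom_apply, hov, ← hτm, hmo]
      refine if_congr ?_ rfl rfl
      show σ.symm (τ.symm i) ∈ o ↔ i ∈ τ • σ • o
      rw [mem_smul_finset]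
      constructor
      · exact fun h => ⟨τ.symm i, mem_smul_finset.2 ⟨_, h, σ.apply_symm_apply _⟩, τ.apply_symm_apply _⟩
      · rintro ⟨a, ha, rfl⟩
        obtain ⟨b, hb, rfl⟩ := mem_smul_finset.1 ha
        show σ.symm (τ.symm (τ (σ b))) ∈ o
        rwa [Equiv.symm_apply_apply, Equiv.symm_apply_apply]

theorem octads_exactly_one :
    {o : Finset GolayPt | o ∈ octads ∧ none ∈ o ∧ (some 0 ∈ o ↔ some 1 ∉ o)}.ncard = 112 := by
  rw [ncard_octads_filter _ (fun m => m.testBit 23 && (Bool.xor (m.testBit 0) (m.testBit 1))) fun m => by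
    simp only [mem_maskSet, idx]
    cases h0 : m.testBit 0 <;> cases h1 : m.testBit 1 <;> cases h23 : m.testBit 23 <;>
      simp_all [show ((1 : ZMod 23).val) = 1 from rfl]]
  decide +kernel

theorem mcl_rank3_std :
    {y | y ∈ mclSet vec6 stdA ∧ ip stdB y = 1}.ncard = 112 ∧
    {y | y ∈ mclSet vec6 stdA ∧ y ≠ stdB ∧ ip stdB y = 2}.ncard = 162 ∧
    ∀ y ∈ mclSet vec6 stdA, ∀ y' ∈ mclSet vec6 stdA, y ≠ stdB → y' ≠ stdB → ip stdB y = ip stdB y' →
      ∃ g : Co0, g • vec6 = vec6 ∧ g • stdA = stdA ∧ g • stdB = stdB ∧ g • y = y' := by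
  have hB4 : ip stdB stdB = 4 := stdB_mem.1
  have hdich : ∀ y ∈ mclSet vec6 stdA, y ≠ stdB → ip stdB y = 1 ∨ ip stdB y = 2 := fun y hy hne => by
    obtain ⟨w, -, -, -, -, h | h⟩ := exists_rank3_witness hy hne
    exacts [Or.inr h.1, Or.inl h.1]
  have h112 : {y | y ∈ mclSet vec6 stdA ∧ ip stdB y = 1}.ncard = 112 := by
    rw [← octads_exactly_one]
    refine Set.ncard_congr (fun y _ => univ.filter fun i => (y : GolayPt → ℤ) i
      = if (y : GolayPt → ℤ) none = 2 then 2 else if i = none then 3 else -1) ?_ ?_ ?_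
    · rintro y ⟨hy, h1⟩
      have hne : y ≠ stdB := fun e => by rw [e, hB4] at h1; norm_num at h1
      rcases mclSet_std hy with ⟨j, hj, hv⟩ | ⟨o, ho, hn, h0, hv⟩ | ⟨o, ho, hn, h0, hv⟩
      · exfalso
        have hj1 : j ≠ 1 := fun e => hne (Subtype.ext (funext fun i => by
          rw [stdB, pairV_apply, hv, e]; simp))
        rw [ip_stdB (n := 2) (by simp [hv, Ne.symm hj1])] at h1
        norm_num at h1
      · have e : univ.filter (fun i => (y : GolayPt → ℤ) i
            = if (y : GolayPt → ℤ) none = 2 then 2 else if i = none then 3 else -1) = o := by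
          ext i; simp [hv, hn]
        rw [e]
        refine ⟨ho, hn, iff_of_true h0 fun h => ?_⟩
        rw [ip_stdB (n := 2) (by simp [hv, hn, h])] at h1
        norm_num at h1
      · have e : univ.filter (fun i => (y : GolayPt → ℤ) i
            = if (y : GolayPt → ℤ) none = 2 then 2 else if i = none then 3 else -1) = o := by
          ext i
          rcases eq_or_ne i none with rfl | a
          · simp [hv, hn]
          · simp [hv, a]
        rw [e]
        refine ⟨ho, hn, iff_of_false h0 (not_not.2 ?_)⟩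
        by_contra h
        rw [ip_stdB (n := 2) (by simp [hv, h])] at h1
        norm_num at h1
    · rintro x y ⟨hx, x1⟩ ⟨hy, y1⟩ e
      have key : ∀ z : leechLattice, z ∈ mclSet vec6 stdA → ip stdB z = 1 →
          ∃ o : Finset GolayPt, univ.filter (fun i => (z : GolayPt → ℤ) i
            = if (z : GolayPt → ℤ) none = 2 then 2 else if i = none then 3 else -1) = o ∧
          ∀ i, (z : GolayPt → ℤ) i = if some 0 ∈ o then (if i ∈ o then 2 else 0)
            else (if i = none then 3 else if i ∈ o then -1 else 1) := by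
        intro z hz z1
        rcases mclSet_std hz with ⟨j, hj, hv⟩ | ⟨o, ho, hn, h0, hv⟩ | ⟨o, ho, hn, h0, hv⟩
        · exfalso
          rcases eq_or_ne j 1 with rfl | hj1
          · rw [show z = stdB from Subtype.ext (funext fun i => by rw [stdB, pairV_apply, hv]; simp), hB4] at z1
            norm_num at z1
          · rw [ip_stdB (n := 2) (by simp [hv, Ne.symm hj1])] at z1
            norm_num at z1
        · exact ⟨o, by ext i; simp [hv, hn], fun i => by rw [if_pos h0, hv]⟩
        · refine ⟨o, ?_, fun i => by rw [if_neg h0, hv]⟩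
          ext i
          rcases eq_or_ne i none with rfl | a
          · simp [hv, hn]
          · simp [hv, a]
      obtain ⟨o, ho, hxv⟩ := key x hx x1
      obtain ⟨o', ho', hyv⟩ := key y hy y1
      obtain rfl : o = o' := ho.symm.trans (e.trans ho')
      exact Subtype.ext (funext fun i => (hxv i).trans (hyv i).symm)
    · rintro o ⟨ho, hn, hiff⟩
      obtain ⟨w, hw, hwv⟩ := exists_octad_two ho
      by_cases h0 : some 0 ∈ o
      · refine ⟨w, ⟨typeB_mem ⟨o, ho, hn, h0, hwv⟩, ip_stdB (by simp [hwv, hn, hiff.1 h0])⟩, ?_⟩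
        ext i; simp [hwv, hn]
      · have hv : ∀ i, ((vec6 - w : leechLattice) : GolayPt → ℤ) i
            = if i = none then 3 else if i ∈ o then -1 else 1 := fun i => by
          simp only [AddSubgroup.coe_sub, Pi.sub_apply, vec6_apply, hwv]
          rcases eq_or_ne i none with rfl | a
          · simp [hn]
          · simp only [if_neg a]; split_ifs <;> norm_num
        refine ⟨vec6 - w, ⟨typeC_mem ⟨o, ho, hn, h0, hv⟩,
          ip_stdB (by simp only [hv]; simp [not_not.1 (mt hiff.2 h0)])⟩, ?_⟩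
        ext i
        rcases eq_or_ne i none with rfl | a
        · simp only [mem_filter, mem_univ, true_and, hv]; simp [hn]
        · simp only [mem_filter, mem_univ, true_and, hv]; simp [a]
  refine ⟨h112, ?_, fun y hy y' hy' hne hne' heq => ?_⟩
  · have hsub : insert stdB {y | y ∈ mclSet vec6 stdA ∧ ip stdB y = 1} ⊆ mclSet vec6 stdA := by
      rintro y (rfl | ⟨hy, -⟩)
      exacts [stdB_mem, hy]
    have hfin : (mclSet vec6 stdA).Finite := shell4_finite.subset fun x hx => hx.1
    rw [show {y | y ∈ mclSet vec6 stdA ∧ y ≠ stdB ∧ ip stdB y = 2}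
        = mclSet vec6 stdA \ insert stdB {y | y ∈ mclSet vec6 stdA ∧ ip stdB y = 1} by
      ext y
      constructor
      · rintro ⟨hy, hne, h2⟩
        exact ⟨hy, fun h => h.elim hne fun h => by have := h.2; omega⟩
      · rintro ⟨hy, h⟩
        have hne : y ≠ stdB := fun e => h (Or.inl e)
        exact ⟨hy, hne, (hdich y hy hne).resolve_left fun e => h (Or.inr ⟨hy, e⟩)⟩,
      Set.ncard_sdiff hsub (hfin.subset hsub), ncard_mclSet norm_vec6 ip_stdA ip_stdA_vec6,
      Set.ncard_insert_of_notMem (fun h => by have := h.2; omega) (hfin.subset fun y h => h.1), h112]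
  · obtain ⟨g, g1, g2, g3, hg⟩ := exists_rank3_normal hy hne
    obtain ⟨k, k1, k2, k3, hk⟩ := exists_rank3_normal hy' hne'
    refine ⟨k⁻¹ * g, by rw [mul_smul, g1, inv_smul_eq_iff, k1], by rw [mul_smul, g2, inv_smul_eq_iff, k2],
      by rw [mul_smul, g3, inv_smul_eq_iff, k3], ?_⟩
    rw [mul_smul, inv_smul_eq_iff]
    refine Subtype.ext (funext fun i => ?_)
    rcases hg with ⟨a, b⟩ | ⟨a, b⟩ <;> rcases hk with ⟨c, d⟩ | ⟨c, d⟩ <;>
      first | (exfalso; omega) | rw [b, d]

/-- The rank three action. -/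
theorem mcl_rank3 {u v x : leechLattice} (hu : ip u u = 6) (hv : ip v v = 4) (huv : ip u v = 3)
    (hx : x ∈ mclSet u v) :
    {y | y ∈ mclSet u v ∧ ip x y = 1}.ncard = 112 ∧
    {y | y ∈ mclSet u v ∧ y ≠ x ∧ ip x y = 2}.ncard = 162 ∧
    ∀ y ∈ mclSet u v, ∀ y' ∈ mclSet u v, y ≠ x → y' ≠ x → ip x y = ip x y' →
      ∃ g : Co0, g • u = u ∧ g • v = v ∧ g • x = x ∧ g • y = y' := by
  obtain ⟨g, g1, g2, g3⟩ := exists_mcl_std hu hv huv hx
  obtain ⟨s1, s2, s3⟩ := mcl_rank3_std
  have hmem : ∀ y, g • y ∈ mclSet vec6 stdA ↔ y ∈ mclSet u v := fun y => by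
    rw [← g1, ← g2]; simp only [mclSet, Set.mem_setOf_eq, co0_ip]
  have hip : ∀ y, ip stdB (g • y) = ip x y := fun y => by rw [← g3, co0_ip]
  have hne : ∀ y, (g • y ≠ stdB) ↔ y ≠ x := fun y => by rw [← g3]; simp
  have hpre : ∀ P : leechLattice → Prop, {y | P (g • y)}.ncard = {y | P y}.ncard := fun P => by
    rw [← Set.ncard_image_of_injective {y | P (g • y)} (MulAction.injective g)]
    congr 1
    ext y
    exact ⟨fun ⟨z, hz, e⟩ => e ▸ hz, fun h => ⟨g⁻¹ • y, by simpa using h, smul_inv_smul _ _⟩⟩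
  refine ⟨?_, ?_, fun y hy y' hy' hyx hyx' he => ?_⟩
  · rw [← s1, ← hpre (fun y => y ∈ mclSet vec6 stdA ∧ ip stdB y = 1)]
    simp only [hmem, hip]
  · rw [← s2, ← hpre (fun y => y ∈ mclSet vec6 stdA ∧ y ≠ stdB ∧ ip stdB y = 2)]
    simp only [hmem, hip, hne]
  · obtain ⟨k, k1, k2, k3, k4⟩ := s3 _ ((hmem y).2 hy) _ ((hmem y').2 hy') ((hne y).2 hyx) ((hne y').2 hyx')
      (by rw [hip, hip]; exact he)
    refine ⟨g⁻¹ * k * g, ?_, ?_, ?_, ?_⟩ <;> rw [mul_smul, mul_smul, inv_smul_eq_iff]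
    · rw [g1, k1]
    · rw [g2, k2]
    · rw [g3, k3]
    · exact k4

end Cfsg.Agent.Leech
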