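import Cfsg.Agent.Lib.Leech.Short

/-!
Pairs of minimal vectors, and decompositions of vectors of norm 6.
-/

namespace Cfsg.Agent.Leech

open Cfsg Cfsg.Agent.Golay Finset
open Cfsg.Agent.LatticeMod2 (Rootless Cong)
open scoped Pointwise

set_option maxRecDepth 10000

/-- The standard minimal vector `(4, 4, 0²²)`. -/
def stdA : leechLattice := pairV none (some 0) (by simp) 1 1 (Or.inl rfl) (Or.inl rfl)

theorem stdA_apply (i : GolayPt) : (stdA : GolayPt → ℤ) i
    = (if i = none then 4 else 0) + if i = some 0 then 4 else 0 := by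
  rw [stdA, pairV_apply]; simp

theorem ip_stdA : ip stdA stdA = 4 := ip_pairV_self

theorem ip_stdA_eq {v : leechLattice} {n : ℤ}
    (h : ip v stdA = n) : (v : GolayPt → ℤ) none + (v : GolayPt → ℤ) (some 0) = 2 * n := by
  have := eight_ip v stdA
  rw [h, stdA, show (pairV none (some 0) (by simp) 1 1 (Or.inl rfl) (Or.inl rfl) : GolayPt → ℤ)
    = Pi.single none (4 * 1) + Pi.single (some 0) (4 * 1) from rfl, dotInt_comm, dotInt_add_left,
    dotInt_comm, dot_single, dotInt_comm, dot_single] at this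
  linarith

theorem coord_bound {v : leechLattice} {n N : ℤ} (hv : ip v v = n) (h : 8 * n < N ^ 2) (hN : 0 ≤ N)
    (i : GolayPt) : -N < (v : GolayPt → ℤ) i ∧ (v : GolayPt → ℤ) i < N := by
  have h1 := single_le_sqNorm (v : GolayPt → ℤ) i
  have h2 := (ip_self_iff).1 hv
  exact abs_le_of_sq (by omega) hN

/-- A pair orthogonal to `stdA` on a set of positions of value `± 2`. -/
theorem witness_two {v : leechLattice} {k n : GolayPt} (hkn : k ≠ n) (hk0 : k ≠ none)
    (hk1 : k ≠ some 0) (hn0 : n ≠ none) (hn1 : n ≠ some 0) {A B : ℤ}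
    (hk : (v : GolayPt → ℤ) k ^ 2 = A ^ 2) (hn : (v : GolayPt → ℤ) n ^ 2 = B ^ 2) (hab : A + B = 4) :
    ∃ w, ip w w = 4 ∧ ip stdA w = 0 ∧ ip v w = 2 := by
  obtain ⟨s, t, hs, ht, h⟩ := exists_pairV_ip hkn hk hn (n := 2) (by omega)
  refine ⟨_, ip_pairV_self, ?_, h⟩
  exact ip_pairV_disjoint (Ne.symm hk0) (Ne.symm hn0) (Ne.symm hk1) (Ne.symm hn1)

/-- The witness supported on the first two positions. -/
theorem witness_self {v : leechLattice}
    (h : (v : GolayPt → ℤ) none - (v : GolayPt → ℤ) (some 0) = 4 ∨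
      (v : GolayPt → ℤ) none - (v : GolayPt → ℤ) (some 0) = -4) :
    ∃ w, ip w w = 4 ∧ ip stdA w = 0 ∧ ip v w = 2 := by
  rcases h with h | h
  · refine ⟨pairV none (some 0) (by simp) 1 (-1) (Or.inl rfl) (Or.inr rfl), ip_pairV_self, ?_,
      ip_pairV v (by linarith)⟩
    exact ip_pairV _ (by simp [stdA_apply])
  · refine ⟨pairV none (some 0) (by simp) (-1) 1 (Or.inr rfl) (Or.inl rfl), ip_pairV_self, ?_,
      ip_pairV v (by linarith)⟩
    exact ip_pairV _ (by simp [stdA_apply])

theorem exists_two_of_card {T : Finset GolayPt} (h : 4 ≤ T.card) :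
    ∃ k n, k ∈ T ∧ n ∈ T ∧ k ≠ n ∧ k ≠ none ∧ k ≠ some 0 ∧ n ≠ none ∧ n ≠ some 0 := by
  have h2 : 2 ≤ (T \ {none, some 0}).card := by
    have := le_card_sdiff ({none, some 0} : Finset GolayPt) T
    have : ({none, some 0} : Finset GolayPt).card = 2 := by decide
    omega
  obtain ⟨U, hU, hUc⟩ := exists_subset_card_eq h2
  obtain ⟨k, n, hkn, rfl⟩ := card_eq_two.1 hUc
  have hk := mem_sdiff.1 (hU (mem_insert_self _ _))
  have hn := mem_sdiff.1 (hU (mem_insert_of_mem (mem_singleton_self _)))
  simp only [mem_insert, mem_singleton, not_or] at hk hn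
  exact ⟨k, n, hk.1, hn.1, hkn, hk.2.1, hk.2.2, hn.2.1, hn.2.2⟩

/-- For an even vector with a coordinate congruent to 2 modulo 4, the odd halves. -/
theorem half_facts {v : leechLattice} {p : GolayPt} (hp : ¬ (4 : ℤ) ∣ (v : GolayPt → ℤ) p)
    (he : (2 : ℤ) ∣ (v : GolayPt → ℤ) p) :
    ∃ P : Finset GolayPt, 8 ≤ P.card ∧ (∀ i, i ∈ P → 4 ≤ (v : GolayPt → ℤ) i ^ 2) ∧
      (∀ i, i ∈ P ↔ ¬ (4 : ℤ) ∣ (v : GolayPt → ℤ) i) := by
  obtain ⟨m, hm, hL⟩ := exists_parity v.2
  rcases hm with rfl | rfl
  swap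
  · exfalso; have := hL.1 p; omega
  refine ⟨support₂ (hword 0 (v : GolayPt → ℤ)), card_support_ge hL.2.2 fun e => hp ?_, fun i hi => ?_,
    fun i => ?_⟩
  · have := congrFun e p
    simp only [hword, sub_zero, Pi.zero_apply, ZMod.intCast_zmod_eq_zero_iff_dvd] at this
    omega
  · simp only [support₂, hword, sub_zero, mem_filter, mem_univ, true_and, ne_eq,
      ZMod.intCast_zmod_eq_zero_iff_dvd] at hi
    have := hL.1 i
    rcases (show (v : GolayPt → ℤ) i ≤ -2 ∨ 2 ≤ (v : GolayPt → ℤ) i by omega) with q | q <;> nlinarith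
  · simp only [support₂, hword, sub_zero, mem_filter, mem_univ, true_and, ne_eq,
      ZMod.intCast_zmod_eq_zero_iff_dvd]
    have := hL.1 i
    omega

theorem exists_witness6 {u : leechLattice} (hu : ip u u = 6) (ha : ip u stdA = 3) :
    ∃ w, ip w w = 4 ∧ ip stdA w = 0 ∧ ip u w = 2 := by
  have hs := ip_stdA_eq ha
  have hb := coord_bound hu (N := 7) (by norm_num) (by norm_num)
  have h0 := hb none
  have h1 := hb (some 0)
  have h48 : ∑ i, (u : GolayPt → ℤ) i ^ 2 = 48 := (ip_self_iff (n := 6)).1 hu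
  have hpar : (2 : ℤ) ∣ (u : GolayPt → ℤ) none - (u : GolayPt → ℤ) (some 0) := by omega
  rcases (show (u : GolayPt → ℤ) none - (u : GolayPt → ℤ) (some 0) = 4 ∨
      (u : GolayPt → ℤ) none - (u : GolayPt → ℤ) (some 0) = -4 ∨
      ((u : GolayPt → ℤ) none = 3 ∧ (u : GolayPt → ℤ) (some 0) = 3) ∨
      ((u : GolayPt → ℤ) none = 4 ∧ (u : GolayPt → ℤ) (some 0) = 2) ∨
      ((u : GolayPt → ℤ) none = 2 ∧ (u : GolayPt → ℤ) (some 0) = 4) ∨
      (u : GolayPt → ℤ) none = 6 ∨ (u : GolayPt → ℤ) (some 0) = 6 by omega) with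
    h | h | h | h | h | h | h
  · exact witness_self (Or.inl h)
  · exact witness_self (Or.inr h)
  · -- (3, 3)
    obtain ⟨m, hm, hL⟩ := exists_parity u.2
    rcases hm with rfl | rfl
    · exfalso; have := hL.1 none; omega
    have hodd : ∀ i, (u : GolayPt → ℤ) i ^ 2 = 1 ∨ 9 ≤ (u : GolayPt → ℤ) i ^ 2 := fun i => by
      have := hL.1 i
      rcases (show (u : GolayPt → ℤ) i = 1 ∨ (u : GolayPt → ℤ) i = -1 ∨ (u : GolayPt → ℤ) i ≤ -3 ∨
        3 ≤ (u : GolayPt → ℤ) i by omega) with q | q | q | q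
      · left; rw [q]; norm_num
      · left; rw [q]; norm_num
      · right; nlinarith
      · right; nlinarith
    set R := (univ.erase none).erase (some 0 : GolayPt)
    have hR : R.card = 22 := by decide
    have hsum : ∑ i ∈ R, (u : GolayPt → ℤ) i ^ 2 = 30 := by
      have e1 := add_sum_erase univ (fun i => (u : GolayPt → ℤ) i ^ 2) (mem_univ none)
      have e2 := add_sum_erase (univ.erase none) (fun i => (u : GolayPt → ℤ) i ^ 2)
        (a := some 0) (by simp)
      simp only [h.1, h.2] at e1 e2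
      rw [h48] at e1
      show ∑ i ∈ (univ.erase none).erase (some 0 : GolayPt), _ = _
      linarith
    obtain ⟨k, hk, hk9⟩ : ∃ k ∈ R, (u : GolayPt → ℤ) k ^ 2 = 9 := by
      by_contra hall
      push Not at hall
      have hbig : ∀ i ∈ R, (u : GolayPt → ℤ) i ^ 2 = 1 := fun i hi => by
        rcases hodd i with q | q
        · exact q
        · exfalso
          have hh := hall i hi
          have := hL.1 i
          have hi' := hb i
          rcases (show (u : GolayPt → ℤ) i = 3 ∨ (u : GolayPt → ℤ) i = -3 ∨ (u : GolayPt → ℤ) i = 5 ∨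
            (u : GolayPt → ℤ) i = -5 ∨ (u : GolayPt → ℤ) i = 1 ∨ (u : GolayPt → ℤ) i = -1 by omega) with
            r | r | r | r | r | r
          · rw [r] at hh; norm_num at hh
          · rw [r] at hh; norm_num at hh
          all_goals
            rw [← add_sum_erase _ _ hi] at hsum
            have := card_nsmul_le_sum (R.erase i) (fun j => (u : GolayPt → ℤ) j ^ 2) 1
              (fun j _ => by rcases hodd j with q | q <;> omega)
            rw [card_erase_of_mem hi, hR] at this
            rw [r] at hsum q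
            norm_num at hsum this ⊢
            try linarith
      rw [sum_congr rfl hbig, sum_const, hR] at hsum
      norm_num at hsum
    obtain ⟨n, hn, hn1⟩ : ∃ n ∈ R.erase k, (u : GolayPt → ℤ) n ^ 2 = 1 := by
      by_contra hall
      push Not at hall
      rw [← add_sum_erase _ _ hk, hk9] at hsum
      have := card_nsmul_le_sum (R.erase k) (fun j => (u : GolayPt → ℤ) j ^ 2) 9
        (fun j hj => (hodd j).resolve_left (hall j hj))
      rw [card_erase_of_mem hk, hR] at this
      norm_num at this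
      linarith
    obtain ⟨hnk, hn⟩ := mem_erase.1 hn
    obtain ⟨hk1, hk0, -⟩ : k ≠ some 0 ∧ k ≠ none ∧ True := by
      simp only [R, mem_erase] at hk; exact ⟨hk.1, hk.2.1, trivial⟩
    simp only [R, mem_erase] at hn
    exact witness_two (Ne.symm hnk) hk0 hk1 hn.2.1 hn.1 (A := 3) (B := 1)
      (by rw [hk9]; norm_num) (by rw [hn1]; norm_num) (by norm_num)
  all_goals
    obtain ⟨p, hp, hp2⟩ : ∃ p, ((u : GolayPt → ℤ) p = 2 ∨ (u : GolayPt → ℤ) p = 6) ∧ True := by
      first
        | exact ⟨some 0, Or.inl h.2, trivial⟩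
        | exact ⟨none, Or.inl h.1, trivial⟩
        | exact ⟨none, Or.inr h, trivial⟩
        | exact ⟨some 0, Or.inr h, trivial⟩
    obtain ⟨P, hP8, hP4, hPmem⟩ := half_facts (v := u) (p := p)
      (by rcases hp with q | q <;> rw [q] <;> norm_num) (by rcases hp with q | q <;> rw [q] <;> norm_num)
    have hPv : ∀ i ∈ P, (u : GolayPt → ℤ) i ^ 2 = 2 ^ 2 := by
      intro i hi
      by_contra hne
      have hle := sum_le_sum_of_subset_of_nonneg (f := fun j => (u : GolayPt → ℤ) j ^ 2)
        (subset_univ P) (fun j _ _ => sq_nonneg _)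
      rw [← add_sum_erase _ _ hi] at hle
      have h28 := card_nsmul_le_sum (P.erase i) (fun j => (u : GolayPt → ℤ) j ^ 2) 4
        (fun j hj => hP4 j (mem_of_mem_erase hj))
      rw [card_erase_of_mem hi, nsmul_eq_mul] at h28
      have h36 : 36 ≤ (u : GolayPt → ℤ) i ^ 2 := by
        have h4i := (hPmem i).1 hi
        have := hb i
        obtain ⟨m, hm, hL⟩ := exists_parity u.2
        have := hL.1 i
        have := hL.1 p
        rcases (show (u : GolayPt → ℤ) i = 2 ∨ (u : GolayPt → ℤ) i = -2 ∨ (u : GolayPt → ℤ) i = 6 ∨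
          (u : GolayPt → ℤ) i = -6 by rcases hp with q | q <;> omega) with r | r | r | r <;>
          rw [r] at hne ⊢ <;> first | (norm_num at hne; done) | norm_num
      have : (7 : ℤ) ≤ ((P.card - 1 : ℕ) : ℤ) := by omega
      nlinarith
    obtain ⟨k, n, hk, hn, hkn, hk0, hk1, hn0, hn1⟩ := exists_two_of_card (T := P) (by omega)
    exact witness_two hkn hk0 hk1 hn0 hn1 (hPv k hk) (hPv n hn) (by norm_num)

/-- The stabiliser of a norm 6 vector is transitive on its decompositions. -/
theorem exists_norm6_pair {u a : leechLattice} (hu : ip u u = 6) (ha : ip a a = 4) (h : ip u a = 3) :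
    ∃ g : Co0, g • u = -Spor.leechV ∧ g • a = stdA := by
  have hab : (none : GolayPt) ≠ some 0 := by simp
  obtain ⟨g₀, hg₀⟩ := exists_norm4_to_pair ha hab
  obtain ⟨w', hw', haw', huw'⟩ := exists_witness6 (u := g₀ • u) ((co0_ip _ _ _).trans hu)
    (by rw [show stdA = g₀ • a from hg₀.symm, co0_ip, h])
  obtain ⟨w, rfl⟩ : ∃ w, g₀ • w = w' := ⟨g₀⁻¹ • w', smul_inv_smul _ _⟩
  rw [show stdA = g₀ • a from hg₀.symm, co0_ip] at haw'
  rw [co0_ip] at huw' hw'
  obtain ⟨g, h1, h2⟩ := exists_pair_frame' ha hw' haw' hab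
  have hn : ((g • u : leechLattice) : GolayPt → ℤ) none = 5 := by
    rw [apply_of_axis h1, ip_comm, rootless_ip.add, ip_comm a, ip_comm w, h, huw']; norm_num
  have h0 : ((g • u : leechLattice) : GolayPt → ℤ) (some 0) = 1 := by
    rw [apply_of_axis h2, ip_comm, LatticeMod2.sub_left rootless_ip, ip_comm a, ip_comm w, h, huw']
    norm_num
  have hga : g • a = stdA := by
    refine Subtype.ext (funext fun i => ?_)
    have e : g • (a + w) + g • (a - w) = g • a + g • a := by rw [co0_add, co0_sub]; abel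
    rw [h1, h2] at e
    have := congrFun (congrArg Subtype.val e) i
    simp only [AddSubgroup.coe_add, Pi.add_apply, coe_axis, Pi.single_apply] at this
    rw [stdA_apply]
    split_ifs at this ⊢ <;> omega
  obtain ⟨m, hm, hL⟩ := exists_parity (g • u).2
  rcases hm with rfl | rfl
  · exfalso; have := hL.1 none; omega
  set y : GolayPt → ℤ := ((g • u : leechLattice) : GolayPt → ℤ) with hy
  have h48 : ∑ i, y i ^ 2 = 48 := by
    have := co0_norm g u; rw [(ip_self_iff (n := 6)).1 hu] at this; exact this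
  have hterm : ∀ i, (if i = none then (25 : ℤ) else 1) ≤ y i ^ 2 := fun i => by
    split_ifs with q
    · rw [q, hn]; norm_num
    · have := hL.1 i
      rcases (show y i ≤ -1 ∨ 1 ≤ y i by omega) with r | r <;> nlinarith
  have heq := (sum_eq_sum_iff_of_le (s := univ) fun i _ => hterm i).1
    (by rw [h48, sum_congr rfl (fun (i : GolayPt) _ => show (if i = none then (25 : ℤ) else 1)
          = 1 + if i = none then 24 else 0 by split_ifs <;> norm_num), sum_add_distrib, sum_ite_eq',
          sum_const, show (univ : Finset GolayPt).card = 24 from rfl]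
        simp)
  refine ⟨mono (1, ⟨hword 1 y, hL.2.2⟩) * g, Subtype.ext (funext fun i => ?_), ?_⟩
  · rw [mul_smul, mono_smul, ← hy]
    simp only [monoFun, OneMemClass.coe_one, Equiv.Perm.one_def, Equiv.refl_symm, Equiv.refl_apply,
      AddSubgroup.coe_neg, Pi.neg_apply]
    show sgn (hword 1 y) i * y i = -Spor.vecV i
    rcases eq_or_ne i none with rfl | hi
    · simp [sgn, hword, hn, Spor.vecV]; decide
    · have hh := heq i (mem_univ i)
      rw [if_neg hi] at hh
      rcases sq_eq_one_iff.1 hh.symm with r | r <;> simp [sgn, hword, r, Spor.vecV, hi]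
  · rw [mul_smul, hga]
    refine Subtype.ext (funext fun i => ?_)
    rw [mono_smul]
    simp only [monoFun, OneMemClass.coe_one, Equiv.Perm.one_def, Equiv.refl_symm, Equiv.refl_apply,
      stdA_apply, sgn, hword]
    rcases eq_or_ne i none with rfl | hi
    · simp [hn]; decide
    rcases eq_or_ne i (some 0) with rfl | hi'
    · simp [h0]
    simp [hi, hi']

theorem exists_witness4 {v : leechLattice} (hv : ip v v = 4) (ha : ip v stdA = 2) :
    ∃ w, ip w w = 4 ∧ ip stdA w = 0 ∧ ip v w = 2 := by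
  have hs := ip_stdA_eq ha
  have hb := coord_bound hv (N := 6) (by norm_num) (by norm_num)
  have h0 := hb none
  have h1 := hb (some 0)
  have h32 : ∑ i, (v : GolayPt → ℤ) i ^ 2 = 32 := (ip_self_iff (n := 4)).1 hv
  obtain ⟨m, hm, hL⟩ := exists_parity v.2
  rcases hm with rfl | rfl
  · rcases (show (v : GolayPt → ℤ) none - (v : GolayPt → ℤ) (some 0) = 4 ∨
        (v : GolayPt → ℤ) none - (v : GolayPt → ℤ) (some 0) = -4 ∨
        ((v : GolayPt → ℤ) none = 2 ∧ (v : GolayPt → ℤ) (some 0) = 2) ∨
        ((v : GolayPt → ℤ) none = 6 ∨ (v : GolayPt → ℤ) none = -2 ∨ (v : GolayPt → ℤ) (some 0) = -2 ∨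
          (v : GolayPt → ℤ) none = 5 ∨ (v : GolayPt → ℤ) (some 0) = 5) by
      have := hL.1 none; omega) with h | h | h | h
    · exact witness_self (Or.inl h)
    · exact witness_self (Or.inr h)
    · obtain ⟨P, hP8, hP4, -⟩ := half_facts (v := v) (p := none) (by rw [h.1]; norm_num) (by rw [h.1])
      have hterm : ∀ i, (if i ∈ P then (4 : ℤ) else 0) ≤ (v : GolayPt → ℤ) i ^ 2 := fun i => by
        split_ifs with q
        · exact hP4 i q
        · exact sq_nonneg _
      have hsum : ∑ i, (if i ∈ P then (4 : ℤ) else 0) = 4 * (P.card : ℤ) := by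
        rw [sum_ite_mem, univ_inter, sum_const, nsmul_eq_mul, mul_comm]
      have hle := sum_le_sum (s := univ) fun i _ => hterm i
      rw [hsum, h32] at hle
      have heq := (sum_eq_sum_iff_of_le (s := univ) fun i _ => hterm i).1 (by rw [hsum, h32]; omega)
      obtain ⟨k, n, hk, hn, hkn, hk0, hk1, hn0, hn1⟩ := exists_two_of_card (T := P) (by omega)
      have e : ∀ i ∈ P, (v : GolayPt → ℤ) i ^ 2 = 2 ^ 2 := fun i hi => by
        have := heq i (mem_univ i); rw [if_pos hi] at this; rw [← this]; norm_num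
      exact witness_two hkn hk0 hk1 hn0 hn1 (e k hk) (e n hn) (by norm_num)
    · exfalso
      have := hL.1 none; have := hL.1 (some 0)
      omega
  · -- the odd case
    have hodd : ∀ i, (1 : ℤ) ≤ (v : GolayPt → ℤ) i ^ 2 := fun i => by
      have := hL.1 i
      rcases (show (v : GolayPt → ℤ) i ≤ -1 ∨ 1 ≤ (v : GolayPt → ℤ) i by omega) with q | q <;> nlinarith
    have hsmall : ∀ p i, i ≠ p → (v : GolayPt → ℤ) p ^ 2 + (v : GolayPt → ℤ) i ^ 2 ≤ 10 := by
      intro p i hip
      rw [← add_sum_erase _ _ (mem_univ p), ← add_sum_erase _ _ (mem_erase.2 ⟨hip, mem_univ i⟩)] at h32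
      have := card_nsmul_le_sum ((univ.erase p).erase i) (fun j => (v : GolayPt → ℤ) j ^ 2) 1
        (fun j _ => hodd j)
      rw [card_erase_of_mem (mem_erase.2 ⟨hip, mem_univ i⟩), card_erase_of_mem (mem_univ p),
        show (univ : Finset GolayPt).card = 24 from rfl] at this
      norm_num at this
      linarith
    obtain ⟨p, hp⟩ : ∃ p, (p = none ∨ p = some 0) ∧ (v : GolayPt → ℤ) p ^ 2 = 9 := by
      have h01 := hsmall none (some 0) (by simp)
      have := hL.1 none
      rcases (show (v : GolayPt → ℤ) none = 5 ∨ (v : GolayPt → ℤ) none = 3 ∨ (v : GolayPt → ℤ) none = 1 ∨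
        (v : GolayPt → ℤ) none = -1 ∨ (v : GolayPt → ℤ) none = -3 ∨ (v : GolayPt → ℤ) none = -5 by omega)
        with q | q | q | q | q | q
      · rw [q] at h01; nlinarith
      · exact ⟨none, Or.inl rfl, by rw [q]; norm_num⟩
      · exact ⟨some 0, Or.inr rfl, by rw [show (v : GolayPt → ℤ) (some 0) = 3 by omega]; norm_num⟩
      · rw [show (v : GolayPt → ℤ) (some 0) = 5 by omega] at h01; nlinarith
      · rw [q, show (v : GolayPt → ℤ) (some 0) = 7 by omega] at h01; norm_num at h01
      · rw [q] at h01; nlinarith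
    have h1' : ∀ i, i ≠ p → (v : GolayPt → ℤ) i ^ 2 = 1 := fun i hi => by
      have := hsmall p i hi; have := hodd i; omega
    obtain ⟨o, ho, hon, hoz⟩ : ∃ o ∈ octads, (none : GolayPt) ∉ o ∧ (some 0 : GolayPt) ∉ o := by
      obtain ⟨mk, hmk, hb⟩ : ∃ mk ∈ octadList, (!mk.testBit 23 && !mk.testBit 0) = true := by
        have h := (show octadList.any (fun mk => !mk.testBit 23 && !mk.testBit 0) = true by decide +kernel)
        simpa using h
      simp only [Bool.and_eq_true, Bool.not_eq_true'] at hb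
      exact ⟨maskSet mk, mem_octads.2 ⟨mk, hmk, rfl⟩,
        fun h => by simp [mem_maskSet, idx, hb.1] at h, fun h => by simp [mem_maskSet, idx, hb.2] at h⟩
    have hp' : p ∉ o := by rcases hp.1 with rfl | rfl <;> assumption
    obtain ⟨q, hq⟩ : o.Nonempty := card_pos.1 (by rw [card_octad ho]; norm_num)
    obtain ⟨w, hw, hw0, hwv⟩ := exists_octad_vec ho hq (univ.filter fun i => (v : GolayPt → ℤ) i < 0)
    refine ⟨w, hw, ?_, ?_⟩
    · rw [ip_comm]; exact ip_pairV _ (by rw [hw0 none hon, hw0 _ hoz]; norm_num)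
    · refine ip_eq_of_dot ?_
      have hd := eight_dvd_dot v.2 w.2
      have hval : ∀ i ∈ o, i ≠ q → (v : GolayPt → ℤ) i * (w : GolayPt → ℤ) i = 2 := fun i hi hiq => by
        rw [hwv i hi hiq]
        rcases sq_eq_one_iff.1 (h1' i (fun e => hp' (e ▸ hi))) with r | r <;> simp [r]
      have hwq : (w : GolayPt → ℤ) q ^ 2 = 4 := by
        have e := (ip_self_iff (n := 4)).1 hw
        rw [sqNorm, ← sum_subset (subset_univ o) (fun i _ hi => by rw [hw0 i hi]; norm_num),
          ← add_sum_erase _ _ hq, sum_congr rfl (fun i hi => show _ = (4 : ℤ) by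
            rw [hwv i (mem_of_mem_erase hi) (ne_of_mem_erase hi)]; split_ifs <;> norm_num),
          sum_const, card_erase_of_mem hq, card_octad ho] at e
        norm_num at e
        linarith
      rw [dotInt, ← sum_subset (subset_univ o) (fun i _ hi => by rw [hw0 i hi, mul_zero]),
        ← add_sum_erase _ _ hq, sum_congr rfl (fun i hi => hval i (mem_of_mem_erase hi) (ne_of_mem_erase hi)),
        sum_const, card_erase_of_mem hq, card_octad ho] at hd ⊢
      rcases sq_eq_one_iff.1 (h1' q (fun e => hp' (e ▸ hq))) with r | r <;>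
        rcases sq_eq_sq_iff_eq_or_eq_neg.1 (hwq.trans (by norm_num : (4 : ℤ) = 2 ^ 2)) with r' | r' <;>
        rw [r, r'] at hd ⊢ <;> first | (norm_num at hd; done) | norm_num

/-- The standard partner of `stdA` with inner product 2. -/
def stdB : leechLattice := pairV none (some 1) (by simp) 1 1 (Or.inl rfl) (Or.inl rfl)

set_option maxHeartbeats 1000000 in
theorem exists_pair2 {v w : leechLattice} (hv : ip v v = 4) (hw : ip w w = 4) (h : ip w v = 2) :
    ∃ g : Co0, g • v = stdA ∧ g • w = stdB := by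
  have hab : (none : GolayPt) ≠ some 0 := by simp
  obtain ⟨g₀, hg₀⟩ := exists_norm4_to_pair hv hab
  obtain ⟨x', hx', hvx', hwx'⟩ := exists_witness4 (v := g₀ • w) ((co0_ip _ _ _).trans hw)
    (by rw [show stdA = g₀ • v from hg₀.symm, co0_ip, h])
  obtain ⟨x, rfl⟩ : ∃ x, g₀ • x = x' := ⟨g₀⁻¹ • x', smul_inv_smul _ _⟩
  rw [show stdA = g₀ • v from hg₀.symm, co0_ip] at hvx'
  rw [co0_ip] at hx' hwx'
  obtain ⟨g, h1, h2⟩ := exists_pair_frame' hv hx' hvx' hab
  set y : GolayPt → ℤ := ((g • w : leechLattice) : GolayPt → ℤ) with hy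
  have hn : y none = 4 := by
    rw [hy, apply_of_axis h1, ip_comm, rootless_ip.add, ip_comm v, ip_comm x, h, hwx']; norm_num
  have h0 : y (some 0) = 0 := by
    rw [hy, apply_of_axis h2, ip_comm, LatticeMod2.sub_left rootless_ip, ip_comm v, ip_comm x, h, hwx']
    norm_num
  have hgv : g • v = stdA := by
    refine Subtype.ext (funext fun i => ?_)
    have e : g • (v + x) + g • (v - x) = g • v + g • v := by rw [co0_add, co0_sub]; abel
    rw [h1, h2] at e
    have := congrFun (congrArg Subtype.val e) i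
    simp only [AddSubgroup.coe_add, Pi.add_apply, coe_axis, Pi.single_apply] at this
    rw [stdA_apply]
    split_ifs at this ⊢ <;> omega
  have h32 : ∑ i, y i ^ 2 = 32 := by
    have := co0_norm g w; rw [(ip_self_iff (n := 4)).1 hw] at this; exact this
  obtain ⟨m, hm, hL⟩ := exists_parity (g • w).2
  rw [← hy] at hL
  rcases hm with rfl | rfl
  swap
  · exfalso; have := hL.1 none; rw [hn] at this; norm_num at this
  have h4 : ∀ i, (4 : ℤ) ∣ y i := by
    have hcard : (support₂ (hword 0 y)).card < 8 := by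
      have hsub : support₂ (hword 0 y) ⊆ (univ.erase none) := fun i hi => mem_erase.2
        ⟨fun e => by subst e; simp [support₂, hword, hn] at hi; exact absurd hi (by decide), mem_univ _⟩
      have hge : ∀ i ∈ support₂ (hword 0 y), (4 : ℤ) ≤ y i ^ 2 := fun i hi => by
        simp only [support₂, hword, sub_zero, mem_filter, mem_univ, true_and, ne_eq,
          ZMod.intCast_zmod_eq_zero_iff_dvd] at hi
        have := hL.1 i
        rcases (show y i ≤ -2 ∨ 2 ≤ y i by omega) with q | q <;> nlinarith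
      have h1 := card_nsmul_le_sum _ _ 4 hge
      have h2 := sum_le_sum_of_subset_of_nonneg (f := fun i => y i ^ 2) hsub fun i _ _ => sq_nonneg _
      rw [← add_sum_erase _ _ (mem_univ none), hn] at h32
      rw [nsmul_eq_mul] at h1
      have : ((support₂ (hword 0 y)).card : ℤ) < 8 := by linarith
      exact_mod_cast this
    intro i
    have hz : hword 0 y = 0 := by
      by_contra hne
      exact absurd (card_support_ge hL.2.2 hne) (by omega)
    have := congrFun hz i
    simp only [hword, sub_zero, Pi.zero_apply, ZMod.intCast_zmod_eq_zero_iff_dvd] at this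
    have := hL.1 i
    omega
  obtain ⟨k, hk⟩ : ∃ k, k ≠ none ∧ y k ≠ 0 := by
    by_contra hall
    push Not at hall
    rw [← add_sum_erase _ _ (mem_univ none), hn,
      sum_eq_zero (fun i hi => by rw [hall i (ne_of_mem_erase hi)]; norm_num)] at h32
    norm_num at h32
  have hk0 : k ≠ some 0 := fun e => hk.2 (e ▸ h0)
  have hterm : ∀ i, (if i = none then (16 : ℤ) else if i = k then 16 else 0) ≤ y i ^ 2 := fun i => by
    split_ifs with q r
    · rw [q, hn]; norm_num
    · subst r
      obtain ⟨z, hz⟩ := h4 i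
      have : z ≠ 0 := fun e => hk.2 (by rw [hz, e, mul_zero])
      rw [hz]
      rcases lt_or_gt_of_ne this with s | s <;> nlinarith
    · exact sq_nonneg _
  have heq := (sum_eq_sum_iff_of_le (s := univ) fun i _ => hterm i).1 (by
    rw [h32, ← add_sum_erase _ _ (mem_univ none), if_pos rfl,
      sum_congr rfl (fun i hi => if_neg (ne_of_mem_erase hi)), sum_ite_eq', if_pos (by simp [hk.1])]
    norm_num)
  obtain ⟨σ, hσ, hσv⟩ := exists_M24_map' (k := 3) (x := ![none, some 0, k])
    (y := ![none, some 0, some 1]) (by norm_num)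
    (by intro i j; fin_cases i <;> fin_cases j <;> simp [hk0, Ne.symm hk0, hk.1, Ne.symm hk.1])
    (by intro i j; fin_cases i <;> fin_cases j <;> simp <;> decide)
  have h01 : (some 0 : GolayPt) ≠ some 1 := by decide
  have e1 : σ none = none := hσv 0
  have e2 : σ (some 0) = some 0 := hσv 1
  have e3 : σ k = some 1 := hσv 2
  obtain ⟨c, hc, hcv⟩ := exists_code_eq_on_small ({none, some 0, some 1} : Finset GolayPt)
    (le_trans Finset.card_le_three (by norm_num))
    (fun i => if i = some 1 ∧ y k = -4 then 1 else 0)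
  refine ⟨mono (⟨σ, hσ⟩, ⟨c, hc⟩) * g, ?_, ?_⟩
  · rw [mul_smul, hgv]
    refine Subtype.ext (funext fun i => ?_)
    obtain ⟨j, rfl⟩ := σ.surjective i
    rw [mono_smul]
    simp only [monoFun, Equiv.symm_apply_apply, stdA_apply, sgn]
    rcases eq_or_ne j none with rfl | hj
    · have := hcv none (by simp); simp only [if_neg (show ¬((none : GolayPt) = some 1 ∧ y k = -4) by simp)] at this
      simp [e1, this]
    rcases eq_or_ne j (some 0) with rfl | hj'
    · have := hcv (some 0) (by simp); simp only [if_neg (show ¬((some 0 : GolayPt) = some 1 ∧ y k = -4) by simp [h01])] at this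
      simp [e2, this]
    have hjn : σ j ≠ none := fun e => hj (σ.injective (e.trans e1.symm))
    have hjs : σ j ≠ some 0 := fun e => hj' (σ.injective (e.trans e2.symm))
    simp [hj, hj', hjn, hjs]
  · rw [mul_smul]
    refine Subtype.ext (funext fun i => ?_)
    obtain ⟨j, rfl⟩ := σ.surjective i
    rw [mono_smul, ← hy, stdB, pairV_apply]
    simp only [monoFun, Equiv.symm_apply_apply, sgn]
    have hh := heq j (mem_univ j)
    rcases eq_or_ne j none with rfl | hj
    · have := hcv none (by simp); simp only [if_neg (show ¬((none : GolayPt) = some 1 ∧ y k = -4) by simp)] at this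
      simp [e1, this, hn]
    rcases eq_or_ne j k with rfl | hjk
    · have := hcv (some 1) (by simp)
      simp only [true_and] at this
      rw [if_neg hj, if_pos rfl] at hh
      rcases sq_eq_sq_iff_eq_or_eq_neg.1 (hh.symm.trans (by norm_num : (16 : ℤ) = 4 ^ 2)) with r | r <;>
        simp [r] at this <;> simp [e3, this, r]
    rw [if_neg hj, if_neg hjk] at hh
    have hjn : σ j ≠ none := fun e => hj (σ.injective (e.trans e1.symm))
    have hjs : σ j ≠ some 1 := fun e => hjk (σ.injective (e.trans e3.symm))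
    simp [(pow_eq_zero_iff two_ne_zero).1 hh.symm, hjn, hjs]

theorem transitive_neg2 {v w w' : leechLattice} (hv : ip v v = 4) (hw : ip w w = 4) (hw' : ip w' w' = 4)
    (h : ip v w = -2) (h' : ip v w' = -2) : ∃ g : Co0, g • v = v ∧ g • w = w' := by
  have hn : ∀ x : leechLattice, ip x x = 4 → ip v x = -2 → ∃ g : Co0, g • v = stdA ∧ g • -x = stdB :=
    fun x hx hvx => exists_pair2 hv
      (by rw [LatticeMod2.neg_left rootless_ip, ip_comm, LatticeMod2.neg_left rootless_ip, neg_neg, hx])
      (by rw [LatticeMod2.neg_left rootless_ip, ip_comm, hvx]; norm_num)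
  obtain ⟨g, g1, g2⟩ := hn w hw h
  obtain ⟨k, k1, k2⟩ := hn w' hw' h'
  refine ⟨k⁻¹ * g, by rw [mul_smul, g1, ← k1, inv_smul_smul], ?_⟩
  have : (k⁻¹ * g) • (-w) = -w' := by rw [mul_smul, g2, ← k2, inv_smul_smul]
  rw [co0_neg] at this
  exact neg_injective this

theorem transitive_decomp {u a a' : leechLattice} (hu : ip u u = 6) (ha : ip a a = 4)
    (ha' : ip a' a' = 4) (h : ip u a = 3) (h' : ip u a' = 3) :
    ∃ g : Co0, g • u = u ∧ g • a = a' := by
  obtain ⟨g, g1, g2⟩ := exists_norm6_pair hu ha h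
  obtain ⟨k, k1, k2⟩ := exists_norm6_pair hu ha' h'
  exact ⟨k⁻¹ * g, by rw [mul_smul, g1, ← k1, inv_smul_smul],
    by rw [mul_smul, g2, ← k2, inv_smul_smul]⟩

theorem transitive_neg1 {v w w' : leechLattice} (hv : ip v v = 4) (hw : ip w w = 4) (hw' : ip w' w' = 4)
    (h : ip v w = -1) (h' : ip v w' = -1) : ∃ g : Co0, g • v = v ∧ g • w = w' := by
  have hn : ∀ x : leechLattice, ip x x = 4 → ip v x = -1 →
      ∃ g : Co0, g • (v + x) = -Spor.leechV ∧ g • v = stdA := fun x hx hvx =>
    exists_norm6_pair (by rw [LatticeMod2.norm_add rootless_ip, hv, hvx, hx]; norm_num) hv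
      (by rw [rootless_ip.add, hv, ip_comm, hvx]; norm_num)
  obtain ⟨g, g1, g2⟩ := hn w hw h
  obtain ⟨k, k1, k2⟩ := hn w' hw' h'
  refine ⟨k⁻¹ * g, by rw [mul_smul, g2, ← k2, inv_smul_smul], ?_⟩
  have e1 : (k⁻¹ * g) • (v + w) = v + w' := by rw [mul_smul, g1, ← k1, inv_smul_smul]
  rw [co0_add, show (k⁻¹ * g) • v = v by rw [mul_smul, g2, ← k2, inv_smul_smul]] at e1
  exact add_left_cancel e1

/-! ### Counting by inner product -/

/-- Minimal vectors with a prescribed inner product with a given vector. -/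
def withIp (v : leechLattice) (n : ℤ) : Set leechLattice := {w | ip w w = 4 ∧ ip v w = n}

theorem withIp_finite (v : leechLattice) (n : ℤ) : (withIp v n).Finite :=
  (Set.finite_of_ncard_ne_zero (s := {x : leechLattice | ip x x = 4})
    (by rw [ncard_shell4]; norm_num)).subset fun _ h => h.1

theorem ncard_withIp_smul (g : Co0) (v : leechLattice) (n : ℤ) :
    (withIp (g • v) n).ncard = (withIp v n).ncard := by
  have : withIp (g • v) n = (fun w => g • w) '' withIp v n := by
    ext w
    constructor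
    · intro hw
      refine ⟨g⁻¹ • w, ⟨(co0_ip _ _ _).trans hw.1, ?_⟩, smul_inv_smul g w⟩
      rw [← co0_ip g, smul_inv_smul]; exact hw.2
    · rintro ⟨w, hw, rfl⟩
      exact ⟨(co0_ip _ _ _).trans hw.1, (co0_ip _ _ _).trans hw.2⟩
  rw [this, Set.ncard_image_of_injective _ (MulAction.injective g)]

theorem ncard_pairs (A : Set leechLattice) (hA : A.Finite) (n : ℤ) (k : ℕ)
    (h : ∀ v ∈ A, (withIp v n).ncard = k) :
    {p : leechLattice × leechLattice | p.1 ∈ A ∧ p.2 ∈ withIp p.1 n}.ncard = A.ncard * k := by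
  classical
  have : {p : leechLattice × leechLattice | p.1 ∈ A ∧ p.2 ∈ withIp p.1 n}
      = ↑(hA.toFinset.biUnion fun v => (withIp_finite v n).toFinset.image (Prod.mk v)) := by
    ext ⟨v, w⟩
    simp only [Set.mem_setOf_eq, coe_biUnion, Set.Finite.coe_toFinset, Set.mem_iUnion, exists_prop,
      coe_image, Set.mem_image, Prod.mk.injEq]
    exact ⟨fun h => ⟨v, h.1, w, h.2, rfl, rfl⟩, by rintro ⟨a, ha, b, hb, rfl, rfl⟩; exact ⟨ha, hb⟩⟩
  rw [this, Set.ncard_coe_finset, card_biUnion, Set.ncard_eq_toFinset_card _ hA]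
  · rw [sum_congr rfl (fun v hv => ?_), sum_const, smul_eq_mul]
    rw [card_image_of_injective _ (fun a b e => (Prod.ext_iff.1 e).2),
      ← Set.ncard_eq_toFinset_card _ (withIp_finite v n), h v (hA.mem_toFinset.1 hv)]
  · intro v _ v' _ hne
    refine disjoint_left.2 fun p h1 h2 => hne ?_
    obtain ⟨_, -, rfl⟩ := mem_image.1 h1
    obtain ⟨_, -, e⟩ := mem_image.1 h2
    exact (Prod.ext_iff.1 e).1.symm

theorem ncard_pairs8 :
    {p : leechLattice × leechLattice | ip p.1 p.1 = 8 ∧ p.2 ∈ xCross p.1 ∧ p.2 ≠ p.1 ∧ p.2 ≠ -p.1}.ncard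
      = 398034000 * 46 := by
  classical
  have f8 : {x : leechLattice | ip x x = 8}.Finite :=
    Set.finite_of_ncard_ne_zero (by rw [ncard_shell8]; norm_num)
  have fc : ∀ x, (xCross x).Finite := fun x => f8.subset fun _ h => h.1
  have hset : {p : leechLattice × leechLattice | ip p.1 p.1 = 8 ∧ p.2 ∈ xCross p.1 ∧ p.2 ≠ p.1 ∧ p.2 ≠ -p.1}
      = ↑(f8.toFinset.biUnion fun x => ((fc x).toFinset \ {x, -x}).image (Prod.mk x)) := by
    ext ⟨x, y⟩
    simp only [Set.mem_ofPred_eq, coe_biUnion, Set.Finite.coe_toFinset, Set.mem_iUnion, exists_prop,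
      coe_image, coe_sdiff, coe_insert, coe_singleton, Set.mem_image, Set.mem_sdiff, Set.mem_insert_iff,
      Set.mem_singleton_iff, Prod.mk.injEq, not_or]
    constructor
    · rintro ⟨h1, h2, h3, h4⟩; exact ⟨x, h1, y, ⟨h2, h3, h4⟩, rfl, rfl⟩
    · rintro ⟨x', h1, y', ⟨h2, h3, h4⟩, rfl, rfl⟩; exact ⟨h1, h2, h3, h4⟩
  rw [hset, Set.ncard_coe_finset, card_biUnion, sum_congr rfl (fun x hx => show _ = 46 by
    have hx8 : ip x x = 8 := f8.mem_toFinset.1 hx
    have hne : x ≠ 0 := fun e => by rw [e, LatticeMod2.map_zero_left rootless_ip] at hx8; norm_num at hx8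
    have hnx : -x ∈ xCross x := by
      refine ⟨?_, x, by rw [sub_neg_eq_add, two_nsmul]⟩
      rw [LatticeMod2.neg_left rootless_ip, ip_comm, LatticeMod2.neg_left rootless_ip, neg_neg, hx8]
    rw [card_image_of_injective _ (fun a b e => (Prod.ext_iff.1 e).2),
      card_sdiff_of_subset (by
        intro y hy
        rcases mem_insert.1 hy with rfl | hy
        · exact (fc y).mem_toFinset.2 (self_mem_xCross hx8)
        · rw [mem_singleton.1 hy]; exact (fc x).mem_toFinset.2 hnx),
      ← Set.ncard_eq_toFinset_card _ (fc x), ncard_xCross hx8,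
      card_pair (LatticeMod2.neg_ne_self rootless_ip hne).symm]), sum_const,
    ← Set.ncard_eq_toFinset_card _ f8, ncard_shell8, smul_eq_mul]
  intro x _ x' _ hne
  refine disjoint_left.2 fun p h1 h2 => hne ?_
  obtain ⟨_, -, rfl⟩ := mem_image.1 h1
  obtain ⟨_, -, e⟩ := mem_image.1 h2
  exact (Prod.ext_iff.1 e).1.symm

theorem half_unique {v v' : leechLattice} (h : v + v = v' + v') : v = v' := by
  refine Subtype.ext (funext fun i => ?_)
  have := congrFun (congrArg Subtype.val h) i
  simp only [AddSubgroup.coe_add, Pi.add_apply] at this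
  omega

/-- The number of minimal vectors orthogonal to a minimal vector. -/
theorem ncard_orth {v : leechLattice} (hv : ip v v = 4) : (withIp v 0).ncard = 93150 := by
  have h4 : ∀ w ∈ {x : leechLattice | ip x x = 4}, (withIp w 0).ncard = (withIp v 0).ncard := fun w hw => by
    obtain ⟨g, rfl⟩ := transitive4 hv hw
    exact ncard_withIp_smul g v 0
  have f4 : {x : leechLattice | ip x x = 4}.Finite :=
    Set.finite_of_ncard_ne_zero (by rw [ncard_shell4]; norm_num)
  have e1 := ncard_pairs _ f4 0 _ h4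
  rw [ncard_shell4] at e1
  have e2 : {p : leechLattice × leechLattice | p.1 ∈ {x : leechLattice | ip x x = 4} ∧ p.2 ∈ withIp p.1 0}.ncard
      = 398034000 * 46 := by
    rw [← ncard_pairs8]
    refine Set.ncard_congr (fun p _ => (p.1 + p.2, p.1 - p.2)) ?_ ?_ ?_
    · rintro ⟨a, b⟩ ⟨ha, hb, hab⟩
      simp only [Set.mem_ofPred_eq] at ha hb hab ⊢
      refine ⟨by rw [LatticeMod2.norm_add rootless_ip, ha, hab, hb]; norm_num,
        ⟨by rw [LatticeMod2.norm_sub rootless_ip, ha, hab, hb]; norm_num, b, by rw [two_nsmul]; abel⟩, ?_, ?_⟩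
      · intro e
        have : ip (a - b) a = ip (a + b) a ∧ ip (a - b) b = ip (a + b) b := by rw [e]; exact ⟨rfl, rfl⟩
        rw [rootless_ip.add a b b, LatticeMod2.sub_left rootless_ip a b b, hab, hb] at this
        omega
      · intro e
        have : ip (a - b) a = ip (-(a + b)) a := by rw [e]
        rw [LatticeMod2.neg_left rootless_ip, rootless_ip.add a b a, LatticeMod2.sub_left rootless_ip a b a,
          ha, ip_comm b a, hab] at this
        omega
    · rintro ⟨a, b⟩ ⟨a', b'⟩ _ _ e
      obtain ⟨e1, e2⟩ := Prod.mk.injEq _ _ _ _ ▸ e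
      simp only at e1 e2
      have ha : a = a' := half_unique (by
        calc a + a = (a + b) + (a - b) := by abel
          _ = (a' + b') + (a' - b') := by rw [e1, e2]
          _ = a' + a' := by abel)
      subst ha
      rw [add_left_cancel e1]
    · rintro ⟨x, y⟩ ⟨hx, ⟨hy, z, hz⟩, hne, hne'⟩
      simp only at hx hy hz hne hne'
      rcases LatticeMod2.cong_short rootless_ip hx.le hy.le ⟨z, hz⟩ with e | e | ⟨-, -, h0⟩
      · exact absurd e hne
      · exact absurd e hne'
      have hzz : ip z z = 4 := by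
        have := LatticeMod2.norm_sub rootless_ip x y
        rw [hz, LatticeMod2.norm_two_smul rootless_ip, hx, hy, h0] at this
        omega
      have hxz : ip x z = 4 := by
        have : ip (x - y) x = ip (2 • z) x := by rw [hz]
        rw [LatticeMod2.sub_left rootless_ip, two_nsmul, rootless_ip.add, hx, ip_comm y x, h0,
          ip_comm z x] at this
        omega
      refine ⟨(x - z, z), ⟨?_, hzz, ?_⟩, ?_⟩
      · show ip (x - z) (x - z) = 4
        rw [LatticeMod2.norm_sub rootless_ip, hx, hxz, hzz]; norm_num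
      · show ip (x - z) z = 0
        rw [LatticeMod2.sub_left rootless_ip, hxz, hzz]; norm_num
      · refine Prod.ext (sub_add_cancel x z) ?_
        show x - z - z = y
        rw [sub_sub, ← two_nsmul, ← hz, sub_sub_cancel]
  rw [e2] at e1
  omega

/-! ### The second moment -/

theorem shell4_finite : {x : leechLattice | ip x x = 4}.Finite :=
  Set.finite_of_ncard_ne_zero (by rw [ncard_shell4]; norm_num)

/-- The minimal vectors as a finset. -/
noncomputable def min4 : Finset leechLattice := shell4_finite.toFinset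

theorem mem_min4 {w : leechLattice} : w ∈ min4 ↔ ip w w = 4 := shell4_finite.mem_toFinset

theorem card_min4 : min4.card = 196560 := by
  rw [min4, ← Set.ncard_eq_toFinset_card _ shell4_finite, ncard_shell4]

theorem sum_min4_smul (g : Co0) (f : leechLattice → ℤ) :
    ∑ w ∈ min4, f (g • w) = ∑ w ∈ min4, f w :=
  Finset.sum_nbij' (fun w => g • w) (fun w => g⁻¹ • w)
    (fun w hw => mem_min4.2 ((co0_ip _ _ _).trans (mem_min4.1 hw)))
    (fun w hw => mem_min4.2 ((co0_ip _ _ _).trans (mem_min4.1 hw)))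
    (fun w _ => inv_smul_smul g w) (fun w _ => smul_inv_smul g w) fun w _ => rfl

theorem second_moment : ∑ w ∈ min4, ip stdA w ^ 2 = 131040 := by
  have hsq : ∀ i, ∑ w ∈ min4, (w : GolayPt → ℤ) i ^ 2 = ∑ w ∈ min4, (w : GolayPt → ℤ) none ^ 2 := by
    intro i
    obtain ⟨σ, hσ, hσp⟩ := exists_M24_point none i
    rw [← sum_min4_smul (mono (⟨σ, hσ⟩, 0)) (fun w => (w : GolayPt → ℤ) i ^ 2)]
    refine sum_congr rfl fun w _ => ?_
    rw [mono_smul, monoFun, ← hσp, Equiv.symm_apply_apply, mul_pow, sq (sgn _ _), sgn_mul_self, one_mul]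
  have hS : ∑ w ∈ min4, (w : GolayPt → ℤ) none ^ 2 = 262080 := by
    have e : ∑ i, ∑ w ∈ min4, (w : GolayPt → ℤ) i ^ 2 = 32 * 196560 := by
      rw [sum_comm, sum_congr rfl (fun (w : leechLattice) hw => show ∑ x, (w : GolayPt → ℤ) x ^ 2 = (32 : ℤ) from (ip_self_iff (n := 4)).1 (mem_min4.1 hw)),
        sum_const, card_min4]
      norm_num
    rw [sum_congr rfl (fun i _ => hsq i), sum_const, show (univ : Finset GolayPt).card = 24 from rfl,
      nsmul_eq_mul] at e
    push_cast at e
    linarith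
  have hX : ∑ w ∈ min4, (w : GolayPt → ℤ) none * (w : GolayPt → ℤ) (some 0) = 0 := by
    obtain ⟨c, hc, h0, h1⟩ := exists_code_separating (show (none : GolayPt) ≠ some 0 by simp)
    have e := sum_min4_smul (mono (1, ⟨c, hc⟩)) (fun w => (w : GolayPt → ℤ) none * (w : GolayPt → ℤ) (some 0))
    have e' : ∀ w : leechLattice, ((mono (1, ⟨c, hc⟩) • w : leechLattice) : GolayPt → ℤ) none
        * ((mono (1, ⟨c, hc⟩) • w : leechLattice) : GolayPt → ℤ) (some 0)
        = -((w : GolayPt → ℤ) none * (w : GolayPt → ℤ) (some 0)) := fun w => by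
      simp [mono_smul, monoFun, sgn, h0, h1, Equiv.Perm.one_def]
    simp only [e', sum_neg_distrib] at e
    linarith
  have hterm : ∀ w : leechLattice, 4 * ip stdA w ^ 2 = (w : GolayPt → ℤ) none ^ 2
      + (w : GolayPt → ℤ) (some 0) ^ 2 + 2 * ((w : GolayPt → ℤ) none * (w : GolayPt → ℤ) (some 0)) := fun w => by
    have := ip_stdA_eq (v := w) (n := ip stdA w) (ip_comm _ _)
    rw [show (4 : ℤ) * ip stdA w ^ 2 = (2 * ip stdA w) ^ 2 by ring, ← this]
    ring
  have := congrArg (fun z => z) (show ∑ w ∈ min4, 4 * ip stdA w ^ 2 = _ from sum_congr rfl fun w _ => hterm w)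
  simp only [← mul_sum, sum_add_distrib, hX, hsq (some 0), hS] at this
  linarith

theorem ip_values {v w : leechLattice} (hv : ip v v = 4) (hw : ip w w = 4) :
    ip v w ∈ ({-4, -2, -1, 0, 1, 2, 4} : Finset ℤ) := by
  simp only [mem_insert, mem_singleton]
  have e1 := LatticeMod2.norm_sub rootless_ip v w
  have e2 := LatticeMod2.norm_add rootless_ip v w
  rw [hv, hw] at e1 e2
  rcases eq_or_ne (v - w) 0 with h | h
  · rw [h, LatticeMod2.map_zero_left rootless_ip] at e1; omega
  · rcases eq_or_ne (v + w) 0 with h' | h'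
    · rw [h', LatticeMod2.map_zero_left rootless_ip] at e2; omega
    · have := rootless_ip.pos _ h
      have := rootless_ip.pos _ h'
      omega

theorem ncard_withIp_neg (v : leechLattice) (n : ℤ) : (withIp v (-n)).ncard = (withIp v n).ncard := by
  refine Set.ncard_congr (fun w _ => -w) ?_ (fun a b _ _ e => neg_injective e) ?_
  · rintro w ⟨h, h'⟩
    refine ⟨?_, ?_⟩
    · rw [LatticeMod2.neg_left rootless_ip, ip_comm, LatticeMod2.neg_left rootless_ip, neg_neg, h]
    · rw [ip_comm, LatticeMod2.neg_left rootless_ip, ip_comm, h', neg_neg]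
  · rintro w ⟨h, h'⟩
    refine ⟨-w, ⟨?_, ?_⟩, neg_neg w⟩
    · rw [LatticeMod2.neg_left rootless_ip, ip_comm, LatticeMod2.neg_left rootless_ip, neg_neg, h]
    · rw [ip_comm, LatticeMod2.neg_left rootless_ip, ip_comm, h']

/-- The census of minimal vectors by inner product with a minimal vector. -/
theorem census4 {v : leechLattice} (hv : ip v v = 4) :
    (withIp v (-2)).ncard = 4600 ∧ (withIp v (-1)).ncard = 47104 ∧ (withIp v 0).ncard = 93150 := by
  classical
  obtain ⟨g, hg⟩ := transitive4 ip_stdA hv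
  rw [← hg, ncard_withIp_smul, ncard_withIp_smul, ncard_withIp_smul]
  have hc : ∀ n, (min4.filter fun w => ip stdA w = n).card = (withIp stdA n).ncard := fun n => by
    rw [← Set.ncard_coe_finset]
    congr 1
    ext w
    simp [withIp, mem_min4]
  have hmaps : ∀ w ∈ min4, ip stdA w ∈ ({-4, -2, -1, 0, 1, 2, 4} : Finset ℤ) :=
    fun w hw => ip_values ip_stdA (mem_min4.1 hw)
  have e1 := card_eq_sum_card_fiberwise hmaps
  rw [card_min4] at e1
  have e2 := second_moment
  rw [← sum_fiberwise_of_maps_to hmaps] at e2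
  have e2' : ∀ n, ∑ w ∈ min4.filter (fun w => ip stdA w = n), ip stdA w ^ 2
      = ((withIp stdA n).ncard : ℤ) * n ^ 2 := fun n => by
    rw [sum_congr rfl (fun w hw => show ip stdA w ^ 2 = n ^ 2 by rw [(mem_filter.1 hw).2]), sum_const,
      hc, nsmul_eq_mul]
  simp only [hc, e2'] at e1 e2
  rw [sum_insert (by simp), sum_insert (by simp), sum_insert (by simp), sum_insert (by simp),
    sum_insert (by simp), sum_insert (by simp), sum_singleton] at e1 e2
  have h4 : (withIp stdA 4).ncard = 1 := by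
    rw [show withIp stdA 4 = {stdA} from Set.ext fun w => ⟨fun h => ?_, fun h => ?_⟩, Set.ncard_singleton]
    · have e := LatticeMod2.norm_sub rootless_ip stdA w
      rw [ip_stdA, h.1, h.2] at e
      refine (sub_eq_zero.1 ?_).symm
      by_contra hne
      have := rootless_ip.pos _ hne
      omega
    · rw [Set.mem_singleton_iff.1 h]; exact ⟨ip_stdA, ip_stdA⟩
  rw [ncard_orth ip_stdA, ncard_withIp_neg _ 4, ncard_withIp_neg _ 2, ncard_withIp_neg _ 1, h4] at e1 e2
  rw [ncard_withIp_neg, ncard_withIp_neg, ncard_orth ip_stdA]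
  push_cast at e2
  omega

/-- A norm 6 vector is a sum of two minimal vectors in 552 ordered ways. -/
theorem ncard_decomp {u : leechLattice} (hu : ip u u = 6) : (withIp u 3).ncard = 552 := by
  have h6 : ∀ w ∈ {x : leechLattice | ip x x = 6}, (withIp w 3).ncard = (withIp u 3).ncard := fun w hw => by
    obtain ⟨g, rfl⟩ := transitive6 hu hw
    exact ncard_withIp_smul g u 3
  have f6 : {x : leechLattice | ip x x = 6}.Finite :=
    Set.finite_of_ncard_ne_zero (by rw [ncard_shell6]; norm_num)
  have e1 := ncard_pairs _ f6 3 _ h6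
  rw [ncard_shell6] at e1
  have e2 := ncard_pairs _ shell4_finite (-1) 47104 fun v hv => (census4 hv).2.1
  rw [ncard_shell4] at e2
  have e3 : {p : leechLattice × leechLattice | p.1 ∈ {x : leechLattice | ip x x = 4} ∧ p.2 ∈ withIp p.1 (-1)}.ncard
      = {p : leechLattice × leechLattice | p.1 ∈ {x : leechLattice | ip x x = 6} ∧ p.2 ∈ withIp p.1 3}.ncard := by
    refine Set.ncard_congr (fun p _ => (p.1 + p.2, p.1)) ?_ ?_ ?_
    · rintro ⟨a, b⟩ ⟨ha, hb, hab⟩
      simp only [Set.mem_ofPred_eq] at ha hb hab ⊢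
      exact ⟨by rw [LatticeMod2.norm_add rootless_ip, ha, hab, hb]; norm_num, ha,
        by rw [rootless_ip.add, ha, ip_comm, hab]; norm_num⟩
    · rintro ⟨a, b⟩ ⟨a', b'⟩ _ _ e
      obtain ⟨e1, e2⟩ := Prod.mk.injEq _ _ _ _ ▸ e
      simp only at e1 e2
      subst e2
      rw [add_left_cancel e1]
    · rintro ⟨x, a⟩ ⟨hx, ha, hxa⟩
      simp only [Set.mem_ofPred_eq] at hx ha hxa
      refine ⟨(a, x - a), ⟨ha, ?_, ?_⟩, Prod.ext (add_sub_cancel a x) rfl⟩
      · show ip (x - a) (x - a) = 4
        rw [LatticeMod2.norm_sub rootless_ip, hx, hxa, ha]; norm_num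
      · show ip a (x - a) = -1
        rw [ip_comm, LatticeMod2.sub_left rootless_ip, hxa, ha]; norm_num
  omega

end Cfsg.Agent.Leech
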