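import Cfsg.Agent.Lib.Leech.Monomial
import Cfsg.Agent.Lib.Leech.Index
import Cfsg.Agent.Lib.Golay.Local.StdObjects
import Cfsg.Prelude.Def_Spor_Conway

/-!
A maximal totally singular subgroup of the Leech lattice modulo two: the even vectors with all
coordinates congruent modulo four.  Every invariant quadratic function vanishes on it.
-/

namespace Cfsg.Agent.Leech

open Cfsg Cfsg.Agent.Golay
open scoped Pointwise

/-- Even lattice vectors with all coordinates congruent modulo four. -/
def plusSub : AddSubgroup (GolayPt → ℤ) where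
  carrier := {x | x ∈ leechLattice ∧ ∀ i, 2 ∣ x i ∧ 4 ∣ x i - x none}
  zero_mem' := ⟨leechLattice.zero_mem, fun i => by simp⟩
  add_mem' := fun {x y} hx hy => ⟨leechLattice.add_mem hx.1 hy.1, fun i => by
    have := hx.2 i; have := hy.2 i; simp only [Pi.add_apply]; omega⟩
  neg_mem' := fun {x} hx => ⟨leechLattice.neg_mem hx.1, fun i => by
    have := hx.2 i; simp only [Pi.neg_apply]; omega⟩

theorem mem_plusSub {x : GolayPt → ℤ} :
    x ∈ plusSub ↔ x ∈ leechLattice ∧ ∀ i, 2 ∣ x i ∧ 4 ∣ x i - x none := Iff.rfl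

theorem parity_const {x : GolayPt → ℤ} (hx : x ∈ leechLattice) (i j : GolayPt) : 2 ∣ x i - x j := by
  obtain ⟨m, hm⟩ := mem_leech.1 hx
  have := hm.1 i; have := hm.1 j
  omega

theorem eight_dvd_sum {x : GolayPt → ℤ} (hx : x ∈ leechLattice) (he : 2 ∣ x none) : 8 ∣ ∑ i, x i := by
  obtain ⟨m, hm⟩ := mem_leech.1 hx
  have := hm.1 none
  have := hm.2.1
  omega

theorem two_smul_mem_plusSub {v : GolayPt → ℤ} (hv : v ∈ leechLattice) : (2 : ℤ) • v ∈ plusSub := by
  refine ⟨leechLattice.zsmul_mem hv 2, fun i => ?_⟩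
  have := parity_const hv i none
  simp only [Pi.smul_apply, smul_eq_mul]
  omega

/-- Squared lengths in the subgroup are divisible by 32. -/
theorem plusSub_norm {x : GolayPt → ℤ} (hx : x ∈ plusSub) : 32 ∣ sqNorm x := by
  obtain ⟨hL, h⟩ := hx
  have hsum := eight_dvd_sum hL (h none).1
  choose y hy using fun i => (h i).1
  have hn : sqNorm x = 4 * ∑ i, y i ^ 2 := by
    rw [sqNorm, Finset.mul_sum]
    exact Finset.sum_congr rfl fun i _ => by rw [hy i]; ring
  rw [hn]
  suffices 8 ∣ ∑ i, y i ^ 2 by obtain ⟨k, hk⟩ := this; exact ⟨k, by rw [hk]; ring⟩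
  rcases Int.even_or_odd (y none) with he | ho
  · have hz : ∀ i, 2 ∣ y i := fun i => by
      obtain ⟨k, hk⟩ := he
      have h2 := (h i).2
      rw [hy i, hy none, hk] at h2
      omega
    choose z hz using hz
    have h1 : (∑ i, x i) = 4 * ∑ i, z i := by
      rw [Finset.mul_sum]; exact Finset.sum_congr rfl fun i _ => by rw [hy i, hz i]; ring
    have h2 : (∑ i, y i ^ 2) = 4 * ∑ i, z i ^ 2 := by
      rw [Finset.mul_sum]; exact Finset.sum_congr rfl fun i _ => by rw [hz i]; ring
    have h3 : (2 : ℤ) ∣ ∑ i, z i ^ 2 - ∑ i, z i := by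
      rw [← Finset.sum_sub_distrib]
      refine Finset.dvd_sum fun i _ => ?_
      rcases Int.even_or_odd (z i) with ⟨k, hk⟩ | ⟨k, hk⟩ <;> rw [hk]
      · exact ⟨2 * k ^ 2 - k, by ring⟩
      · exact ⟨2 * k ^ 2 + k, by ring⟩
    omega
  · have h1 : ∀ i, (8 : ℤ) ∣ y i ^ 2 - 1 := fun i => by
      obtain ⟨k, hk⟩ := ho
      have h2 := (h i).2
      rw [hy i, hy none, hk] at h2
      obtain ⟨j, hj⟩ : ∃ j, y i = 2 * j + 1 := ⟨y i / 2, by omega⟩
      rw [hj, show (2 * j + 1) ^ 2 - 1 = 4 * (j * (j + 1)) by ring]
      obtain ⟨l, hl⟩ := Int.even_mul_succ_self j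
      rw [hl]; exact ⟨l, by ring⟩
    have h2 : (8 : ℤ) ∣ ∑ i, (y i ^ 2 - 1) := Finset.dvd_sum fun i _ => h1 i
    have h24 : (Finset.univ : Finset GolayPt).card = 24 := rfl
    rw [Finset.sum_sub_distrib, Finset.sum_const, h24, nsmul_one] at h2
    push_cast at h2
    omega

/-! ### Index -/

/-- The even vectors, in the lattice. -/
def evenPart : AddSubgroup leechLattice where
  carrier := {x | 2 ∣ (x : GolayPt → ℤ) none}
  zero_mem' := by simp
  add_mem' := fun {x y} (hx : (2 : ℤ) ∣ _) (hy : (2 : ℤ) ∣ _) => dvd_add hx hy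
  neg_mem' := fun {x} (hx : (2 : ℤ) ∣ _) => dvd_neg.2 hx

/-- The residue word of an even vector modulo the all-ones word. -/
def residueMap : evenPart →+ (ZMod 23 → ZMod 2) where
  toFun x := fun i =>
    hword 0 (x : GolayPt → ℤ) (some i) + hword 0 (x : GolayPt → ℤ) none
  map_zero' := by funext i; simp [hword]
  map_add' := fun x y => by
    have hx : ∀ j, (2 : ℤ) ∣ (x : GolayPt → ℤ) j := fun j => by
      have h1 := parity_const (x : leechLattice).2 j none
      have h2 : (2 : ℤ) ∣ (x : GolayPt → ℤ) none := x.2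
      omega
    have e : ∀ j, hword 0 ((x + y : evenPart) : GolayPt → ℤ) j =
        hword 0 (x : GolayPt → ℤ) j + hword 0 (y : GolayPt → ℤ) j := fun j => by
      obtain ⟨a, ha⟩ := hx j
      simp only [hword, AddSubgroup.coe_add, Pi.add_apply, sub_zero, ← Int.cast_add]
      congr 1
      omega
    funext i
    simp only [Pi.add_apply, e]
    abel

theorem index_evenPart : evenPart.index = 2 := by
  let f : leechLattice →+ ZMod 2 :=
    { toFun := fun x => (((x : GolayPt → ℤ) none : ℤ) : ZMod 2)
      map_zero' := by simp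
      map_add' := fun x y => by simp }
  have hker : evenPart = f.ker := by
    ext x
    rw [AddMonoidHom.mem_ker]
    exact (ZMod.intCast_zmod_eq_zero_iff_dvd _ 2).symm
  have hsurj : f.range = ⊤ := by
    rw [AddMonoidHom.range_eq_top]
    intro a
    rcases zmod2_cases a with rfl | rfl
    · exact ⟨0, map_zero f⟩
    · refine ⟨Spor.leechV, ?_⟩
      show (((Spor.vecV none : ℤ)) : ZMod 2) = 1
      decide
  rw [hker, AddSubgroup.index_ker, hsurj, AddSubgroup.card_top, Nat.card_zmod]

theorem card_golayCode₂ : Nat.card golayCode = 2 ^ 12 := by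
  have h := Submodule.card_eq_card_quotient_mul_card (S := golayCode)
  rw [card_code_quotient, Nat.card_fun, Nat.card_zmod,
    show Nat.card GolayPt = 24 by simp [GolayPt]] at h
  omega

theorem card_residue_range : Nat.card residueMap.range = 2 ^ 11 := by
  let L : (GolayPt → ZMod 2) →+ (ZMod 23 → ZMod 2) :=
    { toFun := fun w i => w (some i) + w none
      map_zero' := by funext i; simp
      map_add' := fun a b => by funext i; simp only [Pi.add_apply]; abel }
  let L' : golayCode.toAddSubgroup →+ (ZMod 23 → ZMod 2) := L.comp golayCode.toAddSubgroup.subtype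
  have hr : residueMap.range = L'.range := by
    ext w
    constructor
    · rintro ⟨x, rfl⟩
      obtain ⟨m, hm⟩ := mem_leech.1 (x : leechLattice).2
      obtain ⟨k, hk⟩ : ∃ k, m = 0 + 2 * k := by
        have h1 := hm.1 none
        have h2 : (2 : ℤ) ∣ (x : GolayPt → ℤ) none := x.2
        exact ⟨m / 2, by omega⟩
      refine ⟨⟨hword m (x : GolayPt → ℤ), hm.2.2⟩, ?_⟩
      subst hk
      funext i
      have h0 : ∀ j, (2 : ℤ) ∣ (x : GolayPt → ℤ) j - 0 := fun j => by
        have := hm.1 j; omega
      show hword _ (x : GolayPt → ℤ) (some i) + hword _ (x : GolayPt → ℤ) none = _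
      rw [hword_shift 0 k h0]
      simp only [Pi.add_apply, Pi.smul_apply, Pi.one_apply]
      rw [add_add_add_comm, CharTwo.add_self_eq_zero, add_zero]
      rfl
    · rintro ⟨⟨c, hc⟩, rfl⟩
      set x : GolayPt → ℤ := fun p => 2 * ((c p).val : ℤ) with hx
      have hw : hword 0 x = c := by
        funext p
        rcases zmod2_cases (c p) with h | h <;> simp [hword, hx, h] <;> rfl
      have hL : x ∈ leechLattice := mem_leech.2 ⟨0, fun i => by simp [hx], by
        obtain ⟨d, hd⟩ := card_support_mod4 hc
        have : ∑ i, x i = 2 * ((support₂ c).card : ℤ) := by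
          rw [Finset.card_eq_sum_ones, support₂, Finset.sum_filter, Nat.cast_sum, Finset.mul_sum]
          refine Finset.sum_congr rfl fun i _ => ?_
          rcases zmod2_cases (c i) with h | h <;> simp [hx, h] <;> rfl
        rw [this, hd]; omega, hw ▸ hc⟩
      refine ⟨⟨⟨x, hL⟩, show (2 : ℤ) ∣ x none by simp [hx]⟩, ?_⟩
      funext i
      show hword 0 x (some i) + hword 0 x none = c (some i) + c none
      rw [hw]
  rw [hr]
  have h := L'.ker.card_mul_index
  rw [AddSubgroup.index_ker] at h
  have hk : Nat.card L'.ker = 2 := by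
    rw [Nat.card_eq_two_iff]
    refine ⟨0, ⟨⟨fun _ => 1, Golay.Local.one_mem_code⟩, ?_⟩, fun e => ?_, ?_⟩
    · rw [AddMonoidHom.mem_ker]
      funext i
      show (1 : ZMod 2) + 1 = 0
      decide
    · have := congrFun (congrArg (fun z : L'.ker => ((z : golayCode.toAddSubgroup) : GolayPt → ZMod 2)) e) none
      simp at this
    · rw [Set.eq_univ_iff_forall]
      intro z
      have hz : ∀ i, ((z : golayCode.toAddSubgroup) : GolayPt → ZMod 2) (some i) =
          ((z : golayCode.toAddSubgroup) : GolayPt → ZMod 2) none := fun i =>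
        CharTwo.add_eq_zero.1 (congrFun (AddMonoidHom.mem_ker.1 z.2) i)
      rcases zmod2_cases (((z : golayCode.toAddSubgroup) : GolayPt → ZMod 2) none) with h0 | h0
      · left
        refine Subtype.ext (Subtype.ext (funext fun p => ?_))
        cases p with
        | none => exact h0
        | some i => exact (hz i).trans h0
      · right
        refine Subtype.ext (Subtype.ext (funext fun p => ?_))
        cases p with
        | none => exact h0
        | some i => exact (hz i).trans h0
  rw [hk, show Nat.card golayCode.toAddSubgroup = Nat.card golayCode from rfl, card_golayCode₂] at h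
  omega

theorem index_plusSub : (plusSub.addSubgroupOf leechLattice).index = 2 ^ 12 := by
  have hker : (plusSub.addSubgroupOf leechLattice).addSubgroupOf evenPart = residueMap.ker := by
    ext x
    rw [AddMonoidHom.mem_ker]
    have hx : ∀ j, (2 : ℤ) ∣ (x : GolayPt → ℤ) j := fun j => by
      have h1 := parity_const (x : leechLattice).2 j none
      have h2 : (2 : ℤ) ∣ (x : GolayPt → ℤ) none := x.2
      omega
    have hword_eq : ∀ i j, (hword 0 (x : GolayPt → ℤ) i + hword 0 (x : GolayPt → ℤ) j = 0 ↔
        (4 : ℤ) ∣ (x : GolayPt → ℤ) i - (x : GolayPt → ℤ) j) := fun i j => by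
      obtain ⟨a, ha⟩ := hx i
      obtain ⟨b, hb⟩ := hx j
      simp only [hword, sub_zero, ← Int.cast_add, ZMod.intCast_zmod_eq_zero_iff_dvd]
      omega
    constructor
    · intro h
      funext i
      exact (hword_eq (some i) none).2 (h.2 (some i)).2
    · intro h
      refine ⟨(x : leechLattice).2, fun i => ⟨hx i, ?_⟩⟩
      cases i with
      | none =>
        show (4 : ℤ) ∣ (x : GolayPt → ℤ) none - (x : GolayPt → ℤ) none
        simp
      | some i => exact (hword_eq (some i) none).1 (congrFun h i)
  have hle : plusSub.addSubgroupOf leechLattice ≤ evenPart := fun x hx => (hx.2 none).1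
  rw [← AddSubgroup.relIndex_mul_index hle, index_evenPart, AddSubgroup.relIndex, hker,
    AddSubgroup.index_ker, card_residue_range]
  norm_num

/-! ### Vanishing of invariant quadratic functions -/

theorem two_pt_mem {p r : GolayPt} (h : p ≠ r) :
    (fun i => (if i = p then (4 : ℤ) else 0) + if i = r then 4 else 0) ∈ leechLattice := by
  refine mem_leech.2 ⟨0, fun i => ?_, ?_, ?_⟩
  · show (2 : ℤ) ∣ ((if i = p then (4 : ℤ) else 0) + if i = r then 4 else 0) - 0
    split <;> split <;> norm_num
  · show (8 : ℤ) ∣ ∑ i, ((if i = p then (4 : ℤ) else 0) + if i = r then 4 else 0) - 4 * 0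
    rw [Finset.sum_add_distrib, Finset.sum_ite_eq' _ p, Finset.sum_ite_eq' _ r]
    simp
  · convert golayCode.zero_mem
    funext i
    simp only [hword, Pi.zero_apply, sub_zero, ZMod.intCast_zmod_eq_zero_iff_dvd]
    split <;> split <;> norm_num

theorem one_pt_mem (p : GolayPt) : (fun i => if i = p then (8 : ℤ) else 0) ∈ leechLattice := by
  refine mem_leech.2 ⟨0, fun i => ?_, ?_, ?_⟩
  · show (2 : ℤ) ∣ (if i = p then (8 : ℤ) else 0) - 0
    split <;> norm_num
  · show (8 : ℤ) ∣ ∑ i, (if i = p then (8 : ℤ) else 0) - 4 * 0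
    rw [Finset.sum_ite_eq' _ p]
    simp
  · convert golayCode.zero_mem
    funext i
    simp only [hword, Pi.zero_apply, sub_zero, ZMod.intCast_zmod_eq_zero_iff_dvd]
    split <;> norm_num

theorem twice_octad_mem {o : Finset GolayPt} (ho : o ∈ octads) :
    (fun i => if i ∈ o then (2 : ℤ) else 0) ∈ leechLattice := by
  refine mem_leech.2 ⟨0, fun i => ?_, ?_, ?_⟩
  · show (2 : ℤ) ∣ (if i ∈ o then (2 : ℤ) else 0) - 0
    split <;> norm_num
  · show (8 : ℤ) ∣ ∑ i, (if i ∈ o then (2 : ℤ) else 0) - 4 * 0
    rw [Finset.sum_ite_mem, Finset.univ_inter, Finset.sum_const, card_octad ho]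
    norm_num
  · convert Golay.Local.ind_octad ho
    funext i
    simp only [hword, sub_zero, Golay.Local.ind]
    split <;> simp

/-- The vector with two fours. -/
def vX (p r : GolayPt) (h : p ≠ r) : leechLattice := ⟨_, two_pt_mem h⟩

/-- The vector with one eight. -/
def vZ (p : GolayPt) : leechLattice := ⟨_, one_pt_mem p⟩

theorem vX_apply (p r : GolayPt) (h : p ≠ r) (i : GolayPt) :
    (vX p r h : GolayPt → ℤ) i = (if i = p then (4 : ℤ) else 0) + if i = r then 4 else 0 := rfl

theorem vZ_apply (p i : GolayPt) : (vZ p : GolayPt → ℤ) i = if i = p then (8 : ℤ) else 0 := rfl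

theorem triangle {p r s : GolayPt} (hpr : p ≠ r) (hrs : r ≠ s) (hsp : s ≠ p) :
    vX p r hpr + vX r s hrs + vX s p hsp = vZ p + vZ r + vZ s := by
  refine Subtype.ext (funext fun i => ?_)
  simp only [AddSubgroup.coe_add, Pi.add_apply, vX_apply, vZ_apply]
  split_ifs <;> norm_num

theorem eight_lemma {q : leechLattice → ZMod 2} (hcos : ∀ v w, q (v + (w + w)) = q v) (p r : GolayPt)
    (v : leechLattice) : q (v + vZ p) = q (v + vZ r) := by
  by_cases h : p = r
  · rw [h]
  have e : vZ p = vZ r + ((vX p r h - vZ r) + (vX p r h - vZ r)) := by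
    refine Subtype.ext (funext fun i => ?_)
    simp only [AddSubgroup.coe_add, AddSubgroup.coe_sub, Pi.add_apply, Pi.sub_apply, vX_apply, vZ_apply]
    split_ifs <;> norm_num
  rw [e, ← add_assoc, hcos]

theorem vanish_plusSub (q : leechLattice → ZMod 2) (hcos : ∀ v w, q (v + (w + w)) = q v)
    (hquad : ∀ u v w, q (u + v + w) + q u + q v + q w = q (u + v) + q (u + w) + q (v + w))
    (hinv : ∀ (g : Co0) (v : leechLattice), q (g • v) = q v) :
    ∀ v : leechLattice, (v : GolayPt → ℤ) ∈ plusSub → q v = 0 := by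
  classical
  have two : ∀ a : ZMod 2, a + a = 0 := CharTwo.add_self_eq_zero
  have q0 : q 0 = 0 := by
    have := hquad 0 0 0
    simp only [add_zero] at this
    revert this
    rcases zmod2_cases (q 0) with h | h <;> rw [h] <;> decide
  set b : leechLattice → leechLattice → ZMod 2 := fun u v => q (u + v) + q u + q v with hb
  have bsymm : ∀ u v, b u v = b v u := fun u v => by simp only [hb, add_comm u v]; abel
  have badd : ∀ u v w, b u (v + w) = b u v + b u w := fun u v w => by
    have := hquad u v w
    simp only [hb, ← add_assoc u v w]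
    revert this
    rcases zmod2_cases (q (u + v + w)) with a | a <;> rw [a] <;>
    rcases zmod2_cases (q u) with c | c <;> rw [c] <;>
    rcases zmod2_cases (q v) with d | d <;> rw [d] <;>
    rcases zmod2_cases (q w) with e | e <;> rw [e] <;>
    rcases zmod2_cases (q (u + v)) with f | f <;> rw [f] <;>
    rcases zmod2_cases (q (u + w)) with g | g <;> rw [g] <;>
    rcases zmod2_cases (q (v + w)) with k | k <;> rw [k] <;> decide
  have qadd : ∀ u v, q (u + v) = q u + q v + b u v := fun u v => by
    simp only [hb]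
    rcases zmod2_cases (q (u + v)) with a | a <;> rw [a] <;>
    rcases zmod2_cases (q u) with c | c <;> rw [c] <;>
    rcases zmod2_cases (q v) with d | d <;> rw [d] <;> decide
  have bzero : ∀ u, b u 0 = 0 := fun u => by simp only [hb, add_zero, q0, two]
  have bdouble : ∀ u w, b u (w + w) = 0 := fun u w => by rw [badd, two]
  have qdouble : ∀ w, q (w + w) = 0 := fun w => by
    have := hcos 0 w; rw [zero_add, q0] at this; exact this
  have bself : ∀ v, b v v = 0 := fun v => by simp only [hb, qdouble, zero_add, two]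
  have gadd : ∀ (g : Co0) (u v : leechLattice), g • (u + v) = g • u + g • v := fun g u v => g.2.1 u v
  have binv : ∀ (g : Co0) u v, b (g • u) (g • v) = b u v := fun g u v => by
    simp only [hb, ← gadd, hinv]
  have bZ : ∀ u p r, b u (vZ p) = b u (vZ r) := fun u p r => by
    have h1 := eight_lemma hcos p r u
    have h2 := eight_lemma hcos p r 0
    simp only [zero_add] at h2
    simp only [hb, h1, h2]
  have permX : ∀ σ ∈ M24, ∃ g : Co0, (∀ p r h, g • vX p r h = vX (σ p) (σ r) (σ.injective.ne h)) ∧
      ∀ p, g • vZ p = vZ (σ p) := by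
    intro σ hσ
    obtain ⟨g, hg⟩ := exists_co0_perm hσ
    refine ⟨g, fun p r h => Subtype.ext ?_, fun p => Subtype.ext ?_⟩
    · rw [hg]; funext i
      simp only [vX_apply, Equiv.symm_apply_eq]
    · rw [hg]; funext i
      simp only [vZ_apply, Equiv.symm_apply_eq]
  obtain ⟨e8⟩ : Nonempty (Fin 8 ≃ Golay.Local.stdOct) :=
    ⟨(Finset.equivFinOfCardEq (card_octad Golay.Local.stdOct_mem)).symm⟩
  set f : Fin 8 → GolayPt := fun i => (e8 i : GolayPt) with hfdef
  have hf : Function.Injective f := fun i j h => e8.injective (Subtype.ext h)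
  have hfmem : ∀ i, f i ∈ Golay.Local.stdOct := fun i => (e8 i).2
  -- pairs against eights
  have hβ : ∀ p r h s, b (vX p r h) (vZ s) = 0 := by
    have key : ∀ p r h p' r' h', b (vX p r h) (vZ p) = b (vX p' r' h') (vZ p') := by
      intro p r h p' r' h'
      obtain ⟨σ, hσ, hm⟩ := exists_M24_map' (k := 2) (by norm_num) (x := ![p, r]) (y := ![p', r'])
        (by intro i j; fin_cases i <;> fin_cases j <;> simp [h, Ne.symm h])
        (by intro i j; fin_cases i <;> fin_cases j <;> simp [h', Ne.symm h'])
      obtain ⟨g, hgX, hgZ⟩ := permX σ hσ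
      rw [← binv g, hgX, hgZ]
      have e1 : σ p = p' := hm 0
      have e2 : σ r = r' := hm 1
      simp only [e1, e2]
    intro p r h s
    obtain ⟨t, -, ht⟩ := Finset.exists_mem_notMem_of_card_lt_card
      (s := ({p, r} : Finset GolayPt)) (t := (Finset.univ : Finset GolayPt))
      (lt_of_le_of_lt Finset.card_le_two (by decide))
    simp only [Finset.mem_insert, Finset.mem_singleton, not_or] at ht
    have e := congrArg (fun z => b (vZ p) z) (triangle h (Ne.symm ht.2) ht.1)
    simp only [badd] at e
    rw [bsymm _ (vX p r h), bsymm _ (vX r t _), bsymm _ (vX t p _), bZ (vX r t _) p r, bZ (vX t p _) p t,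
      key r t (Ne.symm ht.2) p r h, key t p ht.1 p r h, bZ (vZ p) r p, bZ (vZ p) t p, bself] at e
    rw [bZ _ s p]
    revert e
    rcases zmod2_cases (b (vX p r h) (vZ p)) with a | a <;> rw [a] <;> decide
  -- disjoint pairs
  have hδ : ∀ p r h s t h', s ≠ p → s ≠ r → t ≠ p → t ≠ r → b (vX p r h) (vX s t h') = 0 := by
    have key : ∀ p r h s t h', s ≠ p → s ≠ r → t ≠ p → t ≠ r → ∀ p' r' k s' t' k', s' ≠ p' → s' ≠ r' → t' ≠ p' → t' ≠ r' →
        b (vX p r h) (vX s t h') = b (vX p' r' k) (vX s' t' k') := by
      intro p r h s t h' a1 a2 a3 a4 p' r' k s' t' k' c1 c2 c3 c4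
      obtain ⟨σ, hσ, hm⟩ := exists_M24_map' (k := 4) (by norm_num) (x := ![p, r, s, t]) (y := ![p', r', s', t'])
        (by intro i j; fin_cases i <;> fin_cases j <;> simp [h, Ne.symm h, h', Ne.symm h', a1, Ne.symm a1, a2, Ne.symm a2, a3, Ne.symm a3, a4, Ne.symm a4])
        (by intro i j; fin_cases i <;> fin_cases j <;> simp [k, Ne.symm k, k', Ne.symm k', c1, Ne.symm c1, c2, Ne.symm c2, c3, Ne.symm c3, c4, Ne.symm c4])
      obtain ⟨g, hgX, -⟩ := permX σ hσ
      rw [← binv g, hgX, hgX]
      have e1 : σ p = p' := hm 0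
      have e2 : σ r = r' := hm 1
      have e3 : σ s = s' := hm 2
      have e4 : σ t = t' := hm 3
      simp only [e1, e2, e3, e4]
    intro p r h s t h' a1 a2 a3 a4
    obtain ⟨u, -, hu⟩ := Finset.exists_mem_notMem_of_card_lt_card
      (s := ({p, r, s, t} : Finset GolayPt)) (t := (Finset.univ : Finset GolayPt))
      (lt_of_le_of_lt Finset.card_le_four (by decide))
    simp only [Finset.mem_insert, Finset.mem_singleton, not_or] at hu
    obtain ⟨u1, u2, u3, u4⟩ := hu
    have e := congrArg (fun z => b (vX p r h) z) (triangle h' (Ne.symm u4) u3)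
    simp only [badd, hβ, add_zero] at e
    rw [key p r h t u (Ne.symm u4) a3 a4 u1 u2 p r h s t h' a1 a2 a3 a4,
      key p r h u s u3 u1 u2 a1 a2 p r h s t h' a1 a2 a3 a4] at e
    revert e
    rcases zmod2_cases (b (vX p r h) (vX s t h')) with a | a <;> rw [a] <;> decide
  -- meeting pairs
  have hγ : ∀ p r h s h', s ≠ r → b (vX p r h) (vX p s h') = 0 := by
    intro p r h s h' hsr
    obtain ⟨t, -, ht⟩ := Finset.exists_mem_notMem_of_card_lt_card
      (s := Finset.univ.image f) (t := (Finset.univ : Finset GolayPt))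
      (lt_of_le_of_lt Finset.card_image_le (by decide))
    have ht' : ∀ i, t ≠ f i := fun i e => ht (e ▸ Finset.mem_image_of_mem f (Finset.mem_univ i))
    have ho : Finset.univ.image f ∈ octads := by
      have hsub : Finset.univ.image f ⊆ Golay.Local.stdOct := by
        intro x hx
        obtain ⟨i, -, rfl⟩ := Finset.mem_image.1 hx
        exact hfmem i
      rw [Finset.eq_of_subset_of_card_le hsub (by
        rw [Finset.card_image_of_injective _ hf, card_octad Golay.Local.stdOct_mem]; rfl)]
      exact Golay.Local.stdOct_mem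
    have hsum : vX (f 0) (f 1) (hf.ne (by decide)) + vX (f 2) (f 3) (hf.ne (by decide)) +
        vX (f 4) (f 5) (hf.ne (by decide)) + vX (f 6) (f 7) (hf.ne (by decide)) =
        ⟨_, twice_octad_mem ho⟩ + ⟨_, twice_octad_mem ho⟩ := by
      refine Subtype.ext (funext fun i => ?_)
      simp only [AddSubgroup.coe_add, Pi.add_apply, vX_apply]
      by_cases hi : i ∈ Finset.univ.image f
      · obtain ⟨j, -, rfl⟩ := Finset.mem_image.1 hi
        fin_cases j <;> simp [hf.eq_iff, Finset.mem_image]
      · have hne : ∀ j, i ≠ f j := fun j e => hi (e ▸ Finset.mem_image_of_mem f (Finset.mem_univ j))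
        simp [hne, hi]
    have e := congrArg (fun z => b (vX (f 0) t (Ne.symm (ht' 0))) z) hsum
    simp only [badd, two] at e
    rw [hδ _ _ _ (f 2) (f 3) _ (hf.ne (by decide)) (Ne.symm (ht' 2)) (hf.ne (by decide)) (Ne.symm (ht' 3)),
      hδ _ _ _ (f 4) (f 5) _ (hf.ne (by decide)) (Ne.symm (ht' 4)) (hf.ne (by decide)) (Ne.symm (ht' 5)),
      hδ _ _ _ (f 6) (f 7) _ (hf.ne (by decide)) (Ne.symm (ht' 6)) (hf.ne (by decide)) (Ne.symm (ht' 7)),
      add_zero, add_zero, add_zero] at e
    obtain ⟨σ, hσ, hm⟩ := exists_M24_map' (k := 3) (by norm_num) (x := ![f 0, t, f 1]) (y := ![p, r, s])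
      (by intro i j; fin_cases i <;> fin_cases j <;>
            simp [ht' 0, Ne.symm (ht' 0), ht' 1, Ne.symm (ht' 1), hf.eq_iff])
      (by intro i j; fin_cases i <;> fin_cases j <;> simp [h, Ne.symm h, h', Ne.symm h', hsr, Ne.symm hsr])
    obtain ⟨g, hgX, -⟩ := permX σ hσ
    rw [← binv g, hgX, hgX] at e
    have e1 : σ (f 0) = p := hm 0
    have e2 : σ t = r := hm 1
    have e3 : σ (f 1) = s := hm 2
    simp only [e1, e2, e3] at e
    exact e
  -- values
  have hqX : ∀ p r h p' r' h', q (vX p r h) = q (vX p' r' h') := by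
    intro p r h p' r' h'
    obtain ⟨σ, hσ, hm⟩ := exists_M24_map' (k := 2) (by norm_num) (x := ![p, r]) (y := ![p', r'])
      (by intro i j; fin_cases i <;> fin_cases j <;> simp [h, Ne.symm h])
      (by intro i j; fin_cases i <;> fin_cases j <;> simp [h', Ne.symm h'])
    obtain ⟨g, hgX, -⟩ := permX σ hσ
    rw [← hinv g, hgX]
    have e1 : σ p = p' := hm 0
    have e2 : σ r = r' := hm 1
    simp only [e1, e2]
  have hqZ : ∀ p, q (vZ p) = 0 := by
    intro p
    obtain ⟨a, ha⟩ : Golay.Local.stdOct.Nonempty :=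
      Finset.card_pos.1 (by rw [card_octad Golay.Local.stdOct_mem]; norm_num)
    obtain ⟨c, -, hc⟩ := Finset.exists_mem_notMem_of_card_lt_card
      (s := Golay.Local.stdOct) (t := (Finset.univ : Finset GolayPt))
      (by rw [card_octad Golay.Local.stdOct_mem]; decide)
    have hac : a ≠ c := fun e => hc (e ▸ ha)
    obtain ⟨g, hg⟩ := exists_co0_flip (Golay.Local.ind_octad Golay.Local.stdOct_mem)
    have e : g • vX a c hac = vX a c hac + vZ a + ((-vZ a) + (-vZ a)) := by
      refine Subtype.ext ?_
      rw [hg]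
      funext i
      simp only [flipSign, Golay.Local.ind, AddSubgroup.coe_add, AddSubgroup.coe_neg,
        Pi.add_apply, Pi.neg_apply, vX_apply, vZ_apply]
      by_cases h1 : i = a
      · subst h1; simp [ha, hac]
      · by_cases h2 : i = c
        · subst h2; simp [hc, h1]
        · simp [h1, h2]
    have e' := e
    have h := hinv g (vX a c hac)
    rw [e', hcos, qadd, hβ, add_zero] at h
    have h2 := eight_lemma hcos p a 0
    rw [zero_add, zero_add] at h2
    rw [h2]
    simpa using h
  have hqX0 : ∀ p r h, q (vX p r h) = 0 := by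
    intro p r h
    obtain ⟨s, -, hs⟩ := Finset.exists_mem_notMem_of_card_lt_card
      (s := ({p, r} : Finset GolayPt)) (t := (Finset.univ : Finset GolayPt))
      (lt_of_le_of_lt Finset.card_le_two (by decide))
    simp only [Finset.mem_insert, Finset.mem_singleton, not_or] at hs
    have e := congrArg q (triangle h (Ne.symm hs.2) hs.1)
    rw [qadd, qadd, qadd (vZ p + vZ r), qadd (vZ p), bsymm (vX p r h + vX r s _), badd, bsymm (vX s p _) (vX p r h),
      bsymm (vX s p _) (vX r s _), bsymm (vZ p + vZ r), badd, bZ (vZ s) p s, bZ (vZ s) r s, bself,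
      bZ (vZ p) r p, bself, hqZ, hqZ, hqZ, hqX r s _ p r h, hqX s p _ p r h] at e
    have g1 : b (vX p r h) (vX r s (Ne.symm hs.2)) = 0 := by
      have := hγ r p (Ne.symm h) s (Ne.symm hs.2) hs.1
      convert this using 2
      exact Subtype.ext (funext fun i => by simp only [vX_apply]; ring)
    have g2 : b (vX p r h) (vX s p hs.1) = 0 := by
      have := hγ p r h s (Ne.symm hs.1) hs.2
      convert this using 2
      exact Subtype.ext (funext fun i => by simp only [vX_apply]; ring)
    have g3 : b (vX r s (Ne.symm hs.2)) (vX s p hs.1) = 0 := by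
      have := hγ s r hs.2 p hs.1 h
      convert this using 2
      exact Subtype.ext (funext fun i => by simp only [vX_apply]; ring)
    rw [g1, g2, g3] at e
    simp only [add_zero] at e
    revert e
    rcases zmod2_cases (q (vX p r h)) with a | a <;> rw [a] <;> decide
  -- the subgroup generated
  set gens : Set leechLattice :=
    {v | ∃ p r h, v = vX p r h} ∪ {v | ∃ p, v = vZ p} ∪ {v | ∃ w, v = w + w} with hgens
  have bgen : ∀ u ∈ gens, ∀ v ∈ gens, b u v = 0 := by
    intro u hu v hv
    rcases hu with (⟨p, r, h, rfl⟩ | ⟨p, rfl⟩) | ⟨w, rfl⟩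
    · rcases hv with (⟨s, t, h', rfl⟩ | ⟨s, rfl⟩) | ⟨w, rfl⟩
      · have sw : ∀ {x y : GolayPt} (k : x ≠ y), vX x y k = vX y x (Ne.symm k) := fun k =>
          Subtype.ext (funext fun i => by simp only [vX_apply]; ring)
        by_cases a1 : s = p
        · subst a1
          by_cases a4 : t = r
          · subst a4; exact bself _
          · exact hγ _ _ _ _ _ a4
        · by_cases a2 : s = r
          · subst a2
            rw [sw h]
            by_cases a3 : t = p
            · subst a3; exact bself _
            · exact hγ _ _ _ _ _ a3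
          · by_cases a3 : t = p
            · subst a3
              rw [sw h']
              exact hγ _ _ _ _ _ a2
            · by_cases a4 : t = r
              · subst a4
                rw [sw h, sw h']
                exact hγ _ _ _ _ _ a1
              · exact hδ _ _ _ _ _ _ a1 a2 a3 a4
      · exact hβ _ _ _ _
      · exact bdouble _ _
    · rcases hv with (⟨s, t, h', rfl⟩ | ⟨s, rfl⟩) | ⟨w, rfl⟩
      · rw [bsymm]; exact hβ _ _ _ _
      · rw [bZ _ s p]; exact bself _
      · exact bdouble _ _
    · rw [bsymm]; exact bdouble _ _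
  have bneg : ∀ u v, b u v = 0 → b u (-v) = 0 := fun u v hv => by
    have := badd u v (-v)
    rw [add_neg_cancel, bzero, hv, zero_add] at this
    exact this.symm
  have bS : ∀ u ∈ AddSubgroup.closure gens, ∀ v ∈ AddSubgroup.closure gens, b u v = 0 := by
    intro u hu v hv
    induction hv using AddSubgroup.closure_induction with
    | mem v hv =>
      rw [bsymm]
      induction hu using AddSubgroup.closure_induction with
      | mem u hu => exact bgen v hv u hu
      | zero => exact bzero _
      | add x y _ _ hx hy => rw [badd, hx, hy, add_zero]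
      | neg x _ hx => exact bneg _ _ hx
    | zero => exact bzero _
    | add x y _ _ hx hy => rw [badd, hx, hy, add_zero]
    | neg x _ hx => exact bneg _ _ hx
  have qS : ∀ v ∈ AddSubgroup.closure gens, q v = 0 := by
    intro v hv
    induction hv using AddSubgroup.closure_induction with
    | mem v hv =>
      rcases hv with (⟨p, r, h, rfl⟩ | ⟨p, rfl⟩) | ⟨w, rfl⟩
      exacts [hqX0 _ _ _, hqZ _, qdouble _]
    | zero => exact q0
    | add x y hx hy ex ey => rw [qadd, ex, ey, bS x hx y hy, add_zero, add_zero]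
    | neg x hx ex =>
      have := hcos (-x) x
      rw [neg_add_cancel_left, ex] at this
      exact this.symm
  intro v hv
  refine qS v ?_
  have memX : ∀ p r h, vX p r h ∈ AddSubgroup.closure gens := fun p r h =>
    AddSubgroup.subset_closure (Or.inl (Or.inl ⟨p, r, h, rfl⟩))
  have memZ : ∀ p, vZ p ∈ AddSubgroup.closure gens := fun p =>
    AddSubgroup.subset_closure (Or.inl (Or.inr ⟨p, rfl⟩))
  have mem2 : ∀ w, w + w ∈ AddSubgroup.closure gens := fun w =>
    AddSubgroup.subset_closure (Or.inr ⟨w, rfl⟩)
  have reduce : ∀ n (v : leechLattice), (∀ i, (4 : ℤ) ∣ (v : GolayPt → ℤ) i) →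
      (Finset.univ.filter fun i => ¬ (8 : ℤ) ∣ (v : GolayPt → ℤ) i).card ≤ n →
      v ∈ AddSubgroup.closure gens := by
    intro n
    induction n with
    | zero =>
      intro v _ hn
      have h8 : ∀ i, (8 : ℤ) ∣ (v : GolayPt → ℤ) i := fun i => by
        by_contra hi
        have hpos : 0 < (Finset.univ.filter fun j => ¬ (8 : ℤ) ∣ (v : GolayPt → ℤ) j).card :=
          Finset.card_pos.2 ⟨i, Finset.mem_filter.2 ⟨Finset.mem_univ i, hi⟩⟩
        omega
      have e : v = ∑ p, ((v : GolayPt → ℤ) p / 8) • vZ p := by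
        refine Subtype.ext (funext fun i => ?_)
        rw [AddSubgroup.val_finsetSum, Finset.sum_apply]
        simp only [AddSubgroup.coe_zsmul, Pi.smul_apply, vZ_apply, smul_eq_mul, mul_ite, mul_zero]
        rw [Finset.sum_ite_eq Finset.univ i]
        simp only [Finset.mem_univ, if_true]
        exact (Int.ediv_mul_cancel (h8 i)).symm
      rw [e]
      exact AddSubgroup.sum_mem _ fun p _ => AddSubgroup.zsmul_mem _ (memZ p) _
    | succ n ih =>
      intro v h4 hn
      by_cases hle : (Finset.univ.filter fun i => ¬ (8 : ℤ) ∣ (v : GolayPt → ℤ) i).card ≤ n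
      · exact ih v h4 hle
      obtain ⟨a, ha⟩ := Finset.card_pos.1 (show 0 < (Finset.univ.filter fun i => ¬ (8 : ℤ) ∣ (v : GolayPt → ℤ) i).card by omega)
      obtain ⟨c, hc, hca⟩ : ∃ c ∈ Finset.univ.filter (fun i => ¬ (8 : ℤ) ∣ (v : GolayPt → ℤ) i), c ≠ a := by
        by_contra hcon
        push Not at hcon
        have hsum := eight_dvd_sum v.2 ((show (2 : ℤ) ∣ 4 by norm_num).trans (h4 none))
        rw [← Finset.add_sum_erase _ _ (Finset.mem_univ a)] at hsum
        have hrest : (8 : ℤ) ∣ ∑ i ∈ Finset.univ.erase a, (v : GolayPt → ℤ) i := by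
          refine Finset.dvd_sum fun i hi => ?_
          by_contra h8
          exact (Finset.mem_erase.1 hi).1 (hcon i (Finset.mem_filter.2 ⟨Finset.mem_univ i, h8⟩))
        exact (Finset.mem_filter.1 ha).2 ((dvd_add_left hrest).1 hsum)
      have hm := ih (v - vX a c hca.symm) (fun i => by
        have := h4 i
        simp only [AddSubgroup.coe_sub, Pi.sub_apply, vX_apply]
        split <;> split <;> omega) (by
        have hsub : (Finset.univ.filter fun i => ¬ (8 : ℤ) ∣ ((v - vX a c hca.symm : leechLattice) : GolayPt → ℤ) i) ⊆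
            ((Finset.univ.filter fun i => ¬ (8 : ℤ) ∣ (v : GolayPt → ℤ) i).erase a) := by
          intro i hi
          rw [Finset.mem_filter, AddSubgroup.coe_sub, Pi.sub_apply, vX_apply] at hi
          have h4i := h4 i
          refine Finset.mem_erase.2 ⟨?_, Finset.mem_filter.2 ⟨Finset.mem_univ i, ?_⟩⟩
          · intro e
            subst e
            have ha' := (Finset.mem_filter.1 ha).2
            apply hi.2
            simp only [if_pos, if_neg (Ne.symm hca)]
            omega
          · intro h8
            by_cases hic : i = c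
            · subst hic; exact (Finset.mem_filter.1 hc).2 h8
            · by_cases hia : i = a
              · subst hia; exact (Finset.mem_filter.1 ha).2 h8
              · apply hi.2; simpa [hic, hia] using h8
        have := Finset.card_le_card hsub
        rw [Finset.card_erase_of_mem ha] at this
        omega)
      simpa using AddSubgroup.add_mem _ hm (memX a c hca.symm)
  obtain ⟨-, hA⟩ := hv
  by_cases h4 : (4 : ℤ) ∣ (v : GolayPt → ℤ) none
  · exact reduce _ v (fun i => by have := (hA i).2; omega) le_rfl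
  · have hV : ∀ i, (4 : ℤ) ∣ (2 : ℤ) * Spor.vecV i - 2 := fun i => by
      simp only [Spor.vecV]; split <;> norm_num
    have := reduce _ (v - (Spor.leechV + Spor.leechV)) (fun i => by
      show (4 : ℤ) ∣ (v : GolayPt → ℤ) i - (Spor.vecV i + Spor.vecV i)
      have := hA i; have := hA none; have := hV i; omega) le_rfl
    simpa using AddSubgroup.add_mem _ this (mem2 Spor.leechV)

end Cfsg.Agent.Leech
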