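import Cfsg.Agent.Lib.Leech.Co0
import Cfsg.Prelude.Def_Spor_Conway

/-!
Transitivity of the automorphism group on the vectors of norms 4 and 6.
-/

namespace Cfsg.Agent.Leech

open Cfsg Cfsg.Agent.Golay Finset
open Cfsg.Agent.LatticeMod2 (Rootless Cong)
open scoped Pointwise

set_option maxRecDepth 10000

/-- `4 s e_k + 4 t e_l`. -/
def pairV (k l : GolayPt) (hkl : k ≠ l) (s t : ℤ) (hs : s = 1 ∨ s = -1) (ht : t = 1 ∨ t = -1) :
    leechLattice :=
  ⟨Pi.single k (4 * s) + Pi.single l (4 * t),
    mem_leech.2 ⟨0, inLeech_pair k l hkl _ _ (by omega) (by omega)⟩⟩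

theorem ip_pairV (v : leechLattice) {k l : GolayPt} {hkl : k ≠ l} {s t : ℤ} {hs : s = 1 ∨ s = -1}
    {ht : t = 1 ∨ t = -1} {n : ℤ}
    (h : s * (v : GolayPt → ℤ) k + t * (v : GolayPt → ℤ) l = 2 * n) :
    ip v (pairV k l hkl s t hs ht) = n := by
  refine ip_eq_of_dot ?_
  show dotInt (v : GolayPt → ℤ) (Pi.single k (4 * s) + Pi.single l (4 * t)) = _
  rw [dotInt_comm, dotInt_add_left, dotInt_comm, dot_single, dotInt_comm, dot_single]
  linear_combination 4 * h

theorem pairV_apply {k l : GolayPt} {hkl : k ≠ l} {s t : ℤ} {hs : s = 1 ∨ s = -1}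
    {ht : t = 1 ∨ t = -1} (i : GolayPt) :
    (pairV k l hkl s t hs ht : GolayPt → ℤ) i
      = (if i = k then 4 * s else 0) + if i = l then 4 * t else 0 := by
  simp [pairV, Pi.single_apply]

theorem ip_pairV_self {k l : GolayPt} {hkl : k ≠ l} {s t : ℤ} {hs : s = 1 ∨ s = -1}
    {ht : t = 1 ∨ t = -1} : ip (pairV k l hkl s t hs ht) (pairV k l hkl s t hs ht) = 4 := by
  refine ip_pairV _ ?_
  simp only [pairV_apply, if_true, if_neg hkl, if_neg hkl.symm]
  rcases hs with rfl | rfl <;> rcases ht with rfl | rfl <;> norm_num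

theorem ip_pairV_disjoint {k l m n : GolayPt} {hkl : k ≠ l} {hmn : m ≠ n} {s t s' t' : ℤ}
    {hs : s = 1 ∨ s = -1} {ht : t = 1 ∨ t = -1} {hs' : s' = 1 ∨ s' = -1} {ht' : t' = 1 ∨ t' = -1}
    (h1 : k ≠ m) (h2 : k ≠ n) (h3 : l ≠ m) (h4 : l ≠ n) :
    ip (pairV k l hkl s t hs ht) (pairV m n hmn s' t' hs' ht') = 0 := by
  refine ip_pairV _ ?_
  simp [pairV_apply, h1.symm, h2.symm, h3.symm, h4.symm]

/-- Two congruent orthogonal vectors of norm 8 can be moved to any two axes. -/
theorem exists_pair_frame {x y : leechLattice} (hx : ip x x = 8) (hy : ip y y = 8) (hc : Cong x y)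
    (hxy : ip x y = 0) {a b : GolayPt} (hab : a ≠ b) :
    ∃ g : Co0, g • x = axis a ∧ g • y = axis b := by
  obtain ⟨f, hf, hf0, hall⟩ := exists_frame rootless_ip counting_leech.2 hx
  obtain ⟨g, e, sg, hsg, -, hax⟩ := exists_frame_to_axes hf
  obtain ⟨i, hi⟩ := hall y hy hc
  have hne : i ≠ 0 := fun h => by
    rcases hi with q | q <;> rw [q, h, hf0] at hxy
    · omega
    · rw [ip_comm, LatticeMod2.neg_left rootless_ip] at hxy; omega
  obtain ⟨t, ht, hgy⟩ : ∃ t : ℤ, (t = 1 ∨ t = -1) ∧ g • y = t • axis (e i) := by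
    rcases hi with q | q
    · exact ⟨sg (e i), hsg _, by rw [q, hax]⟩
    · exact ⟨-sg (e i), by rcases hsg (e i) with r | r <;> simp [r],
        by rw [q, co0_neg, hax, neg_smul]⟩
  have hgx : g • x = sg (e 0) • axis (e 0) := by rw [← hf0, hax]
  have hne' : e 0 ≠ e i := fun h => hne (e.injective h).symm
  obtain ⟨σ, hσ, hmap⟩ := exists_M24_map' (k := 2) (x := ![e 0, e i]) (y := ![a, b]) (by norm_num)
    (by intro p q h; fin_cases p <;> fin_cases q <;> simp_all)
    (by intro p q h; fin_cases p <;> fin_cases q <;> simp_all)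
  obtain ⟨c, hcm, hc'⟩ := exists_code_eq_on_small {a, b} (by rw [card_pair hab]; norm_num)
    (fun k => if k = a then (if sg (e 0) = 1 then 0 else 1) else if t = 1 then 0 else 1)
  have ha := hc' a (by simp)
  have hb := hc' b (by simp)
  rw [if_pos rfl] at ha
  rw [if_neg hab.symm] at hb
  have h0 : σ (e 0) = a := hmap 0
  have h1 : σ (e i) = b := hmap 1
  refine ⟨mono (⟨σ, hσ⟩, ⟨c, hcm⟩) * g, ?_, ?_⟩
  · rw [mul_smul, hgx, ← hom0_apply, map_zsmul, hom0_apply, mono_axis, h0, smul_smul]
    rcases hsg (e 0) with q | q <;> simp [sgn, ha, q]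
  · rw [mul_smul, hgy, ← hom0_apply, map_zsmul, hom0_apply, mono_axis, h1, smul_smul]
    rcases ht with q | q <;> simp [sgn, hb, q]

theorem exists_pair_frame' {v w : leechLattice} (hv : ip v v = 4) (hw : ip w w = 4) (h : ip v w = 0)
    {a b : GolayPt} (hab : a ≠ b) :
    ∃ g : Co0, g • (v + w) = axis a ∧ g • (v - w) = axis b := by
  refine exists_pair_frame ?_ ?_ ⟨w, by rw [two_nsmul]; abel⟩ ?_ hab
  · rw [LatticeMod2.norm_add rootless_ip, hv, hw, h]; norm_num
  · rw [LatticeMod2.norm_sub rootless_ip, hv, hw, h]; norm_num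
  · rw [rootless_ip.add, ip_comm v, ip_comm w, LatticeMod2.sub_left rootless_ip,
      LatticeMod2.sub_left rootless_ip, hv, ip_comm w v, h, hw]; norm_num

/-- Coordinates after moving to axes. -/
theorem apply_of_axis {g : Co0} {x v : leechLattice} {a : GolayPt} (h : g • x = axis a) :
    ((g • v : leechLattice) : GolayPt → ℤ) a = ip v x := by
  rw [← ip_axis, ← h, co0_ip]

/-! ### Norm 4 -/

theorem abs_le_of_sq {z : ℤ} {N : ℤ} (h : z ^ 2 < N ^ 2) (hN : 0 ≤ N) : -N < z ∧ z < N := by
  constructor <;> nlinarith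

theorem exists_orth {v : leechLattice} (hv : ip v v = 4) : ∃ w, ip w w = 4 ∧ ip v w = 0 := by
  have h32 := (ip_self_iff (n := 4)).1 hv
  obtain ⟨k, -, l, -, hkl, he⟩ := exists_ne_map_eq_of_card_lt_of_maps_to
    (s := (univ : Finset GolayPt)) (t := Finset.Icc (-5 : ℤ) 5)
    (f := fun i => (v : GolayPt → ℤ) i) (by decide) (fun i _ => by
      have := abs_le_of_sq (z := (v : GolayPt → ℤ) i) (N := 6)
        (by have := single_le_sqNorm (v : GolayPt → ℤ) i; omega) (by norm_num)
      simp only [mem_coe, Finset.mem_Icc]; omega)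
  exact ⟨pairV k l hkl 1 (-1) (Or.inl rfl) (Or.inr rfl), ip_pairV_self,
    ip_pairV v (by rw [show (v : GolayPt → ℤ) k = (v : GolayPt → ℤ) l from he]; ring)⟩

theorem exists_norm4_to_pair {v : leechLattice} (hv : ip v v = 4) {a b : GolayPt} (hab : a ≠ b) :
    ∃ g : Co0, g • v = pairV a b hab 1 1 (Or.inl rfl) (Or.inl rfl) := by
  obtain ⟨w, hw, h⟩ := exists_orth hv
  obtain ⟨g, h1, h2⟩ := exists_pair_frame' hv hw h hab
  refine ⟨g, Subtype.ext (funext fun i => ?_)⟩
  have e : g • (v + w) + g • (v - w) = g • v + g • v := by rw [co0_add, co0_sub]; abel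
  rw [h1, h2] at e
  have := congrFun (congrArg Subtype.val e) i
  simp only [AddSubgroup.coe_add, Pi.add_apply, coe_axis, Pi.single_apply] at this
  rw [pairV_apply]
  split_ifs at this ⊢ <;> omega

theorem transitive4 {v w : leechLattice} (hv : ip v v = 4) (hw : ip w w = 4) :
    ∃ g : Co0, g • v = w := by
  have hab : (none : GolayPt) ≠ some 0 := by simp
  obtain ⟨g, hg⟩ := exists_norm4_to_pair hv hab
  obtain ⟨g', hg'⟩ := exists_norm4_to_pair hw hab
  exact ⟨g'⁻¹ * g, by rw [mul_smul, hg, ← hg', inv_smul_smul]⟩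

/-! ### Norm 6 -/

/-- A vector with values `± 2` on an octad, agreeing with a given sign pattern off one point. -/
theorem exists_octad_vec {o : Finset GolayPt} (ho : o ∈ octads) {p : GolayPt} (hp : p ∈ o)
    (N : Finset GolayPt) :
    ∃ a : leechLattice, ip a a = 4 ∧ (∀ i ∉ o, (a : GolayPt → ℤ) i = 0) ∧
      ∀ i ∈ o, i ≠ p → (a : GolayPt → ℤ) i = if i ∈ N then -2 else 2 := by
  let e : ℤ := if ((o.erase p).filter fun i => i ∈ N).card % 2 = 0 then 2 else -2
  let x : GolayPt → ℤ := fun i => if i ∈ o then (if i = p then e else if i ∈ N then -2 else 2) else 0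
  have he : e = 2 ∨ e = -2 := by simp only [e]; split_ifs <;> simp
  have hx : InLeech 0 x := by
    refine ⟨fun i => by simp only [x]; split_ifs <;> omega, ?_, ?_⟩
    · rw [sum_ite_mem, univ_inter, ← add_sum_erase _ _ hp, if_pos rfl,
        sum_congr rfl (fun i hi => if_neg (ne_of_mem_erase hi)), sum_ite, sum_const, sum_const,
        nsmul_eq_mul, nsmul_eq_mul]
      have hc := card_filter_add_card_filter_not (s := o.erase p) (fun i => i ∈ N)
      rw [card_erase_of_mem hp, card_octad ho] at hc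
      simp only [e]
      split_ifs with q <;> omega
    · have hw : hword 0 x = fun i => if i ∈ o then 1 else 0 := by
        funext i
        simp only [hword, sub_zero, x]
        rcases he with q | q <;> rw [q] <;> split_ifs <;> simp <;> decide
      rw [hw, mem_code_iff_support]
      convert ho.1 using 1
      ext i; simp [support₂]
  refine ⟨⟨x, mem_leech.2 ⟨0, hx⟩⟩, ?_, fun i hi => if_neg hi,
    fun i hi hne => (if_pos hi).trans (if_neg hne)⟩
  rw [ip_self_iff]
  show ∑ i, x i ^ 2 = 32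
  rw [sum_congr rfl (fun i _ => show x i ^ 2 = if i ∈ o then 4 else 0 by
    simp only [x]; rcases he with q | q <;> rw [q] <;> split_ifs <;> norm_num), sum_ite_mem,
    univ_inter, sum_const, card_octad ho]
  norm_num

theorem exists_octad_six {d : Finset GolayPt} (hd : d ∈ dodecads) :
    ∃ o ∈ octads, (o ∩ d).card = 6 := by
  obtain ⟨t, ht, htc⟩ := exists_subset_card_eq (s := d) (n := 5) (by rw [card_dodecad hd]; norm_num)
  obtain ⟨o, ⟨ho, hto⟩, -⟩ := isSteinerSystem_octads.2 t htc
  refine ⟨o, ho, ?_⟩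
  have h5 : 5 ≤ (o ∩ d).card := htc ▸ card_le_card (subset_inter hto ht)
  obtain ⟨w, hw, hwo⟩ := ho.1
  obtain ⟨u, hu, hud⟩ := hd.1
  have hsupp : support₂ (w + u) = (o \ d) ∪ (d \ o) := by
    ext i
    simp only [← hwo, ← hud, support₂, mem_filter, mem_univ, true_and, mem_union, mem_sdiff,
      Pi.add_apply, ne_eq, not_not]
    generalize w i = a
    generalize u i = b
    revert a b
    decide
  have h4 := card_support_mod4 (golayCode.add_mem hw hu)
  have hne : w + u ≠ 0 := fun e => by
    have e1 : support₂ (w + u) = ∅ := by rw [e]; simp [support₂]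
    rw [hsupp, union_eq_empty] at e1
    have := card_le_card (sdiff_eq_empty_iff_subset.1 e1.2)
    rw [card_dodecad hd, card_octad ho] at this
    omega
  have h8 := card_support_ge (golayCode.add_mem hw hu) hne
  rw [hsupp, card_union_of_disjoint disjoint_sdiff_sdiff] at h4 h8
  have e1 := card_sdiff_add_card_inter o d
  have e2 := card_sdiff_add_card_inter d o
  rw [inter_comm d o, card_dodecad hd] at e2
  rw [card_octad ho] at e1
  omega

theorem exists_pairV_ip {v : leechLattice} {k l : GolayPt} (hkl : k ≠ l) {A B : ℤ}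
    (hk : (v : GolayPt → ℤ) k ^ 2 = A ^ 2) (hl : (v : GolayPt → ℤ) l ^ 2 = B ^ 2) {n : ℤ}
    (hn : A + B = 2 * n) :
    ∃ s t : ℤ, ∃ (hs : s = 1 ∨ s = -1) (ht : t = 1 ∨ t = -1),
      ip v (pairV k l hkl s t hs ht) = n := by
  obtain ⟨s, hs, hs'⟩ : ∃ s : ℤ, (s = 1 ∨ s = -1) ∧ s * (v : GolayPt → ℤ) k = A := by
    rcases sq_eq_sq_iff_eq_or_eq_neg.1 hk with q | q
    · exact ⟨1, Or.inl rfl, by rw [q, one_mul]⟩
    · exact ⟨-1, Or.inr rfl, by rw [q]; ring⟩
  obtain ⟨t, ht, ht'⟩ : ∃ t : ℤ, (t = 1 ∨ t = -1) ∧ t * (v : GolayPt → ℤ) l = B := by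
    rcases sq_eq_sq_iff_eq_or_eq_neg.1 hl with q | q
    · exact ⟨1, Or.inl rfl, by rw [q, one_mul]⟩
    · exact ⟨-1, Or.inr rfl, by rw [q]; ring⟩
  exact ⟨s, t, hs, ht, ip_pairV v (by rw [hs', ht', hn])⟩

theorem pairs_witness {v : leechLattice} {k l m n : GolayPt} (hkl : k ≠ l) (hmn : m ≠ n)
    (hkm : k ≠ m) (hkn : k ≠ n) (hlm : l ≠ m) (hln : l ≠ n) {A B C D : ℤ}
    (hk : (v : GolayPt → ℤ) k ^ 2 = A ^ 2) (hl : (v : GolayPt → ℤ) l ^ 2 = B ^ 2) (hab : A + B = 6)
    (hm : (v : GolayPt → ℤ) m ^ 2 = C ^ 2) (hn : (v : GolayPt → ℤ) n ^ 2 = D ^ 2) (hcd : C + D = 4) :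
    ∃ a w : leechLattice, ip a a = 4 ∧ ip w w = 4 ∧ ip v a = 3 ∧ ip a w = 0 ∧ ip v w = 2 := by
  obtain ⟨s, t, hs, ht, h1⟩ := exists_pairV_ip hkl hk hl (n := 3) (by omega)
  obtain ⟨s', t', hs', ht', h2⟩ := exists_pairV_ip hmn hm hn (n := 2) (by omega)
  exact ⟨_, _, ip_pairV_self, ip_pairV_self, h1, ip_pairV_disjoint hkm hkn hlm hln, h2⟩

theorem exists_witness {v : leechLattice} (hv : ip v v = 6) :
    ∃ a w : leechLattice, ip a a = 4 ∧ ip w w = 4 ∧ ip v a = 3 ∧ ip a w = 0 ∧ ip v w = 2 := by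
  have h48 : ∑ i, (v : GolayPt → ℤ) i ^ 2 = 48 := (ip_self_iff (n := 6)).1 hv
  obtain ⟨m, hm, hL⟩ := exists_parity v.2
  have hc24 : (univ : Finset GolayPt).card = 24 := rfl
  rcases hm with rfl | rfl
  · -- even coordinates
    obtain ⟨y, hy⟩ : ∃ y : GolayPt → ℤ, ∀ i, (v : GolayPt → ℤ) i = 2 * y i :=
      ⟨fun i => (v : GolayPt → ℤ) i / 2, fun i => by dsimp only; have := hL.1 i; omega⟩
    have hw : ∀ i, hword 0 (v : GolayPt → ℤ) i = (y i : ZMod 2) := fun i => by
      simp only [hword, sub_zero, hy, Int.mul_ediv_cancel_left _ (two_ne_zero : (2 : ℤ) ≠ 0)]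
    have h12 : ∑ i, y i ^ 2 = 12 := by
      simp only [hy, mul_pow, ← mul_sum] at h48; omega
    set P := support₂ (hword 0 (v : GolayPt → ℤ)) with hP
    have hPmem : ∀ i, i ∈ P ↔ ¬ (2 : ℤ) ∣ y i := fun i => by
      simp only [hP, support₂, mem_filter, mem_univ, true_and, hw, ne_eq]
      exact not_congr (ZMod.intCast_zmod_eq_zero_iff_dvd _ 2)
    have hge : ∀ i, (if i ∈ P then (1 : ℤ) else 0) ≤ y i ^ 2 := fun i => by
      split_ifs with q
      · have : y i ≠ 0 := fun e => (hPmem i).1 q (e ▸ dvd_zero _)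
        rcases lt_or_gt_of_ne this with r | r <;> nlinarith
      · exact sq_nonneg _
    have hsumP : ∑ i, (if i ∈ P then (1 : ℤ) else 0) = (P.card : ℤ) := by
      rw [sum_ite_mem, univ_inter, sum_const, nsmul_eq_mul, mul_one]
    have hle := sum_le_sum (s := univ) fun i _ => hge i
    rw [hsumP, h12] at hle
    by_cases hP0 : hword 0 (v : GolayPt → ℤ) = 0
    · exfalso
      have hev : ∀ i, (2 : ℤ) ∣ y i := fun i => by
        have := congrFun hP0 i
        rw [hw] at this
        exact (ZMod.intCast_zmod_eq_zero_iff_dvd _ 2).1 this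
      choose z hz using hev
      simp only [hz, mul_pow, ← mul_sum] at h12
      have h8 := hL.2.1
      simp only [hy, hz, ← mul_sum] at h8
      have hd : (2 : ℤ) ∣ ∑ i, (z i ^ 2 - z i) := dvd_sum fun i _ => by
        rw [show z i ^ 2 - z i = (z i - 1) * ((z i - 1) + 1) by ring]
        exact (Int.even_mul_succ_self _).two_dvd
      rw [sum_sub_distrib] at hd
      omega
    have h8 : 8 ≤ P.card := card_support_ge hL.2.2 hP0
    have h4 : 4 ∣ P.card := card_support_mod4 hL.2.2
    rcases (show P.card = 8 ∨ P.card = 12 by omega) with hc | hc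
    · obtain ⟨q, hq, hq0⟩ : ∃ q, q ∉ P ∧ y q ≠ 0 := by
        by_contra hall
        push Not at hall
        have hterm : ∀ i ∈ P, y i ^ 2 = 1 ∨ 9 ≤ y i ^ 2 := fun i hi => by
          have := (hPmem i).1 hi
          rcases (show y i = 1 ∨ y i = -1 ∨ y i ≤ -3 ∨ 3 ≤ y i by omega) with r | r | r | r
          · left; rw [r]; norm_num
          · left; rw [r]; norm_num
          · right; nlinarith
          · right; nlinarith
        have e : ∑ i ∈ P, y i ^ 2 = 12 := by
          rw [← h12]; exact sum_subset (subset_univ _) fun i _ hi => by rw [hall i hi]; norm_num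
        by_cases h9 : ∃ i ∈ P, 9 ≤ y i ^ 2
        · obtain ⟨i, hi, h9⟩ := h9
          rw [← add_sum_erase _ _ hi] at e
          have := card_nsmul_le_sum (P.erase i) (fun j => y j ^ 2) 1 (fun j hj => by
            rcases hterm j (mem_of_mem_erase hj) with r | r <;> omega)
          rw [card_erase_of_mem hi, hc, nsmul_eq_mul] at this
          push_cast at this
          omega
        · push Not at h9
          rw [sum_congr rfl (fun i hi => (hterm i hi).resolve_right (by have := h9 i hi; omega)),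
            sum_const, hc] at e
          norm_num at e
      obtain ⟨z, hz⟩ : (2 : ℤ) ∣ y q := by
        by_contra h; exact hq ((hPmem q).2 h)
      have hz0 : z ≠ 0 := by rintro rfl; simp [hz] at hq0
      have hle2 : ∀ i, (if i ∈ P then (1 : ℤ) else if i = q then 4 else 0) ≤ y i ^ 2 := fun i => by
        split_ifs with a b
        · simpa [a] using hge i
        · subst b
          rw [hz]
          rcases lt_or_gt_of_ne hz0 with r | r <;> nlinarith
        · exact sq_nonneg _
      have hsum2 : ∑ i, (if i ∈ P then (1 : ℤ) else if i = q then 4 else 0) = 12 := by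
        rw [sum_ite, sum_const, sum_ite_eq', if_pos (by simp [hq]), filter_mem_eq_inter, univ_inter,
          hc, nsmul_eq_mul]
        norm_num
      have heq := (sum_eq_sum_iff_of_le (s := univ) fun i _ => hle2 i).1 (hsum2.trans h12.symm)
      obtain ⟨T, hT, hT3⟩ := exists_subset_card_eq (s := P) (n := 3) (by omega)
      obtain ⟨k, l, n, hkl, hkn, hln, rfl⟩ := card_eq_three.1 hT3
      have hsq : ∀ i ∈ P, (v : GolayPt → ℤ) i ^ 2 = 2 ^ 2 := fun i hi => by
        have := heq i (mem_univ i); rw [if_pos hi] at this; rw [hy, mul_pow, ← this]; norm_num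
      have hk := hT (by simp : k ∈ ({k, l, n} : Finset GolayPt))
      have hl := hT (by simp : l ∈ ({k, l, n} : Finset GolayPt))
      have hn := hT (by simp : n ∈ ({k, l, n} : Finset GolayPt))
      have hqsq : (v : GolayPt → ℤ) q ^ 2 = 4 ^ 2 := by
        have := heq q (mem_univ q); rw [if_neg hq, if_pos rfl] at this; rw [hy, mul_pow, ← this]; norm_num
      exact pairs_witness (k := q) (l := k) (m := l) (n := n) (fun e => hq (e ▸ hk)) hln
        (fun e => hq (e ▸ hl)) (fun e => hq (e ▸ hn)) hkl hkn hqsq (hsq k hk) (by norm_num)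
        (hsq l hl) (hsq n hn) (by norm_num)
    · have heq := (sum_eq_sum_iff_of_le (s := univ) fun i _ => hge i).1
        (by rw [hsumP, h12, hc]; norm_num)
      have hval : ∀ i ∈ P, (v : GolayPt → ℤ) i = 2 ∨ (v : GolayPt → ℤ) i = -2 := fun i hi => by
        have := heq i (mem_univ i); rw [if_pos hi] at this
        rcases sq_eq_one_iff.1 this.symm with r | r <;> rw [hy, r] <;> norm_num
      have hzero : ∀ i ∉ P, (v : GolayPt → ℤ) i = 0 := fun i hi => by
        have := heq i (mem_univ i); rw [if_neg hi] at this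
        rw [hy, pow_eq_zero_iff two_ne_zero |>.1 this.symm, mul_zero]
      obtain ⟨o, ho, ho6⟩ := exists_octad_six (d := P) ⟨⟨_, hL.2.2, rfl⟩, hc⟩
      obtain ⟨p, hp, hpd⟩ : ∃ p ∈ o, p ∉ P := by
        by_contra hall
        push Not at hall
        rw [inter_eq_left.2 hall, card_octad ho] at ho6
        omega
      obtain ⟨a, ha, ha0, hav⟩ := exists_octad_vec ho hp
        (univ.filter fun i => (v : GolayPt → ℤ) i < 0)
      have hva : ip v a = 3 := ip_eq_of_dot (by
        rw [dotInt, ← sum_subset (subset_univ (o ∩ P)) (fun i _ hi => by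
          rw [mem_inter, not_and_or] at hi
          rcases hi with r | r
          · rw [ha0 i r, mul_zero]
          · rw [hzero i r, zero_mul]), sum_congr rfl (fun i hi => show _ = (4 : ℤ) by
          obtain ⟨hio, hiP⟩ := mem_inter.1 hi
          rw [hav i hio (fun e => hpd (e ▸ hiP))]
          rcases hval i hiP with r | r <;> simp [r]), sum_const, ho6]
        norm_num)
      obtain ⟨T, hT, hT2⟩ := exists_subset_card_eq (s := P \ o) (n := 2) (by
        have := card_sdiff_add_card_inter P o; rw [inter_comm, ho6, hc] at this; omega)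
      obtain ⟨m, n, hmn, rfl⟩ := card_eq_two.1 hT2
      have hm := mem_sdiff.1 (hT (by simp : m ∈ ({m, n} : Finset GolayPt)))
      have hn := mem_sdiff.1 (hT (by simp : n ∈ ({m, n} : Finset GolayPt)))
      obtain ⟨s, t, hs, ht, h2⟩ := exists_pairV_ip hmn (v := v) (A := 2) (B := 2)
        (by rcases hval m hm.1 with r | r <;> rw [r] <;> norm_num)
        (by rcases hval n hn.1 with r | r <;> rw [r] <;> norm_num) (n := 2) (by norm_num)
      exact ⟨a, _, ha, ip_pairV_self, hva, ip_pairV a (by simp [ha0 m hm.2, ha0 n hn.2]), h2⟩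
  · -- odd coordinates
    have hb : ∀ i, (v : GolayPt → ℤ) i ^ 2 = 1 ∨ (v : GolayPt → ℤ) i ^ 2 = 9 ∨
        (v : GolayPt → ℤ) i ^ 2 = 25 := fun i => by
      have := hL.1 i
      have := abs_le_of_sq (z := (v : GolayPt → ℤ) i) (N := 7)
        (by have := single_le_sqNorm (v : GolayPt → ℤ) i; rw [sqNorm, h48] at this; omega) (by norm_num)
      rcases (show (v : GolayPt → ℤ) i = 1 ∨ (v : GolayPt → ℤ) i = -1 ∨ (v : GolayPt → ℤ) i = 3 ∨
          (v : GolayPt → ℤ) i = -3 ∨ (v : GolayPt → ℤ) i = 5 ∨ (v : GolayPt → ℤ) i = -5 by omega)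
        with r | r | r | r | r | r <;> simp [r]
    by_cases h5 : ∃ k, (v : GolayPt → ℤ) k ^ 2 = 25
    · obtain ⟨k, hk⟩ := h5
      have hterm : ∀ i, (if i = k then (25 : ℤ) else 1) ≤ (v : GolayPt → ℤ) i ^ 2 := fun i => by
        split_ifs with q
        · rw [q, hk]
        · rcases hb i with r | r | r <;> omega
      have heq := (sum_eq_sum_iff_of_le (s := univ) fun i _ => hterm i).1
        (by rw [h48, sum_ite, filter_eq', filter_ne']; simp [hc24])
      obtain ⟨l, hlk⟩ : ∃ l : GolayPt, l ≠ k := exists_ne k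
      have hl : (v : GolayPt → ℤ) l ^ 2 = 1 ^ 2 := by
        have := heq l (mem_univ l); rw [if_neg hlk] at this; omega
      obtain ⟨s, t, hs, ht, h1⟩ := exists_pairV_ip hlk.symm (A := 5) (B := 1)
        (by rw [hk]; norm_num) hl (n := 3) (by norm_num)
      obtain ⟨s', t', hs', ht', h2⟩ := exists_pairV_ip hlk.symm (A := 5) (B := -1)
        (by rw [hk]; norm_num) (by rw [hl]; norm_num) (n := 2) (by norm_num)
      refine ⟨_, _, ip_pairV_self, ip_pairV_self, h1, ?_, h2⟩
      have h1' := h1; have h2' := h2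
      refine ip_pairV _ ?_
      simp only [pairV_apply, if_true, if_neg hlk, if_neg hlk.symm, add_zero, zero_add]
      -- the signs are determined by the values
      have e1 : s * (v : GolayPt → ℤ) k + t * (v : GolayPt → ℤ) l = 6 := by
        have := eight_ip v (pairV k l hlk.symm s t hs ht); rw [h1] at this
        rw [show (pairV k l hlk.symm s t hs ht : GolayPt → ℤ) = Pi.single k (4 * s) + Pi.single l (4 * t)
          from rfl, dotInt_comm, dotInt_add_left, dotInt_comm, dot_single, dotInt_comm, dot_single] at this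
        linarith
      have e2 : s' * (v : GolayPt → ℤ) k + t' * (v : GolayPt → ℤ) l = 4 := by
        have := eight_ip v (pairV k l hlk.symm s' t' hs' ht'); rw [h2] at this
        rw [show (pairV k l hlk.symm s' t' hs' ht' : GolayPt → ℤ) = Pi.single k (4 * s') + Pi.single l (4 * t')
          from rfl, dotInt_comm, dotInt_add_left, dotInt_comm, dot_single, dotInt_comm, dot_single] at this
        linarith
      rcases hs with rfl | rfl <;> rcases ht with rfl | rfl <;> rcases hs' with rfl | rfl <;>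
        rcases ht' with rfl | rfl <;> simp only [one_mul, neg_mul] at e1 e2 ⊢ <;> nlinarith
    · push Not at h5
      set T := univ.filter fun i => (v : GolayPt → ℤ) i ^ 2 = 9 with hT
      have hT3 : T.card = 3 := by
        have e : ∀ i, (v : GolayPt → ℤ) i ^ 2 = 1 + 8 * (if (v : GolayPt → ℤ) i ^ 2 = 9 then 1 else 0) :=
          fun i => by
            rcases hb i with r | r | r
            · rw [r]; norm_num
            · rw [r]; norm_num
            · exact absurd r (h5 i)
        rw [sum_congr rfl (fun i _ => e i), sum_add_distrib, ← mul_sum, sum_const, hc24, sum_boole, nsmul_eq_mul] at h48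
        push_cast at h48
        rw [hT]; omega
      obtain ⟨k, l, m, hkl, hkm, hlm, he⟩ := card_eq_three.1 hT3
      have hmem : ∀ i, i ∈ T → (v : GolayPt → ℤ) i ^ 2 = 3 ^ 2 := fun i hi => by
        rw [(mem_filter.1 hi).2]; norm_num
      obtain ⟨n, hn⟩ : ∃ n, n ∉ T := by
        by_contra hall
        push Not at hall
        rw [eq_univ_of_forall hall, hc24] at hT3
        omega
      have hn1 : (v : GolayPt → ℤ) n ^ 2 = 1 ^ 2 := by
        rcases hb n with r | r | r
        · rw [r]; norm_num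
        · exact absurd (show n ∈ T by simp [hT, r]) hn
        · exact absurd r (h5 n)
      rw [he] at hn hmem
      simp only [mem_insert, mem_singleton, not_or] at hn
      exact pairs_witness (k := k) (l := l) (m := m) (n := n) hkl (Ne.symm hn.2.2) hkm (Ne.symm hn.1) hlm
        (Ne.symm hn.2.1) (hmem k (by simp)) (hmem l (by simp)) (by norm_num) (hmem m (by simp)) hn1
        (by norm_num)

theorem exists_norm6_to_std {v : leechLattice} (hv : ip v v = 6) :
    ∃ g : Co0, g • v = -Spor.leechV := by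
  obtain ⟨a, w, ha, hw, hva, haw, hvw⟩ := exists_witness hv
  have hab : (none : GolayPt) ≠ some 0 := by simp
  obtain ⟨g, h1, h2⟩ := exists_pair_frame' ha hw haw hab
  have hn : ((g • v : leechLattice) : GolayPt → ℤ) none = 5 := by
    rw [apply_of_axis h1, ip_comm, rootless_ip.add, ip_comm a, ip_comm w, hva, hvw]; norm_num
  have h0 : ((g • v : leechLattice) : GolayPt → ℤ) (some 0) = 1 := by
    rw [apply_of_axis h2, ip_comm, LatticeMod2.sub_left rootless_ip, ip_comm a, ip_comm w, hva, hvw]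
    norm_num
  obtain ⟨m, hm, hL⟩ := exists_parity (g • v).2
  rcases hm with rfl | rfl
  · exfalso; have := hL.1 none; omega
  set y : GolayPt → ℤ := ((g • v : leechLattice) : GolayPt → ℤ) with hy
  have hodd : ∀ i, ¬ (2 : ℤ) ∣ y i := fun i => by have := hL.1 i; omega
  have h48 : ∑ i, y i ^ 2 = 48 := by
    have := co0_norm g v; rw [(ip_self_iff (n := 6)).1 hv] at this; exact this
  have hterm : ∀ i, (if i = none then (25 : ℤ) else 1) ≤ y i ^ 2 := fun i => by
    split_ifs with q
    · rw [q, hn]; norm_num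
    · have : y i ≠ 0 := fun e => hodd i (e ▸ dvd_zero _)
      rcases lt_or_gt_of_ne this with r | r <;> nlinarith
  have heq := (sum_eq_sum_iff_of_le (s := univ) fun i _ => hterm i).1
    (by rw [h48, sum_congr rfl (fun (i : GolayPt) _ => show (if i = none then (25 : ℤ) else 1)
          = 1 + if i = none then 24 else 0 by split_ifs <;> norm_num), sum_add_distrib, sum_ite_eq',
          sum_const, show (univ : Finset GolayPt).card = 24 from rfl]
        simp)
  refine ⟨mono (1, ⟨hword 1 y, hL.2.2⟩) * g, Subtype.ext (funext fun i => ?_)⟩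
  rw [mul_smul, mono_smul, ← hy]
  simp only [monoFun, OneMemClass.coe_one, Equiv.Perm.one_def, Equiv.refl_symm, Equiv.refl_apply,
    AddSubgroup.coe_neg, Pi.neg_apply]
  show sgn (hword 1 y) i * y i = -Spor.vecV i
  rcases eq_or_ne i none with rfl | hi
  · simp [sgn, hword, hn, Spor.vecV]; decide
  · have hh := heq i (mem_univ i)
    rw [if_neg hi] at hh
    rcases sq_eq_one_iff.1 hh.symm with r | r <;> simp [sgn, hword, r, Spor.vecV, hi]

theorem transitive6 {v w : leechLattice} (hv : ip v v = 6) (hw : ip w w = 6) :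
    ∃ g : Co0, g • v = w := by
  obtain ⟨g, hg⟩ := exists_norm6_to_std hv
  obtain ⟨g', hg'⟩ := exists_norm6_to_std hw
  exact ⟨g'⁻¹ * g, by rw [mul_smul, hg, ← hg', inv_smul_smul]⟩

end Cfsg.Agent.Leech
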