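import Cfsg.Agent.Lib.Leech.McLRank3
import Cfsg.Agent.Lib.Leech.TripleStabData
import Cfsg.Agent.Lib.SchurMult.U43Hom

/-!
The point stabiliser in the configuration of McLaughlin is the four-dimensional unitary group over nine
elements: both act in the same way on 112 objects.
-/

set_option autoImplicit false
set_option maxRecDepth 100000

namespace Cfsg.Agent.Leech.TripleStab

open Cfsg Cfsg.Agent.Golay MatCert
open Cfsg.Agent.PermCert (allBelow allBelow_spec get toPerm genGroup Elt)
open Cfsg.Agent.SchurMult (u43Gens u43_cert u43_order)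

/-- The code of a vector of the configuration. -/
def yc (i : ℕ) : ℕ := get 128 yCodes i

/-- The coordinates of the three fixed vectors. -/
def fixedL : List (List ℤ) :=
  [(List.range 24).map (fun i => if i = 23 then 5 else 1),
    (List.range 24).map (fun i => if i = 23 ∨ i = 0 then 4 else 0),
    (List.range 24).map (fun i => if i = 23 ∨ i = 1 then 4 else 0)]

theorem y_ok : allBelow (fun i => latB (decV (yc i)) && Nat.beq (encV (decV (yc i))) (yc i) &&
    allBelow (fun j => !(Nat.beq (yc i) (yc j)) || Nat.beq i j) 112) 112 = true := by decide +kernel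

theorem y_in (i : Fin 112) : latB (decV (yc i)) = true := by
  have := allBelow_spec _ _ y_ok i i.2
  simp only [Bool.and_eq_true] at this
  exact this.1.1

/-- A vector of the configuration. -/
def yv (i : Fin 112) : leechLattice := latV _ (y_in i)

theorem yv_injective : Function.Injective yv := by
  intro i j h
  have hi := allBelow_spec _ _ y_ok i i.2
  have hj := allBelow_spec _ _ y_ok j j.2
  simp only [Bool.and_eq_true, Nat.beq_eq] at hi hj
  have e := code_inj (y_in i) (y_in j) hi.1.2 hj.1.2 h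
  have hd := allBelow_spec _ _ hi.2 j j.2
  simp only [e, Bool.or_eq_true, Bool.not_eq_true', Nat.beq_eq] at hd
  rcases hd with hd | hd
  · exact absurd hd (by simp [Nat.beq_eq])
  · exact Fin.ext hd

/-- The element acts on the configuration as the permutation. -/
def graph : Subgroup (Co0 × Equiv.Perm (Fin 112)) where
  carrier := {p | ∀ i, p.1 • yv i = yv (p.2 i)}
  one_mem' := fun i => by simp
  mul_mem' := fun {p q} hp hq i => by
    show (p.1 * q.1) • yv i = yv (p.2 (q.2 i))
    rw [mul_smul, hq, hp]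
  inv_mem' := fun {p} hp i => by
    show p.1⁻¹ • yv i = yv (p.2⁻¹ i)
    rw [inv_smul_eq_iff, hp, show p.2 (p.2⁻¹ i) = i from p.2.apply_symm_apply i]

theorem certA : certOK matA = true := by decide +kernel
theorem certB : certOK matB = true := by decide +kernel

theorem moveA : allBelow (fun i => moveOK matA (yc i) (yc (get 7 (u43Gens.getD 0 (0, 0)).1 i))) 112 = true := by
  decide +kernel

theorem moveB : allBelow (fun i => moveOK matB (yc i) (yc (get 7 (u43Gens.getD 1 (0, 0)).1 i))) 112 = true := by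
  decide +kernel

theorem fixed_ok : (fixedL.all fun l => latB l && divL matA l && eqL (imgL matA l) l &&
    divL matB l && eqL (imgL matB l) l) = true := by decide +kernel

theorem valid_gens : ∀ k < 2, PermCert.validElt 7 112 (u43Gens.getD k (0, 0)) = true := by decide +kernel

theorem fixed_vecs : ∀ v ∈ [(vec6 : GolayPt → ℤ), (stdA : GolayPt → ℤ), (stdB : GolayPt → ℤ)],
    ∃ l ∈ fixedL, v = toVec l := by
  have h : (∀ p, (if p = none then (5 : ℤ) else 1) = toVec (fixedL.getD 0 []) p) ∧
      (∀ p : GolayPt, ((if p = none then (4 : ℤ) else 0) + if p = some 0 then 4 else 0) = toVec (fixedL.getD 1 []) p) ∧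
      ∀ p : GolayPt, ((if p = none then (4 : ℤ) else 0) + if p = some 1 then 4 else 0) = toVec (fixedL.getD 2 []) p := by
    decide +kernel
  intro v hv
  simp only [List.mem_cons, List.not_mem_nil, or_false] at hv
  rcases hv with rfl | rfl | rfl
  · exact ⟨fixedL.getD 0 [], by decide +kernel, funext fun p => (vec6_apply p).trans (h.1 p)⟩
  · exact ⟨fixedL.getD 1 [], by decide +kernel, funext fun p => (stdA_apply p).trans (h.2.1 p)⟩
  · exact ⟨fixedL.getD 2 [], by decide +kernel, funext fun p => by rw [stdB, pairV_apply, ← h.2.2 p]; simp⟩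

/-- The stabiliser of the standard triple. -/
noncomputable abbrev stdStab : Subgroup Co0 :=
  MulAction.stabilizer Co0 vec6 ⊓ MulAction.stabilizer Co0 stdA ⊓ MulAction.stabilizer Co0 stdB

theorem exists_gen (M : List (List ℤ)) (e : Elt) (hc : certOK M = true)
    (he : PermCert.validElt 7 112 e = true)
    (hmv : allBelow (fun i => moveOK M (yc i) (yc (get 7 e.1 i))) 112 = true)
    (hfix : ∀ l ∈ fixedL, latB l = true ∧ divL M l = true ∧ imgL M l = l) :
    ∃ g : Co0, g ∈ stdStab ∧ (g, toPerm 7 112 e) ∈ graph := by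
  obtain ⟨g, hg⟩ := exists_co0_mat hc
  have hf : ∀ v : leechLattice, (v : GolayPt → ℤ) ∈ [(vec6 : GolayPt → ℤ), (stdA : GolayPt → ℤ), (stdB : GolayPt → ℤ)] →
      g • v = v := fun v hv => by
    obtain ⟨l, hl, el⟩ := fixed_vecs _ hv
    obtain ⟨h1, h2, h3⟩ := hfix l hl
    obtain rfl : v = latV l h1 := Subtype.ext el
    exact smul_latV hc hg h1 h1 h2 h3
  refine ⟨g, ⟨⟨hf _ (by simp), hf _ (by simp)⟩, hf _ (by simp)⟩, fun i => ?_⟩
  have hm := allBelow_spec _ _ hmv i i.2
  have hi : (toPerm 7 112 e i : ℕ) = get 7 e.1 i := by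
    rw [toPerm, dif_pos he]; rfl
  rw [← hi] at hm
  exact smul_dec hc hg (y_in i) (y_in _) hm

theorem card_stdStab : Nat.card stdStab = 3265920 := by
  have hu : ip vec6 vec6 = 6 := norm_vec6
  have h2 : Nat.card (MulAction.stabilizer Co0 vec6 ⊓ MulAction.stabilizer Co0 stdA : Subgroup Co0) = 898128000 := by
    have := card_stab_mul (MulAction.stabilizer Co0 vec6) stdA (withIp vec6 3) ⟨ip_stdA, ip_stdA_vec6⟩
      (fun g hg x hx => ⟨(co0_ip g x x).trans hx.1, by
        rw [← MulAction.mem_stabilizer_iff.1 hg, co0_ip]; exact hx.2⟩)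
      (fun x hx => by
        obtain ⟨g, g1, g2⟩ := transitive_decomp hu ip_stdA hx.1 ip_stdA_vec6 hx.2
        exact ⟨g, g1, g2⟩)
    rw [ncard_decomp hu, card_stab6 hu] at this
    omega
  have := card_stab_mul (MulAction.stabilizer Co0 vec6 ⊓ MulAction.stabilizer Co0 stdA) stdB (mclSet vec6 stdA)
    stdB_mem
    (fun g hg x hx => ⟨(co0_ip g x x).trans hx.1,
      by rw [← MulAction.mem_stabilizer_iff.1 hg.1, co0_ip]; exact hx.2.1,
      by rw [← MulAction.mem_stabilizer_iff.1 hg.2, co0_ip]; exact hx.2.2⟩)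
    (fun x hx => by
      obtain ⟨g, g1, g2, g3⟩ := mcl_transitive hu ip_stdA ip_stdA_vec6 stdB_mem hx
      exact ⟨g, ⟨g1, g2⟩, g3⟩)
  unfold stdStab
  rw [ncard_mclSet hu ip_stdA ip_stdA_vec6, h2] at this
  omega

theorem stdStab_equiv : Nonempty (stdStab ≃* genGroup 7 112 u43Gens) := by
  have hfix := fun l hl => List.all_eq_true.1 fixed_ok l hl
  simp only [Bool.and_eq_true, eqL, decide_eq_true_eq] at hfix
  obtain ⟨a, haS, haG⟩ := exists_gen matA _ certA (valid_gens 0 (by norm_num)) moveA
    fun l hl => ⟨(hfix l hl).1.1.1.1, (hfix l hl).1.1.1.2, (hfix l hl).1.1.2⟩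
  obtain ⟨b, hbS, hbG⟩ := exists_gen matB _ certB (valid_gens 1 (by norm_num)) moveB
    fun l hl => ⟨(hfix l hl).1.1.1.1, (hfix l hl).1.2, (hfix l hl).2⟩
  let G2 : Set (Co0 × Equiv.Perm (Fin 112)) :=
    {(a, toPerm 7 112 (u43Gens.getD 0 (0, 0))), (b, toPerm 7 112 (u43Gens.getD 1 (0, 0)))}
  have hle : Subgroup.closure G2 ≤ graph ⊓ stdStab.prod ⊤ := by
    rw [Subgroup.closure_le]
    rintro x (rfl | rfl)
    exacts [⟨haG, haS, trivial⟩, ⟨hbG, hbS, trivial⟩]
  have hP : genGroup 7 112 u43Gens = (Subgroup.closure G2).map (MonoidHom.snd Co0 _) := by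
    rw [MonoidHom.map_closure, genGroup]
    congr 1
    simp [G2, Set.image_insert_eq, u43Gens, Set.ext_iff]
  refine equiv_of_graph (Subgroup.closure G2) stdStab _ 3265920 (by norm_num) card_stdStab ?_
    (fun x hx h => ?_) (fun x hx => (hle hx).2.1) (fun c hc => ?_) (fun x hx => ?_)
  · rw [PermCert.cert_card u43_cert, u43_order]
  · refine Equiv.ext fun i => yv_injective ?_
    have := (hle hx).1 i
    rw [h, one_smul] at this
    exact this.symm
  · rw [hP] at hc
    obtain ⟨x, hx, rfl⟩ := hc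
    exact ⟨x.1, hx⟩
  · rw [hP]
    exact ⟨x, hx, rfl⟩

/-- The stabiliser of any triple in the configuration. -/
theorem stab_equiv_psu {u v x : leechLattice} (hu : ip u u = 6) (hv : ip v v = 4) (huv : ip u v = 3)
    (hx : x ∈ mclSet u v) (F : Type) [Field F] [Fintype F] (hF : Fintype.card F = 9) :
    Nonempty (↥(MulAction.stabilizer Co0 u ⊓ MulAction.stabilizer Co0 v ⊓ MulAction.stabilizer Co0 x) ≃*
      Cfsg.PSU 4 F 3) := by
  obtain ⟨k, k1, k2, k3⟩ := exists_mcl_std hu hv huv hx
  obtain ⟨φ, hr, hk, -⟩ := SchurMult.exists_u43_hom hF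
  obtain ⟨e⟩ := stdStab_equiv
  have hmap : (MulAction.stabilizer Co0 u ⊓ MulAction.stabilizer Co0 v ⊓ MulAction.stabilizer Co0 x).map
      (MulAut.conj k).toMonoidHom = stdStab := by
    rw [Subgroup.map_inf _ _ _ (MulAut.conj k).injective, Subgroup.map_inf _ _ _ (MulAut.conj k).injective,
      ← MulAction.stabilizer_smul_eq_stabilizer_map_conj, ← MulAction.stabilizer_smul_eq_stabilizer_map_conj,
      ← MulAction.stabilizer_smul_eq_stabilizer_map_conj, k1, k2, k3]
  exact ⟨((Subgroup.equivMapOfInjective _ _ (MulAut.conj k).injective).trans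
    (MulEquiv.subgroupCongr hmap)).trans (e.trans ((MulEquiv.subgroupCongr hr).symm.trans
      ((QuotientGroup.quotientKerEquivRange φ).symm.trans (QuotientGroup.quotientMulEquivOfEq hk))))⟩

end Cfsg.Agent.Leech.TripleStab
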